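import Mathlib

/-!
# Sylow counting in small simple groups
-/

set_option autoImplicit false

namespace Cfsg.Agent.SmallOrder

open Subgroup

universe u

variable {G : Type u} [Group G] [Finite G]

theorem card_sylow_eq_pow {p a m : ℕ} [hp : Fact p.Prime] (hG : Nat.card G = p ^ a * m)
    (hm : ¬ p ∣ m) (P : Sylow p G) : Nat.card (P : Subgroup G) = p ^ a := by
  have hm0 : m ≠ 0 := fun h => hm (h ▸ dvd_zero p)
  rw [P.card_eq_multiplicity, hG, Nat.factorization_mul (pow_ne_zero _ hp.out.ne_zero) hm0,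
    Finsupp.add_apply, Nat.factorization_eq_zero_of_not_dvd hm, hp.out.factorization_pow,
    Finsupp.single_eq_same, add_zero]

theorem card_sylow_mul_card_normalizer {p : ℕ} [Fact p.Prime] (P : Sylow p G) :
    Nat.card (Sylow p G) * Nat.card (normalizer ((P : Subgroup G) : Set G)) = Nat.card G := by
  rw [P.card_eq_index_normalizer, mul_comm]
  exact Subgroup.card_mul_index _

theorem card_sylow_dvd {p a m : ℕ} [hp : Fact p.Prime] (hG : Nat.card G = p ^ a * m)
    (hm : ¬ p ∣ m) : Nat.card (Sylow p G) ∣ m := by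
  obtain ⟨P⟩ : Nonempty (Sylow p G) := Sylow.nonempty
  have h1 := P.card_dvd_index
  have h2 := (P : Subgroup G).card_mul_index
  rw [card_sylow_eq_pow hG hm P, hG] at h2
  rwa [Nat.eq_of_mul_eq_mul_left (pow_pos hp.out.pos a) h2] at h1

theorem card_sylow_mod (p : ℕ) [hp : Fact p.Prime] : Nat.card (Sylow p G) % p = 1 := by
  have := card_sylow_modEq_one p G
  rwa [Nat.ModEq, Nat.one_mod_eq_one.2 hp.out.ne_one] at this

/-- The orbit of `R` under `P` acting on the Sylow subgroups. -/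
theorem card_orbit_sylow {p : ℕ} [Fact p.Prime] (P R : Sylow p G) :
    Nat.card (MulAction.orbit (P : Subgroup G) R) =
      ((R : Subgroup G).subgroupOf (P : Subgroup G)).index := by
  rw [Nat.card_coe_set_eq, ← MulAction.index_stabilizer]
  congr 1
  ext g
  rw [MulAction.mem_stabilizer_iff, mem_subgroupOf]
  constructor
  · intro h
    have h1 : (g : G) ∈ normalizer ((R : Subgroup G) : Set G) :=
      Sylow.smul_eq_iff_mem_normalizer.1 h
    have h2 : (g : G) ∈ (P : Subgroup G) ⊓ normalizer ((R : Subgroup G) : Set G) := ⟨g.2, h1⟩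
    erw [IsPGroup.inf_normalizer_sylow P.isPGroup' R] at h2
    exact h2.2
  · intro h
    exact Sylow.smul_eq_iff_mem_normalizer.2 (le_normalizer h)

theorem dvd_card_of_dvd_orbit {H X : Type*} [Group H] [MulAction H X] [Finite X] {k : ℕ}
    (h : ∀ x : X, k ∣ Nat.card (MulAction.orbit H x)) : k ∣ Nat.card X := by
  classical
  have := Fintype.ofFinite (MulAction.orbitRel.Quotient H X)
  rw [Nat.card_congr (MulAction.selfEquivSigmaOrbits' H X), Nat.card_sigma]
  refine Finset.dvd_sum fun x _ => ?_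
  induction x using Quotient.inductionOn' with
  | h a =>
    rw [MulAction.orbitRel.Quotient.orbit_mk]
    exact h a

theorem exists_index_le_of_not_modEq (p k : ℕ) [hp : Fact p.Prime]
    (h : ¬ Nat.card (Sylow p G) ≡ 1 [MOD p ^ k]) :
    ∃ P R : Sylow p G, P ≠ R ∧
      ((R : Subgroup G).subgroupOf (P : Subgroup G)).index ≤ p ^ (k - 1) := by
  classical
  by_contra! hc
  obtain ⟨P⟩ : Nonempty (Sylow p G) := Sylow.nonempty
  apply h
  have hfix : ∀ (g : (P : Subgroup G)), g • P = P := fun g =>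
    Sylow.smul_eq_iff_mem_normalizer.2 (le_normalizer g.2)
  let S : SubMulAction (P : Subgroup G) (Sylow p G) :=
    { carrier := {R | R ≠ P}
      smul_mem' := fun g R hR e => hR (smul_left_cancel g (e.trans (hfix g).symm)) }
  have hd : p ^ k ∣ Nat.card S := by
    refine dvd_card_of_dvd_orbit (H := (P : Subgroup G)) fun x => ?_
    have h1 : Nat.card (MulAction.orbit (P : Subgroup G) x) =
        Nat.card (MulAction.orbit (P : Subgroup G) (x : Sylow p G)) := by
      rw [← SubMulAction.val_image_orbit, Nat.card_image_of_injective Subtype.val_injective]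
    rw [h1, card_orbit_sylow]
    obtain ⟨j, hj⟩ := IsPGroup.index P.isPGroup'
      (((x : Sylow p G) : Subgroup G).subgroupOf (P : Subgroup G))
    have h2 := hc P _ (Ne.symm x.2)
    rw [hj] at h2 ⊢
    have : k - 1 < j := (Nat.pow_lt_pow_iff_right hp.out.one_lt).1 h2
    exact pow_dvd_pow p (by omega)
  have hS : Nat.card S + 1 = Nat.card (Sylow p G) := by
    rw [← Nat.card_congr (Equiv.optionSubtypeNe P), Finite.card_option]
    rfl
  rw [← hS]
  exact (Nat.modEq_zero_iff_dvd.2 hd).add_right 1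

/-- Two Sylow subgroups meeting in a subgroup of index `p` in each. -/
theorem exists_inter_of_not_modEq_sq {p a : ℕ} [hp : Fact p.Prime]
    (hPc : ∀ P : Sylow p G, Nat.card (P : Subgroup G) = p ^ (a + 1))
    (h : ¬ Nat.card (Sylow p G) ≡ 1 [MOD p ^ 2]) :
    ∃ P Q : Sylow p G, P ≠ Q ∧ Nat.card ↥((P : Subgroup G) ⊓ Q) = p ^ a ∧
      (P : Subgroup G) ≤ normalizer (((P : Subgroup G) ⊓ Q : Subgroup G) : Set G) ∧
      (Q : Subgroup G) ≤ normalizer (((P : Subgroup G) ⊓ Q : Subgroup G) : Set G) := by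
  obtain ⟨P, Q, hne, hi⟩ := exists_index_le_of_not_modEq p 2 h
  have h1 : ((Q : Subgroup G).subgroupOf (P : Subgroup G)).index = p := by
    obtain ⟨j, hj⟩ := IsPGroup.index P.isPGroup' ((Q : Subgroup G).subgroupOf (P : Subgroup G))
    have hj0 : j ≠ 0 := by
      rintro rfl
      rw [pow_zero, index_eq_one, subgroupOf_eq_top] at hj
      exact hne (Sylow.ext (eq_of_le_of_card_ge hj (le_of_eq (by rw [hPc, hPc]))))
    rw [hj] at hi ⊢
    have h2 : j ≤ 1 := (Nat.pow_le_pow_iff_right hp.out.one_lt).1 (by simpa using hi)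
    rw [show j = 1 by omega, pow_one]
  have hcard : Nat.card ↥((P : Subgroup G) ⊓ Q) = p ^ a := by
    have h2 := ((Q : Subgroup G).subgroupOf (P : Subgroup G)).card_mul_index
    rw [h1, hPc, pow_succ] at h2
    have h3 : Nat.card ((Q : Subgroup G).subgroupOf (P : Subgroup G)) =
        Nat.card ↥((P : Subgroup G) ⊓ Q) := by
      rw [← inf_subgroupOf_left, Nat.card_congr (subgroupOfEquivOfLe inf_le_left).toEquiv]
    rw [← h3]
    exact Nat.eq_of_mul_eq_mul_right hp.out.pos h2
  have hnorm : ∀ R : Sylow p G, (P : Subgroup G) ⊓ Q ≤ R →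
      (R : Subgroup G) ≤ normalizer (((P : Subgroup G) ⊓ Q : Subgroup G) : Set G) := by
    intro R hle
    rw [← normal_subgroupOf_iff_le_normalizer hle]
    refine normal_of_index_eq_minFac_card ?_
    have h2 := (((P : Subgroup G) ⊓ Q).subgroupOf (R : Subgroup G)).card_mul_index
    rw [Nat.card_congr (subgroupOfEquivOfLe hle).toEquiv, hcard, hPc, pow_succ] at h2
    rw [Nat.eq_of_mul_eq_mul_left (pow_pos hp.out.pos a) h2, hPc, Nat.pow_minFac a.succ_ne_zero,
      hp.out.minFac_eq]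
  exact ⟨P, Q, hne, hcard, hnorm P inf_le_left, hnorm Q inf_le_right⟩

theorem one_lt_card_sylow_of_ne {p : ℕ} [Fact p.Prime] {H : Subgroup G} {P Q : Sylow p G}
    (hP : (P : Subgroup G) ≤ H) (hQ : (Q : Subgroup G) ≤ H) (hne : P ≠ Q) :
    1 < Nat.card (Sylow p H) := by
  have : Nontrivial (Sylow p H) :=
    ⟨⟨P.subtype hP, Q.subtype hQ, fun e => hne (Sylow.subtype_injective e)⟩⟩
  exact Finite.one_lt_card

section Simple

variable [IsSimpleGroup G]

theorem not_comm_of_card (h : ¬ (Nat.card G).Prime) : ¬ IsMulCommutative G := fun _ => by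
  letI : CommGroup G := IsMulCommutative.instCommGroup
  exact h IsSimpleGroup.prime_card

theorem center_eq_bot (hG : ¬ IsMulCommutative G) : center G = ⊥ :=
  (Subgroup.Normal.eq_bot_or_eq_top (H := center G) inferInstance).resolve_right fun h =>
    hG ⟨⟨fun a b => (mem_center_iff.1 (h ▸ mem_top b : b ∈ center G) a)⟩⟩

theorem sylow_ne_top (hG : ¬ IsMulCommutative G) {p : ℕ} [Fact p.Prime] (P : Sylow p G) :
    (P : Subgroup G) ≠ ⊤ := fun h => by
  have hp : IsPGroup p G := IsPGroup.of_equiv (h ▸ P.isPGroup' : IsPGroup p (⊤ : Subgroup G))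
    Subgroup.topEquiv
  have : Nontrivial G := IsSimpleGroup.toNontrivial
  have := hp.center_nontrivial
  exact (nontrivial_iff_ne_bot _).1 this (center_eq_bot hG)

theorem normalizer_ne_top (hG : ¬ IsMulCommutative G) {p : ℕ} [Fact p.Prime]
    (hp : p ∣ Nat.card G) (P : Sylow p G) : normalizer ((P : Subgroup G) : Set G) ≠ ⊤ := fun h =>
  (((normalizer_eq_top_iff).1 h).eq_bot_or_eq_top).elim (P.ne_bot_of_dvd_card hp) (sylow_ne_top hG P)

theorem normalizer_sub_ne_top {H : Subgroup G} (h0 : H ≠ ⊥) (h1 : H ≠ ⊤) :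
    normalizer (H : Set G) ≠ ⊤ := fun h =>
  (((normalizer_eq_top_iff).1 h).eq_bot_or_eq_top).elim h0 h1

theorem card_sylow_ne_one (hG : ¬ IsMulCommutative G) {p : ℕ} [Fact p.Prime]
    (hp : p ∣ Nat.card G) : Nat.card (Sylow p G) ≠ 1 := by
  obtain ⟨P⟩ : Nonempty (Sylow p G) := Sylow.nonempty
  rw [P.card_eq_index_normalizer, Ne, index_eq_one]
  exact normalizer_ne_top hG hp P

theorem exists_hom_alt (hG : ¬ IsMulCommutative G) (H : Subgroup G) (hH : H ≠ ⊤) :
    ∃ (f : G →* Equiv.Perm (Fin H.index)) (e : (G ⧸ H) ≃ Fin H.index), Function.Injective f ∧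
      (∀ g x, f g (e x) = e (g • x)) ∧ ∀ g, Equiv.Perm.sign (f g) = 1 := by
  classical
  let e : (G ⧸ H) ≃ Fin H.index := Finite.equivFin (G ⧸ H)
  let f : G →* Equiv.Perm (Fin H.index) :=
    (e.permCongrHom : Equiv.Perm (G ⧸ H) →* Equiv.Perm (Fin H.index)).comp
      (MulAction.toPermHom G (G ⧸ H))
  have hfe : ∀ g x, f g (e x) = e (g • x) := fun g x => by simp [f, Equiv.permCongr_apply]
  have hk : f.ker = ⊥ := by
    refine ((Subgroup.Normal.eq_bot_or_eq_top (H := f.ker) inferInstance)).resolve_right fun h => ?_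
    refine hH (eq_top_iff.2 fun g _ => ?_)
    have h2 : f g = 1 := by rw [← MonoidHom.mem_ker, h]; trivial
    have h3 := hfe g ((1 : G) : G ⧸ H)
    rw [h2] at h3
    simpa [MulAction.Quotient.smul_mk, QuotientGroup.eq] using e.injective h3
  refine ⟨f, e, (MonoidHom.ker_eq_bot_iff f).1 hk, hfe, fun g => ?_⟩
  rcases (Subgroup.Normal.eq_bot_or_eq_top (H := (Equiv.Perm.sign.comp f).ker) inferInstance)
    with h | h
  · exact absurd ⟨⟨fun a b => (MonoidHom.ker_eq_bot_iff _).1 h (by simp [mul_comm])⟩⟩ hG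
  · simpa using (by rw [h]; trivial : g ∈ (Equiv.Perm.sign.comp f).ker)

theorem two_mul_card_dvd (hG : ¬ IsMulCommutative G) (H : Subgroup G) (hH : H ≠ ⊤) :
    2 * Nat.card G ∣ H.index.factorial := by
  obtain ⟨f, -, hf, -, hs⟩ := exists_hom_alt hG H hH
  have : Nontrivial (Fin H.index) := Fin.nontrivial_iff_two_le.2 (one_lt_index_of_ne_top hH)
  have h1 : Nat.card G ∣ Nat.card (alternatingGroup (Fin H.index)) :=
    card_dvd_of_injective (f.codRestrict _ fun g => Equiv.Perm.mem_alternatingGroup.2 (hs g))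
      fun a b h => hf (congrArg Subtype.val h)
  have h2 : 2 * Nat.card (alternatingGroup (Fin H.index)) = H.index.factorial := by
    rw [two_mul_nat_card_alternatingGroup, Nat.card_perm, Nat.card_fin]
  rw [← h2]
  exact Nat.mul_dvd_mul_left 2 h1

theorem not_normalizer_le_centralizer (hG : ¬ IsMulCommutative G) {p : ℕ} [Fact p.Prime]
    (hp : p ∣ Nat.card G) (P : Sylow p G) :
    ¬ normalizer ((P : Subgroup G) : Set G) ≤ centralizer ((P : Subgroup G) : Set G) := by
  intro h
  have hc := MonoidHom.ker_transferSylow_isComplement' P h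
  rcases (Subgroup.Normal.eq_bot_or_eq_top (H := (MonoidHom.transferSylow P h).ker) inferInstance)
    with h0 | h0
  · rw [h0, isComplement'_bot_left] at hc
    exact sylow_ne_top hG P hc
  · rw [h0, isComplement'_top_left] at hc
    exact P.ne_bot_of_dvd_card hp hc

/-- The facts used in every counting argument. -/
theorem sylow_data {p a m : ℕ} [hp : Fact p.Prime] (hG : Nat.card G = p ^ a * m) (ha : a ≠ 0)
    (hm : ¬ p ∣ m) (hna : ¬ IsMulCommutative G) :
    Nat.card (Sylow p G) ∣ m ∧ Nat.card (Sylow p G) % p = 1 ∧ Nat.card (Sylow p G) ≠ 1 ∧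
      2 * Nat.card G ∣ (Nat.card (Sylow p G)).factorial := by
  have hp' : p ∣ Nat.card G := hG ▸ dvd_mul_of_dvd_left (dvd_pow_self p ha) m
  refine ⟨card_sylow_dvd hG hm, card_sylow_mod p, card_sylow_ne_one hna hp', ?_⟩
  obtain ⟨P⟩ : Nonempty (Sylow p G) := Sylow.nonempty
  rw [P.card_eq_index_normalizer]
  exact two_mul_card_dvd hna _ (normalizer_ne_top hna hp' P)

/-- A local subgroup with more than one Sylow `p`-subgroup, containing one of full order. -/
theorem exists_local {p a m : ℕ} [hp : Fact p.Prime] (hG : Nat.card G = p ^ (a + 1) * m)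
    (hm : ¬ p ∣ m) (ha : a ≠ 0) (hna : ¬ IsMulCommutative G)
    (h : ¬ Nat.card (Sylow p G) ≡ 1 [MOD p ^ 2]) :
    ∃ (H : Subgroup G) (k n : ℕ), H ≠ ⊤ ∧ Nat.card H = p ^ (a + 1) * k ∧ k ∣ m ∧
      H.index * k = m ∧ n ∣ k ∧ n % p = 1 ∧ 1 < n := by
  obtain ⟨P, Q, hne, hc, hP, hQ⟩ :=
    exists_inter_of_not_modEq_sq (a := a) (fun P => card_sylow_eq_pow hG hm P) h
  set R := (P : Subgroup G) ⊓ Q with hR
  set H := normalizer (R : Set G) with hH
  have h0 : R ≠ ⊥ := fun e => by
    rw [e, card_bot] at hc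
    exact (Nat.one_lt_pow ha hp.out.one_lt).ne hc
  have h1 : R ≠ ⊤ := fun e => sylow_ne_top hna P (top_le_iff.1 (e ▸ inf_le_left))
  have hd : p ^ (a + 1) ∣ Nat.card H := card_sylow_eq_pow hG hm P ▸ card_dvd_of_le hP
  obtain ⟨k, hk⟩ := hd
  have hkm : H.index * k = m := by
    have := H.card_mul_index
    rw [hk, hG] at this
    refine Nat.eq_of_mul_eq_mul_left (pow_pos hp.out.pos (a + 1)) ?_
    linarith [this]
  have hkd : k ∣ m := Dvd.intro_left _ hkm
  refine ⟨H, k, Nat.card (Sylow p H), normalizer_sub_ne_top h0 h1, hk, hkd, hkm,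
    card_sylow_dvd hk (fun e => hm (e.trans hkd)), card_sylow_mod p,
    one_lt_card_sylow_of_ne hP hQ hne⟩

end Simple

end Cfsg.Agent.SmallOrder
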