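import Cfsg.Agent.SmallOrder.Basic

/-!
# Centralisers and normalisers of elements of prime order in symmetric groups
-/

set_option autoImplicit false

namespace Cfsg.Agent.SmallOrder

open Subgroup

/-- `|N(H)| = |C(H)| e` with `e` dividing `|Aut H|`. -/
theorem exists_normalizer_index {G : Type*} [Group G] [Finite G] (H : Subgroup G) :
    ∃ e : ℕ, e ∣ Nat.card (MulAut H) ∧
      Nat.card (normalizer (H : Set G)) = Nat.card (centralizer (H : Set G)) * e ∧
      (e = 1 → normalizer (H : Set G) ≤ centralizer (H : Set G)) := by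
  refine ⟨Nat.card H.normalizerMonoidHom.range, card_subgroup_dvd_card _, ?_, fun he => ?_⟩
  · rw [← index_ker, normalizerMonoidHom_ker, ← Nat.card_congr (subgroupOfEquivOfLe
      (centralizer_le_normalizer _ : centralizer (H : Set G) ≤ normalizer (H : Set G))).toEquiv,
      card_mul_index]
  · rwa [← index_ker, normalizerMonoidHom_ker, index_eq_one, subgroupOf_eq_top] at he

theorem card_mulAut_of_prime {G : Type*} [Group G] [Finite G] {p : ℕ} [hp : Fact p.Prime]
    (h : Nat.card G = p) : Nat.card (MulAut G) = p - 1 := by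
  have := isCyclic_of_prime_card h
  rw [IsCyclic.card_mulAut, h, Nat.totient_prime hp.out]

variable {α : Type*} [Fintype α] [DecidableEq α]

theorem cycleType_of_pow_eq_one {p : ℕ} [hp : Fact p.Prime] {σ : Equiv.Perm α}
    (hσ : σ ^ p = 1) : ∃ k : ℕ, σ.cycleType = Multiset.replicate k p := by
  rcases eq_or_ne σ 1 with rfl | h
  · exact ⟨0, by simp⟩
  · have ho : orderOf σ = p := orderOf_eq_prime hσ h
    obtain ⟨n, hn⟩ := Equiv.Perm.cycleType_prime_order (σ := σ) (by rw [ho]; exact hp.out)
    exact ⟨n + 1, by rw [hn, ho]⟩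

theorem card_centralizer_replicate {σ : Equiv.Perm α} {p k : ℕ}
    (h : σ.cycleType = Multiset.replicate k p) :
    Nat.card (centralizer {σ}) =
      (Fintype.card α - k * p).factorial * p ^ k * k.factorial := by
  rw [Equiv.Perm.nat_card_centralizer, h, Multiset.sum_replicate, Multiset.prod_replicate,
    smul_eq_mul]
  rcases Nat.eq_zero_or_pos k with rfl | hk
  · simp
  · have : (Multiset.replicate k p).toFinset = {p} := by
      simp [hk.ne']
    rw [this, Finset.prod_singleton, Multiset.count_replicate_self]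

theorem two_mul_card_of_even_le {H K : Subgroup (Equiv.Perm α)} (hK : K ≤ alternatingGroup α)
    (hKH : K ≤ H) (hH : ¬ H ≤ alternatingGroup α) : 2 * Nat.card K ∣ Nat.card H := by
  have : Nontrivial α := by
    by_contra h
    rw [not_nontrivial_iff_subsingleton] at h
    exact hH fun g _ => by rw [Subsingleton.elim g 1]; exact one_mem _
  have h1 := ((alternatingGroup α).subgroupOf H).card_mul_index
  have h3 : ((alternatingGroup α).subgroupOf H).index = 2 := by
    have h4 : (alternatingGroup α).relIndex H ∣ 2 :=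
      (alternatingGroup.index_eq_two (α := α)) ▸ relIndex_dvd_index_of_normal _ _
    exact ((Nat.dvd_prime Nat.prime_two).1 h4).resolve_left fun h => hH (relIndex_eq_one.1 h)
  rw [h3, mul_comm, ← inf_subgroupOf_right,
    Nat.card_congr (subgroupOfEquivOfLe inf_le_right).toEquiv] at h1
  rw [← h1]
  exact Nat.mul_dvd_mul_left 2 (card_dvd_of_le (le_inf hK hKH))

section Prime

variable {p : ℕ} [hp : Fact p.Prime]

theorem card_sylow_perm (hα : Fintype.card α = p ∨ Fintype.card α = p + 1)
    (P : Sylow p (Equiv.Perm α)) : Nat.card (P : Subgroup (Equiv.Perm α)) = p := by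
  have hnd : ¬ p ∣ (p - 1).factorial := fun h => by
    have := (hp.out.dvd_factorial).1 h
    have := hp.out.one_lt
    omega
  have hfac : p.factorial = p * (p - 1).factorial :=
    (Nat.mul_factorial_pred hp.out.ne_zero).symm
  rcases hα with h | h
  · have := card_sylow_eq_pow (a := 1) (m := (p - 1).factorial) ?_ hnd P
    · simpa using this
    · rw [Nat.card_perm, Nat.card_eq_fintype_card, h, pow_one, hfac]
  · have := card_sylow_eq_pow (a := 1) (m := (p + 1) * (p - 1).factorial) ?_ ?_ P
    · simpa using this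
    · rw [Nat.card_perm, Nat.card_eq_fintype_card, h, pow_one, Nat.factorial_succ, hfac]
      ring
    · intro hd
      rcases hp.out.dvd_mul.1 hd with h1 | h1
      · rw [Nat.dvd_add_right dvd_rfl, Nat.dvd_one] at h1
        exact hp.out.ne_one h1
      · exact hnd h1

theorem card_normalizer_perm_prime (hα : Fintype.card α ≤ p + 1)
    (H : Subgroup (Equiv.Perm α)) (hH : Nat.card H = p) (hα' : p ≤ Fintype.card α) :
    Nat.card (normalizer (H : Set (Equiv.Perm α))) = p * (p - 1) := by
  have := isCyclic_of_prime_card hH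
  obtain ⟨⟨σ, hσH⟩, hσ⟩ := IsCyclic.exists_ofOrder_eq_natCard (α := H)
  rw [hH, Subgroup.orderOf_mk] at hσ
  have hz : zpowers σ = H :=
    eq_of_le_of_card_ge (zpowers_le.2 hσH) (by rw [hH, Nat.card_zpowers, hσ])
  have hcyc : ∀ τ : Equiv.Perm α, orderOf τ = p → τ.cycleType = Multiset.replicate 1 p := by
    intro τ hτ
    obtain ⟨k, hk⟩ := cycleType_of_pow_eq_one (σ := τ) (p := p) (hτ ▸ pow_orderOf_eq_one τ)
    have h1 : k * p ≤ p + 1 := by
      have := τ.sum_cycleType_le
      rw [hk, Multiset.sum_replicate, smul_eq_mul] at this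
      omega
    have h2 : k ≠ 0 := by
      rintro rfl
      rw [Multiset.replicate_zero, Equiv.Perm.cycleType_eq_zero] at hk
      rw [hk, orderOf_one] at hτ
      exact hp.out.ne_one hτ.symm
    have : k = 1 := by
      have := hp.out.two_le
      rcases Nat.lt_or_ge k 2 with h3 | h3
      · omega
      · nlinarith
    rw [hk, this]
  have hC : Nat.card (centralizer (H : Set (Equiv.Perm α))) = p := by
    rw [← hz, zpowers_eq_closure, centralizer_closure, card_centralizer_replicate (hcyc σ hσ),
      one_mul, pow_one, Nat.factorial_one, mul_one]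
    have : Fintype.card α - p = 0 ∨ Fintype.card α - p = 1 := by omega
    rcases this with h | h <;> simp [h]
  have hsurj : Function.Surjective H.normalizerMonoidHom := by
    intro φ
    have hφ : orderOf ((φ ⟨σ, hσH⟩ : H) : Equiv.Perm α) = p := by
      rw [orderOf_coe, MulEquiv.orderOf_eq, Subgroup.orderOf_mk, hσ]
    obtain ⟨g, hg⟩ := isConj_iff.1
      (Equiv.Perm.isConj_iff_cycleType_eq.2 ((hcyc σ hσ).trans (hcyc _ hφ).symm))
    have hgen : ∀ x : H, ∃ k : ℤ, x = ⟨σ, hσH⟩ ^ k := fun x => by
      obtain ⟨k, hk⟩ := mem_zpowers_iff.1 (hz.symm ▸ x.2 : (x : Equiv.Perm α) ∈ zpowers σ)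
      exact ⟨k, Subtype.ext (by simpa using hk.symm)⟩
    have hconj : ∀ x : H, g * (x : Equiv.Perm α) * g⁻¹ = ((φ x : H) : Equiv.Perm α) := by
      intro x
      obtain ⟨k, rfl⟩ := hgen x
      rw [map_zpow, coe_zpow, coe_zpow, ← hg, conj_zpow]
    have hgn : g ∈ normalizer (H : Set (Equiv.Perm α)) := by
      rw [mem_normalizer_iff]
      intro x
      refine ⟨fun hx => by rw [hconj ⟨x, hx⟩]; exact SetLike.coe_mem _, fun hx => ?_⟩
      obtain ⟨y, hy⟩ := φ.surjective ⟨_, hx⟩
      have := hconj y
      rw [hy] at this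
      have h1 : (y : Equiv.Perm α) = x := by simpa using this
      exact h1 ▸ y.2
    exact ⟨⟨g, hgn⟩, MulEquiv.ext fun x => Subtype.ext (hconj x)⟩
  have h := H.normalizerMonoidHom.ker.card_mul_index
  rw [index_ker, MonoidHom.range_eq_top.2 hsurj, card_top, card_mulAut_of_prime hH,
    normalizerMonoidHom_ker, Nat.card_congr (subgroupOfEquivOfLe
      (centralizer_le_normalizer _ : centralizer (H : Set (Equiv.Perm α)) ≤ normalizer (H : Set (Equiv.Perm α)))).toEquiv, hC] at h
  exact h.symm

omit hp in
theorem sylow_le_alternating (hp2 : Odd p) {H : Subgroup (Equiv.Perm α)} (hH : IsPGroup p H) :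
    H ≤ alternatingGroup α := by
  intro g hg
  obtain ⟨k, hk⟩ := hH ⟨g, hg⟩
  rw [Equiv.Perm.mem_alternatingGroup]
  have h1 : Equiv.Perm.sign g ^ p ^ k = 1 := by
    rw [← map_pow, show g ^ p ^ k = 1 from congrArg Subtype.val hk, map_one]
  rcases Int.units_eq_one_or (Equiv.Perm.sign g) with h | h
  · exact h
  · rw [h, (hp2.pow (n := k)).neg_one_pow] at h1
    exact absurd h1 (by decide)

/-- Frattini: the normaliser of a Sylow subgroup inside the even permutations has index two. -/
theorem two_mul_card_normalizer_inf [Nontrivial α] (hp2 : Odd p) (P : Sylow p (Equiv.Perm α)) :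
    2 * Nat.card ↥(normalizer ((P : Subgroup (Equiv.Perm α)) : Set (Equiv.Perm α)) ⊓
      alternatingGroup α) =
      Nat.card (normalizer ((P : Subgroup (Equiv.Perm α)) : Set (Equiv.Perm α))) := by
  set N := normalizer ((P : Subgroup (Equiv.Perm α)) : Set (Equiv.Perm α)) with hN
  have hsup : N ⊔ alternatingGroup α = ⊤ :=
    P.normalizer_sup_eq_top' (sylow_le_alternating hp2 P.isPGroup')
  have h3 : ((alternatingGroup α).subgroupOf N).index = 2 := by
    have := relIndex_sup_right (H := N) (K := alternatingGroup α)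
    rw [hsup, relIndex_top_right, alternatingGroup.index_eq_two] at this
    exact this.symm
  have h1 := ((alternatingGroup α).subgroupOf N).card_mul_index
  rw [h3, ← inf_subgroupOf_right,
    Nat.card_congr (subgroupOfEquivOfLe inf_le_right).toEquiv, inf_comm] at h1
  rw [← h1, mul_comm]

end Prime

section Embedding

variable {G : Type*} [Group G] [Finite G] [IsSimpleGroup G]

/-- A Sylow subgroup of prime order with only `n ≤ p + 1` conjugates has a small normaliser. -/
theorem card_dvd_of_card_sylow_le {p m : ℕ} [hp : Fact p.Prime] (hG : Nat.card G = p * m)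
    (hm : ¬ p ∣ m) (hp2 : p ≠ 2) (hna : ¬ IsMulCommutative G)
    (hn : Nat.card (Sylow p G) = p + 1) : 2 * Nat.card G ∣ (p + 1) * (p * (p - 1)) := by
  obtain ⟨P⟩ : Nonempty (Sylow p G) := Sylow.nonempty
  have hp' : p ∣ Nat.card G := hG ▸ dvd_mul_right p m
  set H := normalizer ((P : Subgroup G) : Set G) with hH
  have hidx : H.index = p + 1 := P.card_eq_index_normalizer.symm.trans hn
  obtain ⟨f, -, hf, -, hs⟩ := exists_hom_alt hna H (normalizer_ne_top hna hp' P)
  have hcard : Fintype.card (Fin H.index) = p + 1 := by rw [Fintype.card_fin, hidx]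
  have : Nontrivial (Fin H.index) :=
    Fintype.one_lt_card_iff_nontrivial.1 (by rw [hcard]; have := hp.out.pos; omega)
  set P' := (P : Subgroup G).map f with hP'
  have hPc : Nat.card P' = p := by
    rw [hP', Nat.card_congr ((P : Subgroup G).equivMapOfInjective f hf).toEquiv.symm,
      card_sylow_eq_pow (a := 1) (m := m) (by rw [hG, pow_one]) hm P, pow_one]
  obtain ⟨R⟩ : Nonempty (Sylow p (Equiv.Perm (Fin H.index))) := Sylow.nonempty
  obtain ⟨R, hR⟩ := (IsPGroup.of_card (n := 1) (by rw [hPc, pow_one]) : IsPGroup p P').exists_le_sylow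
  have hReq : P' = R := eq_of_le_of_card_ge hR (by rw [hPc, card_sylow_perm (Or.inr hcard) R])
  have h1 : Nat.card H ∣ Nat.card ↥(normalizer (P' : Set (Equiv.Perm (Fin H.index))) ⊓
      alternatingGroup (Fin H.index)) := by
    rw [Nat.card_congr (H.equivMapOfInjective f hf).toEquiv]
    refine card_dvd_of_le (le_inf (le_normalizer_map f) ?_)
    rintro _ ⟨g, -, rfl⟩
    exact Equiv.Perm.mem_alternatingGroup.2 (hs g)
  have hodd : Odd p := hp.out.odd_of_ne_two hp2
  rw [hReq] at h1
  have h2 := Nat.mul_dvd_mul_left 2 h1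
  rw [two_mul_card_normalizer_inf hodd R,
    card_normalizer_perm_prime hcard.le _ (card_sylow_perm (Or.inr hcard) R) (by omega)] at h2
  rw [← H.card_mul_index, hidx]
  calc 2 * (Nat.card H * (p + 1)) = (p + 1) * (2 * Nat.card H) := by ring
    _ ∣ _ := Nat.mul_dvd_mul_left _ h2

/-- An element of prime order in the action on the cosets of `H`: `k` cycles, and the centraliser
fits into that of a permutation of this shape. -/
theorem centralizer_bound (hna : ¬ IsMulCommutative G) (H : Subgroup G) (hH : H ≠ ⊤) {p : ℕ}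
    [hp : Fact p.Prime] {y : G} (hy : orderOf y = p) :
    ∃ k, k ≠ 0 ∧ k * p ≤ H.index ∧
      (¬ p ∣ Nat.card H → k * p = H.index) ∧
      Nat.card (MulAction.fixedBy (G ⧸ H) y) = H.index - k * p ∧
      Nat.card (centralizer ({y} : Set G)) ∣
        (H.index - k * p).factorial * p ^ k * k.factorial ∧
      ((2 ≤ H.index - k * p ∨ 2 ≤ k) → 2 * Nat.card (centralizer ({y} : Set G)) ∣
        (H.index - k * p).factorial * p ^ k * k.factorial) := by
  obtain ⟨f, e, hf, hfe, hs⟩ := exists_hom_alt hna H hH
  have ho : orderOf (f y) = p := by rw [orderOf_injective f hf, hy]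
  obtain ⟨k, hk⟩ := cycleType_of_pow_eq_one (σ := f y) (p := p) (ho ▸ pow_orderOf_eq_one (f y))
  have hk0 : k ≠ 0 := by
    rintro rfl
    rw [Multiset.replicate_zero, Equiv.Perm.cycleType_eq_zero] at hk
    rw [hk, orderOf_one] at ho
    exact hp.out.ne_one ho.symm
  have hle : k * p ≤ H.index := by
    have := (f y).sum_cycleType_le
    rwa [hk, Multiset.sum_replicate, smul_eq_mul, Fintype.card_fin] at this
  have hC := card_centralizer_replicate hk
  rw [Fintype.card_fin] at hC
  have hinto : (centralizer ({y} : Set G)).map f ≤ centralizer {f y} := by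
    rintro _ ⟨g, hg, rfl⟩
    rw [SetLike.mem_coe, mem_centralizer_singleton_iff] at hg
    rw [mem_centralizer_singleton_iff, ← map_mul, ← map_mul, hg]
  have hc : Nat.card ((centralizer ({y} : Set G)).map f) = Nat.card (centralizer ({y} : Set G)) :=
    (Nat.card_congr ((centralizer ({y} : Set G)).equivMapOfInjective f hf).toEquiv).symm
  refine ⟨k, hk0, hle, fun hpH => ?_, ?_, hC ▸ hc ▸ card_dvd_of_le hinto, fun h2 => ?_⟩
  rotate_left
  · rw [Nat.card_congr (e.subtypeEquiv (q := fun i => f y i = i) fun x => by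
      rw [hfe, e.injective.eq_iff]; rfl)]
    have hcf := Equiv.Perm.card_fixedPoints (f y)
    rw [hk, Multiset.sum_replicate, smul_eq_mul, Fintype.card_fin] at hcf
    rw [← hcf, ← Nat.card_eq_fintype_card]
    rfl
  rotate_right
  · -- no coset is fixed
    by_contra hne
    have hlt : (f y).support.card < (Finset.univ : Finset (Fin H.index)).card := by
      rw [← Equiv.Perm.sum_cycleType, hk, Multiset.sum_replicate, smul_eq_mul, Finset.card_univ,
        Fintype.card_fin]
      omega
    obtain ⟨i, -, hi⟩ := Finset.exists_mem_notMem_of_card_lt_card hlt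
    rw [Equiv.Perm.notMem_support, ← e.apply_symm_apply i, hfe, e.injective.eq_iff] at hi
    obtain ⟨x, hx⟩ := QuotientGroup.mk_surjective (e.symm i)
    rw [← hx, MulAction.Quotient.smul_mk, smul_eq_mul, QuotientGroup.eq] at hi
    refine hpH ?_
    have h1 : x⁻¹ * y * x ∈ H := by
      have := H.inv_mem hi
      simpa [mul_assoc] using this
    have h2 : orderOf (x⁻¹ * y * x) = p := by
      rw [show x⁻¹ * y * x = MulAut.conj x⁻¹ y by simp, MulEquiv.orderOf_eq, hy]
    rw [← h2, ← Subgroup.orderOf_mk (x⁻¹ * y * x) h1]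
    exact _root_.orderOf_dvd_natCard _
  · rw [← hC, ← hc]
    refine two_mul_card_of_even_le ?_ hinto fun hle' => ?_
    · rintro _ ⟨g, -, rfl⟩
      exact Equiv.Perm.mem_alternatingGroup.2 (hs g)
    · obtain ⟨-, h3, h4⟩ := Equiv.Perm.centralizer_le_alternating_iff.1 hle'
      rw [hk, Multiset.sum_replicate, smul_eq_mul, Fintype.card_fin] at h3
      have h5 := h4 p
      rw [hk, Multiset.count_replicate_self] at h5
      omega

end Embedding

end Cfsg.Agent.SmallOrder
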