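import Cfsg.Agent.Fg24.InvolD8.A6
import Cfsg.Agent.SmallOrder.Perm
import Cfsg.Agent.SmallOrder.Basic
import Cfsg.Agent.S0206

/-!
Simple groups of order 360.
-/

set_option autoImplicit false

namespace Cfsg.Agent.SmallOrder.Order360

open Subgroup

variable {G : Type*} [Group G] [Finite G] [IsSimpleGroup G]

theorem not_comm (h : Nat.card G = 360) : ¬ IsMulCommutative G :=
  not_comm_of_card (by rw [h]; norm_num)

theorem six_le_index (h : Nat.card G = 360) (H : Subgroup G) (hH : H ≠ ⊤) : 6 ≤ H.index := by
  have hd := two_mul_card_dvd (not_comm h) H hH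
  rw [h] at hd
  have hle := Nat.le_of_dvd (Nat.factorial_pos _) hd
  by_contra hlt
  have := Nat.factorial_le (show H.index ≤ 5 by omega)
  simp [Nat.factorial] at this hle
  omega

theorem card_sylow_three (h : Nat.card G = 360) (P : Sylow 3 G) : Nat.card (P : Subgroup G) = 9 := by
  have : Fact (Nat.Prime 3) := ⟨Nat.prime_three⟩
  rw [card_sylow_eq_pow (p := 3) (a := 2) (m := 40) (by rw [h]; norm_num) (by norm_num) P]
  norm_num

theorem sylow_three_comm (h : Nat.card G = 360) (P : Sylow 3 G) (x y : G) (hx : x ∈ P) (hy : y ∈ P) :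
    x * y = y * x := by
  have : Fact (Nat.Prime 3) := ⟨Nat.prime_three⟩
  let : CommGroup (P : Subgroup G) := IsPGroup.commGroupOfCardEqPrimeSq (p := 3)
    (by rw [card_sylow_three h P]; norm_num)
  exact congrArg Subtype.val (mul_comm (⟨x, hx⟩ : (P : Subgroup G)) ⟨y, hy⟩)

omit [IsSimpleGroup G] [Finite G] in
theorem card_filter_mem {H : Type*} [Group H] [Fintype H] (K : Subgroup H)
    [DecidablePred (· ∈ K)] : (Finset.univ.filter (fun y => y ∈ K)).card = Nat.card K := by
  rw [Nat.card_eq_fintype_card]
  exact (Fintype.card_subtype _).symm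

/-- Two Sylow 3-subgroups meet trivially. -/
theorem trivial_inter (h : Nat.card G = 360) (P Q : Sylow 3 G) (hne : P ≠ Q) :
    (P : Subgroup G) ⊓ Q = ⊥ := by
  classical
  have h3 : Fact (Nat.Prime 3) := ⟨Nat.prime_three⟩
  have hna := not_comm h
  rw [eq_bot_iff]
  intro x hx
  rw [mem_bot]
  by_contra hx1
  set C := centralizer ({x} : Set G) with hC
  have hPC : ∀ R : Sylow 3 G, x ∈ R → (R : Subgroup G) ≤ C := fun R hR y hy =>
    mem_centralizer_singleton_iff.2 (sylow_three_comm h R y x hy hR)
  have hCtop : C ≠ ⊤ := by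
    intro e
    have hz : x ∈ center G := mem_center_iff.2 fun g => by
      have : g ∈ C := e ▸ mem_top g
      exact mem_centralizer_singleton_iff.1 this
    rw [center_eq_bot hna, mem_bot] at hz
    exact hx1 hz
  have hidx := six_le_index h C hCtop
  have hmul := C.card_mul_index
  obtain ⟨k, hk⟩ : 9 ∣ Nat.card C := card_sylow_three h P ▸ card_dvd_of_le (hPC P hx.1)
  have hk0 : 0 < k := Nat.pos_of_ne_zero fun e => by
    rw [e, mul_zero] at hk
    exact absurd hk Nat.card_pos.ne'
  rw [hk, h] at hmul
  have hk40 : k ∣ 40 := Dvd.intro C.index (by linarith)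
  have hn1 : 1 < Nat.card (Sylow 3 C) := one_lt_card_sylow_of_ne (hPC P hx.1) (hPC Q hx.2) hne
  have hndvd : Nat.card (Sylow 3 C) ∣ k :=
    card_sylow_dvd (p := 3) (a := 2) (m := k) (by rw [hk]; norm_num)
      (fun e => by have := e.trans hk40; norm_num at this)
  have hnmod : Nat.card (Sylow 3 C) % 3 = 1 := card_sylow_mod 3
  have hk6 : k ≤ 6 := by nlinarith
  have hn4 : 4 ≤ Nat.card (Sylow 3 C) := by omega
  have hnk := Nat.le_of_dvd hk0 hndvd
  have hn : Nat.card (Sylow 3 C) = 4 := by omega
  have hk4 : k = 4 := by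
    rw [hn] at hndvd
    omega
  subst hk4
  -- a Sylow 2-subgroup of the centraliser is normal in it
  have h2 : Fact (Nat.Prime 2) := ⟨Nat.prime_two⟩
  obtain ⟨T⟩ : Nonempty (Sylow 2 C) := Sylow.nonempty
  have hT4 : Nat.card (T : Subgroup C) = 4 := by
    rw [card_sylow_eq_pow (p := 2) (a := 2) (m := 9) (by rw [hk]; norm_num) (by norm_num) T]
    norm_num
  let xc : C := ⟨x, mem_centralizer_singleton_iff.2 rfl⟩
  have hxcomm : ∀ y : C, Commute xc y := fun y =>
    Subtype.ext (mem_centralizer_singleton_iff.1 y.2).symm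
  have hxo : orderOf xc = 3 := by
    rw [orderOf_mk]
    have hd : orderOf x ∣ 9 := card_sylow_three h P ▸ (P : Subgroup G).orderOf_dvd_natCard hx.1
    obtain ⟨i, hi, hio⟩ := (Nat.dvd_prime_pow Nat.prime_three).1 (show orderOf x ∣ 3 ^ 2 by norm_num; exact hd)
    interval_cases i
    · exact absurd (orderOf_eq_one_iff.1 (by simpa using hio)) hx1
    · simpa using hio
    · exfalso
      apply hne
      have hz : ∀ R : Sylow 3 G, x ∈ R → (R : Subgroup G) = zpowers x := fun R hR =>
        (eq_of_le_of_card_ge (zpowers_le.2 hR)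
          (by rw [card_sylow_three h R, Nat.card_zpowers, hio]; norm_num)).symm
      exact Sylow.ext ((hz P hx.1).trans (hz Q hx.2).symm)
  -- elements of 3-power order
  have hthree : ∀ R : Sylow 3 C, xc ∈ R := by
    intro R
    have hp : IsPGroup 3 (zpowers xc) := IsPGroup.of_card (n := 1) (by rw [Nat.card_zpowers, hxo, pow_one])
    have : (zpowers xc).Normal := ⟨fun a ha g => by
      obtain ⟨i, rfl⟩ := mem_zpowers_iff.1 ha
      rw [((hxcomm g).symm.zpow_right i).eq, mul_inv_cancel_right]
      exact zpow_mem (mem_zpowers xc) i⟩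
    have hs := hp.to_sup_of_normal_left R.isPGroup'
    have := R.is_maximal' hs le_sup_right
    have h' : xc ∈ zpowers xc ⊔ (R : Subgroup C) := mem_sup_left (mem_zpowers xc)
    rwa [this] at h'
  have hR9 : ∀ R : Sylow 3 C, Nat.card (R : Subgroup C) = 9 := fun R => by
    rw [card_sylow_eq_pow (p := 3) (a := 2) (m := 4) (by rw [hk]; norm_num) (by norm_num) R]
    norm_num
  have hzp : ∀ R : Sylow 3 C, zpowers xc ≤ (R : Subgroup C) := fun R => zpowers_le.2 (hthree R)
  have hinter : ∀ R S : Sylow 3 C, R ≠ S → (R : Subgroup C) ⊓ S = zpowers xc := by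
    intro R S hRS
    refine (eq_of_le_of_card_ge (le_inf (hzp R) (hzp S)) ?_).symm
    rw [Nat.card_zpowers, hxo]
    have hd : Nat.card ↥((R : Subgroup C) ⊓ S) ∣ 3 ^ 2 := by
      rw [show (3 : ℕ) ^ 2 = 9 by norm_num, ← hR9 R]
      exact card_dvd_of_le inf_le_left
    obtain ⟨i, hi, hio⟩ := (Nat.dvd_prime_pow Nat.prime_three).1 hd
    rw [hio]
    rcases Nat.lt_or_ge i 2 with hi' | hi'
    · exact (Nat.pow_le_pow_right (by norm_num) (show i ≤ 1 by omega)).trans (by norm_num)
    · exfalso
      have hi2 : i = 2 := by omega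
      subst hi2
      have e1 : (R : Subgroup C) ⊓ S = R :=
        eq_of_le_of_card_ge inf_le_left (by rw [hR9 R, hio]; norm_num)
      exact hRS (Sylow.ext (eq_of_le_of_card_ge (inf_eq_left.1 e1) (by rw [hR9 R, hR9 S])))
  have := Fintype.ofFinite C
  have := Fintype.ofFinite (Sylow 3 C)
  let D : Sylow 3 C → Finset C := fun R => Finset.univ.filter (fun y => y ∈ (R : Subgroup C) ∧ y ∉ zpowers xc)
  let W : Finset C := Finset.univ.filter (fun y => ∃ R : Sylow 3 C, y ∈ (R : Subgroup C) ∧ y ∉ zpowers xc)
  have hW : W.card = 24 := by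
    have hWeq : W = Finset.univ.biUnion D := by ext y; simp [W, D]
    rw [hWeq, Finset.card_biUnion]
    · have hD : ∀ R : Sylow 3 C, (D R).card = 6 := by
        intro R
        have e : D R = (Finset.univ.filter (fun y => y ∈ (R : Subgroup C))) \
            (Finset.univ.filter (fun y => y ∈ zpowers xc)) := by ext y; simp [D]
        rw [e, Finset.card_sdiff_of_subset (fun y hy => by
          simp only [Finset.mem_filter, Finset.mem_univ, true_and] at hy ⊢
          exact hzp R hy)]
        have c1 : (Finset.univ.filter (fun y => y ∈ (R : Subgroup C))).card = 9 := by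
          rw [← hR9 R, card_filter_mem]
        have c2 : (Finset.univ.filter (fun y => y ∈ zpowers xc)).card = 3 := by
          conv_rhs => rw [← hxo, ← Nat.card_zpowers]
          rw [card_filter_mem]
        omega
      rw [Finset.sum_congr rfl (fun R _ => hD R), Finset.sum_const, Finset.card_univ, smul_eq_mul,
        ← Nat.card_eq_fintype_card, hn]
    · intro R _ S _ hRS
      simp only [Function.onFun, Finset.disjoint_left, D, Finset.mem_filter]
      rintro y ⟨-, hy1, hy2⟩ ⟨-, hy3, -⟩
      exact hy2 (hinter R S hRS ▸ mem_inf.2 ⟨hy1, hy3⟩)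
  have hTunique : ∀ T' : Sylow 2 C, T' = T := by
    intro T'
    by_contra hTT
    obtain ⟨t', ht', ht'T⟩ : ∃ t' ∈ (T' : Subgroup C), t' ∉ (T : Subgroup C) := by
      by_contra hc
      push Not at hc
      exact hTT (Sylow.ext (eq_of_le_of_card_ge hc (by
        rw [hT4, card_sylow_eq_pow (p := 2) (a := 2) (m := 9) (by rw [hk]; norm_num) (by norm_num) T']
        norm_num)))
    let U : Finset (C) := Finset.univ.filter (fun y => ∃ s : C, s ∈ (T : Subgroup C) ∧ s ≠ 1 ∧ ∃ i < 3, y = s * xc ^ i)
    have h2ord : ∀ (S : Sylow 2 C) (s : C), s ∈ (S : Subgroup C) → s ^ 4 = 1 := by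
      intro S s hs
      refine orderOf_dvd_iff_pow_eq_one.1 ?_
      have := (S : Subgroup C).orderOf_dvd_natCard hs
      rwa [card_sylow_eq_pow (p := 2) (a := 2) (m := 9) (by rw [hk]; norm_num) (by norm_num) S] at this
    have hx3 : xc ^ 3 = 1 := by rw [← hxo]; exact pow_orderOf_eq_one xc
    have hfour : ∀ (s : C) (i : ℕ), s ^ 4 = 1 → (s * xc ^ i) ^ 4 = xc ^ i := by
      intro s i hs
      rw [((hxcomm s).symm.pow_right i).mul_pow, hs, one_mul, ← pow_mul,
        show i * 4 = i + 3 * i by ring, pow_add, pow_mul, hx3, one_pow, mul_one]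
    have hnotW : ∀ s : C, s ^ 4 = 1 → s ≠ 1 → ∀ i, s * xc ^ i ∉ W ∧ s * xc ^ i ∉ zpowers xc := by
      intro s hs hs1 i
      have key : ∀ R : Sylow 3 C, s * xc ^ i ∈ (R : Subgroup C) → False := by
        intro R hR
        have hsR : s ∈ (R : Subgroup C) := by
          have := mul_mem hR (inv_mem (pow_mem (hthree R) i))
          rwa [mul_inv_cancel_right] at this
        have hd := (R : Subgroup C).orderOf_dvd_natCard hsR
        rw [hR9] at hd
        have := Nat.dvd_gcd hd (orderOf_dvd_iff_pow_eq_one.2 hs)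
        exact hs1 (orderOf_eq_one_iff.1 (Nat.dvd_one.1 this))
      refine ⟨fun hm => ?_, fun hm => ?_⟩
      · obtain ⟨R, hR, -⟩ := (Finset.mem_filter.1 hm).2
        exact key R hR
      · exact key default (hzp _ hm)
    have hU : 9 ≤ U.card := by
      let A := (Finset.univ.filter (fun s : C => s ∈ (T : Subgroup C) ∧ s ≠ 1)) ×ˢ Finset.range 3
      have hA : A.card = 9 := by
        have e : Finset.univ.filter (fun s : C => s ∈ (T : Subgroup C) ∧ s ≠ 1) =
            (Finset.univ.filter (fun s : C => s ∈ (T : Subgroup C))).erase 1 := by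
          ext s; simp [and_comm]
        rw [Finset.card_product, e, Finset.card_erase_of_mem (by simp), Finset.card_range]
        have : (Finset.univ.filter (fun s : C => s ∈ (T : Subgroup C))).card = 4 := by
          rw [← hT4, card_filter_mem]
        omega
      rw [← hA]
      refine Finset.card_le_card_of_injOn (fun p => p.1 * xc ^ p.2) ?_ ?_
      · intro p hp
        simp only [A, Finset.coe_product, Set.mem_prod, Finset.mem_coe, Finset.mem_filter,
          Finset.mem_range] at hp
        exact Finset.mem_filter.2 ⟨Finset.mem_univ _, p.1, hp.1.2.1, hp.1.2.2, p.2, hp.2, rfl⟩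
      · intro p hp q hq e
        simp only [A, Finset.coe_product, Set.mem_prod, Finset.mem_coe, Finset.mem_filter,
          Finset.mem_range] at hp hq
        have e4 := congrArg (fun y => y ^ 4) e
        simp only [hfour _ _ (h2ord T _ hp.1.2.1), hfour _ _ (h2ord T _ hq.1.2.1)] at e4
        have e2 : p.2 = q.2 := pow_injOn_Iio_orderOf (by rw [hxo]; exact hp.2) (by rw [hxo]; exact hq.2) e4
        refine Prod.ext ?_ e2
        simp only [e2] at e
        exact mul_right_cancel e
    have ht'1 : t' ≠ 1 := fun e => ht'T (e ▸ one_mem _)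
    have ht'U : t' ∉ U := by
      intro hm
      obtain ⟨s, hs, -, i, -, e⟩ := (Finset.mem_filter.1 hm).2
      have h4' := h2ord T' t' ht'
      rw [e, hfour s i (h2ord T s hs)] at h4'
      rw [h4', mul_one] at e
      exact ht'T (e ▸ hs)
    let Z : Finset C := Finset.univ.filter (fun y => y ∈ zpowers xc)
    have hZ : Z.card = 3 := by
      conv_rhs => rw [← hxo, ← Nat.card_zpowers]
      exact card_filter_mem _
    have hd1 : Disjoint (W ∪ Z) (insert t' U) := by
      rw [Finset.disjoint_left]
      intro y hy hy'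
      have hy'' : ∃ s : C, s ^ 4 = 1 ∧ s ≠ 1 ∧ ∃ i, y = s * xc ^ i := by
        rcases Finset.mem_insert.1 hy' with rfl | hm
        · exact ⟨y, h2ord T' y ht', ht'1, 0, by simp⟩
        · obtain ⟨s, hs, hs1, i, -, e⟩ := (Finset.mem_filter.1 hm).2
          exact ⟨s, h2ord T s hs, hs1, i, e⟩
      obtain ⟨s, hs, hs1, i, rfl⟩ := hy''
      rcases Finset.mem_union.1 hy with hm | hm
      · exact (hnotW s hs hs1 i).1 hm
      · exact (hnotW s hs hs1 i).2 (Finset.mem_filter.1 hm).2
    have hd2 : Disjoint W Z := by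
      rw [Finset.disjoint_left]
      intro y hy hy'
      obtain ⟨R, -, hR⟩ := (Finset.mem_filter.1 hy).2
      exact hR (Finset.mem_filter.1 hy').2
    have := Finset.card_le_univ ((W ∪ Z) ∪ insert t' U)
    rw [Finset.card_union_of_disjoint hd1, Finset.card_union_of_disjoint hd2,
      Finset.card_insert_of_notMem ht'U, ← Nat.card_eq_fintype_card, hk] at this
    omega
  -- so a local subgroup of index at most five
  set T₀ : Subgroup G := (T : Subgroup C).map C.subtype with hT₀
  have hT₀c : Nat.card T₀ = 4 := by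
    rw [hT₀, card_map_of_injective C.subtype_injective, hT4]
  have hCN : C ≤ normalizer (T₀ : Set G) := by
    have hs : Subsingleton (Sylow 2 C) := ⟨fun a b => (hTunique a).trans (hTunique b).symm⟩
    have hTn : (T : Subgroup C).Normal := Sylow.normal_of_subsingleton T
    have := le_normalizer_map (H := (T : Subgroup C)) C.subtype
    rw [normalizer_eq_top_iff.2 hTn, ← MonoidHom.range_eq_map, range_subtype] at this
    exact this
  obtain ⟨S, hS⟩ := (IsPGroup.of_card (p := 2) (n := 2) (by rw [hT₀c]; norm_num) :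
    IsPGroup 2 T₀).exists_le_sylow
  have hS8 : Nat.card (S : Subgroup G) = 8 := by
    rw [card_sylow_eq_pow (p := 2) (a := 3) (m := 45) (by rw [h]; norm_num) (by norm_num) S]
    norm_num
  have hSN : (S : Subgroup G) ≤ normalizer (T₀ : Set G) := by
    rw [← normal_subgroupOf_iff_le_normalizer hS]
    refine normal_of_index_eq_two ?_
    have h2' := (T₀.subgroupOf (S : Subgroup G)).card_mul_index
    rw [Nat.card_congr (subgroupOfEquivOfLe hS).toEquiv, hT₀c, hS8] at h2'
    omega
  have hN0 : T₀ ≠ ⊥ := fun e => by rw [e, card_bot] at hT₀c; omega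
  have hN1 : T₀ ≠ ⊤ := fun e => by rw [e, card_top, h] at hT₀c; omega
  have hNi := six_le_index h _ (normalizer_sub_ne_top hN0 hN1)
  have hd : 72 ∣ Nat.card (normalizer (T₀ : Set G)) := by
    have h36 : 36 ∣ Nat.card (normalizer (T₀ : Set G)) := by
      have h' := card_dvd_of_le hCN
      rwa [hk] at h'
    have h8 : 8 ∣ Nat.card (normalizer (T₀ : Set G)) := hS8 ▸ card_dvd_of_le hSN
    omega
  have hm := (normalizer (T₀ : Set G)).card_mul_index
  rw [h] at hm
  obtain ⟨c, hc⟩ := hd
  rw [hc] at hm
  rcases Nat.eq_zero_or_pos c with rfl | hc0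
  · simp at hm
  · nlinarith

theorem sylow_three_card (h : Nat.card G = 360) : Nat.card (Sylow 3 G) = 10 := by
  have h3 : Fact (Nat.Prime 3) := ⟨Nat.prime_three⟩
  obtain ⟨hd, hmod, hne1, hf⟩ := sylow_data (G := G) (p := 3) (a := 2) (m := 40)
    (by rw [h]; norm_num) (by norm_num) (by norm_num) (not_comm h)
  have key : ∀ d ∈ Nat.divisors 40, d % 3 = 1 → d = 1 ∨ d = 4 ∨ d = 10 ∨ d = 40 := by decide
  rcases key _ (Nat.mem_divisors.2 ⟨hd, by norm_num⟩) hmod with e | e | e | e
  · exact absurd e hne1
  · exfalso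
    rw [e, h] at hf
    norm_num [Nat.factorial] at hf
  · exact e
  · exfalso
    obtain ⟨P⟩ : Nonempty (Sylow 3 G) := Sylow.nonempty
    refine not_normalizer_le_centralizer (not_comm h) (by rw [h]; norm_num) P ?_
    have hm := card_sylow_mul_card_normalizer P
    rw [e, h] at hm
    have hNP : normalizer ((P : Subgroup G) : Set G) = (P : Subgroup G) :=
      (eq_of_le_of_card_ge le_normalizer (by rw [card_sylow_three h P]; omega)).symm
    rw [hNP]
    exact fun x hx => mem_centralizer_iff.2 fun y hy => sylow_three_comm h P y x hy hx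

theorem alt_six (h : Nat.card G = 360) : Nonempty (G ≃* alternatingGroup (Fin 6)) := by
  classical
  have h2 : Fact (Nat.Prime 2) := ⟨Nat.prime_two⟩
  have h3 : Fact (Nat.Prime 3) := ⟨Nat.prime_three⟩
  have hna := not_comm h
  have := Fintype.ofFinite (Sylow 3 G)
  have hcardΩ : Fintype.card (Sylow 3 G) = 10 := by
    rw [← Nat.card_eq_fintype_card, sylow_three_card h]
  have : Nontrivial (Sylow 3 G) := Fintype.one_lt_card_iff_nontrivial.1 (by omega)
  obtain ⟨P, Q, hPQ⟩ := exists_pair_ne (Sylow 3 G)
  set f := MulAction.toPermHom G (Sylow 3 G) with hf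
  have hfne : f ≠ 1 := by
    intro e
    obtain ⟨g, hg⟩ := MulAction.exists_smul_eq G P Q
    exact hPQ (((DFunLike.congr_fun (DFunLike.congr_fun e g) P).symm.trans hg))
  have hab : ∃ a b : G, a * b ≠ b * a := by
    by_contra hc
    push Not at hc
    exact hna ⟨⟨hc⟩⟩
  obtain ⟨hinj, halt⟩ := Classical.Small.perm_rep hab f hfne
  have hfaith : ∀ g : G, (∀ R : Sylow 3 G, g • R = R) → g = 1 := fun g hg =>
    hinj ((Equiv.ext fun R => hg R).trans (map_one f).symm)
  have hfix : ∀ (A B : Sylow 3 G) (x : G), A ≠ B → x ∈ A → x • B = B → x = 1 := by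
    intro A B x hAB hx hxB
    have hm : x ∈ (A : Subgroup G) ⊓ normalizer (B : Set G) :=
      ⟨hx, Sylow.smul_eq_iff_mem_normalizer.1 hxB⟩
    rw [A.isPGroup'.inf_normalizer_sylow, trivial_inter h A B hAB, mem_bot] at hm
    exact hm
  have hPP : ∀ x ∈ (P : Subgroup G), x • P = P := fun x hx =>
    Sylow.smul_eq_iff_mem_normalizer.2 (le_normalizer hx)
  have hbij : ∀ R : Sylow 3 G, R ≠ P → ∃ x ∈ (P : Subgroup G), x • Q = R := by
    let m : ↥(P : Subgroup G) → {R : Sylow 3 G // R ≠ P} := fun x =>
      ⟨(x : G) • Q, fun e => hPQ (by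
        have h' := congrArg (fun R => (x : G)⁻¹ • R) e
        simp only [inv_smul_smul] at h'
        rw [h', hPP _ (inv_mem x.2)])⟩
    have hm : Function.Injective m := by
      intro x y e
      have e' : (x : G) • Q = (y : G) • Q := congrArg Subtype.val e
      have h' : ((y : G)⁻¹ * (x : G)) • Q = Q := by rw [mul_smul, e', inv_smul_smul]
      exact Subtype.ext (inv_mul_eq_one.1
        (hfix P Q _ hPQ (mul_mem (inv_mem y.2) x.2) h')).symm
    have hb : Function.Bijective m := (Nat.bijective_iff_injective_and_card m).2 ⟨hm, by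
      rw [card_sylow_three h P, Nat.card_eq_fintype_card, Fintype.card_subtype_compl,
        Fintype.card_subtype_eq, hcardΩ]⟩
    intro R hR
    obtain ⟨x, hx⟩ := hb.2 ⟨R, hR⟩
    exact ⟨x, x.2, congrArg Subtype.val hx⟩
  set K := MulAction.stabilizer G P ⊓ MulAction.stabilizer G Q with hK
  have hKP : ∀ u ∈ K, ∀ x ∈ (P : Subgroup G), u * x * u⁻¹ ∈ (P : Subgroup G) := fun u hu x hx =>
    (mem_normalizer_iff.1 (Sylow.smul_eq_iff_mem_normalizer.1 hu.1) x).1 hx
  -- involutions of K invert P
  have hinv : ∀ u ∈ K, orderOf u = 2 → ∀ x ∈ (P : Subgroup G), u * x * u⁻¹ = x⁻¹ := by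
    intro u hu hou
    have huu : u * u = 1 := by rw [← sq, ← hou, pow_orderOf_eq_one]
    have key : ∀ y ∈ (P : Subgroup G), u * y * u⁻¹ = y → y = 1 := by
      by_contra hcon
      push Not at hcon
      obtain ⟨y, hy, hyu, hy1⟩ := hcon
      set F := (P : Subgroup G) ⊓ centralizer ({u} : Set G) with hF
      have hFd : Nat.card F ∣ 3 ^ 2 := by
        rw [show (3 : ℕ) ^ 2 = 9 by norm_num, ← card_sylow_three h P]
        exact card_dvd_of_le inf_le_left
      obtain ⟨i, hi, hio⟩ := (Nat.dvd_prime_pow Nat.prime_three).1 hFd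
      have hmemF : ∀ x ∈ (P : Subgroup G), x ∈ F ↔ u * x * u⁻¹ = x := fun x hx => by
        rw [hF, mem_inf, mem_centralizer_singleton_iff, mul_inv_eq_iff_eq_mul]
        exact ⟨fun h => h.2.symm, fun h => ⟨hx, h.symm⟩⟩
      interval_cases i
      · have : y ∈ F := (hmemF y hy).2 hyu
        have hFb : F = ⊥ := Subgroup.card_eq_one.1 (by simpa using hio)
        rw [hFb, mem_bot] at this
        exact hy1 this
      · -- three fixed points of P, four fixed points in all
        have hfixR : ∀ x ∈ (P : Subgroup G), u • (x • Q) = x • Q ↔ x ∈ F := by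
          intro x hx
          rw [hmemF x hx]
          have e : u • (x • Q) = (u * x * u⁻¹) • Q := by
            have hQ' : u • Q = Q := hu.2
            conv_rhs => rw [mul_smul, ← hQ', inv_smul_smul, mul_smul]
          constructor
          · intro he
            rw [e] at he
            have h' : (x⁻¹ * (u * x * u⁻¹)) • Q = Q := by rw [mul_smul, he, inv_smul_smul]
            exact (inv_mul_eq_one.1 (hfix P Q _ hPQ (mul_mem (inv_mem hx) (hKP u hu x hx)) h')).symm
          · intro he
            rw [e, he]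
        have hcardfix : Nat.card {R : Sylow 3 G // u • R = R} = 4 := by
          let m : Option F → {R : Sylow 3 G // u • R = R} := fun o => match o with
            | none => ⟨P, hu.1⟩
            | some x => ⟨(x : G) • Q, (hfixR _ x.2.1).2 x.2⟩
          have hb : Function.Bijective m := by
            constructor
            · have hne' : ∀ x : F, (x : G) • Q ≠ P := fun x e => hPQ (by
                have h' := congrArg (fun R => (x : G)⁻¹ • R) e
                simp only [inv_smul_smul] at h'
                rw [h', hPP _ (inv_mem x.2.1)])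
              rintro (_ | a) (_ | b) e
              · rfl
              · exact absurd (congrArg Subtype.val e).symm (hne' b)
              · exact absurd (congrArg Subtype.val e) (hne' a)
              · have e' : (a : G) • Q = (b : G) • Q := congrArg Subtype.val e
                have h' : ((b : G)⁻¹ * (a : G)) • Q = Q := by rw [mul_smul, e', inv_smul_smul]
                rw [Subtype.ext (inv_mul_eq_one.1
                  (hfix P Q _ hPQ (mul_mem (inv_mem b.2.1) a.2.1) h')).symm]
            · rintro ⟨R, hR⟩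
              by_cases hRP : R = P
              · exact ⟨none, Subtype.ext hRP.symm⟩
              · obtain ⟨x, hx, rfl⟩ := hbij R hRP
                exact ⟨some ⟨x, (hfixR x hx).1 hR⟩, rfl⟩
          rw [← Nat.card_congr (Equiv.ofBijective m hb), Finite.card_option, hio, pow_one]
        have hsupp : (f u).support.card = 6 := by
          have hcompl : (f u).supportᶜ.card = 4 := by
            rw [← hcardfix, Nat.subtype_card]
            intro R
            rw [Finset.mem_compl, Equiv.Perm.notMem_support]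
            rfl
          rw [Finset.card_compl, hcardΩ] at hcompl
          have := Finset.card_le_univ (f u).support
          omega
        obtain ⟨k, hk⟩ := cycleType_of_pow_eq_one (σ := f u) (p := 2) (by rw [← map_pow, sq, huu, map_one])
        have hsum := Equiv.Perm.sum_cycleType (f u)
        rw [hk, Multiset.sum_replicate, smul_eq_mul, hsupp] at hsum
        have hs := Equiv.Perm.mem_alternatingGroup.1 (halt ⟨u, rfl⟩)
        rw [Equiv.Perm.sign_of_cycleType, hk, Multiset.sum_replicate, Multiset.card_replicate,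
          show k = 3 by omega] at hs
        exact absurd hs (by decide)
      · have hFP : F = (P : Subgroup G) :=
          eq_of_le_of_card_ge inf_le_left (by rw [card_sylow_three h P, hio]; norm_num)
        have : u = 1 := hfaith u fun R => by
          by_cases hRP : R = P
          · rw [hRP]; exact hu.1
          · obtain ⟨x, hx, rfl⟩ := hbij R hRP
            have hxu : u * x = x * u :=
              mul_inv_eq_iff_eq_mul.1 ((hmemF x hx).1 (hFP.symm ▸ hx))
            rw [← mul_smul, hxu, mul_smul, hu.2]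
        rw [this, orderOf_one] at hou
        omega
    intro x hx
    have hui : u⁻¹ = u := inv_eq_of_mul_eq_one_left huu
    have h1 := key _ (mul_mem hx (hKP u hu x hx)) (by
      have e2 : u * (u * x * u⁻¹) * u⁻¹ = x := by
        calc u * (u * x * u⁻¹) * u⁻¹ = (u * u) * x * (u⁻¹ * u⁻¹) := by group
          _ = x := by rw [huu, hui, huu, one_mul, mul_one]
      calc u * (x * (u * x * u⁻¹)) * u⁻¹ = (u * x * u⁻¹) * (u * (u * x * u⁻¹) * u⁻¹) := by group
        _ = (u * x * u⁻¹) * x := by rw [e2]
        _ = x * (u * x * u⁻¹) := sylow_three_comm h P _ _ (hKP u hu x hx) hx)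
    exact eq_inv_of_mul_eq_one_right h1
  have huniq : ∀ a ∈ K, ∀ b ∈ K, orderOf a = 2 → orderOf b = 2 → a = b := by
    intro a ha b hb hoa hob
    have hab' : a * b = 1 := hfaith _ fun R => by
      by_cases hRP : R = P
      · rw [hRP]; exact (mul_mem ha hb).1
      · obtain ⟨x, hx, rfl⟩ := hbij R hRP
        have h1 := hinv a ha hoa x⁻¹ (inv_mem hx)
        have h2 := hinv b hb hob x hx
        have e : (a * b) * x = x * (a * b) := by
          have : (a * b) * x * (a * b)⁻¹ = x := by
            rw [show (a * b) * x * (a * b)⁻¹ = a * (b * x * b⁻¹) * a⁻¹ by group, h2, h1, inv_inv]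
          exact mul_inv_eq_iff_eq_mul.1 this
        rw [← mul_smul, e, mul_smul, (mul_mem ha hb).2]
    have hbb : b * b = 1 := by rw [← sq, ← hob, pow_orderOf_eq_one]
    calc a = a * (b * b) := by rw [hbb, mul_one]
      _ = b := by rw [← mul_assoc, hab', one_mul]
  have hK4 : Nat.card K = 4 := by
    set N := MulAction.stabilizer G P with hN
    have hNc : Nat.card N = 36 := by
      have hNn : N = normalizer ((P : Subgroup G) : Set G) := by
        ext g; exact Sylow.smul_eq_iff_mem_normalizer
      have := card_sylow_mul_card_normalizer P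
      rw [sylow_three_card h, h, ← hNn] at this
      omega
    let m : ↥(P : Subgroup G) × K → N := fun p =>
      ⟨(p.1 : G) * (p.2 : G), mul_mem (hPP _ p.1.2) p.2.2.1⟩
    have hm : Function.Bijective m := by
      constructor
      · rintro ⟨x, a⟩ ⟨y, b⟩ e
        have e' : (x : G) * a = y * b := congrArg Subtype.val e
        have hxy : (x : G) • Q = (y : G) • Q := by
          have ha : (a : G) • Q = Q := a.2.2
          have hb : (b : G) • Q = Q := b.2.2
          calc (x : G) • Q = ((x : G) * a) • Q := by rw [mul_smul, ha]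
            _ = ((y : G) * b) • Q := by rw [e']
            _ = (y : G) • Q := by rw [mul_smul, hb]
        have h' : ((y : G)⁻¹ * (x : G)) • Q = Q := by rw [mul_smul, hxy, inv_smul_smul]
        have hxy' : x = y := Subtype.ext (inv_mul_eq_one.1
          (hfix P Q _ hPQ (mul_mem (inv_mem y.2) x.2) h')).symm
        subst hxy'
        exact Prod.ext rfl (Subtype.ext (mul_left_cancel e'))
      · rintro ⟨g, hg⟩
        have hgQ : g • Q ≠ P := fun e => hPQ (by
          have : g • P = P := hg
          exact MulAction.injective g (this.trans e.symm))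
        obtain ⟨x, hx, hxe⟩ := hbij _ hgQ
        refine ⟨(⟨x, hx⟩, ⟨x⁻¹ * g, ?_, ?_⟩), Subtype.ext (mul_inv_cancel_left x g)⟩
        · show (x⁻¹ * g) • P = P
          have hgP : g • P = P := hg
          rw [mul_smul, hgP]
          exact hPP _ (inv_mem hx)
        · show (x⁻¹ * g) • Q = Q
          rw [mul_smul, ← hxe, inv_smul_smul]
    have := Nat.card_congr (Equiv.ofBijective m hm)
    rw [Nat.card_prod, card_sylow_three h P, hNc] at this
    omega
  obtain ⟨z', hz'⟩ := exists_prime_orderOf_dvd_card' 2 (show 2 ∣ Nat.card K by rw [hK4]; norm_num)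
  set z : G := (z' : G) with hzdef
  have hzK : z ∈ K := z'.2
  have hz : orderOf z = 2 := by rw [hzdef, orderOf_coe]; exact hz'
  obtain ⟨k, hkK, hk4⟩ : ∃ k ∈ K, orderOf k = 4 := by
    by_contra hc
    push Not at hc
    have hsub : ∀ a : K, a = 1 ∨ (a : G) = z := fun a => by
      have hd : orderOf a ∣ 2 ^ 2 := by rw [show (2:ℕ) ^ 2 = Nat.card K by rw [hK4]; norm_num]; exact orderOf_dvd_natCard a
      obtain ⟨i, hi, hio⟩ := (Nat.dvd_prime_pow Nat.prime_two).1 hd
      interval_cases i
      · exact Or.inl (orderOf_eq_one_iff.1 (by simpa using hio))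
      · exact Or.inr (huniq _ a.2 z hzK (by rw [orderOf_coe, hio]; norm_num) hz)
      · exact absurd (by rw [orderOf_coe, hio]; norm_num) (hc _ a.2)
    have := Fintype.ofFinite K
    have : Fintype.card K ≤ 2 := by
      have := Finset.card_le_card (s := (Finset.univ : Finset K)) (t := {1, ⟨z, hzK⟩}) (fun a _ => by
        rcases hsub a with e | e
        · simp [e]
        · simp [Subtype.ext_iff, e])
      exact this.trans Finset.card_le_two
    rw [← Nat.card_eq_fintype_card, hK4] at this
    omega
  have hKk : K = zpowers k :=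
    (eq_of_le_of_card_ge (zpowers_le.2 hkK) (by rw [hK4, Nat.card_zpowers, hk4])).symm
  have hzk : z = k * k := huniq z hzK _ (mul_mem hkK hkK) hz (by
    rw [← sq, orderOf_pow' k (by norm_num), hk4]; norm_num)
  have hmovefix : ∀ t : G, orderOf t = 2 → ∃ A B : Sylow 3 G, A ≠ B ∧ t • A = A ∧ t • B = B := by
    intro t ht
    have htt : t * t = 1 := by rw [← sq, ← ht, pow_orderOf_eq_one]
    obtain ⟨j, hj⟩ := cycleType_of_pow_eq_one (σ := f t) (p := 2) (by rw [← map_pow, sq, htt, map_one])
    have hsum := Equiv.Perm.sum_cycleType (f t)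
    rw [hj, Multiset.sum_replicate, smul_eq_mul] at hsum
    have hs := Equiv.Perm.mem_alternatingGroup.1 (halt ⟨t, rfl⟩)
    rw [Equiv.Perm.sign_of_cycleType, hj, Multiset.sum_replicate, Multiset.card_replicate,
      smul_eq_mul, show j * 2 + j = j + 2 * j by ring, pow_add, pow_mul, neg_one_sq, one_pow,
      mul_one, neg_one_pow_eq_one_iff_even (show (-1 : ℤˣ) ≠ 1 by decide)] at hs
    obtain ⟨i, rfl⟩ := hs
    have hle := Finset.card_le_univ (f t).support
    rw [hcardΩ] at hle
    have hc : 1 < (f t).supportᶜ.card := by rw [Finset.card_compl, hcardΩ]; omega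
    obtain ⟨A, hA, B, hB, hne⟩ := Finset.one_lt_card.1 hc
    rw [Finset.mem_compl, Equiv.Perm.notMem_support] at hA hB
    exact ⟨A, B, hne, hA, hB⟩
  have hmovepair : ∀ A B : Sylow 3 G, A ≠ B → ∃ g : G, g • A = P ∧ g • B = Q := by
    intro A B hne
    obtain ⟨g, hg⟩ := MulAction.exists_smul_eq G A P
    have hgB : g • B ≠ P := fun e => hne (MulAction.injective g (hg.trans e.symm))
    obtain ⟨x, hx, hxe⟩ := hbij _ hgB
    refine ⟨x⁻¹ * g, ?_, ?_⟩
    · rw [mul_smul, hg, hPP _ (inv_mem hx)]
    · rw [mul_smul, ← hxe, inv_smul_smul]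
  have hord_conj : ∀ g t : G, orderOf (g * t * g⁻¹) = orderOf t := fun g t => by
    simpa using orderOf_injective (MulAut.conj g).toMonoidHom (MulAut.conj g).injective t
  have hmemK : ∀ g t A B, g • A = P → g • B = Q → t • A = A → t • B = B → g * t * g⁻¹ ∈ K := by
    intro g t A B hA hB htA htB
    refine ⟨?_, ?_⟩
    · show (g * t * g⁻¹) • P = P
      rw [← hA, ← mul_smul, inv_mul_cancel_right, mul_smul, htA]
    · show (g * t * g⁻¹) • Q = Q
      rw [← hB, ← mul_smul, inv_mul_cancel_right, mul_smul, htB]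
  have hconj : ∀ t : G, orderOf t = 2 → IsConj z t := by
    intro t ht
    obtain ⟨A, B, hne, hA, hB⟩ := hmovefix t ht
    obtain ⟨g, hgA, hgB⟩ := hmovepair A B hne
    have e := huniq _ (hmemK g t A B hgA hgB hA hB) z hzK (by rw [hord_conj]; exact ht) hz
    exact (isConj_iff.2 ⟨g, e⟩ : IsConj t z).symm
  -- an involution exchanging P and Q
  obtain ⟨v, hvo, hvP, hvQ⟩ : ∃ v : G, orderOf v = 2 ∧ v • P = Q ∧ v • Q = P := by
    obtain ⟨A, hA⟩ : ∃ A : Sylow 3 G, z • A ≠ A := by
      by_contra hc
      push Not at hc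
      rw [hfaith z hc, orderOf_one] at hz
      omega
    obtain ⟨g, hgA, hgB⟩ := hmovepair A (z • A) (fun e => hA e.symm)
    refine ⟨g * z * g⁻¹, by rw [hord_conj]; exact hz, ?_, ?_⟩
    · rw [← hgA, ← mul_smul, inv_mul_cancel_right, mul_smul, hgB]
    · rw [← hgB, ← mul_smul, inv_mul_cancel_right, mul_smul, ← mul_smul z z, ← sq, ← hz,
        pow_orderOf_eq_one, one_smul, hgA]
  have hvv : v * v = 1 := by rw [← sq, ← hvo, pow_orderOf_eq_one]
  have hvK : v ∉ K := fun e => hPQ (e.1.symm.trans hvP)
  have hvconj : ∀ a ∈ K, v * a * v⁻¹ ∈ K := by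
    intro a ha
    have hvi : v⁻¹ = v := inv_eq_of_mul_eq_one_left hvv
    refine ⟨?_, ?_⟩
    · show (v * a * v⁻¹) • P = P
      rw [hvi, mul_smul, hvP, mul_smul, show a • Q = Q from ha.2, hvQ]
    · show (v * a * v⁻¹) • Q = Q
      rw [hvi, mul_smul, hvQ, mul_smul, show a • P = P from ha.1, hvP]
  have hvz : v * z * v⁻¹ = z := huniq _ (hvconj z hzK) z hzK (by rw [hord_conj]; exact hz) hz
  have hzfix : ∀ R : Sylow 3 G, z • R = R → R = P ∨ R = Q := by
    intro R hR
    by_cases hRP : R = P
    · exact Or.inl hRP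
    refine Or.inr ?_
    obtain ⟨x, hx, rfl⟩ := hbij R hRP
    have e : z • (x • Q) = (z * x * z⁻¹) • Q := by
      have hQ' : z • Q = Q := hzK.2
      conv_rhs => rw [mul_smul, ← hQ', inv_smul_smul, mul_smul]
    rw [e, hinv z hzK hz x hx] at hR
    have h' : (x⁻¹ * x⁻¹) • Q = Q := by rw [mul_smul, hR, inv_smul_smul]
    have h1 := hfix P Q _ hPQ (mul_mem (inv_mem hx) (inv_mem hx)) h'
    have hd := orderOf_dvd_iff_pow_eq_one.2 (show x⁻¹ ^ 2 = 1 by rw [sq, h1])
    have hd' := (P : Subgroup G).orderOf_dvd_natCard (inv_mem hx)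
    rw [card_sylow_three h P] at hd'
    have hx1 : x = 1 := inv_eq_one.1 (orderOf_eq_one_iff.1 (Nat.dvd_one.1 (Nat.dvd_gcd hd' hd)))
    rw [hx1, one_smul]
  set C := centralizer ({z} : Set G) with hCdef
  have hKC : K ≤ C := by
    rw [hKk, zpowers_le, hCdef, mem_centralizer_singleton_iff, hzk, mul_assoc]
  have hvC : v ∈ C := mem_centralizer_singleton_iff.2 (mul_inv_eq_iff_eq_mul.1 hvz)
  have hcases : ∀ s ∈ C, s ∈ K ∨ v * s ∈ K := by
    intro s hs
    have hsz : s * z = z * s := mem_centralizer_singleton_iff.1 hs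
    have hfixR : ∀ R : Sylow 3 G, z • R = R → z • (s • R) = s • R := fun R hR => by
      rw [← mul_smul, ← hsz, mul_smul, hR]
    rcases hzfix _ (hfixR P hzK.1) with e | e
    · rcases hzfix _ (hfixR Q hzK.2) with e' | e'
      · exact absurd (MulAction.injective s (e'.trans e.symm)) (Ne.symm hPQ)
      · exact Or.inl ⟨e, e'⟩
    · rcases hzfix _ (hfixR Q hzK.2) with e' | e'
      · refine Or.inr ⟨?_, ?_⟩
        · show (v * s) • P = P
          rw [mul_smul, e, hvQ]
        · show (v * s) • Q = Q
          rw [mul_smul, e', hvP]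
      · exact absurd (MulAction.injective s (e.trans e'.symm)) hPQ
  have hkC : k ∈ C := hKC hkK
  have hCcl : C = closure ({v, k} : Set G) := by
    refine le_antisymm (fun s hs => ?_) ((closure_le _).2 ?_)
    · have hKcl : K ≤ closure ({v, k} : Set G) := by
        rw [hKk, zpowers_le]; exact subset_closure (by simp)
      have hvcl : v ∈ closure ({v, k} : Set G) := subset_closure (by simp)
      rcases hcases s hs with e | e
      · exact hKcl e
      · have := mul_mem (inv_mem hvcl) (hKcl e)
        rwa [inv_mul_cancel_left] at this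
    · rintro y (rfl | rfl)
      exacts [hvC, hkC]
  have hC8 : Nat.card C = 8 := by
    let m : Bool × K → C := fun p => ⟨(if p.1 then v else 1) * (p.2 : G),
      mul_mem (by split <;> [exact hvC; exact one_mem C]) (hKC p.2.2)⟩
    have hm : Function.Bijective m := by
      constructor
      · rintro ⟨a, x⟩ ⟨b, y⟩ e
        have e' := congrArg Subtype.val e
        simp only [m] at e'
        cases a <;> cases b <;> simp at e'
        · rw [e']
        · exact absurd (by rw [eq_mul_inv_of_mul_eq e'.symm]; exact mul_mem x.2 (inv_mem y.2)) hvK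
        · exact absurd (by rw [eq_mul_inv_of_mul_eq e']; exact mul_mem y.2 (inv_mem x.2)) hvK
        · rw [e']
      · rintro ⟨s, hs⟩
        rcases hcases s hs with e | e
        · exact ⟨(false, ⟨s, e⟩), Subtype.ext (by simp [m])⟩
        · exact ⟨(true, ⟨v * s, e⟩), Subtype.ext (by simp [m, ← mul_assoc, hvv])⟩
    rw [← Nat.card_congr (Equiv.ofBijective m hm), Nat.card_prod, hK4]
    simp
  have hvk : v * k * v⁻¹ = k⁻¹ := by
    have hm := hvconj k hkK
    rw [hKk] at hm
    obtain ⟨i, hi0⟩ := mem_zpowers_iff.1 hm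
    obtain ⟨i', hi', hi⟩ : ∃ i' < 4, k ^ i' = v * k * v⁻¹ := by
      refine ⟨(i % (4 : ℤ)).toNat, by omega, ?_⟩
      rw [← zpow_natCast, Int.toNat_of_nonneg (Int.emod_nonneg _ (by norm_num)), ← hi0,
        show (4 : ℤ) = ((orderOf k : ℕ) : ℤ) by rw [hk4]; rfl, zpow_mod_orderOf]
    have ho : orderOf (k ^ i') = 4 := by rw [hi, hord_conj]; exact hk4
    interval_cases i'
    · simp at ho
    · -- the commuting case contradicts transfer
      exfalso
      rw [pow_one] at hi
      have hcomm : v * k = k * v := mul_inv_eq_iff_eq_mul.1 hi.symm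
      have hCcomm : IsMulCommutative C := by
        rw [hCcl]
        exact isMulCommutative_closure (by
          rintro a (rfl | rfl) b (rfl | rfl)
          exacts [rfl, hcomm, hcomm.symm, rfl])
      obtain ⟨S, hS⟩ := (IsPGroup.of_card (p := 2) (n := 3) (by rw [hC8]; norm_num) :
        IsPGroup 2 C).exists_le_sylow
      have hSC : (S : Subgroup G) = C := (eq_of_le_of_card_ge hS (by
        rw [hC8, card_sylow_eq_pow (p := 2) (a := 3) (m := 45) (by rw [h]; norm_num) (by norm_num) S]
        norm_num)).symm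
      refine not_normalizer_le_centralizer hna (by rw [h]; norm_num) S ?_
      rw [hSC]
      intro g hg
      refine le_centralizer C ?_
      have hk' : g * k * g⁻¹ ∈ C := (mem_normalizer_iff.1 hg k).1 hkC
      have hsq : (g * k * g⁻¹) * (g * k * g⁻¹) = g * z * g⁻¹ := by rw [hzk]; group
      set s := g * k * g⁻¹ with hsdef
      have hsqK : s * s ∈ zpowers z := by
        have hKsq : ∀ a ∈ K, a * a ∈ zpowers z := by
          intro a ha
          rw [hKk] at ha
          obtain ⟨j, rfl⟩ := mem_zpowers_iff.1 ha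
          exact mem_zpowers_iff.2 ⟨j, by rw [hzk, (Commute.refl k).mul_zpow]⟩
        rcases hcases s hk' with e | e
        · exact hKsq s e
        · have hvs : Commute v s := congrArg Subtype.val (hCcomm.is_comm.comm (⟨v, hvC⟩ : C) ⟨s, hk'⟩)
          have := hKsq _ e
          rwa [show (v * s) * (v * s) = (v * v) * (s * s) from hvs.symm.mul_mul_mul_comm v s,
            hvv, one_mul] at this
      obtain ⟨j, hj⟩ := mem_zpowers_iff.1 hsqK
      have hgz : g * z * g⁻¹ = z := by
        rw [← hsq, ← hj]
        rcases Int.even_or_odd j with ⟨l, rfl⟩ | ⟨l, rfl⟩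
        · exfalso
          rw [← two_mul, zpow_mul, zpow_two, ← sq, ← hz, pow_orderOf_eq_one, one_zpow, hsq, eq_comm,
            conj_eq_one_iff] at hj
          exact absurd hj (by intro e; rw [e, orderOf_one] at hz; omega)
        · rw [zpow_add_one, zpow_mul, zpow_two, ← sq, ← hz, pow_orderOf_eq_one, one_zpow, one_mul]
      exact mem_centralizer_singleton_iff.2 (mul_inv_eq_iff_eq_mul.1 hgz)
    · rw [orderOf_pow' k (by norm_num), hk4] at ho
      norm_num at ho
    · rw [← hi]
      exact eq_inv_of_mul_eq_one_left (by rw [← pow_succ, show 3 + 1 = orderOf k by rw [hk4], pow_orderOf_eq_one])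
  -- dihedral
  have hxy : v * (v * k) = k := by rw [← mul_assoc, hvv, one_mul]
  have hvko : orderOf (v * k) = 2 := by
    refine orderOf_eq_prime ?_ (fun e => hvK ?_)
    · have : v * k * v = k⁻¹ := by rwa [inv_eq_of_mul_eq_one_left hvv] at hvk
      rw [sq, ← mul_assoc, this, inv_mul_cancel]
    · rw [mul_eq_one_iff_eq_inv.1 e]
      exact inv_mem hkK
  have hne' : v ≠ v * k := fun e => by
    have : k = 1 := (mul_eq_left.1 e.symm)
    rw [this, orderOf_one] at hk4
    omega
  obtain ⟨e⟩ := Cfsg.Agent.S0206.result v (v * k) hvo hvko hne'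
  have hcl : closure ({v, v * k} : Set G) = C := by
    rw [hCcl]
    have hv1 : v ∈ closure ({v, k} : Set G) := subset_closure (by simp)
    have hk1 : k ∈ closure ({v, k} : Set G) := subset_closure (by simp)
    have hv2 : v ∈ closure ({v, v * k} : Set G) := subset_closure (by simp)
    have hk2 : v * k ∈ closure ({v, v * k} : Set G) := subset_closure (by simp)
    refine le_antisymm ((closure_le _).2 ?_) ((closure_le _).2 ?_)
    · rintro y (rfl | rfl)
      exacts [hv1, mul_mem hv1 hk1]
    · rintro y (rfl | rfl)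
      exacts [hv2, by have := mul_mem hv2 hk2; rwa [hxy] at this]
  rw [hxy, hk4] at e
  exact Fg24.InvolD8.equiv_alt_six h z hz ((MulEquiv.subgroupCongr hcl).symm.trans e) hconj

end Cfsg.Agent.SmallOrder.Order360
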