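import Cfsg.Agent.SmallOrder.Elements
import Cfsg.Agent.Char.Integral

/-!
# The prime two and Burnside in small simple groups
-/

set_option autoImplicit false

namespace Cfsg.Agent.SmallOrder

open Subgroup

universe u

variable {G : Type u} [Group G] [Finite G]

theorem minFac_eq_two (h : Even (Nat.card G)) : (Nat.card G).minFac = 2 :=
  (Nat.minFac_eq_two_iff _).2 (even_iff_two_dvd.1 h)

theorem isKleinFour_of_not_cyclic {H : Type*} [Group H] [Finite H] (hc : Nat.card H = 4)
    (h : ¬ IsCyclic H) : IsKleinFour H := by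
  refine ⟨hc, ?_⟩
  have hd : ∀ x : H, x ^ 2 = 1 := by
    intro x
    rw [← orderOf_dvd_iff_pow_eq_one]
    have h1 : orderOf x ∣ 2 ^ 2 := (orderOf_dvd_natCard x).trans hc.dvd
    obtain ⟨i, hi, hix⟩ := (Nat.dvd_prime_pow Nat.prime_two).1 h1
    have : i ≠ 2 := by
      rintro rfl
      exact h (isCyclic_of_orderOf_eq_card x (by rw [hc, hix]; norm_num))
    rw [hix]
    exact pow_dvd_pow 2 (by omega) |>.trans (pow_one 2).dvd
  refine ((Nat.dvd_prime Nat.prime_two).1 (Monoid.exponent_dvd_of_forall_pow_eq_one hd)).resolve_left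
    fun he => ?_
  rw [Monoid.exp_eq_one_iff] at he
  have := (Nat.card_eq_one_iff_unique (α := H)).2 ⟨he, ⟨1⟩⟩
  omega

variable [IsSimpleGroup G]

theorem not_isCyclic_sylow (hna : ¬ IsMulCommutative G) {p : ℕ} [hp : Fact p.Prime]
    (hmin : (Nat.card G).minFac = p) (P : Sylow p G) : ¬ IsCyclic (P : Subgroup G) := fun hP =>
  not_normalizer_le_centralizer hna (hmin ▸ Nat.minFac_dvd _) P (hP.normalizer_le_centralizer hmin)

theorem three_primes (hna : ¬ IsMulCommutative G) {p q : ℕ} (hp : p.Prime) (hq : q.Prime) {a b : ℕ}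
    (h : Nat.card G = p ^ a * q ^ b) : False :=
  hna ⟨⟨IsSimpleGroup.comm_iff_isSolvable.2
    (Char.isSolvable_of_card_eq p q hp hq _ G rfl ⟨a, b, h⟩)⟩⟩

end Cfsg.Agent.SmallOrder
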