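import Cfsg.Agent.Char.Gen
import Cfsg.Agent.Char.Linear
import Cfsg.Agent.Char.Induced
import Cfsg.Agent.SmallOrder.Two
import Mathlib.GroupTheory.FiniteAbelian.Duality
import Mathlib.Analysis.Complex.Polynomial.Basic

/-!
# Exceptional characters for a self-centralising subgroup of prime order
-/

set_option autoImplicit false

namespace Cfsg.Agent.SmallOrder

open Cfsg.Agent.Char
open scoped ComplexConjugate Classical
open Subgroup (normalizer centralizer)

universe u

variable {G : Type u} [Group G] [Fintype G] {P : Subgroup G}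

/-- `1 - λ` on `P`. -/
noncomputable def oneSub (f : P →* ℂˣ) : P → ℂ := fun x => 1 - (f x : ℂ)

/-- The virtual character `Ind (1 - λ)`. -/
noncomputable def gam (f : P →* ℂˣ) : G → ℂ := indFun P (oneSub f)

theorem isGeneralized_oneSub (f : P →* ℂˣ) : IsGeneralizedCharacter P (oneSub f) :=
  ⟨fun _ => 1, fun x => (f x : ℂ), isCharacter_one, (isLinear_iff.2 ⟨f, rfl⟩).1, rfl⟩

theorem isGeneralized_gam (f : P →* ℂˣ) : IsGeneralizedCharacter G (gam f) :=
  isGeneralized_indFun P (isGeneralized_oneSub f)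

theorem gam_one (f : P →* ℂˣ) : gam f 1 = 0 := by
  rw [gam, indFun_apply_one]
  simp [oneSub]

theorem sum_hom (f : P →* ℂˣ) [Fintype P] [Decidable (f = 1)] :
    ∑ x : P, (f x : ℂ) = if f = 1 then (Nat.card P : ℂ) else 0 := by
  classical
  have h := sum_hom_units (R := ℂ) ((Units.coeHom ℂ).comp f)
  have hiff : (Units.coeHom ℂ).comp f = 1 ↔ f = 1 :=
    ⟨fun e => MonoidHom.ext fun x => Units.ext (DFunLike.congr_fun e x),
      fun e => by subst e; exact MonoidHom.ext fun x => by simp⟩
  simp only [MonoidHom.coe_comp, Function.comp_apply, Units.coeHom_apply, hiff] at h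
  rw [h, Nat.card_eq_fintype_card]
  split_ifs <;> simp

theorem conj_hom (f : P →* ℂˣ) (x : P) : conj (f x : ℂ) = ((f⁻¹ : P →* ℂˣ) x : ℂ) := by
  have hn : ‖(f x : ℂ)‖ = 1 := by
    refine Complex.norm_eq_one_of_pow_eq_one (n := Nat.card P) ?_ Nat.card_pos.ne'
    rw [← Units.val_pow_eq_pow_val, ← map_pow, pow_card_eq_one', map_one, Units.val_one]
  rw [MonoidHom.inv_apply, Units.val_inv_eq_inv_val, Complex.inv_eq_conj hn]

theorem classInner_gam_one (f : P →* ℂˣ) (hf : f ≠ 1) :
    classInner (gam f) (fun _ => (1 : ℂ)) = 1 := by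
  classical
  rw [gam, classInner_indFun_left P _ (fun a b => rfl), classInner]
  simp only [oneSub, map_one, mul_one, Finset.sum_sub_distrib, sum_hom, if_neg hf, sub_zero,
    Finset.sum_const, Finset.card_univ, nsmul_eq_mul, ← Nat.card_eq_fintype_card]
  exact inv_mul_cancel₀ (Nat.cast_ne_zero.2 Nat.card_pos.ne')

variable {p : ℕ} [hp : Fact p.Prime] (hP : Nat.card P = p)
  (hC : Nat.card (centralizer (P : Set G)) = p)

include hP in
theorem gam_coe (f : P →* ℂˣ) {x : P} (hx : x ≠ 1) :
    gam f (x : G) = (p : ℂ)⁻¹ * ∑ n : normalizer (P : Set G),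
      (1 - (f ((P.normalizerMonoidHom n⁻¹) x) : ℂ)) := by
  classical
  rw [gam, indFun_apply, hP]
  congr 1
  have hgen : ∀ g : G, g⁻¹ * x * g ∈ P → g ∈ normalizer (P : Set G) := by
    intro g hg
    have hz : Subgroup.zpowers (x : G) = P := by
      refine Subgroup.eq_of_le_of_card_ge (Subgroup.zpowers_le.2 x.2) ?_
      rw [hP, Nat.card_zpowers, Subgroup.orderOf_coe]
      refine le_of_eq (((Nat.dvd_prime hp.out).1 (hP ▸ orderOf_dvd_natCard x)).resolve_left
        fun e => hx (orderOf_eq_one_iff.1 e)).symm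
    have hmap : P.map (MulAut.conj g⁻¹).toMonoidHom = P := by
      refine Subgroup.eq_of_le_of_card_ge ?_ (by
        rw [← Nat.card_congr (P.equivMapOfInjective _ (MulAut.conj g⁻¹).injective).toEquiv])
      conv_lhs => rw [← hz]
      rw [MonoidHom.map_zpowers, Subgroup.zpowers_le]
      simpa using hg
    refine Subgroup.mem_normalizer_iff''.2 fun y => ?_
    constructor
    · intro hy; simpa using hmap.le ⟨y, hy, rfl⟩
    · intro hy
      obtain ⟨w, hw, hwy⟩ := hmap.ge hy
      have : w = y := (MulAut.conj g⁻¹).injective (by simpa using hwy)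
      exact this ▸ hw
  rw [← Finset.sum_filter_add_sum_filter_not Finset.univ (· ∈ normalizer (P : Set G))]
  have hrest : ∑ g ∈ Finset.univ.filter (fun g => g ∉ normalizer (P : Set G)),
      extendByZero P (oneSub f) (g⁻¹ * x * g) = 0 :=
    Finset.sum_eq_zero fun g hg =>
      extendByZero_of_not_mem P _ fun h => (Finset.mem_filter.1 hg).2 (hgen g h)
  rw [hrest, add_zero, Finset.sum_subtype (p := (· ∈ normalizer (P : Set G)))
    (Finset.univ.filter (· ∈ normalizer (P : Set G))) (by simp)]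
  refine Finset.sum_congr rfl fun n _ => ?_
  have h1 : (n : G)⁻¹ * x * n ∈ P := (Subgroup.mem_normalizer_iff''.1 n.2 _).1 x.2
  rw [extendByZero_of_mem P _ h1, oneSub]
  congr 3
  refine Subtype.ext ?_
  show (n : G)⁻¹ * x * n = (n : G)⁻¹ * x * ((n : G)⁻¹)⁻¹
  rw [inv_inv]

include hP in
/-- Inner products of the virtual characters, counted in the normaliser. -/
theorem classInner_gam (f g : P →* ℂˣ) (hf : f ≠ 1) (hg : g ≠ 1) :
    classInner (gam f) (gam g) = (p : ℂ)⁻¹ *
      ((Nat.card (normalizer (P : Set G)) : ℂ) + Nat.card {n : normalizer (P : Set G) //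
        g.comp (P.normalizerMonoidHom n⁻¹).toMonoidHom = f}) := by
  classical
  have key : ∀ x : P, gam g (x : G) * oneSub f x⁻¹ = (p : ℂ)⁻¹ * ∑ n : normalizer (P : Set G),
      oneSub f x⁻¹ * (1 - (g ((P.normalizerMonoidHom n⁻¹) x) : ℂ)) := by
    intro x
    by_cases hx : x = 1
    · subst hx
      simp [oneSub]
    · rw [gam_coe hP g hx, mul_right_comm, Finset.mul_sum, Finset.mul_sum]
      refine Finset.sum_congr rfl fun n _ => by ring
  rw [show classInner (gam f) (gam g) = classInner (oneSub f) (fun x : P => gam g (x : G)) from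
    classInner_indFun_left P _ (isClassFunction_indFun P _), classInner, hP]
  congr 1
  have hconj : ∀ x : P, conj (oneSub f x * conj (gam g (x : G))) = gam g (x : G) * oneSub f x⁻¹ := by
    intro x
    rw [map_mul, Complex.conj_conj, mul_comm]
    congr 1
    simp [oneSub, conj_hom, map_inv, MonoidHom.inv_apply]
  apply (starRingEnd ℂ).injective
  rw [map_sum, Finset.sum_congr rfl fun x _ => (hconj x).trans (key x), ← Finset.mul_sum,
    Finset.sum_comm]
  have hinner : ∀ n : normalizer (P : Set G),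
      ∑ x : P, oneSub f x⁻¹ * (1 - (g ((P.normalizerMonoidHom n⁻¹) x) : ℂ)) =
        (p : ℂ) * (1 + if g.comp (P.normalizerMonoidHom n⁻¹).toMonoidHom = f then 1 else 0) := by
    intro n
    set g' : P →* ℂˣ := g.comp (P.normalizerMonoidHom n⁻¹).toMonoidHom with hg'
    have hg'1 : g' ≠ 1 := fun e => hg (MonoidHom.ext fun x => by
      have := DFunLike.congr_fun e ((P.normalizerMonoidHom n⁻¹).symm x)
      simpa [hg'] using this)
    have hexp : ∀ x : P, oneSub f x⁻¹ * (1 - (g' x : ℂ)) =
        1 - (g' x : ℂ) - ((f⁻¹ : P →* ℂˣ) x : ℂ) + ((f⁻¹ * g' : P →* ℂˣ) x : ℂ) := fun x => by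
      simp [oneSub, map_inv, MonoidHom.inv_apply]
      ring
    show ∑ x : P, oneSub f x⁻¹ * (1 - (g' x : ℂ)) = _
    rw [Finset.sum_congr rfl fun x _ => hexp x, Finset.sum_add_distrib, Finset.sum_sub_distrib,
      Finset.sum_sub_distrib, sum_hom, sum_hom, sum_hom, if_neg hg'1,
      if_neg (show f⁻¹ ≠ 1 from fun e => hf (MonoidHom.ext fun x => by
        simpa using DFunLike.congr_fun e x)), Finset.sum_const, Finset.card_univ, nsmul_eq_mul,
      mul_one, ← Nat.card_eq_fintype_card, hP, sub_zero, sub_zero, mul_add, mul_one]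
    congr 1
    have hiff : f⁻¹ * g' = 1 ↔ g' = f := by
      rw [DFunLike.ext_iff, DFunLike.ext_iff]
      exact forall_congr' fun x => by
        simp only [MonoidHom.mul_apply, MonoidHom.inv_apply, MonoidHom.one_apply, inv_mul_eq_one]
        exact eq_comm
    by_cases e : g' = f
    · rw [if_pos e, if_pos (hiff.2 e), mul_one]
    · rw [if_neg e, mul_zero, if_neg (hiff.not.2 e)]
  rw [Finset.sum_congr rfl fun n _ => hinner n, ← Finset.mul_sum, Finset.sum_add_distrib,
    Finset.sum_const, Finset.card_univ, nsmul_eq_mul, mul_one, Finset.sum_boole,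
    ← Nat.card_eq_fintype_card, ← Fintype.card_subtype, ← Nat.card_eq_fintype_card,
    ← mul_assoc, inv_mul_cancel₀ (Nat.cast_ne_zero.2 hp.out.ne_zero), one_mul,
    map_add, Complex.conj_natCast, Complex.conj_natCast]

/-- Signed irreducible characters: `(χ, true)` is `χ`. -/
def signedVal (s : Bool) : ℤ := if s then 1 else -1

/-- The signed degree. -/
noncomputable def sdeg (x : IrrCharacter G × Bool) : ℤ :=
  signedVal x.2 * ((Classical.choose (IsIrr.degree x.1.2) : ℕ) : ℤ)

theorem sdeg_spec (x : IrrCharacter G × Bool) : ∃ d : ℕ, 0 < d ∧ (x.1 : G → ℂ) 1 = d ∧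
    sdeg x = signedVal x.2 * d ∧ (sdeg x).natAbs = d := by
  obtain ⟨hd0, hd⟩ := Classical.choose_spec (IsIrr.degree x.1.2)
  refine ⟨_, hd0, hd, rfl, ?_⟩
  rw [sdeg, Int.natAbs_mul]
  cases x.2 <;> simp [signedVal]

/-- A family of `(k+1)`-sets, any two meeting in `k`, either has a common core or lives inside
`k+2` points. -/
theorem sunflower {α : Type*} [DecidableEq α] (F : Finset (Finset α)) {k : ℕ}
    (hc : ∀ A ∈ F, A.card = k + 1) (hi : ∀ A ∈ F, ∀ B ∈ F, A ≠ B → (A ∩ B).card = k)
    (h2 : 1 < F.card) :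
    (∃ K : Finset α, K.card = k ∧ ∀ A ∈ F, K ⊆ A) ∨ ∃ U : Finset α, U.card = k + 2 ∧ ∀ A ∈ F, A ⊆ U := by
  obtain ⟨A, hA, B, hB, hAB⟩ := Finset.one_lt_card.1 h2
  by_cases hall : ∀ C ∈ F, A ∩ B ⊆ C
  · exact Or.inl ⟨_, hi A hA B hB hAB, hall⟩
  push Not at hall
  obtain ⟨C, hC, hCK⟩ := hall
  have hU : (A ∪ B).card = k + 2 := by
    have := Finset.card_union_add_card_inter A B
    rw [hc A hA, hc B hB, hi A hA B hB hAB] at this
    omega
  refine Or.inr ⟨A ∪ B, hU, ?_⟩
  -- a set not containing the core is inside the union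
  have hout : ∀ D ∈ F, ¬ A ∩ B ⊆ D → D ⊆ A ∪ B := by
    intro D hD hDK
    have hDA : D ≠ A := fun e => hDK (e ▸ Finset.inter_subset_left)
    have hDB : D ≠ B := fun e => hDK (e ▸ Finset.inter_subset_right)
    have h1 := hi D hD A hA hDA
    have h3 := hi D hD B hB hDB
    have h4 : ((D ∩ A) ∩ (D ∩ B)).card < k := by
      have hsub : (D ∩ A) ∩ (D ∩ B) ⊆ A ∩ B := fun x hx => by
        simp only [Finset.mem_inter] at hx ⊢; tauto
      refine lt_of_lt_of_eq (Finset.card_lt_card (lt_of_le_of_ne hsub fun e => hDK fun x hx => ?_))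
        (hi A hA B hB hAB)
      rw [← e] at hx
      exact (Finset.mem_inter.1 (Finset.mem_inter.1 hx).1).1
    have h5 := Finset.card_union_add_card_inter (D ∩ A) (D ∩ B)
    rw [h1, h3] at h5
    have h6 : D ∩ A ∪ D ∩ B = D := Finset.eq_of_subset_of_card_le
      (Finset.union_subset Finset.inter_subset_left Finset.inter_subset_left) (by rw [hc D hD]; omega)
    intro x hx
    rw [← h6] at hx
    simp only [Finset.mem_union, Finset.mem_inter] at hx ⊢
    tauto
  intro D hD
  by_cases hDK : A ∩ B ⊆ D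
  · by_contra hDU
    obtain ⟨d, hd, hdU⟩ := Finset.not_subset.1 hDU
    have hDeq : insert d (A ∩ B) = D := by
      refine Finset.eq_of_subset_of_card_le (Finset.insert_subset hd hDK) ?_
      rw [Finset.card_insert_of_notMem (fun h => hdU (Finset.mem_union_left _ (Finset.mem_inter.1 h).1)),
        hi A hA B hB hAB, hc D hD]
    have hCD : C ≠ D := fun e => hCK (e ▸ hDK)
    have hsub : C ∩ D ⊆ C ∩ (A ∩ B) := by
      intro x hx
      obtain ⟨hxC, hxD⟩ := Finset.mem_inter.1 hx
      rw [← hDeq, Finset.mem_insert] at hxD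
      rcases hxD with rfl | hxD
      · exact absurd (hout C hC hCK hxC) hdU
      · exact Finset.mem_inter.2 ⟨hxC, hxD⟩
    have h7 := Finset.card_le_card hsub
    rw [hi C hC D hD hCD] at h7
    have h8 : C ∩ (A ∩ B) = A ∩ B :=
      Finset.eq_of_subset_of_card_le Finset.inter_subset_right (by rw [hi A hA B hB hAB]; exact h7)
    exact hCK (h8 ▸ Finset.inter_subset_left)
  · exact hout D hD hDK

include hP hC in
set_option maxHeartbeats 1000000 in
/-- The signed degrees of the non-exceptional characters when `|N(P)| = p e` with `e ≤ 3`. -/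
theorem exceptional_degrees {e : ℕ} (he : Nat.card (normalizer (P : Set G)) = p * e)
    (he2 : 2 ≤ e) (he3 : e ≤ 3) (hbig : e * e < p - 1)
    (hlin : ∀ χ : IrrCharacter G, (χ : G → ℂ) 1 = 1 → (χ : G → ℂ) = fun _ => 1) :
    ∃ D : Fin (e - 1) → ℤ, (∀ i, D i ≡ 1 [ZMOD p] ∧ (D i).natAbs ∣ Nat.card G ∧ (D i).natAbs ≠ 1) ∧
      (1 + ∑ i, D i).natAbs ∣ Nat.card G ∧ (1 + ∑ i, D i).natAbs ≠ 1 := by
  classical
  -- stabilisers of characters are the centraliser
  set Λ := {f : P →* ℂˣ // f ≠ 1} with hΛ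
  have hcyc : IsCyclic P := isCyclic_of_prime_card hP
  letI : CommGroup P := IsMulCommutative.instCommGroup
  have : NeZero (Monoid.exponent P : ℂ) := ⟨Nat.cast_ne_zero.2 Monoid.exponent_ne_zero_of_finite⟩
  have hfin : Finite (P →* ℂˣ) := Nat.finite_of_card_ne_zero
    (by rw [CommGroup.card_monoidHom_of_hasEnoughRootsOfUnity P ℂ, hP]; exact hp.out.ne_zero)
  have := Fintype.ofFinite (P →* ℂˣ)
  have hΛc : Fintype.card Λ = p - 1 := by
    rw [Fintype.card_subtype_compl, Fintype.card_subtype_eq, ← Nat.card_eq_fintype_card,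
      CommGroup.card_monoidHom_of_hasEnoughRootsOfUnity P ℂ, hP]
  let Nf : Λ → Λ → Prop := fun f g => ∃ n : normalizer (P : Set G),
    g.1.comp (P.normalizerMonoidHom n⁻¹).toMonoidHom = f.1
  have hinj : ∀ g : Λ, Function.Injective g.1 := by
    intro g
    rw [← MonoidHom.ker_eq_bot_iff]
    have : Fact (Nat.card P).Prime := ⟨hP.symm ▸ hp.out⟩
    rcases g.1.ker.eq_bot_or_eq_top_of_prime_card with h | h
    · exact h
    · exact absurd (MonoidHom.ext fun x => MonoidHom.mem_ker.1 (h ▸ Subgroup.mem_top x : x ∈ g.1.ker)) g.2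
  have hcount : ∀ f g : Λ, Nf f g → Nat.card {n : normalizer (P : Set G) //
      g.1.comp (P.normalizerMonoidHom n⁻¹).toMonoidHom = f.1} = p := by
    rintro f g ⟨n₀, hn₀⟩
    have hiff : ∀ n, g.1.comp (P.normalizerMonoidHom n⁻¹).toMonoidHom = f.1 ↔
        n₀ * n⁻¹ ∈ P.normalizerMonoidHom.ker := by
      intro n
      rw [MonoidHom.mem_ker, map_mul, ← hn₀]
      constructor
      · intro h
        have h1 : P.normalizerMonoidHom n⁻¹ = P.normalizerMonoidHom n₀⁻¹ :=
          MulEquiv.ext fun x => hinj g (DFunLike.congr_fun h x)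
        rw [h1, ← map_mul, mul_inv_cancel, map_one]
      · intro h
        have h1 : P.normalizerMonoidHom n⁻¹ = P.normalizerMonoidHom n₀⁻¹ := by
          rw [map_inv P.normalizerMonoidHom n₀, eq_inv_of_mul_eq_one_right h]
        rw [h1]
    rw [Nat.card_congr ((Equiv.subtypeEquiv ((Equiv.inv _).trans (Equiv.mulLeft n₀)) fun n => by
      rw [hiff]; rfl) : _ ≃ P.normalizerMonoidHom.ker), Subgroup.normalizerMonoidHom_ker,
      Nat.card_congr (Subgroup.subgroupOfEquivOfLe (Subgroup.centralizer_le_normalizer _)).toEquiv,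
      hC]
  have hin : ∀ f g : Λ, classInner (gam f.1) (gam g.1) = ((e : ℕ) : ℂ) + if Nf f g then 1 else 0 := by
    intro f g
    rw [classInner_gam hP f.1 g.1 f.2 g.2, he]
    have hp0 : (p : ℂ) ≠ 0 := Nat.cast_ne_zero.2 hp.out.ne_zero
    split_ifs with h
    · rw [hcount f g h]; push_cast; field_simp
    · rw [show Nat.card {n : normalizer (P : Set G) //
        g.1.comp (P.normalizerMonoidHom n⁻¹).toMonoidHom = f.1} = 0 by
        rw [Nat.card_eq_zero]; exact Or.inl ⟨fun n => h ⟨n.1, n.2⟩⟩]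
      push_cast; field_simp; ring
  have hNrefl : ∀ f : Λ, Nf f f := fun f => ⟨1, by rw [inv_one, map_one]; rfl⟩
  -- the non-principal part
  let one : IrrCharacter G := ⟨fun _ => 1, by
    have := IsChar.isIrr_of_degree_one (χ := fun _ : G => (1 : ℂ)) isCharacter_one rfl
    exact this⟩
  choose m hm hexp hnorm using fun f : Λ => IsGen.exists_mult (isGeneralized_gam (G := G) f.1)
  have hm1 : ∀ f, m f one = 1 := fun f => by
    have := (hm f one).symm.trans (classInner_gam_one f.1 f.2)
    exact_mod_cast this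
  have hsq : ∀ f : Λ, ∑ ψ, m f ψ ^ 2 = (e : ℤ) + 1 := fun f => by
    have h := hin f f
    rw [if_pos (hNrefl f), hnorm f] at h
    exact_mod_cast h
  have hdot : ∀ f g : Λ, ¬ Nf f g → ∑ ψ, m f ψ * m g ψ = (e : ℤ) := fun f g h => by
    have h1 := hin f g
    rw [if_neg h, add_zero] at h1
    have h2 : classInner (gam (G := G) f.1) (gam g.1) = ((∑ ψ, m f ψ * m g ψ : ℤ) : ℂ) := by
      rw [classInner_eq_sum (show IsClassFunction G (gam f.1) from isClassFunction_indFun P _)]
      push_cast
      refine Finset.sum_congr rfl fun ψ _ => ?_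
      rw [hm, ← classInner_conj_symm (gam g.1) (ψ : G → ℂ), hm, map_intCast]
    rw [h2] at h1
    exact_mod_cast h1
  -- coefficients are at most one
  have hsmall : ∀ f ψ, ψ ≠ one → m f ψ = 0 ∨ m f ψ = 1 ∨ m f ψ = -1 := by
    intro f ψ hψ
    have h1 : m f ψ ^ 2 + m f one ^ 2 ≤ ∑ x, m f x ^ 2 := by
      rw [← Finset.sum_pair (f := fun i => m f i ^ 2) hψ]
      exact Finset.sum_le_sum_of_subset_of_nonneg (Finset.subset_univ _) fun i _ _ => sq_nonneg _
    rw [hsq, hm1] at h1
    have h2 : m f ψ ^ 2 ≤ 3 := by linarith [show (e : ℤ) ≤ 3 by exact_mod_cast he3]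
    have h3 : -1 ≤ m f ψ ∧ m f ψ ≤ 1 := ⟨by nlinarith, by nlinarith⟩
    omega
  let S : Λ → Finset (IrrCharacter G × Bool) := fun f =>
    Finset.univ.filter fun x => x.1 ≠ one ∧ m f x.1 = signedVal x.2
  have hsum : ∀ (f : Λ) (F : IrrCharacter G → ℤ),
      ∑ ψ, m f ψ * F ψ = F one + ∑ x ∈ S f, signedVal x.2 * F x.1 := by
    intro f F
    rw [← Finset.add_sum_erase _ _ (Finset.mem_univ one), hm1, one_mul]
    congr 1
    rw [Finset.sum_filter, ← Finset.univ_product_univ, Finset.sum_product,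
      ← Finset.add_sum_erase Finset.univ _ (Finset.mem_univ one)]
    simp only [ne_eq, not_true_eq_false, false_and, if_false, Fintype.sum_bool, add_zero, zero_add]
    refine Finset.sum_congr rfl fun ψ hψ => ?_
    have hne := (Finset.mem_erase.1 hψ).1
    rcases hsmall f ψ hne with h | h | h <;> simp [hne, h, signedVal]
  have hScard : ∀ f, (S f).card = e := by
    intro f
    have h1 := hsum f (m f)
    rw [hm1, Finset.sum_congr rfl (g := fun ψ => m f ψ ^ 2) (fun ψ _ => (sq _).symm), hsq] at h1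
    rw [Finset.sum_congr rfl (g := fun _ => (1 : ℤ)) (fun x hx => ?_), Finset.sum_const] at h1
    · simp at h1; omega
    · rw [(Finset.mem_filter.1 hx).2.2]
      cases x.2 <;> rfl
  have hSinter : ∀ f g, ¬ Nf f g → (S f ∩ S g).card = e - 1 := by
    intro f g h
    have h1 := hsum f (m g)
    rw [hdot f g h, hm1] at h1
    have hle : ∀ x ∈ S f, signedVal x.2 * m g x.1 ≤ 1 ∧ (signedVal x.2 * m g x.1 = 1 ↔ x ∈ S g) := by
      intro x hx
      have hne := (Finset.mem_filter.1 hx).2.1
      obtain ⟨χ, b⟩ := x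
      dsimp only at hne ⊢
      rcases hsmall g χ hne with h | h | h <;> cases b <;>
        rw [show ∀ y, y ∈ S g ↔ (y.1 ≠ one ∧ m g y.1 = signedVal y.2) from
          fun y => Finset.mem_filter.trans (and_iff_right (Finset.mem_univ y))] <;>
        simp [hne, h, signedVal]
    -- at most one term is not one
    have h2 : ∑ x ∈ S f, (1 - signedVal x.2 * m g x.1) = 1 := by
      rw [Finset.sum_sub_distrib, Finset.sum_const, hScard]
      simp
      omega
    obtain ⟨x, hx, hx1⟩ : ∃ x ∈ S f, x ∉ S g := by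
      by_contra! hall
      rw [Finset.sum_eq_zero fun x hx => by rw [(hle x hx).2.2 (hall x hx), sub_self]] at h2
      omega
    have huniq : ∀ y ∈ S f, y ≠ x → y ∈ S g := by
      intro y hy hne
      rw [← (hle y hy).2]
      have h4 : (1 - signedVal y.2 * m g y.1) + (1 - signedVal x.2 * m g x.1) ≤ 1 := by
        refine le_trans (le_of_eq ?_) (le_trans (Finset.sum_le_sum_of_subset_of_nonneg
          (s := {y, x}) (by intro z hz; simp at hz; rcases hz with rfl | rfl <;> assumption)
          fun z hz _ => by have := (hle z hz).1; omega) (le_of_eq h2))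
        rw [Finset.sum_pair hne]
      have h5 : signedVal x.2 * m g x.1 ≠ 1 := fun e => hx1 ((hle x hx).2.1 e)
      have := (hle x hx).1
      have := (hle y hy).1
      omega
    have : S f ∩ S g = (S f).erase x := by
      ext y
      simp only [Finset.mem_inter, Finset.mem_erase]
      exact ⟨fun ⟨h1, h2⟩ => ⟨fun e => hx1 (e ▸ h2), h1⟩, fun ⟨h1, h2⟩ => ⟨h2, huniq y h2 h1⟩⟩
    rw [this, Finset.card_erase_of_mem hx, hScard]
  -- distinct orbits give distinct sets
  have hSne : ∀ f g, S f = S g → Nf f g := by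
    intro f g h
    by_contra hn
    have := hSinter f g hn
    rw [h, Finset.inter_self, hScard] at this
    omega
  have horbit : ∀ f : Λ, (Finset.univ.filter fun g => Nf g f).card ≤ e := by
    intro f
    let act : P.normalizerMonoidHom.range → (P →* ℂˣ) := fun σ =>
      f.1.comp (σ.1 : MulAut P).toMonoidHom
    have : (Finset.univ.filter fun g => Nf g f).image Subtype.val ⊆ Finset.univ.image act := by
      intro g hg
      obtain ⟨g, hg', rfl⟩ := Finset.mem_image.1 hg
      obtain ⟨n, hn⟩ := (Finset.mem_filter.1 hg').2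
      exact Finset.mem_image.2 ⟨⟨P.normalizerMonoidHom n⁻¹, n⁻¹, rfl⟩, Finset.mem_univ _, hn⟩
    rw [← Finset.card_image_of_injective _ Subtype.val_injective]
    refine (Finset.card_le_card this).trans (Finset.card_image_le.trans ?_)
    rw [Finset.card_univ, ← Nat.card_eq_fintype_card, ← Subgroup.index_ker,
      Subgroup.normalizerMonoidHom_ker]
    have h1 := ((centralizer (P : Set G)).subgroupOf (normalizer (P : Set G))).card_mul_index
    rw [Nat.card_congr (Subgroup.subgroupOfEquivOfLe (Subgroup.centralizer_le_normalizer _)).toEquiv,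
      hC, he] at h1
    exact le_of_eq (Nat.eq_of_mul_eq_mul_left hp.out.pos h1)
  set F := (Finset.univ : Finset Λ).image S with hF
  have hFcard : e + 1 ≤ F.card := by
    have h1 : (Finset.univ : Finset Λ).card ≤ e * F.card := by
      refine Finset.card_le_mul_card_image _ _ fun T hT => ?_
      obtain ⟨f, -, rfl⟩ := Finset.mem_image.1 hT
      exact (Finset.card_le_card fun g hg => Finset.mem_filter.2
        ⟨Finset.mem_univ _, hSne g f (Finset.mem_filter.1 hg).2⟩).trans (horbit f)
    rw [Finset.card_univ, hΛc] at h1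
    by_contra! hlt
    nlinarith
  -- signed degrees add up to `-1`
  have hdeg : ∀ T ∈ F, ∑ x ∈ T, sdeg x = -1 := by
    intro T hT
    obtain ⟨f, -, rfl⟩ := Finset.mem_image.1 hT
    have h1 := congrFun (hexp f) 1
    rw [gam_one, Finset.sum_apply] at h1
    choose d hd0 hd using fun ψ : IrrCharacter G => IsIrr.degree ψ.2
    have h2 : ∑ ψ, m f ψ * (d ψ : ℤ) = 0 := by
      have : ((∑ ψ, m f ψ * (d ψ : ℤ) : ℤ) : ℂ) = 0 := by
        push_cast
        rw [h1]
        exact Finset.sum_congr rfl fun ψ _ => by simp [hd]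
      exact_mod_cast this
    rw [hsum f fun ψ => (d ψ : ℤ)] at h2
    have hone : d one = 1 := by
      have h9 := hd one
      change (1 : ℂ) = _ at h9
      exact_mod_cast h9.symm
    rw [hone] at h2
    have h3 : ∑ x ∈ S f, sdeg x = ∑ x ∈ S f, signedVal x.2 * (d x.1 : ℤ) :=
      Finset.sum_congr rfl fun x _ => by
        obtain ⟨d', -, hd', hs, -⟩ := sdeg_spec x
        rw [hs, show d' = d x.1 by exact_mod_cast hd'.symm.trans (hd x.1)]
    rw [h3]; push_cast at h2; linarith
  have hFc : ∀ T ∈ F, T.card = (e - 1) + 1 := by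
    intro T hT
    obtain ⟨f, -, rfl⟩ := Finset.mem_image.1 hT
    rw [hScard]; omega
  have hFi : ∀ A ∈ F, ∀ B ∈ F, A ≠ B → (A ∩ B).card = e - 1 := by
    intro A hA B hB hne
    obtain ⟨f, -, rfl⟩ := Finset.mem_image.1 hA
    obtain ⟨g, -, rfl⟩ := Finset.mem_image.1 hB
    refine hSinter f g fun h => hne ?_
    have hmm : ∀ ψ, m f ψ = m g ψ := by
      intro ψ
      have h1 : ∑ x, (m f x - m g x) ^ 2 = 0 := by
        have h2 : classInner (gam (G := G) f.1) (gam g.1) = ((∑ ψ, m f ψ * m g ψ : ℤ) : ℂ) := by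
          rw [classInner_eq_sum (show IsClassFunction G (gam f.1) from isClassFunction_indFun P _)]
          push_cast
          refine Finset.sum_congr rfl fun ψ _ => ?_
          rw [hm, ← classInner_conj_symm (gam g.1) (ψ : G → ℂ), hm, map_intCast]
        have h3 := hin f g
        rw [if_pos h, h2] at h3
        have h4 : ∑ ψ, m f ψ * m g ψ = (e : ℤ) + 1 := by exact_mod_cast h3
        have h5 := hsq f
        have h6 := hsq g
        rw [Finset.sum_congr rfl fun x _ => show (m f x - m g x) ^ 2 =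
          m f x ^ 2 + m g x ^ 2 - 2 * (m f x * m g x) by ring, Finset.sum_sub_distrib,
          Finset.sum_add_distrib, ← Finset.mul_sum, h4, h5, h6]
        ring
      have := (Finset.sum_eq_zero_iff_of_nonneg fun x _ => sq_nonneg _).1 h1 ψ (Finset.mem_univ ψ)
      exact sub_eq_zero.1 (sq_eq_zero_iff.1 this)
    show S f = S g
    exact Finset.filter_congr fun x _ => by rw [hmm]
  rcases sunflower F hFc hFi (by omega) with ⟨K, hK, hKA⟩ | ⟨U, hU, hUA⟩
  swap
  · -- the sets cannot all lie in `e + 1` points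
    exfalso
    have hUeq : F = U.powersetCard e := by
      refine Finset.eq_of_subset_of_card_le (fun T hT => Finset.mem_powersetCard.2
        ⟨hUA T hT, by rw [hFc T hT]; omega⟩) ?_
      rw [Finset.card_powersetCard, hU, show e - 1 + 2 = e + 1 by omega, Nat.choose_succ_self_right]
      exact hFcard
    have hval : ∀ x ∈ U, sdeg x = (∑ y ∈ U, sdeg y) + 1 := by
      intro x hx
      have := hdeg (U.erase x) (hUeq ▸ Finset.mem_powersetCard.2 ⟨Finset.erase_subset _ _, by
        rw [Finset.card_erase_of_mem hx, hU]; omega⟩)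
      rw [← Finset.add_sum_erase _ _ hx, this]; ring
    have h1 : ∑ y ∈ U, sdeg y = ((e : ℤ) + 1) * ((∑ y ∈ U, sdeg y) + 1) := by
      conv_lhs => rw [Finset.sum_congr rfl hval, Finset.sum_const, hU]
      rw [show e - 1 + 2 = e + 1 by omega]; simp
    have h2 : (e : ℤ) ∣ 1 := ⟨-(∑ y ∈ U, sdeg y) - 1, by linarith⟩
    have := Int.le_of_dvd one_pos h2
    omega
  -- the common part
  have hKne : ∀ x ∈ K, x.1 ≠ one := by
    intro x hx
    obtain ⟨T, hT⟩ := Finset.card_pos.1 (show 0 < F.card by omega)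
    obtain ⟨f, -, rfl⟩ := Finset.mem_image.1 hT
    exact (Finset.mem_filter.1 (hKA _ hT hx)).2.1
  have hnlin : ∀ x : IrrCharacter G × Bool, x.1 ≠ one → (sdeg x).natAbs ≠ 1 := by
    intro x hx h
    obtain ⟨d, -, hd, -, habs⟩ := sdeg_spec x
    rw [habs] at h
    exact hx (Subtype.ext (hlin x.1 (by rw [hd, h]; norm_num)))
  have hKmod : ∀ x ∈ K, sdeg x ≡ 1 [ZMOD p] := by
    intro x hx
    obtain ⟨d, -, hd, hs, -⟩ := sdeg_spec x
    have hmf : ∀ f : Λ, m f x.1 = signedVal x.2 := fun f =>
      (Finset.mem_filter.1 (hKA _ (Finset.mem_image_of_mem S (Finset.mem_univ f)) hx)).2.2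
    -- all the `1 - λ` add up to `p` away from the identity
    have hsumΛ : ∀ y : P, ∑ f : Λ, oneSub f.1 y = if y = 1 then 0 else (p : ℂ) := by
      intro y
      split_ifs with hy
      · subst hy; simp [oneSub]
      · have hall : ∑ f : P →* ℂˣ, (f y : ℂ) = 0 := by
          obtain ⟨g, hg⟩ : ∃ g : P →* ℂˣ, (g y : ℂ) ≠ 1 := by
            obtain ⟨g⟩ : Nonempty Λ := Fintype.card_pos_iff.1 (by omega)
            exact ⟨g.1, fun hh => hy (hinj g (by rw [map_one]; exact Units.ext (by simpa using hh)))⟩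
          have : (g y : ℂ) * ∑ f : P →* ℂˣ, (f y : ℂ) = ∑ f : P →* ℂˣ, (f y : ℂ) := by
            rw [Finset.mul_sum]
            exact Fintype.sum_equiv (Equiv.mulLeft g) _ _ fun f => by simp
          have h1 : ((g y : ℂ) - 1) * ∑ f : P →* ℂˣ, (f y : ℂ) = 0 := by rw [sub_mul, one_mul, this, sub_self]
          exact (mul_eq_zero.1 h1).resolve_left (sub_ne_zero.2 hg)
        rw [(Finset.sum_subtype (Finset.univ.filter fun f : P →* ℂˣ => f ≠ 1) (by simp)
          (fun f : P →* ℂˣ => oneSub f y)).symm.trans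
          (show _ = ∑ f ∈ (Finset.univ : Finset (P →* ℂˣ)), oneSub f y from ?_)]
        · simp only [oneSub, Finset.sum_sub_distrib, hall, Finset.sum_const, Finset.card_univ,
            nsmul_eq_mul, mul_one, sub_zero, ← Nat.card_eq_fintype_card]
          rw [CommGroup.card_monoidHom_of_hasEnoughRootsOfUnity P ℂ, hP]
        · refine Finset.sum_subset (Finset.subset_univ _) fun f _ hf => ?_
          simp at hf
          simp [hf, oneSub]
    set χ : G → ℂ := (x.1 : G → ℂ) with hχ
    have hχc := IsIrr.isCharacter x.1.2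
    have h1 : (((p - 1 : ℕ) : ℤ) * signedVal x.2 : ℤ) = ∑ f : Λ, m f x.1 := by
      simp [hmf, hΛc]
    obtain ⟨k, hk⟩ := classInner_generalized_int (isGeneralized_of_isCharacter
      (isCharacter_one (G := P))) (isGeneralized_comp P.subtype (isGeneralized_of_isCharacter hχc))
    have h2 : ((∑ f : Λ, m f x.1 : ℤ) : ℂ) = (p : ℂ) * (k : ℂ) - (d : ℂ) := by
      push_cast
      have h3 : ∀ f : Λ, (m f x.1 : ℂ) = classInner (oneSub f.1) (fun y : P => χ y) := fun f => by
        rw [← hm, gam, classInner_indFun_left P _ (isClassFunction_of_isCharacter hχc)]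
      rw [← hk, Finset.sum_congr rfl fun f _ => h3 f]
      simp only [classInner, ← Finset.mul_sum]
      rw [Finset.sum_comm]
      simp only [← Finset.sum_mul, hsumΛ, ite_mul, zero_mul]
      rw [Finset.sum_ite, Finset.sum_const_zero, zero_add, ← Finset.mul_sum, Finset.filter_ne',
        Finset.sum_erase_eq_sub (Finset.mem_univ _), OneMemClass.coe_one, hd, Complex.conj_natCast,
        hP]
      simp only [one_mul, Function.comp_def, Subgroup.coe_subtype]
      have hp0 : (p : ℂ) ≠ 0 := Nat.cast_ne_zero.2 hp.out.ne_zero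
      field_simp
      rfl
    have h4 : ((p : ℤ) - 1) * signedVal x.2 = (p : ℤ) * k - d := by
      have : (∑ f : Λ, m f x.1) = (p : ℤ) * k - (d : ℤ) := by exact_mod_cast h2
      rw [← this, ← h1, Nat.cast_sub hp.out.one_le]
      simp
    rw [hs, Int.modEq_iff_dvd]
    have hs2 : signedVal x.2 * signedVal x.2 = 1 := by cases x.2 <;> rfl
    refine ⟨-(signedVal x.2 * k - 1), ?_⟩
    linear_combination (-(signedVal x.2)) * h4 + ((p : ℤ) - 1) * hs2
  obtain ⟨T, hT⟩ := Finset.card_pos.1 (show 0 < F.card by omega)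
  have hdv : ∀ x : IrrCharacter G × Bool, (sdeg x).natAbs ∣ Nat.card G := fun x => by
    obtain ⟨d, -, hd, -, habs⟩ := sdeg_spec x
    rw [habs]
    exact IsIrr.degree_dvd_card x.1.2 hd
  let eK : Fin (e - 1) ≃ K := (finCongr hK.symm).trans K.equivFin.symm
  refine ⟨fun i => sdeg (eK i).1, fun i => ⟨hKmod _ (eK i).2, hdv _, hnlin _ (hKne _ (eK i).2)⟩, ?_⟩
  have hKsum : ∑ i, sdeg (eK i).1 = ∑ x ∈ K, sdeg x := by
    rw [eK.sum_comp (fun x => sdeg x.1), ← Finset.sum_coe_sort K]
  obtain ⟨y, hy, hyK⟩ := Finset.exists_mem_notMem_of_card_lt_card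
    (show K.card < T.card by rw [hK, hFc T hT]; omega)
  have hTeq : insert y K = T := Finset.eq_of_subset_of_card_le
    (Finset.insert_subset hy (hKA T hT)) (by rw [Finset.card_insert_of_notMem hyK, hK, hFc T hT])
  have h5 := hdeg T hT
  rw [← hTeq, Finset.sum_insert hyK] at h5
  rw [hKsum, show (1 : ℤ) + ∑ x ∈ K, sdeg x = -sdeg y by linarith, Int.natAbs_neg]
  refine ⟨hdv y, hnlin y ?_⟩
  obtain ⟨f, -, rfl⟩ := Finset.mem_image.1 hT
  exact (Finset.mem_filter.1 hy).2.1

end Cfsg.Agent.SmallOrder
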