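import Cfsg.Agent.Invol.SectionInduce
import Cfsg.Agent.Char.Zero
import Cfsg.Agent.Char.Linear
import Cfsg.Agent.SmallOrder.Basic

/-!
# Counting products of involutions in a self-centralising cyclic subgroup of prime order

If `|C(P)| = p` and `|N(P)| = 2 p` with `|G| = 2 p n`, the degree `D` of a signed exceptional
character satisfies `2 n (A - D) ^ 2 = c ^ 2 D (D + 1)`; in particular `2 n` is not a square.
-/

set_option autoImplicit false

namespace Cfsg.Agent.SmallOrder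

open Subgroup

universe u

variable {G : Type u} [Group G]

theorem exists_int_apply_involution [Finite G] {χ : G → ℂ} (h : IsCharacter G χ) {t : G}
    (ht : orderOf t = 2) : ∃ k : ℤ, χ t = k := by
  obtain ⟨q, hq⟩ := Char.IsChar.exists_rat h t fun k hk => by
    have h2 : ¬ 2 ∣ k := fun hd => by
      have := Nat.le_of_dvd one_pos (hk ▸ Nat.dvd_gcd hd (ht ▸ _root_.orderOf_dvd_natCard t))
      omega
    rw [pow_eq_pow_mod k (ht ▸ pow_orderOf_eq_one t : t ^ 2 = 1), show k % 2 = 1 by omega, pow_one]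
  obtain ⟨k, hk⟩ := Char.exists_int_of_isIntegral_rat (q := q) (hq ▸ Char.IsChar.isIntegral h t)
  exact ⟨k, by rw [hq, ← hk]; norm_cast⟩

variable {P : Subgroup G} {p : ℕ}

/-- The outer elements of the dihedral normaliser. -/
theorem dihedral_normalizer [Finite G] [hp : Fact p.Prime] (hp2 : p ≠ 2) (hP : Nat.card P = p)
    (hC : Nat.card (centralizer (P : Set G)) = p)
    (hN : Nat.card (normalizer (P : Set G)) = 2 * p) {g : G} (hgN : g ∈ normalizer (P : Set G))
    (hgP : g ∉ P) : orderOf g = 2 ∧ ∀ x ∈ P, g * x * g⁻¹ = x⁻¹ := by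
  have hcyc := isCyclic_of_prime_card hP
  have hCP : centralizer (P : Set G) = P :=
    (eq_of_le_of_card_ge P.le_centralizer (by rw [hC, hP])).symm
  have hidx : (P.subgroupOf (normalizer (P : Set G))).index = 2 := by
    have h := (P.subgroupOf (normalizer (P : Set G))).card_mul_index
    rw [Nat.card_congr (subgroupOfEquivOfLe le_normalizer).toEquiv, hP, hN, mul_comm 2 p] at h
    exact Nat.eq_of_mul_eq_mul_left hp.out.pos h
  have hgg : g * g ∈ P := by
    have := mul_self_mem_of_index_two hidx ⟨g, hgN⟩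
    simpa [mem_subgroupOf] using this
  have hinv : ∀ x ∈ P, g * x * g⁻¹ = x⁻¹ := by
    intro x hx
    have hx' : g * x * g⁻¹ ∈ P := (mem_normalizer_iff.1 hgN x).1 hx
    have hcc : ∀ a ∈ P, ∀ b ∈ P, a * b = b * a := fun a ha b hb =>
      (mem_centralizer_iff.1 (hCP.symm.le hb)) a ha
    have hfix : g * (x * (g * x * g⁻¹)) * g⁻¹ = x * (g * x * g⁻¹) := by
      have h1 : g * g * x = x * (g * g) := (hcc x hx _ hgg).symm
      calc g * (x * (g * x * g⁻¹)) * g⁻¹ = (g * x * g⁻¹) * (g * g * x * (g * g)⁻¹) := by group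
        _ = (g * x * g⁻¹) * x := by rw [h1, mul_inv_cancel_right]
        _ = x * (g * x * g⁻¹) := hcc _ hx' _ hx
    by_contra hne
    have hy : x * (g * x * g⁻¹) ≠ 1 := fun e => hne (eq_inv_of_mul_eq_one_right e)
    have hgen : zpowers (x * (g * x * g⁻¹)) = P := by
      refine eq_of_le_of_card_ge (zpowers_le.2 (P.mul_mem hx hx')) ?_
      rw [hP, Nat.card_zpowers]
      refine le_of_eq (((Nat.dvd_prime hp.out).1 ?_).resolve_left
        fun e => hy (orderOf_eq_one_iff.1 e)).symm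
      exact hP ▸ Subgroup.orderOf_dvd_natCard P (P.mul_mem hx hx')
    refine hgP (hCP ▸ mem_centralizer_iff.2 fun a ha => ?_)
    rw [SetLike.mem_coe, ← hgen] at ha
    obtain ⟨i, rfl⟩ := mem_zpowers_iff.1 ha
    have hc : Commute g (x * (g * x * g⁻¹)) := mul_inv_eq_iff_eq_mul.1 hfix
    exact ((hc.zpow_right i).symm).eq
  refine ⟨orderOf_eq_prime ?_ fun e => hgP (e ▸ P.one_mem), hinv⟩
  have h1 := hinv _ hgg
  rw [show g * (g * g) * g⁻¹ = g * g by group] at h1
  have h2 : orderOf (g * g) ∣ 2 := orderOf_dvd_of_pow_eq_one (by rw [sq]; nth_rw 1 [h1]; group)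
  have h3 : orderOf (g * g) ∣ p := hP ▸ Subgroup.orderOf_dvd_natCard P hgg
  rw [sq]
  exact orderOf_eq_one_iff.1 (Nat.eq_one_of_dvd_coprimes
    ((Nat.coprime_primes Nat.prime_two hp.out).2 (Ne.symm hp2)) h2 h3)

open scoped Classical in
/-- The counting identity at an involution `t₀`: `k` is zero unless a conjugate of `t₀` inverts
`P`, and then it is the square of the order of the centraliser. -/
theorem involution_pairs_bound [Fintype G] [hp : Fact p.Prime] (hp2 : p ≠ 2) {n : ℕ} (hP : Nat.card P = p)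
    (hC : Nat.card (centralizer (P : Set G)) = p)
    (hN : Nat.card (normalizer (P : Set G)) = 2 * p) (hG : Nat.card G = 2 * p * n)
    {t₀ : G} (ht₀ : orderOf t₀ = 2) :
    ∃ (χ : IrrCharacter G) (D A : ℤ) (k : ℕ), (χ : G → ℂ) ≠ (fun _ => 1) ∧
      D ≠ 0 ∧ D + 1 ≠ 0 ∧ D.natAbs ∣ Nat.card G ∧ (D + 1).natAbs ∣ Nat.card G ∧
      (A = D → (χ : G → ℂ) t₀ = (χ : G → ℂ) 1) ∧ A.natAbs ≤ D.natAbs ∧ (A + 1).natAbs ≤ (D + 1).natAbs ∧
      2 * (n : ℤ) * (A - D) ^ 2 = (k : ℤ) * (D * (D + 1)) ∧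
      ((∃ w : G, w * t₀ * w⁻¹ ∈ normalizer (P : Set G) ∧ w * t₀ * w⁻¹ ∉ P) →
        k = Nat.card (centralizer ({t₀} : Set G)) ^ 2) ∧
      (k = 0 ∨ k = Nat.card (centralizer ({t₀} : Set G)) ^ 2) := by
  set N := normalizer (P : Set G) with hNdef
  have hout := fun {g : G} => dihedral_normalizer (g := g) hp2 hP hC hN
  have hcyc := isCyclic_of_prime_card hP
  have hCP : centralizer (P : Set G) = P :=
    (eq_of_le_of_card_ge P.le_centralizer (by rw [hC, hP])).symm
  -- a linear character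
  obtain ⟨μ, hμ⟩ : ∃ μ : P →* ℂˣ, μ ≠ 1 := by
    let : CommGroup P := IsMulCommutative.instCommGroup
    have : NeZero (Monoid.exponent P : ℂ) :=
      ⟨Nat.cast_ne_zero.2 Monoid.exponent_ne_zero_of_finite⟩
    have hfin : Finite (P →* ℂˣ) := Nat.finite_of_card_ne_zero
      (by rw [CommGroup.card_monoidHom_of_hasEnoughRootsOfUnity P ℂ, hP]; exact hp.out.ne_zero)
    have : Nontrivial (P →* ℂˣ) := Finite.one_lt_card_iff_nontrivial.1
      (by rw [CommGroup.card_monoidHom_of_hasEnoughRootsOfUnity P ℂ, hP]; exact hp.out.one_lt)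
    exact exists_ne 1
  have hμ2 : μ * μ ≠ 1 := by
    intro e
    refine hμ (MonoidHom.ext fun x => ?_)
    have h1 : μ x ^ 2 = 1 := by rw [sq]; exact DFunLike.congr_fun e x
    have h2 : μ x ^ p = 1 := by
      rw [← map_pow, ← hP, pow_card_eq_one', map_one]
    exact orderOf_eq_one_iff.1 (Nat.eq_one_of_dvd_coprimes
      ((Nat.coprime_primes Nat.prime_two hp.out).2 (Ne.symm hp2))
      (orderOf_dvd_of_pow_eq_one h1) (orderOf_dvd_of_pow_eq_one h2))
  have hgen : ∀ x ∈ P, x ≠ 1 → ∀ g : G, g * x * g⁻¹ ∈ P → g ∈ N := by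
    intro x hx hx1 g hg
    have hz : zpowers x = P := by
      refine eq_of_le_of_card_ge (zpowers_le.2 hx) ?_
      rw [hP, Nat.card_zpowers]
      exact le_of_eq (((Nat.dvd_prime hp.out).1
        (hP ▸ Subgroup.orderOf_dvd_natCard P hx)).resolve_left
        fun e => hx1 (orderOf_eq_one_iff.1 e)).symm
    rw [hNdef, mem_normalizer_iff_map_conj_eq]
    refine eq_of_le_of_card_ge ?_ (le_of_eq
      (Nat.card_congr (P.equivMapOfInjective _ (MulAut.conj g).injective).toEquiv))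
    conv_lhs => rw [← hz]
    rw [MonoidHom.map_zpowers, zpowers_le]
    simpa using hg
  have hd : Invol.SectionData P μ N :=
    { le := le_normalizer
      card := by rw [hN, hP]
      ti := fun x hx g h _ => hgen x x.2 (fun e => hx (by
        rw [show x = 1 from Subtype.ext e, map_one])) g h
      act := fun g hg x => by
        refine ⟨(mem_normalizer_iff.1 hg x).1 x.2, fun hgP => ?_, fun hgP => ?_⟩
        · congr 1
          refine Subtype.ext ?_
          show g * (x : G) * g⁻¹ = x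
          rw [← (mem_centralizer_iff.1 (hCP.symm.le hgP)) x x.2, mul_inv_cancel_right]
        · rw [← map_inv]
          congr 1
          exact Subtype.ext ((hout hg hgP).2 x x.2) }
  -- the involution
  obtain ⟨t, htN, htP⟩ : ∃ t ∈ N, t ∉ P := by
    by_contra! hall
    have := card_dvd_of_le (show N ≤ P from hall)
    rw [hN, hP] at this
    have := Nat.le_of_dvd hp.out.pos this
    have := hp.out.pos
    omega
  obtain ⟨ht2, htinv⟩ := hout htN htP
  have hoi : ∀ {g : G}, g ∈ N → g ∉ P → g⁻¹ = g := fun {g} hg hgP => by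
    have := (hout hg hgP).1 ▸ pow_orderOf_eq_one g
    rw [sq] at this
    exact inv_eq_of_mul_eq_one_right this
  -- the outer elements are conjugate to `t`
  have hconj : ∀ u ∈ N, u ∉ P → ∃ w : G, u = w * t * w⁻¹ := by
    intro u hu huP
    have hx : u * t ∈ P := by
      have hidx : (P.subgroupOf N).index = 2 := by
        have h := (P.subgroupOf N).card_mul_index
        rw [Nat.card_congr (subgroupOfEquivOfLe le_normalizer).toEquiv, hP, hN, mul_comm 2 p] at h
        exact Nat.eq_of_mul_eq_mul_left hp.out.pos h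
      have := (mul_mem_iff_of_index_two hidx (a := ⟨u, hu⟩) (b := ⟨t, htN⟩))
      simp [mem_subgroupOf, huP, htP] at this
      exact this
    -- `u t` is a square in `P`
    obtain ⟨j, hj⟩ : ∃ j : ℕ, ((u * t) ^ j) ^ 2 = u * t := by
      refine ⟨(p + 1) / 2, ?_⟩
      have hodd : p % 2 = 1 := hp.out.eq_two_or_odd.resolve_left hp2
      have hp1 : (u * t) ^ p = 1 := by
        have := congrArg Subtype.val (pow_card_eq_one' (x := (⟨u * t, hx⟩ : P)))
        rwa [hP] at this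
      rw [← pow_mul, show (p + 1) / 2 * 2 = p + 1 by omega, pow_succ, hp1, one_mul]
    refine ⟨(u * t) ^ j, ?_⟩
    have h1 := htinv _ (P.pow_mem hx j)
    have h2 : t * ((u * t) ^ j)⁻¹ = (u * t) ^ j * t := by
      have h3 : t * (u * t) ^ j = ((u * t) ^ j)⁻¹ * t := mul_inv_eq_iff_eq_mul.1 h1
      calc t * ((u * t) ^ j)⁻¹ = (u * t) ^ j * (((u * t) ^ j)⁻¹ * t) * ((u * t) ^ j)⁻¹ := by group
        _ = (u * t) ^ j * t := by rw [← h3]; group
    rw [mul_assoc, h2, ← mul_assoc, ← sq, hj, mul_assoc]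
    have := hoi htN htP
    rw [show t * t = 1 by nth_rw 1 [← this]; exact inv_mul_cancel t, mul_one]
  -- the induced function
  set F := Invol.secInd P μ with hF
  have hFg : IsGeneralizedCharacter G F := Invol.isGeneralized_secInd P μ
  have hvan : ∀ g : G, ¬ p ∣ orderOf g → F g = 0 := by
    intro g hg
    refine Invol.secInd_eq_zero P μ fun x hx => ?_
    by_cases e : x * g * x⁻¹ = 1
    · rw [show (⟨x * g * x⁻¹, hx⟩ : P) = 1 from Subtype.ext e, map_one]
    · refine absurd ?_ hg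
      have h1 : orderOf (x * g * x⁻¹) = p :=
        ((Nat.dvd_prime hp.out).1 (hP ▸ Subgroup.orderOf_dvd_natCard P hx)).resolve_left
          fun h => e (orderOf_eq_one_iff.1 h)
      rw [show x * g * x⁻¹ = MulAut.conj x g by simp, MulEquiv.orderOf_eq] at h1
      exact h1.symm.dvd
  obtain ⟨S, s, hS, hsS, -, -, hexp⟩ := Invol.exists_signed_support hFg (n := 3) (by norm_num)
    (Invol.classInner_secInd_one hμ) (by simpa using (hd.classInner_self hμ).1 hμ2)
  obtain ⟨χ₁, χ₂, hne, rfl⟩ := Finset.card_eq_two.1 (show S.card = 2 by omega)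
  have hval : ∀ g, F g = 1 + s χ₁ * (χ₁ : G → ℂ) g + s χ₂ * (χ₂ : G → ℂ) g := fun g => by
    rw [← Invol.apply_eq_sum (Char.IsGen.isClassFunction hFg) g, hexp fun χ => (χ : G → ℂ) g,
      Finset.sum_pair hne]
    ring
  -- the count of pairs of involutions
  set c := Nat.card (centralizer ({t} : Set G)) with hc
  have hc0 : c ≠ 0 := Nat.card_pos.ne'
  set out := Finset.univ.filter fun g : G => g ∈ N ∧ g ∉ P with hout'
  have hfib : ∀ h : G → ℂ, (∀ w, h (w * t * w⁻¹) ≠ 0 → w * t * w⁻¹ ∈ N ∧ w * t * w⁻¹ ∉ P) →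
      ∑ b : G, h (b * t * b⁻¹) = (c : ℂ) * ∑ u ∈ out, h u := by
    intro h hh
    rw [← Finset.sum_fiberwise Finset.univ (fun b : G => b * t * b⁻¹) _, Finset.mul_sum]
    rw [← Finset.sum_subset (Finset.subset_univ out) fun u _ hu => ?_]
    · refine Finset.sum_congr rfl fun u hu => ?_
      rw [Finset.sum_congr rfl fun b hb => by rw [(Finset.mem_filter.1 hb).2],
        Finset.sum_const, nsmul_eq_mul]
      congr 1
      norm_cast
      obtain ⟨-, hu1, hu2⟩ := Finset.mem_filter.1 hu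
      obtain ⟨w, hw⟩ := hconj u hu1 hu2
      rw [hc, Nat.card_eq_fintype_card, Fintype.card_subtype]
      refine Finset.card_nbij' (fun b => w⁻¹ * b) (fun b => w * b) ?_ ?_
        (fun b _ => by simp) (fun b _ => by simp)
      · intro b hb
        simp only [Finset.mem_univ, true_and, Finset.coe_filter,
          Set.mem_ofPred_eq] at hb ⊢
        rw [mem_centralizer_singleton_iff]
        rw [hw] at hb
        calc w⁻¹ * b * t = w⁻¹ * (b * t * b⁻¹) * b := by group
          _ = t * (w⁻¹ * b) := by rw [hb]; group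
      · intro b hb
        simp only [Finset.mem_univ, true_and, Finset.coe_filter,
          Set.mem_ofPred_eq] at hb ⊢
        rw [mem_centralizer_singleton_iff] at hb
        rw [hw]
        calc w * b * t * (w * b)⁻¹ = w * (b * t) * b⁻¹ * w⁻¹ := by group
          _ = w * t * w⁻¹ := by rw [hb]; group
    · refine Finset.sum_eq_zero fun b hb => ?_
      by_contra hne0
      have h9 := hh b hne0
      rw [(Finset.mem_filter.1 hb).2] at h9
      exact hu (Finset.mem_filter.2 ⟨Finset.mem_univ _, h9⟩)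
  set E := extendByZero P fun x => 1 - (μ x : ℂ) with hE
  have hEne : ∀ g, E g ≠ 0 → g ∈ P ∧ g ≠ 1 := by
    intro g hg
    have hgP : g ∈ P := by
      by_contra hh
      exact hg (Char.extendByZero_of_not_mem P _ hh)
    refine ⟨hgP, fun e => hg ?_⟩
    subst e
    rw [hE, Char.extendByZero_of_mem P _ hgP, show (⟨1, hgP⟩ : P) = 1 from rfl, map_one]
    simp
  have hinvert : ∀ t₁ : G, orderOf t₁ = 2 → ∀ w z : G,
      E (w * t₁ * w⁻¹ * (z⁻¹ * t₁ * z⁻¹⁻¹)) ≠ 0 → w * t₁ * w⁻¹ ∈ N ∧ w * t₁ * w⁻¹ ∉ P := by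
    intro t₁ ht₁ w z hz
    obtain ⟨hxP, hx1⟩ := hEne _ hz
    have hsq : ∀ a : G, (a * t₁ * a⁻¹)⁻¹ = a * t₁ * a⁻¹ := fun a => by
      have h2 := ht₁ ▸ pow_orderOf_eq_one t₁
      rw [sq] at h2
      refine inv_eq_of_mul_eq_one_right ?_
      rw [show a * t₁ * a⁻¹ * (a * t₁ * a⁻¹) = a * (t₁ * t₁) * a⁻¹ by group, h2, mul_one,
        mul_inv_cancel]
    generalize w * t₁ * w⁻¹ = u, hsq w = huu at hxP hx1 ⊢
    generalize z⁻¹ * t₁ * z⁻¹⁻¹ = v, hsq z⁻¹ = hvv at hxP hx1 ⊢
    -- `u` inverts a generator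
    have hrev : u⁻¹ * (u * v) * u = (u * v)⁻¹ := by
      rw [mul_inv_rev, hvv, ← mul_assoc, inv_mul_cancel, one_mul, huu]
    have hN' : u⁻¹ ∈ N := hgen _ hxP hx1 u⁻¹ (by
      rw [inv_inv, hrev]; exact P.inv_mem hxP)
    refine ⟨inv_mem_iff.1 hN', fun huP => ?_⟩
    have hcu := (mem_centralizer_iff.1 (hCP.symm.le huP)) _ hxP
    rw [mul_assoc _ (u * v), hcu, inv_mul_cancel_left] at hrev
    have h2 : orderOf (u * v) ∣ 2 := orderOf_dvd_of_pow_eq_one (by
      rw [sq]; nth_rw 1 [hrev]; exact inv_mul_cancel _)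
    have h3 : orderOf (u * v) ∣ p := hP ▸ Subgroup.orderOf_dvd_natCard P hxP
    exact hx1 (orderOf_eq_one_iff.1 (Nat.eq_one_of_dvd_coprimes
      ((Nat.coprime_primes Nat.prime_two hp.out).2 (Ne.symm hp2)) h2 h3))
  have hinner : ∀ u ∈ out, ∑ z : G, E (u * (z * t * z⁻¹)) = (c : ℂ) * p := by
    intro u hu
    obtain ⟨-, hu1, hu2⟩ := Finset.mem_filter.1 hu
    rw [hfib (fun v => E (u * v)) fun w hv => ?_]
    · congr 1
      have e1 : ∑ v ∈ out, E (u * v) = ∑ x : P, (1 - (μ x : ℂ)) := by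
        refine Finset.sum_bij' (fun v hv => (⟨u * v, ?_⟩ : P)) (fun x _ => u * (x : G))
          (fun _ _ => Finset.mem_univ _) ?_ ?_ ?_ ?_
        · obtain ⟨-, hv1, hv2⟩ := Finset.mem_filter.1 hv
          have hidx : (P.subgroupOf N).index = 2 := by
            have h := (P.subgroupOf N).card_mul_index
            rw [Nat.card_congr (subgroupOfEquivOfLe le_normalizer).toEquiv, hP, hN,
              mul_comm 2 p] at h
            exact Nat.eq_of_mul_eq_mul_left hp.out.pos h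
          have := (mul_mem_iff_of_index_two hidx (a := ⟨u, hu1⟩) (b := ⟨v, hv1⟩))
          simp [mem_subgroupOf, hu2, hv2] at this
          exact this
        · intro x _
          refine Finset.mem_filter.2 ⟨Finset.mem_univ _, N.mul_mem hu1 (le_normalizer x.2),
            fun e => hu2 ?_⟩
          simpa using P.mul_mem e (P.inv_mem x.2)
        · intro v _
          show u * (u * v) = v
          rw [← mul_assoc]
          nth_rw 1 [← hoi hu1 hu2]
          rw [inv_mul_cancel, one_mul]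
        · intro x _
          refine Subtype.ext ?_
          show u * (u * (x : G)) = x
          rw [← mul_assoc]
          nth_rw 1 [← hoi hu1 hu2]
          rw [inv_mul_cancel, one_mul]
        · intro v hv
          exact Char.extendByZero_of_mem P _ _
      rw [e1, Finset.sum_sub_distrib, Invol.sum_hom_coe μ hμ, sub_zero, Finset.sum_const,
        Finset.card_univ, nsmul_eq_mul, mul_one, ← Nat.card_eq_fintype_card, hP]
    · obtain ⟨h1, -⟩ := hEne _ hv
      generalize w * t * w⁻¹ = v at h1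
      have hvN : v ∈ N := by
        simpa using N.mul_mem (N.inv_mem hu1) (le_normalizer h1)
      exact ⟨hvN, fun e => hu2 (by simpa using P.mul_mem h1 (P.inv_mem e))⟩
  have hsumF : ∑ a : G, F (a * t * a⁻¹ * t) = (p : ℂ) * (c : ℂ) ^ 2 := by
    have e1 : ∀ g : G, F g = (p : ℂ)⁻¹ * ∑ z : G, E (z⁻¹ * g * z) := fun g => by
      rw [hF, Invol.secInd, Char.indFun_apply, hP]
    simp only [e1, ← Finset.mul_sum]
    rw [Finset.sum_comm]
    have e2 : ∀ z : G, ∑ a : G, E (z⁻¹ * (a * t * a⁻¹ * t) * z) =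
        ∑ b : G, E (b * t * b⁻¹ * (z⁻¹ * t * z⁻¹⁻¹)) := fun z => by
      refine Fintype.sum_equiv (Equiv.mulLeft z⁻¹) _ _ fun a => ?_
      congr 1
      simp only [Equiv.coe_mulLeft]
      group
    rw [Finset.sum_congr rfl fun z _ => e2 z, Finset.sum_comm]
    rw [hfib (fun u => ∑ z : G, E (u * (z⁻¹ * t * z⁻¹⁻¹))) fun w hu => ?_]
    · have e3 : ∀ u ∈ out, ∑ z : G, E (u * (z⁻¹ * t * z⁻¹⁻¹)) = (c : ℂ) * p := fun u hu => by
        rw [← hinner u hu]
        exact Fintype.sum_equiv (Equiv.inv G) _ _ fun z => by simp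
      have hcard : out.card = p := by
        have h1 : (Finset.univ.filter fun g : G => g ∈ N).card = 2 * p := by
          rw [← hN, Nat.card_eq_fintype_card, Fintype.card_subtype]
        have h2 : (Finset.univ.filter fun g : G => g ∈ P).card = p := by
          rw [← Fintype.card_subtype, ← Nat.card_eq_fintype_card]; exact hP
        have h3 : out = (Finset.univ.filter fun g : G => g ∈ N) \
            (Finset.univ.filter fun g : G => g ∈ P) := by ext g; simp [hout']
        rw [h3, Finset.card_sdiff_of_subset (fun g hg => by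
          simp at hg ⊢; exact le_normalizer hg), h1, h2]
        omega
      rw [Finset.sum_congr rfl e3, Finset.sum_const, hcard, nsmul_eq_mul]
      have : (p : ℂ) ≠ 0 := Nat.cast_ne_zero.2 hp.out.ne_zero
      field_simp
    · obtain ⟨z, -, hz⟩ := Finset.exists_ne_zero_of_sum_ne_zero hu
      exact hinvert t ht2 w z hz
  have hsum₀ : ∃ k : ℕ, ((∃ w : G, w * t₀ * w⁻¹ ∈ N ∧ w * t₀ * w⁻¹ ∉ P) →
        k = Nat.card (centralizer ({t₀} : Set G)) ^ 2) ∧
      (k = 0 ∨ k = Nat.card (centralizer ({t₀} : Set G)) ^ 2) ∧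
      ∑ a : G, F (a * t₀ * a⁻¹ * t₀) = (p : ℂ) * (k : ℂ) := by
    by_cases hex : ∃ w : G, w * t₀ * w⁻¹ ∈ N ∧ w * t₀ * w⁻¹ ∉ P
    · obtain ⟨w, hwN, hwP⟩ := hex
      obtain ⟨v, hv⟩ := hconj _ hwN hwP
      -- `t` is a conjugate of `t₀`
      obtain ⟨b, hb⟩ : ∃ b : G, t = b * t₀ * b⁻¹ := ⟨v⁻¹ * w, by
        calc t = v⁻¹ * (v * t * v⁻¹) * v := by group
          _ = v⁻¹ * w * t₀ * (v⁻¹ * w)⁻¹ := by rw [← hv]; group⟩
      have hcc : Nat.card (centralizer ({t₀} : Set G)) = c := by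
        refine Nat.card_congr (Equiv.subtypeEquiv (MulAut.conj b).toEquiv fun g => ?_)
        rw [mem_centralizer_singleton_iff, mem_centralizer_singleton_iff]
        simp only [MulEquiv.toEquiv_eq_coe, EquivLike.coe_coe, MulAut.conj_apply, hb]
        constructor
        · intro h
          calc b * g * b⁻¹ * (b * t₀ * b⁻¹) = b * (g * t₀) * b⁻¹ := by group
            _ = b * t₀ * b⁻¹ * (b * g * b⁻¹) := by rw [h]; group
        · intro h
          calc g * t₀ = b⁻¹ * (b * g * b⁻¹ * (b * t₀ * b⁻¹)) * b := by group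
            _ = t₀ * g := by rw [h]; group
      refine ⟨c ^ 2, fun _ => by rw [hcc], Or.inr (by rw [hcc]), ?_⟩
      rw [Nat.cast_pow, ← hsumF]
      refine Fintype.sum_equiv (MulAut.conj b).toEquiv _ _ fun a => ?_
      rw [← Char.IsGen.isClassFunction hFg (a * t₀ * a⁻¹ * t₀) b]
      congr 1
      simp only [MulEquiv.toEquiv_eq_coe, EquivLike.coe_coe, MulAut.conj_apply, hb]
      group
    · refine ⟨0, fun h => absurd h hex, Or.inl rfl, ?_⟩
      rw [Nat.cast_zero, mul_zero]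
      refine Finset.sum_eq_zero fun a _ => ?_
      rw [hF, Invol.secInd, Char.indFun_apply]
      refine mul_eq_zero_of_right _ (Finset.sum_eq_zero fun z _ => ?_)
      by_contra hne0
      refine hex ⟨z⁻¹ * a, hinvert t₀ ht₀ (z⁻¹ * a) z ?_⟩
      rw [show z⁻¹ * a * t₀ * (z⁻¹ * a)⁻¹ * (z⁻¹ * t₀ * z⁻¹⁻¹) =
        z⁻¹ * (a * t₀ * a⁻¹ * t₀) * z by group]
      exact hne0
  obtain ⟨k, hk, hk', hsum⟩ := hsum₀
  -- class multiplication
  have hG0 : (Nat.card G : ℂ) ≠ 0 := Char.card_ne_zero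
  have hexpand : ∀ χ : IrrCharacter G, (χ : G → ℂ) t₀ ^ 2 / (χ : G → ℂ) 1 =
      (Nat.card G : ℂ)⁻¹ * ∑ a, (χ : G → ℂ) (a * t₀ * a⁻¹ * t₀) := fun χ => by
    have h := CharArith.classMult χ.2 t₀ t₀
    have h1 := Char.IsIrr.one_ne_zero χ.2
    field_simp
    linear_combination -h
  have hkey : ∑ χ : IrrCharacter G, classInner F (χ : G → ℂ) *
      ((χ : G → ℂ) t₀ ^ 2 / (χ : G → ℂ) 1) = (Nat.card G : ℂ)⁻¹ * ((p : ℂ) * (k : ℂ)) := by
    rw [← hsum]
    simp only [hexpand, Finset.mul_sum]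
    rw [Finset.sum_comm]
    refine Finset.sum_congr rfl fun a _ => ?_
    simp only [← mul_assoc, mul_comm _ (Nat.card G : ℂ)⁻¹]
    simp only [mul_assoc _ (classInner F _), ← Finset.mul_sum]
    rw [Invol.apply_eq_sum (Char.IsGen.isClassFunction hFg)]
  rw [hexp, Finset.sum_pair hne] at hkey
  -- degrees and values
  obtain ⟨d₁, hd₁, e₁⟩ := Char.IsIrr.degree χ₁.2
  obtain ⟨d₂, hd₂, e₂⟩ := Char.IsIrr.degree χ₂.2
  obtain ⟨a₁, f₁⟩ := exists_int_apply_involution (Char.IsIrr.isCharacter χ₁.2) ht₀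
  obtain ⟨a₂, f₂⟩ := exists_int_apply_involution (Char.IsIrr.isCharacter χ₂.2) ht₀
  have hsign : ∀ χ ∈ ({χ₁, χ₂} : Finset (IrrCharacter G)),
      ∃ e : ℤ, (e = 1 ∨ e = -1) ∧ s χ = e := fun χ hχ => by
    rcases (hsS χ hχ).2 with h | h
    · exact ⟨1, Or.inl rfl, by simp [h]⟩
    · exact ⟨-1, Or.inr rfl, by simp [h]⟩
  obtain ⟨ε₁, hε₁, g₁⟩ := hsign χ₁ (Finset.mem_insert_self _ _)
  obtain ⟨ε₂, hε₂, g₂⟩ := hsign χ₂ (Finset.mem_insert_of_mem (Finset.mem_singleton_self _))
  have h1 := hval 1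
  have ht' := hval t₀
  rw [hvan 1 (by simp [hp.out.ne_one])] at h1
  rw [hvan t₀ (by
    rw [ht₀]; exact fun h => hp2 ((Nat.prime_dvd_prime_iff_eq hp.out Nat.prime_two).1 h))] at ht'
  rw [e₁, e₂, g₁, g₂] at h1
  rw [f₁, f₂, g₁, g₂] at ht'
  rw [f₁, f₂, e₁, e₂, g₁, g₂, hG] at hkey
  have h1' : 1 + ε₁ * d₁ + ε₂ * d₂ = 0 := by exact_mod_cast h1.symm
  have ht'' : 1 + ε₁ * a₁ + ε₂ * a₂ = 0 := by exact_mod_cast ht'.symm
  have hd1' : (1 : ℤ) ≤ d₁ := by exact_mod_cast hd₁
  have hd2' : (1 : ℤ) ≤ d₂ := by exact_mod_cast hd₂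
  have hn0 : n ≠ 0 := by
    rintro rfl
    rw [mul_zero] at hG
    exact Nat.card_pos.ne' hG
  have hnorm : a₁.natAbs ≤ d₁ := by
    have := Char.IsChar.norm_le (Char.IsIrr.isCharacter χ₁.2) t₀
    rw [f₁, e₁, Complex.natCast_re, Complex.norm_intCast] at this
    have h9 : ((a₁.natAbs : ℕ) : ℝ) ≤ d₁ := by rwa [Nat.cast_natAbs, Int.cast_abs]
    exact_mod_cast h9
  have hnorm₂ : a₂.natAbs ≤ d₂ := by
    have := Char.IsChar.norm_le (Char.IsIrr.isCharacter χ₂.2) t₀
    rw [f₂, e₂, Complex.natCast_re, Complex.norm_intCast] at this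
    have h9 : ((a₂.natAbs : ℕ) : ℝ) ≤ d₂ := by rwa [Nat.cast_natAbs, Int.cast_abs]
    exact_mod_cast h9
  refine ⟨χ₁, ε₁ * d₁, ε₁ * a₁, k, (hsS χ₁ (Finset.mem_insert_self _ _)).1, ?_, ?_, ?_, ?_,
    fun e => ?_, ?_, ?_, ?_, hk, hk'⟩
  · rcases hε₁ with rfl | rfl <;> omega
  · rw [show ε₁ * d₁ + 1 = -(ε₂ * d₂) by linarith]
    rcases hε₂ with rfl | rfl <;> omega
  · rcases hε₁ with rfl | rfl <;> simp [-Nat.card_eq_fintype_card] <;>
      exact Char.IsIrr.degree_dvd_card χ₁.2 e₁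
  · rw [show ε₁ * d₁ + 1 = -(ε₂ * d₂) by linarith]
    rcases hε₂ with rfl | rfl <;> simp [-Nat.card_eq_fintype_card] <;>
      exact Char.IsIrr.degree_dvd_card χ₂.2 e₂
  · have he : a₁ = (d₁ : ℤ) := by rcases hε₁ with rfl | rfl <;> omega
    rw [f₁, e₁, he, Int.cast_natCast]
  · rcases hε₁ with rfl | rfl <;> simpa using hnorm
  · rw [show ε₁ * d₁ + 1 = -(ε₂ * d₂) by linarith, show ε₁ * a₁ + 1 = -(ε₂ * a₂) by linarith]
    rcases hε₂ with rfl | rfl <;> simpa using hnorm₂
  · have hp0 : (p : ℂ) ≠ 0 := Nat.cast_ne_zero.2 hp.out.ne_zero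
    have hn' : (n : ℂ) ≠ 0 := Nat.cast_ne_zero.2 hn0
    have hd1c : (d₁ : ℂ) ≠ 0 := Nat.cast_ne_zero.2 (by omega)
    have hd2c : (d₂ : ℂ) ≠ 0 := Nat.cast_ne_zero.2 (by omega)
    simp only [one_pow, div_one] at hkey
    push_cast at hkey
    field_simp at hkey
    have hkey' : (2 * n * (d₁ * d₂ + ε₁ * a₁ ^ 2 * d₂ + ε₂ * a₂ ^ 2 * d₁) : ℤ) =
        (k : ℤ) * (d₁ * d₂) := by
      have : (((2 * n * (d₁ * d₂ + ε₁ * a₁ ^ 2 * d₂ + ε₂ * a₂ ^ 2 * d₁) : ℤ)) : ℂ) =
          (((k : ℤ) * (d₁ * d₂) : ℤ) : ℂ) := by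
        push_cast
        linear_combination hkey
      exact_mod_cast this
    rcases hε₁ with rfl | rfl <;> rcases hε₂ with rfl | rfl
    · omega
    · obtain rfl : a₂ = 1 + a₁ := by linarith
      have hd : (d₂ : ℤ) = 1 + d₁ := by linarith
      rw [hd] at hkey'
      linear_combination hkey'
    · obtain rfl : a₂ = a₁ - 1 := by linarith
      have hd : (d₂ : ℤ) = d₁ - 1 := by linarith
      rw [hd] at hkey'
      linear_combination hkey'
    · obtain rfl : a₂ = 1 - a₁ := by linarith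
      have hd : (d₂ : ℤ) = 1 - d₁ := by linarith
      omega

open scoped Classical in
/-- The two characters without the bound for the second. -/
theorem involution_pairs [Fintype G] [hp : Fact p.Prime] (hp2 : p ≠ 2) {n : ℕ} (hP : Nat.card P = p)
    (hC : Nat.card (centralizer (P : Set G)) = p)
    (hN : Nat.card (normalizer (P : Set G)) = 2 * p) (hG : Nat.card G = 2 * p * n)
    {t₀ : G} (ht₀ : orderOf t₀ = 2) :
    ∃ (χ : IrrCharacter G) (D A : ℤ) (k : ℕ), (χ : G → ℂ) ≠ (fun _ => 1) ∧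
      D ≠ 0 ∧ D + 1 ≠ 0 ∧ D.natAbs ∣ Nat.card G ∧ (D + 1).natAbs ∣ Nat.card G ∧
      (A = D → (χ : G → ℂ) t₀ = (χ : G → ℂ) 1) ∧ A.natAbs ≤ D.natAbs ∧
      2 * (n : ℤ) * (A - D) ^ 2 = (k : ℤ) * (D * (D + 1)) ∧
      ((∃ w : G, w * t₀ * w⁻¹ ∈ normalizer (P : Set G) ∧ w * t₀ * w⁻¹ ∉ P) →
        k = Nat.card (centralizer ({t₀} : Set G)) ^ 2) ∧
      (k = 0 ∨ k = Nat.card (centralizer ({t₀} : Set G)) ^ 2) := by
  obtain ⟨χ, D, A, k, h0, h1, h2, h3, h4, h5, h6, -, h7⟩ := involution_pairs_bound hp2 hP hC hN hG ht₀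
  exact ⟨χ, D, A, k, h0, h1, h2, h3, h4, h5, h6, h7⟩

open scoped Classical in
/-- The counting identity. -/
theorem involution_count [Fintype G] [hp : Fact p.Prime] (hp2 : p ≠ 2) {n : ℕ} (hP : Nat.card P = p)
    (hC : Nat.card (centralizer (P : Set G)) = p)
    (hN : Nat.card (normalizer (P : Set G)) = 2 * p) (hG : Nat.card G = 2 * p * n) :
    ∃ (D A : ℤ) (c : ℕ), c ≠ 0 ∧ D ≠ 0 ∧ D + 1 ≠ 0 ∧ D.natAbs ∣ Nat.card G ∧
      (D + 1).natAbs ∣ Nat.card G ∧ 2 * (n : ℤ) * (A - D) ^ 2 = (c : ℤ) ^ 2 * (D * (D + 1)) := by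
  obtain ⟨t, htN, htP⟩ : ∃ t ∈ normalizer (P : Set G), t ∉ P := by
    by_contra! hall
    have := card_dvd_of_le (show normalizer (P : Set G) ≤ P from hall)
    rw [hN, hP] at this
    have := Nat.le_of_dvd hp.out.pos this
    have := hp.out.pos
    omega
  have ht : orderOf t = 2 := (dihedral_normalizer hp2 hP hC hN htN htP).1
  obtain ⟨χ, D, A, k, -, h1, h2, h3, h4, -, -, he, hk, -⟩ := involution_pairs hp2 hP hC hN hG ht
  refine ⟨D, A, Nat.card (centralizer ({t} : Set G)), Nat.card_pos.ne', h1, h2, h3, h4, ?_⟩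
  rw [he, hk ⟨1, by rw [inv_one, one_mul, mul_one]; exact ⟨htN, htP⟩⟩, Nat.cast_pow]

theorem eq_zero_or_neg_one_of_mul_succ_sq {D j : ℤ} (h : j ^ 2 = D * (D + 1)) : D = 0 ∨ D = -1 := by
  have h1 : (2 * D + 1 - 2 * j) * (2 * D + 1 + 2 * j) = 1 := by linear_combination (-4 : ℤ) * h
  rcases Int.eq_one_or_neg_one_of_mul_eq_one h1 with h2 | h2
  · rw [h2, one_mul] at h1; omega
  · rw [h2] at h1; omega

/-- The twofold number of Sylow subgroups is no square. -/
theorem not_square_of_dihedral [Finite G] [hp : Fact p.Prime] (hp2 : p ≠ 2) {n m : ℕ}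
    (hP : Nat.card P = p) (hC : Nat.card (centralizer (P : Set G)) = p)
    (hN : Nat.card (normalizer (P : Set G)) = 2 * p) (hG : Nat.card G = 2 * p * n)
    (hm : m ^ 2 = 2 * n) : False := by
  classical
  have := Fintype.ofFinite G
  obtain ⟨D, A, c, hc, hD, hD1, -, -, he⟩ := involution_count hp2 hP hC hN hG
  have hm' : ((m : ℤ)) ^ 2 = 2 * n := by exact_mod_cast hm
  rw [← hm', ← mul_pow] at he
  obtain ⟨j, hj⟩ : (c : ℤ) ∣ m * (A - D) := (Int.pow_dvd_pow_iff two_ne_zero).1 ⟨_, he⟩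
  rw [hj, mul_pow] at he
  rcases eq_zero_or_neg_one_of_mul_succ_sq
    (mul_left_cancel₀ (pow_ne_zero 2 (Nat.cast_ne_zero.2 hc)) he) with h | h <;> omega

/-- In a simple group the centraliser of any involution is small. -/
theorem centralizer_involution_sq_le [Finite G] [IsSimpleGroup G] [hp : Fact p.Prime] (hp2 : p ≠ 2)
    {n : ℕ} (hP : Nat.card P = p)
    (hC : Nat.card (centralizer (P : Set G)) = p)
    (hN : Nat.card (normalizer (P : Set G)) = 2 * p) (hG : Nat.card G = 2 * p * n)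
    {t : G} (ht : orderOf t = 2) : Nat.card (centralizer ({t} : Set G)) ^ 2 ≤ 16 * n := by
  classical
  have := Fintype.ofFinite G
  obtain ⟨χ, D, A, k, hχ, hD, hD1, -, -, hAD, hA, he, -, hk⟩ :=
    involution_pairs hp2 hP hC hN hG ht
  have hAD' : A ≠ D := by
    intro e
    have hc := Char.IsIrr.isCharacter χ.2
    rcases (Subgroup.Normal.eq_bot_or_eq_top (H := Char.kerSubgroup hc) inferInstance) with h0 | h0
    · have hm : t ∈ Char.kerSubgroup hc := (Char.mem_kerSubgroup hc).2 (hAD e)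
      rw [h0, mem_bot] at hm
      rw [hm, orderOf_one] at ht
      omega
    · refine hχ ?_
      by_contra hne
      have h9 := Char.classInner_irr_ne χ.2 (Char.isIrrCharacter_one (G := G)) hne
      simp only [classInner, fun g => (Char.mem_kerSubgroup hc).1 (h0 ▸ mem_top g),
        map_one, mul_one, Finset.sum_const, Finset.card_univ, nsmul_eq_mul,
        ← Nat.card_eq_fintype_card, ← mul_assoc] at h9
      rw [inv_mul_cancel₀ Char.card_ne_zero, one_mul] at h9
      exact Char.IsIrr.one_ne_zero χ.2 h9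
  have hn0 : (0 : ℤ) < n := by
    rcases Nat.eq_zero_or_pos n with rfl | h
    · rw [mul_zero] at hG; exact absurd hG Nat.card_pos.ne'
    · exact_mod_cast h
  have hpos : (0 : ℤ) < 2 * (n : ℤ) * (A - D) ^ 2 := by
    have := sub_ne_zero.2 hAD'
    positivity
  rcases hk with rfl | rfl
  · rw [Nat.cast_zero, zero_mul] at he; omega
  have h1 : 0 ≤ D * (D + 1) := by
    rcases le_or_gt 0 D with h | h
    · positivity
    · exact mul_nonneg_of_nonpos_of_nonpos h.le (by omega)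
  have h2 : (A - D) ^ 2 ≤ 4 * D ^ 2 := by
    have h9 := Int.natAbs_le_iff_sq_le.1 hA
    linarith [sq_nonneg (A + D)]
  have h3 : D ^ 2 ≤ 2 * (D * (D + 1)) := by
    rcases le_or_gt 0 D with h | h
    · nlinarith
    · nlinarith [show D ≤ -2 by omega]
  have h4 : (0 : ℤ) < D * (D + 1) := lt_of_le_of_ne h1 (Ne.symm (mul_ne_zero hD hD1))
  have : ((Nat.card (centralizer ({t} : Set G)) ^ 2 : ℕ) : ℤ) ≤ ((16 * n : ℕ) : ℤ) := by
    refine le_of_mul_le_mul_right ?_ h4
    rw [← he]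
    push_cast
    nlinarith
  exact_mod_cast this

end Cfsg.Agent.SmallOrder
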