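import Cfsg.Agent.SmallOrder.Exclude1092
import Cfsg.Agent.Fusion.Transfer
import Cfsg.Agent.Fusion.Alperin

/-!
# No simple group of order 720

Two Sylow 3-subgroups meet trivially, so there are ten, the action on them is that of a sharply
triply transitive group with quaternion two-point stabiliser, and transfer gives a subgroup of
index two.
-/

set_option autoImplicit false

namespace Cfsg.Agent.SmallOrder.Order720

open Subgroup

universe u

variable {G : Type u} [Group G]

/-- An element of order eight whose fourth power moves at most eight points is odd. -/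
theorem sign_eq_neg_one {α : Type*} [Fintype α] [DecidableEq α] {σ : Equiv.Perm α}
    (ho : orderOf σ = 8) (hs : σ.support.card ≤ 8) : Equiv.Perm.sign σ = -1 := by
  have h8 : 8 ∈ σ.cycleType := by
    by_contra h8
    have hl : σ.cycleType.lcm ∣ 4 := Multiset.lcm_dvd.2 fun n hn => by
      have hd := Equiv.Perm.dvd_of_mem_cycleType hn
      rw [ho] at hd
      have := Nat.le_of_dvd (by norm_num) hd
      have hne : n ≠ 8 := fun e => h8 (e ▸ hn)
      interval_cases n <;> omega
    rw [Equiv.Perm.lcm_cycleType, ho] at hl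
    norm_num at hl
  obtain ⟨m, hm⟩ := Multiset.exists_cons_of_mem h8
  have hsum := σ.sum_cycleType
  rw [hm, Multiset.sum_cons] at hsum
  have hm0 : m = 0 := by
    refine Multiset.eq_zero_of_forall_notMem fun n hn => ?_
    have h2 := Equiv.Perm.two_le_of_mem_cycleType (σ := σ) (n := n) (hm ▸ Multiset.mem_cons_of_mem hn)
    have := Multiset.single_le_sum (fun _ _ => Nat.zero_le _) n hn
    omega
  rw [Equiv.Perm.sign_of_cycleType, hm, hm0]
  rfl

section

variable [Finite G] [IsSimpleGroup G] [Fact (Nat.Prime 3)]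

theorem card_sylow_three (h : Nat.card G = 720) (P : Sylow 3 G) : Nat.card (P : Subgroup G) = 9 := by
  rw [card_sylow_eq_pow (a := 2) (m := 80) (h.trans (by norm_num)) (by norm_num) P]
  norm_num

theorem comm_sylow_three (h : Nat.card G = 720) (P : Sylow 3 G) {x y : G}
    (hx : x ∈ (P : Subgroup G)) (hy : y ∈ (P : Subgroup G)) : x * y = y * x :=
  congrArg Subtype.val (IsPGroup.commutative_of_card_eq_prime_sq (p := 3) (G := (P : Subgroup G))
    (by rw [card_sylow_three h P]; norm_num) ⟨x, hx⟩ ⟨y, hy⟩)

theorem num_sylow_three (hna : ¬ IsMulCommutative G) (h : Nat.card G = 720) :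
    Nat.card (Sylow 3 G) = 10 ∨ Nat.card (Sylow 3 G) = 40 := by
  have hG : Nat.card G = 3 ^ 2 * 80 := h.trans (by norm_num)
  obtain ⟨h1, h2, h3, h4⟩ := sylow_data hG two_ne_zero (by norm_num) hna
  have h5 := not_coprime_normalizer_index hna hG two_ne_zero le_rfl (by norm_num)
    (n := Nat.card (Sylow 3 G)) rfl
  have := Nat.le_of_dvd (by norm_num) h1
  rw [h] at h4
  generalize Nat.card (Sylow 3 G) = n at *
  interval_cases n <;>
    first | omega | (exact absurd (by decide) h5) | (norm_num [Nat.factorial] at h4)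

theorem eight_le_index (hna : ¬ IsMulCommutative G) (h : Nat.card G = 720) {H : Subgroup G}
    (hH : H ≠ ⊤) : 8 ≤ H.index := by
  have hd := two_mul_card_dvd hna H hH
  rw [h] at hd
  by_contra! hlt
  generalize H.index = i at *
  interval_cases i <;> norm_num [Nat.factorial] at hd

theorem card_ne_ninety (hna : ¬ IsMulCommutative G) (h : Nat.card G = 720) (H : Subgroup G) :
    Nat.card H ≠ 90 := by
  intro h90
  have : Fact (Nat.Prime 5) := ⟨by norm_num⟩
  obtain ⟨Q⟩ : Nonempty (Sylow 5 H) := Sylow.nonempty
  have hQc : Nat.card (Q : Subgroup H) = 5 :=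
    (card_sylow_eq_pow (a := 1) (m := 18) (h90.trans (by norm_num)) (by norm_num) Q).trans (pow_one 5)
  obtain ⟨P, hP⟩ := (Q.isPGroup'.map H.subtype).exists_le_sylow
  have hPc : Nat.card (P : Subgroup G) = 5 :=
    (card_sylow_eq_pow (a := 1) (m := 144) (h.trans (by norm_num)) (by norm_num) P).trans (pow_one 5)
  have heq : (Q : Subgroup H).map H.subtype = P := eq_of_le_of_card_ge hP (by
    rw [hPc, ← Nat.card_congr (Subgroup.equivMapOfInjective (Q : Subgroup H) _
      (subtype_injective _)).toEquiv, hQc])
  -- the number of Sylow subgroups of the whole group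
  have hn : Nat.card (Sylow 5 G) = 36 := by
    obtain ⟨h1, h2, h3, -⟩ := sylow_data (p := 5) (a := 1) (m := 144) (h.trans (by norm_num))
      one_ne_zero (by norm_num) hna
    have h5 := not_coprime_normalizer_index hna (p := 5) (a := 1) (m := 144)
      (n := Nat.card (Sylow 5 G)) (h.trans (by norm_num)) one_ne_zero (by norm_num) (by norm_num) rfl
    have h6 : Nat.card (Sylow 5 G) ≠ 6 := fun e => by
      have := card_dvd_of_card_sylow_le (h.trans (by norm_num) : Nat.card G = 5 * 144) (by norm_num)
        (by norm_num) hna e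
      rw [h] at this
      norm_num at this
    have := Nat.le_of_dvd (by norm_num) h1
    generalize Nat.card (Sylow 5 G) = n at *
    interval_cases n <;> first | omega | (exact absurd (by decide) h5)
  have hN := card_sylow_mul_card_normalizer P
  rw [hn, h] at hN
  have hNH : Nat.card (normalizer ((Q : Subgroup H) : Set H)) ∣ 20 := by
    have hle : (normalizer ((Q : Subgroup H) : Set H)).map H.subtype ≤
        normalizer ((P : Subgroup G) : Set G) := by
      rw [← heq]
      exact le_normalizer_map H.subtype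
    have := card_dvd_of_le hle
    rw [← Nat.card_congr ((normalizer ((Q : Subgroup H) : Set H)).equivMapOfInjective _
      (subtype_injective _)).toEquiv] at this
    refine this.trans (dvd_of_eq ?_)
    omega
  have hm := card_sylow_mul_card_normalizer Q
  rw [h90] at hm
  have h1 := card_sylow_mod (G := H) 5
  have h2 := card_sylow_dvd (G := H) (p := 5) (a := 1) (m := 18) (h90.trans (by norm_num)) (by norm_num)
  have := Nat.le_of_dvd (by norm_num) h2
  have := Nat.le_of_dvd (by norm_num) hNH
  generalize Nat.card (Sylow 5 H) = n at *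
  generalize Nat.card ↥(normalizer ((Q : Subgroup H) : Set H)) = m at *
  interval_cases n <;> first | omega | (obtain rfl : m = 15 := by omega
                                        norm_num at hNH)

theorem inv_eq_sq {x : G} (hx : x ^ 3 = 1) : x⁻¹ = x ^ 2 :=
  inv_eq_of_mul_eq_one_right (by rw [← pow_succ']; exact hx)

/-- Two Sylow 3-subgroups meet trivially. -/
theorem inf_eq_bot (hna : ¬ IsMulCommutative G) (h : Nat.card G = 720) (P Q : Sylow 3 G)
    (hne : P ≠ Q) : (P : Subgroup G) ⊓ Q = ⊥ := by
  classical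
  by_contra h0
  set D := (P : Subgroup G) ⊓ Q with hD
  have hDc : Nat.card D = 3 := by
    have hd := card_dvd_of_le (inf_le_left : D ≤ (P : Subgroup G))
    rw [card_sylow_three h P, show (9 : ℕ) = 3 ^ 2 by norm_num] at hd
    obtain ⟨i, hi, e⟩ := (Nat.dvd_prime_pow (by norm_num)).1 hd
    have : i ≠ 2 := by
      rintro rfl
      exact hne (Sylow.ext ((eq_of_le_of_card_ge inf_le_left (by rw [card_sylow_three h P, e]; norm_num)).symm.trans
        (eq_of_le_of_card_ge inf_le_right (by rw [card_sylow_three h Q, e]; norm_num))))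
    interval_cases i
    · exact absurd (Subgroup.card_eq_one.1 (e.trans (pow_zero 3))) h0
    · exact e.trans (pow_one 3)
    · omega
  have hPC : (P : Subgroup G) ≤ centralizer (D : Set G) := fun x hx =>
    mem_centralizer_iff.2 fun d hd => comm_sylow_three h P hd.1 hx
  have hQC : (Q : Subgroup G) ≤ centralizer (D : Set G) := fun x hx =>
    mem_centralizer_iff.2 fun d hd => comm_sylow_three h Q hd.2 hx
  set C := centralizer (D : Set G) with hC
  set N := normalizer (D : Set G) with hN
  have hCN : C ≤ N := centralizer_le_normalizer _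
  have hD1 : D ≠ ⊤ := fun e => by rw [e, card_top, h] at hDc; omega
  have hNne : N ≠ ⊤ := normalizer_sub_ne_top h0 hD1
  -- the orders of centraliser and normaliser
  have key : ∀ H : Subgroup G, (P : Subgroup G) ≤ H → (Q : Subgroup G) ≤ H → H ≠ ⊤ →
      (Nat.card H = 36 ∨ Nat.card H = 72) ∧ Nat.card (Sylow 3 H) = 4 := by
    intro H hPH hQH hH
    obtain ⟨k, hk⟩ : 9 ∣ Nat.card H := card_sylow_three h P ▸ card_dvd_of_le hPH
    have hm := H.card_mul_index
    rw [hk, h] at hm
    have h8 := eight_le_index hna h hH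
    have hk10 : k ≤ 10 := by nlinarith
    have hk0 : k ≠ 0 := by rintro rfl; simp at hm
    have hk9 : k ≠ 10 := fun e => card_ne_ninety hna h H (by rw [hk, e])
    have hk3 : ¬ 3 ∣ k := fun hd => by
      obtain ⟨j, rfl⟩ := hd
      have : 27 ∣ 720 := ⟨j * H.index, by rw [← hm]; ring⟩
      norm_num at this
    have h1 := card_sylow_dvd (G := H) (p := 3) (a := 2) (m := k) (by rw [hk]; norm_num) hk3
    have h2 := card_sylow_mod (G := H) 3
    have h3 := one_lt_card_sylow_of_ne hPH hQH hne
    have hk80 : k ∣ 80 := ⟨H.index, by nlinarith⟩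
    have h4 := Nat.le_of_dvd (Nat.pos_of_ne_zero hk0) h1
    rw [hk]
    generalize Nat.card (Sylow 3 H) = n at *
    interval_cases k <;> (try omega) <;> interval_cases n <;> omega
  obtain ⟨hNc, -⟩ := key N (hPC.trans hCN) (hQC.trans hCN) hNne
  have hCne : C ≠ ⊤ := fun e => hNne (top_le_iff.1 (e ▸ hCN))
  obtain ⟨hCc, hCn⟩ := key C hPC hQC hCne
  -- the normaliser of `P` in a subgroup
  have hNH : ∀ H : Subgroup G, (hPH : (P : Subgroup G) ≤ H) →
      Nat.card (Sylow 3 H) * Nat.card ↥(normalizer ((P : Subgroup G) : Set G) ⊓ H) = Nat.card H := by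
    intro H hPH
    rw [← card_sylow_mul_card_normalizer (P.subtype hPH)]
    congr 1
    rw [Sylow.coe_subtype, ← subgroupOf_normalizer_eq hPH, ← inf_subgroupOf_right,
      Nat.card_congr (subgroupOfEquivOfLe inf_le_right).toEquiv]
  have hPN := card_sylow_mul_card_normalizer P
  rw [h] at hPN
  -- `N` and `C` contain four Sylow subgroups each
  have hPCN := hNH C hPC
  rw [hCn] at hPCN
  have hPNN := hNH N (hPC.trans hCN)
  rw [(key N (hPC.trans hCN) (hQC.trans hCN) hNne).2] at hPNN
  obtain ⟨d, hd, hd1⟩ : ∃ d ∈ D, d ≠ 1 := by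
    by_contra! hh
    exact h0 (eq_bot_iff.2 fun x hx => mem_bot.2 (hh x hx))
  have hdz : ∀ x ∈ D, x ≠ 1 → zpowers x = D := fun x hx hx1 => by
    refine eq_of_le_of_card_ge (zpowers_le.2 hx) ?_
    rw [Nat.card_zpowers, hDc]
    rcases (Nat.dvd_prime (Nat.prime_three)).1 (hDc ▸ Subgroup.orderOf_dvd_natCard D hx) with e | e
    · exact absurd (orderOf_eq_one_iff.1 e) hx1
    · omega
  have hd3 : d ^ 3 = 1 := by
    rw [← hDc]
    exact congrArg Subtype.val (pow_card_eq_one' (x := (⟨d, hd⟩ : D)))
  have hdinv : d⁻¹ ≠ d := fun e => hd1 (by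
    have h2 : d * d = 1 := by nth_rw 1 [← e]; exact inv_mul_cancel d
    rw [pow_succ, sq, h2, one_mul] at hd3
    exact hd3)
  -- conjugates of `d` by the normaliser of `P`
  set NP := normalizer ((P : Subgroup G) : Set G) with hNP
  have hdN : ∀ g ∈ NP, g * d * g⁻¹ ∈ (P : Subgroup G) := fun g hg =>
    (mem_normalizer_iff.1 hg d).1 hd.1
  have hfixN : ∀ g : G, g * d * g⁻¹ ∈ D → g ∈ N := by
    intro g hg
    refine mem_normalizer_iff_map_conj_eq.2 ?_
    rw [← hdz d hd hd1, MonoidHom.map_zpowers]
    show zpowers (g * d * g⁻¹) = zpowers d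
    rw [hdz d hd hd1, hdz _ hg fun e => hd1 (conj_eq_one_iff.1 e)]
  have hdC : ∀ g : G, g ∈ C ↔ g * d * g⁻¹ = d := fun g => by
    refine ⟨fun hg => by rw [← mem_centralizer_iff.1 hg d hd, mul_inv_cancel_right], fun hg => ?_⟩
    refine mem_centralizer_iff.2 fun x hx => ?_
    rw [← hdz d hd hd1] at hx
    obtain ⟨i, rfl⟩ := mem_zpowers_iff.1 hx
    exact ((show Commute d g from (mul_inv_eq_iff_eq_mul.1 hg).symm).zpow_left i).eq
  rcases hNc with hN36 | hN72
  · -- the Sylow 2-subgroup of `C` is normal with a normaliser of order 72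
    have hCeq : C = N := eq_of_le_of_card_ge hCN (by omega)
    have hC36 : Nat.card C = 36 := by rw [hCeq, hN36]
    have : Fact (Nat.Prime 2) := ⟨Nat.prime_two⟩
    set P₀ := P.subtype hPC with hP₀
    have hP₀c : Nat.card (P₀ : Subgroup C) = 9 := by
      rw [hP₀, Sylow.coe_subtype, Nat.card_congr (subgroupOfEquivOfLe hPC).toEquiv, card_sylow_three h P]
    have hself : normalizer ((P₀ : Subgroup C) : Set C) ≤ centralizer ((P₀ : Subgroup C) : Set C) := by
      have hN9 : Nat.card (normalizer ((P₀ : Subgroup C) : Set C)) = 9 := by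
        have hm := card_sylow_mul_card_normalizer P₀
        rw [hCn, hC36] at hm
        omega
      rw [← eq_of_le_of_card_ge (le_normalizer : (P₀ : Subgroup C) ≤ _) (by omega)]
      refine fun x hx => mem_centralizer_iff.2 fun y hy => Subtype.ext ?_
      rw [hP₀] at hx hy
      exact comm_sylow_three h P hy hx
    have hcpl := MonoidHom.ker_transferSylow_isComplement' P₀ hself
    set T₀ := (MonoidHom.transferSylow P₀ hself).ker with hT₀
    have hT₀c : Nat.card T₀ = 4 := by
      have := hcpl.card_mul
      rw [hP₀c, hC36] at this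
      omega
    set T := T₀.map C.subtype with hT
    have hTc : Nat.card T = 4 := by
      rw [hT, ← Nat.card_congr (T₀.equivMapOfInjective _ (subtype_injective _)).toEquiv, hT₀c]
    have hCNT : C ≤ normalizer (T : Set G) := by
      refine (normal_subgroupOf_iff_le_normalizer (map_subtype_le T₀)).1 ?_
      rw [subgroupOf, comap_map_eq_self_of_injective (subtype_injective _)]
      infer_instance
    obtain ⟨S, hS⟩ := (IsPGroup.of_card (n := 2) (by rw [hTc]; norm_num) : IsPGroup 2 T).exists_le_sylow
    have hSc : Nat.card (S : Subgroup G) = 16 := by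
      rw [card_sylow_eq_pow (a := 4) (m := 45) (h.trans (by norm_num)) (by norm_num) S]
      norm_num
    set L := normalizer (T : Set G) with hL
    have h8 : 8 ∣ Nat.card L := by
      have hlt : T < (S : Subgroup G) := lt_of_le_of_ne hS fun e => by rw [e, hSc] at hTc; omega
      have hgt := Fusion.lt_inf_normalizer_of_isPGroup (p := 2) S.isPGroup' hlt
      obtain ⟨i, hi⟩ := (S.isPGroup'.to_le (inf_le_left : (S : Subgroup G) ⊓ L ≤ S)).exists_card_eq
      have h4i : 4 < 2 ^ i := by
        rw [← hi, ← hTc]
        refine lt_of_le_of_ne (Nat.le_of_dvd Nat.card_pos (card_dvd_of_le hgt.le)) fun e => hgt.ne ?_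
        exact eq_of_le_of_card_ge hgt.le (le_of_eq e.symm)
      have : 3 ≤ i := by
        by_contra! hh
        have : 2 ^ i ≤ 2 ^ 2 := Nat.pow_le_pow_right (by norm_num) (by omega)
        omega
      exact ((pow_dvd_pow 2 this).trans (hi ▸ card_dvd_of_le (inf_le_right : (S : Subgroup G) ⊓ L ≤ L)))
    have hLne : L ≠ ⊤ := normalizer_sub_ne_top (fun e => by rw [e, card_bot] at hTc; omega)
      (fun e => by rw [e, card_top, h] at hTc; omega)
    have hL72 : Nat.card L = 72 := by
      obtain ⟨h36, -⟩ := key L (hPC.trans hCNT) (hQC.trans hCNT) hLne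
      omega
    obtain ⟨g, hgL, hgC⟩ : ∃ g ∈ L, g ∉ C := by
      by_contra! hh
      have := card_dvd_of_le (show L ≤ C from hh)
      rw [hL72, hC36] at this
      norm_num at this
    have hi : (C.subgroupOf L).index = 2 := by
      have := (C.subgroupOf L).card_mul_index
      rw [Nat.card_congr (subgroupOfEquivOfLe hCNT).toEquiv, hC36, hL72] at this
      omega
    have hnorm : ∀ x ∈ C, g * x * g⁻¹ ∈ C := fun x hx =>
      (normal_of_index_eq_two hi).conj_mem ⟨x, hCNT hx⟩ (mem_subgroupOf.2 hx) ⟨g, hgL⟩
    set d' := g * d * g⁻¹ with hd'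
    have hd'C : ∀ x ∈ C, x * d' = d' * x := by
      intro x hx
      have hx' : g⁻¹ * x * g ∈ C := by
        have := (normal_of_index_eq_two hi).conj_mem ⟨x, hCNT hx⟩ (mem_subgroupOf.2 hx)
          (⟨g, hgL⟩ : L)⁻¹
        simpa [mem_subgroupOf] using this
      calc x * d' = g * (g⁻¹ * x * g * d) * g⁻¹ := by rw [hd']; group
        _ = g * (d * (g⁻¹ * x * g)) * g⁻¹ := by rw [mem_centralizer_iff.1 hx' d hd]
        _ = d' * x := by rw [hd']; group
    have hd'mem : d' ∈ C := hnorm d (hPC hd.1)
    -- `d'` lies in every Sylow subgroup of `C`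
    have hd'P : d' ∈ (P : Subgroup G) := by
      have h3' : d' ^ 3 = 1 := by rw [hd', conj_pow, hd3]; group
      have hle : zpowers d' ⊔ (P : Subgroup G) ≤ C := sup_le (zpowers_le.2 hd'mem) hPC
      have hp : IsPGroup 3 ↥(zpowers d' ⊔ (P : Subgroup G)) := by
        refine IsPGroup.to_sup_of_normal_right' ?_ P.isPGroup' ?_
        · exact fun x => ⟨1, by
            obtain ⟨i, hi⟩ := mem_zpowers_iff.1 x.2
            refine Subtype.ext ?_
            rw [SubgroupClass.coe_pow, ← hi, pow_one, ← zpow_natCast, ← zpow_mul, mul_comm, zpow_mul,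
              zpow_natCast, h3', one_zpow, OneMemClass.coe_one]⟩
        · refine zpowers_le.2 (mem_normalizer_iff.2 fun x => ⟨fun hx => ?_, fun hx => ?_⟩)
          · rwa [← hd'C x (hPC hx), mul_inv_cancel_right]
          · have hxC : x ∈ C := by
              have := mul_mem (mul_mem (inv_mem hd'mem) (hPC hx)) hd'mem
              rwa [show d'⁻¹ * (d' * x * d'⁻¹) * d' = x by group] at this
            rwa [← hd'C x hxC, mul_inv_cancel_right] at hx
      obtain ⟨R, hR⟩ := hp.exists_le_sylow
      rw [← Sylow.ext (eq_of_le_of_card_ge (le_sup_right.trans hR)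
        (by rw [card_sylow_three h, card_sylow_three h]) : (P : Subgroup G) = R)] at hR
      exact (le_sup_left.trans hR) (mem_zpowers d')
    have hd'D : d' ∉ D := fun hh => hgC (hCeq ▸ hfixN g hh)
    -- so `P` is central in `C`
    have hPcen : (P : Subgroup G) ≤ centralizer (C : Set G) := by
      have hle : zpowers d' ⊔ D ≤ (P : Subgroup G) := sup_le (zpowers_le.2 hd'P) inf_le_left
      have hlt : D < zpowers d' ⊔ D := lt_of_le_of_ne le_sup_right fun e =>
        hd'D (e ▸ le_sup_left (b := D) (mem_zpowers d'))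
      have h9 : Nat.card ↥(zpowers d' ⊔ D) = 9 := by
        have hdv := card_dvd_of_le hle
        rw [card_sylow_three h P, show (9 : ℕ) = 3 ^ 2 by norm_num] at hdv
        obtain ⟨i, hi, e⟩ := (Nat.dvd_prime_pow (by norm_num)).1 hdv
        have hgt : 3 < 3 ^ i := by
          rw [← e, ← hDc]
          exact lt_of_le_of_ne (Nat.le_of_dvd Nat.card_pos (card_dvd_of_le hlt.le)) fun e' =>
            hlt.ne (eq_of_le_of_card_ge hlt.le (le_of_eq e'.symm))
        interval_cases i <;> omega
      rw [← eq_of_le_of_card_ge hle (by rw [h9, card_sylow_three h P]), sup_le_iff, zpowers_le]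
      exact ⟨mem_centralizer_iff.2 fun x hx => hd'C x hx,
        fun x hx => mem_centralizer_iff.2 fun y hy => (mem_centralizer_iff.1 hy x hx).symm⟩
    have hnormal : C ≤ normalizer ((P : Subgroup G) : Set G) := fun x hx => mem_normalizer_iff.2 fun y => by
      refine ⟨fun hy => ?_, fun hy => ?_⟩
      · rwa [mem_centralizer_iff.1 (hPcen hy) x hx, mul_inv_cancel_right]
      · have h9 := mem_centralizer_iff.1 (hPcen hy) x hx
        have e : x * y * x⁻¹ = y := by
          calc x * y * x⁻¹ = x⁻¹ * (x * (x * y * x⁻¹)) := (inv_mul_cancel_left _ _).symm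
            _ = x⁻¹ * (x * y * x⁻¹ * x) := by rw [h9]
            _ = y := by group
        rwa [e] at hy
    have := card_dvd_of_le (le_inf hnormal le_rfl : C ≤ NP ⊓ C)
    have := Nat.le_of_dvd Nat.card_pos this
    omega
  rcases num_sylow_three hna h with hn | hn
  · -- ten Sylow subgroups
    rw [hn] at hPN
    have := Fintype.ofFinite (Sylow 3 G)
    have := Fintype.ofFinite (P : Subgroup G)
    set f : ↥(P : Subgroup G) → ℕ := fun x => Nat.card (MulAction.fixedBy (Sylow 3 G) x) with hf
    have hfix : ∀ (a : G) (R : Sylow 3 G), a • R = R ↔ a ∈ normalizer ((R : Subgroup G) : Set G) :=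
      fun a R => Sylow.smul_eq_iff_mem_normalizer
    set d₀ : (P : Subgroup G) := ⟨d, hd.1⟩ with hd₀
    have hf1 : f 1 = 10 := by
      simp only [hf]
      rw [show MulAction.fixedBy (Sylow 3 G) (1 : (P : Subgroup G)) = Set.univ by ext; simp,
        Nat.card_congr (Equiv.Set.univ _), hn]
    -- the conjugates of `d` under `NP`
    have hinvf : ∀ x : (P : Subgroup G), f x⁻¹ = f x := fun x => by
      simp only [hf]
      rw [MulAction.fixedBy_inv]
    have hcf : ∀ g ∈ NP, ∀ hg : g * d * g⁻¹ ∈ (P : Subgroup G), f ⟨g * d * g⁻¹, hg⟩ = f d₀ := by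
      intro g _ hg
      refine Nat.card_congr (((MulAction.toPerm g).subtypeEquiv fun R => ?_).symm)
      show d • R = R ↔ (g * d * g⁻¹) • (g • R) = g • R
      rw [← mul_smul, inv_mul_cancel_right, mul_smul, smul_left_cancel_iff]
    have hall : ∀ x : (P : Subgroup G), x ≠ 1 → f x = f d₀ := by
      let F : NP → ↥(P : Subgroup G) := fun g => ⟨(g : G) * d * (g : G)⁻¹, hdN g g.2⟩
      set S : Finset (P : Subgroup G) := (Set.range F).toFinite.toFinset with hS
      set S' := S ∪ S.map ⟨fun x => x⁻¹, inv_injective⟩ with hS'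
      have hSf : ∀ x ∈ S', f x = f d₀ := by
        intro x hx
        simp only [hS', hS, Finset.mem_union, Finset.mem_map, Set.Finite.mem_toFinset,
          Set.mem_range, Function.Embedding.coeFn_mk] at hx
        rcases hx with ⟨g, rfl⟩ | ⟨_, ⟨g, rfl⟩, rfl⟩
        · exact hcf g g.2 _
        · rw [hinvf]; exact hcf g g.2 _
      have hS1 : (1 : (P : Subgroup G)) ∉ S' := by
        intro hx
        simp only [hS', hS, Finset.mem_union, Finset.mem_map, Set.Finite.mem_toFinset,
          Set.mem_range, Function.Embedding.coeFn_mk, inv_eq_one] at hx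
        rcases hx with ⟨g, hg⟩ | ⟨_, ⟨g, rfl⟩, hg⟩ <;>
          exact hd1 (conj_eq_one_iff.1 (congrArg Subtype.val hg))
      -- the size of the class
      have hScard : S.card * Nat.card ↥(NP ⊓ C) = 72 := by
        have hSe : Nat.card (NP ⧸ (C.subgroupOf NP)) = S.card := by
          rw [hS, ← Set.ncard_eq_toFinset_card, ← Nat.card_coe_set_eq]
          refine Nat.card_congr (Equiv.ofBijective (fun q => Quotient.liftOn' q
            (fun g => (⟨F g, g, rfl⟩ : Set.range F)) fun a b hab => ?_) ⟨?_, ?_⟩)
          · rw [QuotientGroup.leftRel_apply, mem_subgroupOf] at hab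
            refine Subtype.ext (Subtype.ext ?_)
            have hc := (hdC _).1 hab
            simp only [coe_mul, InvMemClass.coe_inv] at hc
            show (a : G) * d * (a : G)⁻¹ = (b : G) * d * (b : G)⁻¹
            calc (a : G) * d * (a : G)⁻¹
                = (a : G) * ((a : G)⁻¹ * b * d * ((a : G)⁻¹ * b)⁻¹) * (a : G)⁻¹ := by rw [hc]
              _ = (b : G) * d * (b : G)⁻¹ := by group
          · refine fun q r => Quotient.inductionOn₂' q r fun a b hab => ?_
            refine Quotient.sound' ?_
            rw [QuotientGroup.leftRel_apply, mem_subgroupOf, hdC]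
            have e : (a : G) * d * (a : G)⁻¹ = (b : G) * d * (b : G)⁻¹ :=
              congrArg (fun z : Set.range F => ((z.1 : (P : Subgroup G)) : G)) hab
            simp only [coe_mul, InvMemClass.coe_inv]
            calc (a : G)⁻¹ * b * d * ((a : G)⁻¹ * b)⁻¹ = (a : G)⁻¹ * ((b : G) * d * (b : G)⁻¹) * a := by group
              _ = d := by rw [← e]; group
          · rintro ⟨_, g, rfl⟩
            exact ⟨Quotient.mk'' g, rfl⟩
        have hm := (C.subgroupOf NP).index_mul_card
        rw [index, hSe, ← inf_subgroupOf_right, inf_comm,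
          Nat.card_congr (subgroupOfEquivOfLe inf_le_left).toEquiv, inf_comm] at hm
        rw [inf_comm, hm]
        omega
      have h8S : 8 ≤ S'.card := by
        rcases hCc with hC36 | hC72
        · have : Nat.card ↥(NP ⊓ C) = 9 := by omega
          rw [this] at hScard
          exact le_trans (by omega) (Finset.card_le_card Finset.subset_union_left)
        · have h18 : Nat.card ↥(NP ⊓ C) = 18 := by omega
          rw [h18] at hScard
          have hdisj : Disjoint S (S.map ⟨fun x => x⁻¹, inv_injective⟩) := by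
            rw [Finset.disjoint_left]
            intro x hx hx'
            simp only [hS, Finset.mem_map, Set.Finite.mem_toFinset, Set.mem_range,
              Function.Embedding.coeFn_mk] at hx hx'
            obtain ⟨g, rfl⟩ := hx
            obtain ⟨_, ⟨g', rfl⟩, hg⟩ := hx'
            have e : ((g' : G) * d * (g' : G)⁻¹)⁻¹ = (g : G) * d * (g : G)⁻¹ := congrArg Subtype.val hg
            have hinv : ((g : G)⁻¹ * g') * d * ((g : G)⁻¹ * g')⁻¹ = d⁻¹ := by
              have e' : (g' : G) * d * (g' : G)⁻¹ = ((g : G) * d * (g : G)⁻¹)⁻¹ := by rw [← e, inv_inv]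
              calc ((g : G)⁻¹ * g') * d * ((g : G)⁻¹ * g')⁻¹
                  = (g : G)⁻¹ * ((g' : G) * d * (g' : G)⁻¹) * g := by group
                _ = d⁻¹ := by rw [e']; group
            have hCeq : C = N := eq_of_le_of_card_ge hCN (by omega)
            have hin : (g : G)⁻¹ * g' ∈ N := hfixN _ (by rw [hinv]; exact inv_mem hd)
            rw [← hCeq, hdC, hinv] at hin
            exact hdinv hin
          rw [hS', Finset.card_union_of_disjoint hdisj, Finset.card_map]
          omega
      intro x hx
      by_contra hxf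
      have hx' : x ∉ S' := fun hh => hxf (hSf x hh)
      have hle := Finset.card_le_univ (insert x (insert 1 S'))
      rw [Finset.card_insert_of_notMem (by simp [hx, hx']), Finset.card_insert_of_notMem hS1,
        ← Nat.card_eq_fintype_card, card_sylow_three h P] at hle
      omega
    have hburn := MulAction.sum_card_fixedBy_eq_card_orbits_mul_card_group (P : Subgroup G) (Sylow 3 G)
    simp only [← Nat.card_eq_fintype_card] at hburn
    rw [card_sylow_three h P] at hburn
    change ∑ x, f x = _ at hburn
    rw [← Finset.add_sum_erase _ _ (Finset.mem_univ (1 : (P : Subgroup G))), hf1,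
      Finset.sum_congr rfl (fun x hx => hall x (Finset.ne_of_mem_erase hx)), Finset.sum_const,
      Finset.card_erase_of_mem (Finset.mem_univ _), Finset.card_univ, ← Nat.card_eq_fintype_card,
      card_sylow_three h P, smul_eq_mul] at hburn
    -- at least two and fewer than ten fixed points
    have h2 : 2 ≤ f d₀ := by
      simp only [hf]
      have hP' : d₀ • P = P := (hfix d P).2 (le_normalizer hd.1)
      have hQ' : d₀ • Q = Q := (hfix d Q).2 (le_normalizer hd.2)
      have : Nontrivial (MulAction.fixedBy (Sylow 3 G) d₀) :=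
        ⟨⟨P, hP'⟩, ⟨Q, hQ'⟩, fun e => hne (congrArg Subtype.val e)⟩
      exact Finite.one_lt_card
    have h10 : f d₀ < 10 := by
      by_contra! hge
      have huniv : MulAction.fixedBy (Sylow 3 G) d₀ = Set.univ := by
        refine Set.eq_of_subset_of_ncard_le (Set.subset_univ _) ?_ (Set.toFinite _)
        rw [Set.ncard_univ, hn, ← Nat.card_coe_set_eq]
        exact hge
      have hker : d ∈ (MulAction.toPermHom G (Sylow 3 G)).ker := by
        refine MonoidHom.mem_ker.2 (Equiv.ext fun R => ?_)
        exact (Set.eq_univ_iff_forall.1 huniv R : d₀ • R = R)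
      rcases (Subgroup.Normal.eq_bot_or_eq_top (H := (MulAction.toPermHom G (Sylow 3 G)).ker)
        inferInstance) with hk | hk
      · rw [hk, mem_bot] at hker
        exact hd1 hker
      · refine normalizer_ne_top hna (by rw [h]; norm_num) P (eq_top_iff.2 fun x _ => ?_)
        have h9 : MulAction.toPermHom G (Sylow 3 G) x = 1 :=
          MonoidHom.mem_ker.1 (hk ▸ mem_top x : x ∈ (MulAction.toPermHom G (Sylow 3 G)).ker)
        exact (hfix x P).1 (Equiv.ext_iff.1 h9 P)
    omega
  · -- forty Sylow subgroups: `d` would fix a single coset of `N`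
    rw [hn] at hPN
    have hNR : ∀ R : Sylow 3 G, (R : Subgroup G) ≤ C →
        normalizer ((R : Subgroup G) : Set G) ≤ N := by
      intro R hR
      have hm := card_sylow_mul_card_normalizer (R.subtype (hR.trans hCN))
      rw [(key N (hPC.trans hCN) (hQC.trans hCN) hNne).2, hN72, Sylow.coe_subtype,
        ← subgroupOf_normalizer_eq (hR.trans hCN), ← inf_subgroupOf_right,
        Nat.card_congr (subgroupOfEquivOfLe inf_le_right).toEquiv] at hm
      have hRN := card_sylow_mul_card_normalizer R
      rw [hn, h] at hRN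
      exact (eq_of_le_of_card_ge (inf_le_left : normalizer ((R : Subgroup G) : Set G) ⊓ N ≤ _)
        (by omega)).symm.le.trans inf_le_right
    have hy : orderOf d = 3 := by rw [← Nat.card_zpowers, hdz d hd hd1, hDc]
    obtain ⟨k, hk0, hkp, -, hfix, hdv, -⟩ := centralizer_bound hna N hNne hy
    have hle : Nat.card (MulAction.fixedBy (G ⧸ N) d) ≤ 1 := by
      have : Subsingleton (MulAction.fixedBy (G ⧸ N) d) := by
        suffices hh : ∀ x : G ⧸ N, d • x = x → x = ((1 : G) : G ⧸ N) from
          ⟨fun a b => Subtype.ext ((hh a a.2).trans (hh b b.2).symm)⟩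
        intro x hx
        induction x using QuotientGroup.induction_on with
        | H g =>
          rw [MulAction.Quotient.smul_mk, smul_eq_mul, QuotientGroup.eq] at hx
          refine QuotientGroup.eq.2 ?_
          rw [mul_one, inv_mem_iff]
          -- `d' = g d g⁻¹` commutes with `d`
          set d' := g * d * g⁻¹ with hd'
          have hx1 : g⁻¹ * d * g ∈ N := by
            have := inv_mem hx
            simpa [mul_assoc] using this
          have hx3 : (g⁻¹ * d * g) ^ 3 = 1 := by
            rw [show g⁻¹ * d * g = MulAut.conj g⁻¹ d by simp, ← map_pow, hd3, map_one]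
          -- an element of odd order normalising a group of order three centralises it
          have hcomm : (g⁻¹ * d * g) * d * (g⁻¹ * d * g)⁻¹ = d := by
            set a := g⁻¹ * d * g
            have ha : a * d * a⁻¹ ∈ D := (mem_normalizer_iff.1 hx1 d).1 hd
            rw [← hdz d hd hd1] at ha
            obtain ⟨i, hi⟩ := mem_zpowers_iff.1 ha
            have hi' : d ^ i = d ∨ d ^ i = d⁻¹ ∨ d ^ i = 1 := by
              rw [← zpow_mod_orderOf, hy]
              have h0 := Int.emod_nonneg i (b := 3) (by norm_num)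
              have h1 := Int.emod_lt_of_pos i (b := 3) (by norm_num)
              have hcases : i % 3 = 0 ∨ i % 3 = 1 ∨ i % 3 = 2 := by omega
              rcases hcases with e | e | e <;> rw [Nat.cast_ofNat, e]
              · exact Or.inr (Or.inr (zpow_zero d))
              · exact Or.inl (zpow_one d)
              · exact Or.inr (Or.inl (by rw [inv_eq_sq hd3]; norm_cast))
            rcases hi' with e | e | e
            · rw [← hi, e]
            · exfalso
              rw [e] at hi
              have h2 : a ^ 2 * d * (a ^ 2)⁻¹ = d := by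
                calc a ^ 2 * d * (a ^ 2)⁻¹ = a * (a * d * a⁻¹) * a⁻¹ := by rw [sq]; group
                  _ = a * d⁻¹ * a⁻¹ := by rw [← hi]
                  _ = (a * d * a⁻¹)⁻¹ := by group
                  _ = d := by rw [← hi, inv_inv]
              rw [← inv_eq_sq hx3, inv_inv] at h2
              apply hdinv
              have h3 : a⁻¹ * (a * d * a⁻¹) * a = a⁻¹ * d⁻¹ * a := by rw [hi]
              rw [show a⁻¹ * (a * d * a⁻¹) * a = d by group,
                show a⁻¹ * d⁻¹ * a = (a⁻¹ * d * a)⁻¹ by group, h2] at h3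
              exact h3.symm
            · exfalso
              rw [e] at hi
              exact hd1 (conj_eq_one_iff.1 hi.symm)
          have hcd : Commute d' d := by
            have h9 : g⁻¹ * d * g * d = d * (g⁻¹ * d * g) := mul_inv_eq_iff_eq_mul.1 hcomm
            show g * d * g⁻¹ * d = d * (g * d * g⁻¹)
            calc g * d * g⁻¹ * d = g * (d * (g⁻¹ * d * g)) * g⁻¹ := by group
              _ = g * (g⁻¹ * d * g * d) * g⁻¹ := by rw [h9]
              _ = d * (g * d * g⁻¹) := by group
          have hd'3 : d' ^ 3 = 1 := by rw [hd', conj_pow, hd3]; group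
          have hp : IsPGroup 3 ↥(closure ({d', d} : Set G)) := by
            have hc : IsMulCommutative (closure ({d', d} : Set G)) := by
              refine ⟨⟨fun a b => Subtype.ext ?_⟩⟩
              refine (Subgroup.closure_induction₂ (p := fun a b _ _ => Commute a b) ?_
                (fun a _ => Commute.one_left a) (fun a _ => Commute.one_right a)
                (fun a b c _ _ _ h1 h2 => h1.mul_left h2) (fun a b c _ _ _ h1 h2 => h1.mul_right h2)
                (fun a b _ _ hh => hh.inv_left) (fun a b _ _ hh => hh.inv_right) a.2 b.2).eq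
              rintro a b (rfl | rfl) (rfl | rfl)
              exacts [Commute.refl _, hcd, hcd.symm, Commute.refl _]
            rintro ⟨a, ha⟩
            refine ⟨1, Subtype.ext ?_⟩
            rw [SubgroupClass.coe_pow, pow_one, OneMemClass.coe_one]
            show a ^ 3 = 1
            induction ha using Subgroup.closure_induction with
            | mem a ha => rcases ha with rfl | rfl <;> assumption
            | one => exact one_pow 3
            | mul a b ha hb e1 e2 =>
              have : Commute a b := congrArg Subtype.val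
                (Std.Commutative.comm (⟨a, ha⟩ : closure ({d', d} : Set G)) ⟨b, hb⟩ :
                  (⟨a, ha⟩ : closure ({d', d} : Set G)) * ⟨b, hb⟩ = ⟨b, hb⟩ * ⟨a, ha⟩)
              rw [this.mul_pow, e1, e2, one_mul]
            | inv a ha e => rw [inv_pow, e, inv_one]
          obtain ⟨R, hR⟩ := hp.exists_le_sylow
          have hdR : d ∈ (R : Subgroup G) := hR (subset_closure (by simp))
          have hd'R : d' ∈ (R : Subgroup G) := hR (subset_closure (by simp))
          have hRC : (R : Subgroup G) ≤ C := fun x hx => (hdC x).2 (by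
            rw [comm_sylow_three h R hx hdR, mul_inv_cancel_right])
          have hRab : IsMulCommutative (R : Subgroup G) :=
            ⟨⟨fun a b => Subtype.ext (comm_sylow_three h R a.2 b.2)⟩⟩
          obtain ⟨n, hnR, hnd⟩ := Fusion.exists_mem_normalizer_conj_of_isMulCommutative R hRab hdR g hd'R
          have hd'D : d' ∈ D := by
            rw [hd', ← hnd]
            exact (mem_normalizer_iff.1 (hNR R hRC hnR) d).1 hd
          exact hfixN g hd'D
      exact Finite.card_le_one_iff_subsingleton.2 this
    have hidx : N.index = 10 := by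
      have := N.card_mul_index
      rw [hN72, h] at this
      omega
    rw [hidx] at hkp hfix hdv
    obtain rfl : k = 3 := by omega
    have hcen : centralizer ({d} : Set G) = C := by
      ext x
      rw [hdC, mem_centralizer_singleton_iff]
      exact ⟨fun hx => by rw [hx, mul_inv_cancel_right], fun hx => mul_inv_eq_iff_eq_mul.1 hx⟩
    rw [hcen] at hdv
    norm_num [Nat.factorial] at hdv
    rcases hCc with e | e <;> rw [e] at hdv <;> norm_num at hdv

/-- No simple group has order 720. -/
theorem not_card (hna : ¬ IsMulCommutative G) (h : Nat.card G = 720) : False := by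
  classical
  have := Fintype.ofFinite (Sylow 3 G)
  have : Fact (Nat.Prime 2) := ⟨Nat.prime_two⟩
  obtain ⟨P⟩ : Nonempty (Sylow 3 G) := Sylow.nonempty
  have hfix : ∀ (a : G) (R : Sylow 3 G), a • R = R ↔ a ∈ normalizer ((R : Subgroup G) : Set G) :=
    fun a R => Sylow.smul_eq_iff_mem_normalizer
  -- an element of one Sylow subgroup fixing another
  have hreg : ∀ (A B : Sylow 3 G), A ≠ B → ∀ r ∈ (A : Subgroup G), r • B = B → r = 1 := by
    intro A B hAB r hr hrB
    have h1 : r ∈ (A : Subgroup G) ⊓ normalizer ((B : Subgroup G) : Set G) := ⟨hr, (hfix r B).1 hrB⟩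
    erw [IsPGroup.inf_normalizer_sylow A.isPGroup' B] at h1
    exact mem_bot.1 ((inf_eq_bot hna h A B hAB) ▸ h1)
  have hn : Nat.card (Sylow 3 G) = 10 := by
    refine (num_sylow_three hna h).resolve_right fun hn => ?_
    obtain ⟨A, B, hAB, hc, -, -⟩ := exists_inter_of_not_modEq_sq (p := 3) (a := 1)
      (fun R => by rw [card_sylow_three h R]; norm_num) (by rw [hn]; decide)
    rw [inf_eq_bot hna h A B hAB, card_bot] at hc
    norm_num at hc
  -- `P` is transitive on the other nine
  have htrans : ∀ (A B R : Sylow 3 G), B ≠ A → R ≠ A → ∃ r ∈ (A : Subgroup G), r • B = R := by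
    intro A B R hB hR
    let F : ↥(A : Subgroup G) → {S : Sylow 3 G // S ≠ A} := fun r => ⟨(r : G) • B, fun e => hB (by
      rw [← smul_left_cancel_iff (r : G), e, (hfix (r : G) A).2 (le_normalizer r.2)])⟩
    have hF : Function.Injective F := fun r r' hrr => by
      have e : (r : G) • B = (r' : G) • B := congrArg Subtype.val hrr
      have e' : ((r' : G)⁻¹ * r) • B = B := by rw [mul_smul, e, inv_smul_smul]
      have := hreg A B (Ne.symm hB) _ (mul_mem (inv_mem r'.2) r.2) e'
      exact Subtype.ext (inv_mul_eq_one.1 this).symm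
    have hcard : Nat.card {S : Sylow 3 G // S ≠ A} ≤ Nat.card (A : Subgroup G) := by
      have hopt := Nat.card_congr (Equiv.optionSubtypeNe A)
      rw [Finite.card_option, hn] at hopt
      rw [card_sylow_three h A]
      exact Nat.le_of_lt_succ (lt_of_lt_of_le (Nat.lt_succ_self _) hopt.le)
    obtain ⟨r, hr⟩ := (hF.bijective_of_nat_card_le hcard).2 ⟨R, hR⟩
    exact ⟨r, r.2, congrArg Subtype.val hr⟩
  have h2trans : ∀ A B A' B' : Sylow 3 G, A ≠ B → A' ≠ B' →
      ∃ g : G, g • A = A' ∧ g • B = B' := by
    intro A B A' B' hAB hAB'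
    obtain ⟨g, hg⟩ := MulAction.exists_smul_eq G A A'
    have hgB : g • B ≠ A' := fun e => hAB (by rw [← smul_left_cancel_iff g, hg, e])
    obtain ⟨r, hr, hrB⟩ := htrans A' (g • B) B' hgB (Ne.symm hAB')
    exact ⟨r * g, by rw [mul_smul, hg, (hfix r A').2 (le_normalizer hr)], by rw [mul_smul, hrB]⟩
  -- the action is faithful and even
  set ρ := MulAction.toPermHom G (Sylow 3 G) with hρ
  have hinj : Function.Injective ρ := by
    rw [← MonoidHom.ker_eq_bot_iff]
    refine ((Subgroup.Normal.eq_bot_or_eq_top (H := ρ.ker) inferInstance)).resolve_right fun hk => ?_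
    refine normalizer_ne_top hna (by rw [h]; norm_num) P (eq_top_iff.2 fun x _ => ?_)
    have h9 : ρ x = 1 := MonoidHom.mem_ker.1 (hk ▸ mem_top x : x ∈ ρ.ker)
    exact (hfix x P).1 (Equiv.ext_iff.1 h9 P)
  have hsign : ∀ g, Equiv.Perm.sign (ρ g) = 1 := fun g => by
    rcases (Subgroup.Normal.eq_bot_or_eq_top (H := (Equiv.Perm.sign.comp ρ).ker) inferInstance)
      with hk | hk
    · exact absurd ⟨⟨fun a b => (MonoidHom.ker_eq_bot_iff _).1 hk (by simp [mul_comm])⟩⟩ hna
    · simpa using (by rw [hk]; trivial : g ∈ (Equiv.Perm.sign.comp ρ).ker)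
  -- a second point and the two-point stabiliser
  obtain ⟨Q, hQ⟩ : ∃ Q : Sylow 3 G, Q ≠ P := by
    have : Nontrivial (Sylow 3 G) := Finite.one_lt_card_iff_nontrivial.1 (by omega)
    exact exists_ne P
  set H := normalizer ((P : Subgroup G) : Set G) ⊓ normalizer ((Q : Subgroup G) : Set G) with hH
  have hHmem : ∀ g, g ∈ H ↔ g • P = P ∧ g • Q = Q := fun g => by
    rw [hH, mem_inf, hfix, hfix]
  have hNPc : Nat.card (normalizer ((P : Subgroup G) : Set G)) = 72 := by
    have := card_sylow_mul_card_normalizer P
    rw [hn, h] at this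
    omega
  have hHc : Nat.card H = 8 := by
    -- `N(P)` is the product of `P` and `H`
    let F : ↥(P : Subgroup G) × H → normalizer ((P : Subgroup G) : Set G) := fun x =>
      ⟨x.1 * x.2, mul_mem (le_normalizer x.1.2) ((inf_le_left : H ≤ _) x.2.2)⟩
    have hF : Function.Bijective F := by
      refine ⟨fun x y hxy => ?_, fun g => ?_⟩
      · have e : (x.1 : G) * x.2 = y.1 * y.2 := congrArg Subtype.val hxy
        have e' : ((y.1 : G)⁻¹ * x.1) = y.2 * (x.2 : G)⁻¹ := by
          rw [eq_mul_inv_iff_mul_eq, mul_assoc, e, inv_mul_cancel_left]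
        have hfixQ : ((y.1 : G)⁻¹ * x.1) • Q = Q := by
          rw [e']; exact ((hHmem _).1 (mul_mem y.2.2 (inv_mem x.2.2))).2
        have h1 := hreg P Q (Ne.symm hQ) _ (mul_mem (inv_mem y.1.2) x.1.2) hfixQ
        have hx1 : x.1 = y.1 := Subtype.ext (inv_mul_eq_one.1 h1).symm
        refine Prod.ext hx1 (Subtype.ext ?_)
        rw [hx1] at e
        exact mul_left_cancel e
      · have hgQ : (g : G) • Q ≠ P := fun e => hQ (by
          rw [← smul_left_cancel_iff (g : G), e, (hfix (g : G) P).2 g.2])
        obtain ⟨r, hr, hrQ⟩ := htrans P Q ((g : G) • Q) hQ hgQ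
        refine ⟨⟨⟨r, hr⟩, ⟨r⁻¹ * g, (hHmem _).2 ⟨?_, ?_⟩⟩⟩, Subtype.ext ?_⟩
        · rw [mul_smul, (hfix (g : G) P).2 g.2, inv_smul_eq_iff, (hfix r P).2 (le_normalizer hr)]
        · rw [mul_smul, inv_smul_eq_iff, hrQ]
        · show r * (r⁻¹ * (g : G)) = g
          rw [mul_inv_cancel_left]
    have := Nat.card_eq_of_bijective F hF
    rw [Nat.card_prod, card_sylow_three h P, hNPc] at this
    omega
  -- involutions fix exactly two points
  have hnorm : ∀ u ∈ H, ∀ r ∈ (P : Subgroup G), u * r * u⁻¹ ∈ (P : Subgroup G) := fun u hu r hr =>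
    (mem_normalizer_iff.1 ((inf_le_left : H ≤ _) hu) r).1 hr
  -- the points fixed by an element of `H` correspond to the elements of `P` it centralises
  have hfixP : ∀ u ∈ H, ∀ r ∈ (P : Subgroup G), u • (r • Q) = r • Q → u * r * u⁻¹ = r := by
    intro u hu r hr e
    have e' : (r⁻¹ * (u * r * u⁻¹)) • Q = Q := by
      rw [mul_smul, mul_smul, mul_smul, inv_smul_eq_iff.2 ((hHmem u).1 hu).2.symm, e, inv_smul_smul]
    exact (inv_mul_eq_one.1 (hreg P Q (Ne.symm hQ) _ (mul_mem (inv_mem hr) (hnorm u hu r hr)) e')).symm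
  have hsq : ∀ u : G, u ^ 2 = 1 → u * u = 1 := fun u hu => by rwa [← sq]
  have hinv : ∀ u ∈ H, orderOf u = 2 → ∀ r ∈ (P : Subgroup G), u * r * u⁻¹ = r⁻¹ := by
    intro u hu hu2
    -- the fixed points and the centraliser
    have hc : ∀ r ∈ (P : Subgroup G), u * r * u⁻¹ = r → r = 1 := by
      set K : Subgroup G := (P : Subgroup G) ⊓ centralizer ({u} : Set G) with hK
      suffices hK1 : K = ⊥ by
        intro r hr e
        have : r ∈ K := ⟨hr, mem_centralizer_singleton_iff.2 (mul_inv_eq_iff_eq_mul.1 e).symm⟩
        rwa [hK1, mem_bot] at this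
      -- `f = 1 + |K|` is even
      have hFK : Nat.card (MulAction.fixedBy (Sylow 3 G) u) = Nat.card K + 1 := by
        rw [← Finite.card_option]
        refine (Nat.card_congr (Equiv.ofBijective (fun o : Option K => (match o with
          | none => ⟨P, ((hHmem u).1 hu).1⟩
          | some r => ⟨(r : G) • Q, by
              show u • (r : G) • Q = (r : G) • Q
              rw [← mul_smul, ← (mem_centralizer_singleton_iff.1 r.2.2), mul_smul, ((hHmem u).1 hu).2]⟩ :
            MulAction.fixedBy (Sylow 3 G) u)) ⟨?_, ?_⟩)).symm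
        · have hne : ∀ r : K, (r : G) • Q ≠ P := fun r e => hQ (by
            rw [← smul_left_cancel_iff (r : G), e, (hfix (r : G) P).2 (le_normalizer r.2.1)])
          rintro (_ | r) (_ | r') e
          · rfl
          · exact absurd (congrArg Subtype.val e).symm (hne r')
          · exact absurd (congrArg Subtype.val e) (hne r)
          · have e1 : (r : G) • Q = (r' : G) • Q := congrArg Subtype.val e
            have e' : ((r' : G)⁻¹ * r) • Q = Q := by rw [mul_smul, e1, inv_smul_smul]
            have := hreg P Q (Ne.symm hQ) _ (mul_mem (inv_mem r'.2.1) r.2.1) e'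
            exact congrArg some (Subtype.ext (inv_mul_eq_one.1 this).symm)
        · rintro ⟨R, hR⟩
          by_cases hRP : R = P
          · exact ⟨none, Subtype.ext hRP.symm⟩
          · obtain ⟨r, hr, rfl⟩ := htrans P Q R hQ hRP
            exact ⟨some ⟨r, hr, mem_centralizer_singleton_iff.2
              (mul_inv_eq_iff_eq_mul.1 (hfixP u hu r hr hR)).symm⟩, Subtype.ext rfl⟩
      obtain ⟨j, hj0, hj⟩ : ∃ j, j ≠ 0 ∧ Nat.card (MulAction.fixedBy (Sylow 3 G) u) + 4 * j = 10 := by
        have ho : orderOf (ρ u) = 2 := by rw [orderOf_injective ρ hinj, hu2]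
        obtain ⟨k, hk⟩ := cycleType_of_pow_eq_one (σ := ρ u) (p := 2) (ho ▸ pow_orderOf_eq_one (ρ u))
        have hs := hsign u
        rw [Equiv.Perm.sign_of_cycleType, hk, Multiset.sum_replicate, Multiset.card_replicate,
          smul_eq_mul, show k * 2 + k = k + 2 * k by ring, pow_add, pow_mul, neg_one_sq, one_pow,
          mul_one, neg_one_pow_eq_one_iff_even (show (-1 : ℤˣ) ≠ 1 by decide)] at hs
        obtain ⟨j, rfl⟩ := hs
        refine ⟨j, ?_, ?_⟩
        · rintro rfl
          rw [Multiset.replicate_zero, Equiv.Perm.cycleType_eq_zero] at hk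
          rw [hk, orderOf_one] at ho
          omega
        · have hcf := Equiv.Perm.card_fixedPoints (ρ u)
          rw [hk, Multiset.sum_replicate, smul_eq_mul, ← Nat.card_eq_fintype_card,
            ← Nat.card_eq_fintype_card, hn] at hcf
          have hle := (ρ u).sum_cycleType_le
          rw [hk, Multiset.sum_replicate, smul_eq_mul, ← Nat.card_eq_fintype_card, hn] at hle
          show Nat.card (Function.fixedPoints (ρ u)) + 4 * j = 10
          omega
      have hd := card_dvd_of_le (inf_le_left : K ≤ (P : Subgroup G))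
      rw [card_sylow_three h P, show (9 : ℕ) = 3 ^ 2 by norm_num] at hd
      obtain ⟨i, hi, e⟩ := (Nat.dvd_prime_pow (by norm_num)).1 hd
      rw [hFK, e] at hj
      refine Subgroup.card_eq_one.1 ?_
      rw [e]
      interval_cases i <;> omega
    intro r hr
    have hu' : u * u = 1 := hsq u (hu2 ▸ pow_orderOf_eq_one u)
    have hm := hnorm u hu r hr
    have hc1 : r * (u * r * u⁻¹) = 1 := by
      refine hc _ (mul_mem hr hm) ?_
      rw [inv_eq_of_mul_eq_one_right hu'] at hm ⊢
      calc u * (r * (u * r * u)) * u = u * r * u * r * (u * u) := by group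
        _ = u * r * u * r := by rw [hu', mul_one]
        _ = r * (u * r * u) := comm_sylow_three h P hm hr
    exact eq_inv_of_mul_eq_one_right hc1
  -- hence only one involution in `H`
  have huniq : ∀ u ∈ H, ∀ v ∈ H, orderOf u = 2 → orderOf v = 2 → u = v := by
    intro u hu v hv hu2 hv2
    have hu' : u * u = 1 := hsq u (hu2 ▸ pow_orderOf_eq_one u)
    have hw : ∀ r ∈ (P : Subgroup G), u * v * r * (u * v)⁻¹ = r := fun r hr => by
      calc u * v * r * (u * v)⁻¹ = u * (v * r * v⁻¹) * u⁻¹ := by group
        _ = r := by rw [hinv v hv hv2 r hr, hinv u hu hu2 _ (inv_mem hr), inv_inv]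
    have hwH : u * v ∈ H := mul_mem hu hv
    have h1 : u * v = 1 := by
      refine hinj ((Equiv.ext fun R => ?_).trans (map_one ρ).symm)
      show (u * v) • R = R
      by_cases hRP : R = P
      · rw [hRP]; exact ((hHmem _).1 hwH).1
      · obtain ⟨r, hr, rfl⟩ := htrans P Q R hQ hRP
        rw [← mul_smul, mul_inv_eq_iff_eq_mul.1 (hw r hr), mul_smul, ((hHmem _).1 hwH).2]
    rw [← inv_eq_of_mul_eq_one_right hu']
    exact inv_eq_of_mul_eq_one_right h1
  obtain ⟨z', hz'⟩ := exists_prime_orderOf_dvd_card' (G := H) 2 (by rw [hHc]; norm_num)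
  set z : G := (z' : G) with hzdef
  have hzH : z ∈ H := z'.2
  have hz : orderOf z = 2 := by rw [hzdef, orderOf_coe, hz']
  -- the fixed points of `z`
  have hzfix : ∀ R : Sylow 3 G, z • R = R → R = P ∨ R = Q := by
    intro R hR
    by_cases hRP : R = P
    · exact Or.inl hRP
    obtain ⟨r, hr, rfl⟩ := htrans P Q R hQ hRP
    right
    have h1 := hfixP z hzH r hr hR
    rw [hinv z hzH hz r hr] at h1
    have h2 : r ^ 2 = 1 := by rw [sq]; nth_rw 1 [← h1]; exact inv_mul_cancel r
    have h3 : r ^ 9 = 1 := by
      rw [← card_sylow_three h P]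
      exact congrArg Subtype.val (pow_card_eq_one' (x := (⟨r, hr⟩ : (P : Subgroup G))))
    rw [show 9 = 2 * 4 + 1 by norm_num, pow_succ, pow_mul, h2, one_pow, one_mul] at h3
    rw [h3, one_smul]
  -- `H` has exponent four
  have hexp : ∀ x ∈ H, x ≠ 1 → x ≠ z → x * x = z := by
    intro x hx hx1 hxz
    have hd := Subgroup.orderOf_dvd_natCard H hx
    rw [hHc, show (8 : ℕ) = 2 ^ 3 by norm_num] at hd
    obtain ⟨i, hi, e⟩ := (Nat.dvd_prime_pow Nat.prime_two).1 hd
    have hi0 : i ≠ 0 := by
      rintro rfl
      exact hx1 (orderOf_eq_one_iff.1 (by simpa using e))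
    have hi1 : i ≠ 1 := by
      rintro rfl
      exact hxz (huniq x hx z hzH (by simpa using e) hz)
    have hi3 : i ≠ 3 := by
      rintro rfl
      have hx4 : x ^ 4 = z := huniq _ (pow_mem hx 4) z hzH
        (by rw [orderOf_pow, e]; norm_num) hz
      have hsupp : (ρ x).support.card ≤ 8 := by
        have hdisj : (ρ x).support ⊆ (Finset.univ : Finset (Sylow 3 G)) \ {P, Q} := by
          intro R hR
          simp only [Finset.mem_sdiff, Finset.mem_univ, Finset.mem_insert, Finset.mem_singleton,
            true_and]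
          rintro (rfl | rfl)
          · exact Equiv.Perm.mem_support.1 hR ((hHmem x).1 hx).1
          · exact Equiv.Perm.mem_support.1 hR ((hHmem x).1 hx).2
        refine (Finset.card_le_card hdisj).trans ?_
        rw [Finset.card_sdiff, Finset.inter_univ, Finset.card_univ, ← Nat.card_eq_fintype_card, hn,
          Finset.card_pair (Ne.symm hQ)]
      have := sign_eq_neg_one (σ := ρ x) (by rw [orderOf_injective ρ hinj, e]; norm_num) hsupp
      rw [hsign x] at this
      exact absurd this (by decide)
    obtain rfl : i = 2 := by omega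
    rw [← sq]
    exact huniq _ (pow_mem hx 2) z hzH (by rw [orderOf_pow, e]; norm_num) hz
  have hz2 : z * z = 1 := hsq z (hz ▸ pow_orderOf_eq_one z)
  have hz1 : z ≠ 1 := fun e => by rw [e, orderOf_one] at hz; omega
  have hzc : ∀ x ∈ H, z * x = x * z := by
    intro x hx
    by_cases hx1 : x = 1
    · simp [hx1]
    by_cases hxz : x = z
    · rw [hxz]
    rw [← hexp x hx hx1 hxz, mul_assoc]
  -- an involution `w` interchanging the two points
  obtain ⟨w, hw2, hwP, hwQ, hwz⟩ : ∃ w : G, orderOf w = 2 ∧ w • P = Q ∧ w • Q = P ∧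
      ∃ g : G, w = g * z * g⁻¹ := by
    obtain ⟨R, hR⟩ : ∃ R : Sylow 3 G, z • R ≠ R := by
      by_contra! hall
      exact hz1 (hinj ((Equiv.ext fun R => hall R).trans (map_one ρ).symm))
    obtain ⟨g, hg1, hg2⟩ := h2trans R (z • R) P Q (Ne.symm hR) (Ne.symm hQ)
    refine ⟨g * z * g⁻¹, ?_, ?_, ?_, g, rfl⟩
    · rw [show g * z * g⁻¹ = MulAut.conj g z by simp, MulEquiv.orderOf_eq, hz]
    · rw [mul_smul, mul_smul, show g⁻¹ • P = R from inv_smul_eq_iff.2 hg1.symm, hg2]
    · rw [mul_smul, mul_smul, show g⁻¹ • Q = z • R from inv_smul_eq_iff.2 hg2.symm, ← mul_smul z z,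
        hz2, one_smul, hg1]
  have hwi : w⁻¹ = w := inv_eq_of_mul_eq_one_right (hsq w (hw2 ▸ pow_orderOf_eq_one w))
  have hww : w * w = 1 := hsq w (hw2 ▸ pow_orderOf_eq_one w)
  have hwH : ∀ x ∈ H, w * x * w ∈ H := fun x hx => (hHmem _).2
    ⟨by rw [mul_smul, mul_smul, hwP, ((hHmem x).1 hx).2, hwQ],
      by rw [mul_smul, mul_smul, hwQ, ((hHmem x).1 hx).1, hwP]⟩
  have hwnH : w ∉ H := fun hh => hQ (by rw [← hwP, ((hHmem w).1 hh).1])
  have hwzw : w * z * w = z := huniq _ (hwH z hzH) z hzH (by
    nth_rw 2 [← hwi]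
    rw [show w * z * w⁻¹ = MulAut.conj w z by simp, MulEquiv.orderOf_eq, hz]) hz
  -- the fixed points of `w` are moved by `z`
  have hwzfix : ∀ R : Sylow 3 G, w • R = R → z • R ≠ R := fun R hR hzR => by
    rcases hzfix R hzR with rfl | rfl
    · exact hQ (hwP.symm.trans hR)
    · exact hQ (hR.symm.trans hwQ)
  -- `w` commutes only with `⟨z⟩` in `H`
  have hwcent : ∀ x ∈ H, w * x * w = x → x = 1 ∨ x = z := by
    intro x hx hxw
    by_contra! hne
    obtain ⟨g, hg⟩ := hwz
    have hcomm : w * x = x * w := by
      calc w * x = w * x * w * w := by rw [mul_assoc (w * x), hww, mul_one]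
        _ = x * w := by rw [hxw]
    have hfixw : ∀ R : Sylow 3 G, w • R = R → R = g • P ∨ R = g • Q := fun R hR => by
      have h1 : z • (g⁻¹ • R) = g⁻¹ • R := by
        have h2 : g⁻¹ • (w • R) = g⁻¹ • R := by rw [hR]
        rw [hg, ← mul_smul] at h2
        simpa [mul_assoc, mul_smul] using h2
      rcases hzfix _ h1 with e | e
      · exact Or.inl (inv_smul_eq_iff.1 e)
      · exact Or.inr (inv_smul_eq_iff.1 e)
    have hgP : w • (g • P) = g • P := by
      rw [hg, mul_smul, mul_smul, inv_smul_smul, ((hHmem z).1 hzH).1]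
    have hgQ : w • (g • Q) = g • Q := by
      rw [hg, mul_smul, mul_smul, inv_smul_smul, ((hHmem z).1 hzH).2]
    have hx1 : x • (g • P) = g • P ∨ x • (g • P) = g • Q := hfixw _ (by
      rw [← mul_smul, hcomm, mul_smul, hgP])
    have hx2 : x • (g • Q) = g • P ∨ x • (g • Q) = g • Q := hfixw _ (by
      rw [← mul_smul, hcomm, mul_smul, hgQ])
    refine hwzfix _ hgP ?_
    rw [← hexp x hx hne.1 hne.2, mul_smul]
    rcases hx1 with e | e
    · rw [e, e]
    · rcases hx2 with e' | e'
      · rw [e, e']
      · exact absurd (smul_left_cancel x (e.trans e'.symm)) (fun e => hQ (smul_left_cancel g e).symm)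
  -- the group `H` is a quaternion group
  have hanti : ∀ a ∈ H, ∀ b ∈ H, a * a = z → b * b = z → a * b ≠ 1 → a * b ≠ z →
      b * a = z * (a * b) := by
    intro a ha b hb haa hbb h1 h2
    have h3 := hexp (a * b) (mul_mem ha hb) h1 h2
    calc b * a = (b * b) * (a * a) * (b * a) := by rw [haa, hbb, hz2, one_mul]
      _ = z * (z * (b * a)) := by rw [haa, hbb, mul_assoc]
      _ = z * (a * b) := by
        congr 1
        have h4 : (a * b)⁻¹ = z * (a * b) := by
          refine inv_eq_of_mul_eq_one_right ?_
          rw [← mul_assoc, ← hzc _ (mul_mem ha hb), mul_assoc, h3, hz2]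
        have h5 : b * a = (a⁻¹ * b⁻¹)⁻¹ := by group
        have h6 : a⁻¹ = z * a := by
          refine inv_eq_of_mul_eq_one_right ?_
          rw [← mul_assoc, ← hzc a ha, mul_assoc, haa, hz2]
        have h7 : b⁻¹ = z * b := by
          refine inv_eq_of_mul_eq_one_right ?_
          rw [← mul_assoc, ← hzc b hb, mul_assoc, hbb, hz2]
        rw [h5, h6, h7, show z * a * (z * b) = z * (a * z) * b by group, ← hzc a ha, ← mul_assoc z z a,
          hz2, one_mul, h4, ← mul_assoc, hz2, one_mul]
  -- a cyclic subgroup of order four inverted by `w`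
  obtain ⟨c, hcH, hcc, hwc⟩ : ∃ c ∈ H, c * c = z ∧ w * c * w = z * c := by
    obtain ⟨a, haH, ha1, haz⟩ : ∃ a ∈ H, a ≠ 1 ∧ a ≠ z := by
      by_contra! hall
      have : (H : Set G) ⊆ {1, z} := fun x hx => by
        by_cases hx1 : x = 1
        · exact Or.inl hx1
        · exact Or.inr (hall x hx hx1)
      have := (Nat.card_mono (Set.toFinite _) this).trans_eq
        ((Nat.card_coe_set_eq _).trans (Set.ncard_pair (Ne.symm hz1)))
      rw [SetLike.coe_sort_coe, hHc] at this
      omega
    have haa := hexp a haH ha1 haz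
    set b := w * a * w with hb
    have hbH : b ∈ H := hwH a haH
    have hbb : b * b = z := by
      calc b * b = w * a * (w * w) * a * w := by rw [hb]; group
        _ = w * (a * a) * w := by rw [hww, mul_one, mul_assoc w a a]
        _ = z := by rw [haa, hwzw]
    by_cases hba : b = z * a
    · exact ⟨a, haH, haa, hba⟩
    have hba' : b ≠ a := fun e => by
      rcases hwcent a haH e with e | e
      · exact ha1 e
      · exact haz e
    have hab1 : a * b ≠ 1 := fun e => hba (by
      rw [← inv_eq_of_mul_eq_one_right e]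
      refine inv_eq_of_mul_eq_one_right ?_
      rw [← mul_assoc, ← hzc a haH, mul_assoc, haa, hz2])
    have habz : a * b ≠ z := fun e => hba' (mul_left_cancel (e.trans haa.symm))
    refine ⟨a * b, mul_mem haH hbH, hexp _ (mul_mem haH hbH) hab1 habz, ?_⟩
    rw [← hanti a haH b hbH haa hbb hab1 habz]
    calc w * (a * b) * w = w * a * w * (w * b * w) := by
          rw [show w * (a * b) * w = w * a * (b * w) by group,
            show w * a * w * (w * b * w) = w * a * (w * w) * (b * w) by group, hww, mul_one]
      _ = b * a := by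
          rw [← hb]
          congr 1
          rw [hb, show w * (w * a * w) * w = (w * w) * a * (w * w) by group, hww, one_mul, mul_one]
  have hc1 : c ≠ 1 := fun e => hz1 (by rw [← hcc, e, one_mul])
  have hcz : c ≠ z := fun e => hz1 (by rw [← hcc, e, hz2])
  -- membership in the cyclic group
  have hC : ∀ x, x ∈ zpowers c ↔ x = 1 ∨ x = c ∨ x = z ∨ x = z * c := by
    intro x
    constructor
    · intro hx
      obtain ⟨i, rfl⟩ := mem_zpowers_iff.1 hx
      have hc4 : c ^ (4 : ℤ) = 1 := by
        rw [show (4 : ℤ) = ((2 * 2 : ℕ) : ℤ) by norm_num, zpow_natCast, pow_mul, sq c, hcc, sq, hz2]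
      rw [show i = 4 * (i / 4) + i % 4 by omega, zpow_add, zpow_mul, hc4, one_zpow, one_mul]
      have h0 := Int.emod_nonneg i (b := 4) (by norm_num)
      have h1 := Int.emod_lt_of_pos i (b := 4) (by norm_num)
      have hcases : i % 4 = 0 ∨ i % 4 = 1 ∨ i % 4 = 2 ∨ i % 4 = 3 := by omega
      rcases hcases with e | e | e | e <;> rw [e]
      · exact Or.inl (zpow_zero c)
      · exact Or.inr (Or.inl (zpow_one c))
      · exact Or.inr (Or.inr (Or.inl (by rw [zpow_two, hcc])))
      · exact Or.inr (Or.inr (Or.inr (by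
          rw [show (3 : ℤ) = 2 + 1 by norm_num, zpow_add, zpow_two, hcc, zpow_one])))
    · rintro (rfl | rfl | rfl | rfl)
      · exact one_mem _
      · exact mem_zpowers _
      · rw [← hcc]; exact mul_mem (mem_zpowers c) (mem_zpowers c)
      · rw [← hcc]; exact mul_mem (mul_mem (mem_zpowers c) (mem_zpowers c)) (mem_zpowers c)
  have hCH : zpowers c ≤ H := zpowers_le.2 hcH
  have hzC : z ∈ zpowers c := (hC z).2 (Or.inr (Or.inr (Or.inl rfl)))
  -- conjugation by `w` and by `H` preserves the cyclic group
  have hwC : ∀ x ∈ zpowers c, w * x * w ∈ zpowers c := by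
    intro x hx
    rcases (hC x).1 hx with rfl | rfl | rfl | rfl
    · rw [mul_one, hww]; exact one_mem _
    · rw [hwc]; exact (hC _).2 (Or.inr (Or.inr (Or.inr rfl)))
    · rw [hwzw]; exact hzC
    · rw [show w * (z * c) * w = w * z * (c * w) by group,
        show w * z * (c * w) = w * z * w * (w⁻¹ * c * w) by group, hwi, hwzw, hwc, ← mul_assoc, hz2, one_mul]
      exact mem_zpowers c
  have hHC : ∀ x ∈ H, x * c * x⁻¹ ∈ zpowers c := by
    intro x hx
    by_cases hxC : x ∈ zpowers c
    · exact mul_mem (mul_mem hxC (mem_zpowers c)) (inv_mem hxC)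
    have hx1 : x ≠ 1 := fun e => hxC (e ▸ one_mem _)
    have hxz : x ≠ z := fun e => hxC (e ▸ hzC)
    have h1 : c * x ≠ 1 := fun e => hxC (inv_eq_of_mul_eq_one_right e ▸ inv_mem (mem_zpowers c))
    have h2 : c * x ≠ z := fun e => hxC (by
      rw [show x = c⁻¹ * z by rw [← e, inv_mul_cancel_left]]
      exact mul_mem (inv_mem (mem_zpowers c)) hzC)
    rw [hanti c hcH x hx hcc (hexp x hx hx1 hxz) h1 h2,
      show z * (c * x) * x⁻¹ = z * c by group]
    exact (hC _).2 (Or.inr (Or.inr (Or.inr rfl)))
  -- the Sylow 2-subgroup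
  let T₀ : Subgroup G :=
    { carrier := {g | g ∈ H ∨ w * g ∈ H}
      one_mem' := Or.inl (one_mem H)
      mul_mem' := by
        rintro a b (ha | ha) (hb | hb)
        · exact Or.inl (mul_mem ha hb)
        · right
          have := mul_mem (hwH a ha) hb
          rwa [show w * a * w * (w * b) = w * a * (w * w) * b by group, hww, mul_one, mul_assoc] at this
        · right
          have := mul_mem ha hb
          rwa [mul_assoc] at this
        · left
          have := mul_mem (hwH _ ha) hb
          rwa [show w * (w * a) * w * (w * b) = (w * w) * a * (w * w) * b by group, hww, one_mul,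
            mul_one] at this
      inv_mem' := by
        rintro a (ha | ha)
        · exact Or.inl (inv_mem ha)
        · right
          have := hwH _ (inv_mem ha)
          rwa [mul_inv_rev, hwi, show w * (a⁻¹ * w) * w = w * a⁻¹ * (w * w) by group, hww, mul_one] at this }
  have hTmem : ∀ g, g ∈ T₀ ↔ g ∈ H ∨ w * g ∈ H := fun g => Iff.rfl
  have hHT : H ≤ T₀ := fun g hg => Or.inl hg
  have hT16 : Nat.card T₀ = 16 := by
    have hi : (H.subgroupOf T₀).index = 2 := by
      rw [index_eq_two_iff]
      refine ⟨⟨w, Or.inr (by rw [hww]; exact one_mem H)⟩, fun b => ?_⟩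
      simp only [mem_subgroupOf, coe_mul]
      rcases b.2 with hb | hb
      · refine Or.inr ⟨hb, fun hh => hwnH ?_⟩
        have := mul_mem (inv_mem hb) hh
        rwa [inv_mul_cancel_left] at this
      · refine Or.inl ⟨?_, fun hh => hwnH ?_⟩
        · have := hwH _ hb
          rwa [← mul_assoc, hww, one_mul] at this
        · have := mul_mem hb (inv_mem hh)
          rwa [mul_inv_cancel_right] at this
    have := (H.subgroupOf T₀).card_mul_index
    rw [hi, Nat.card_congr (subgroupOfEquivOfLe hHT).toEquiv, hHc] at this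
    omega
  let T : Sylow 2 G := Sylow.ofCard T₀ (by
    rw [hT16, h, show (720 : ℕ) = 2 ^ 4 * 45 by norm_num, Nat.factorization_mul (by norm_num)
      (by norm_num), Finsupp.add_apply, Nat.prime_two.factorization_pow, Finsupp.single_eq_same,
      Nat.factorization_eq_zero_of_not_dvd (by norm_num : ¬ 2 ∣ 45)]
    norm_num)
  have hTcoe : ∀ g, g ∈ T ↔ g ∈ H ∨ w * g ∈ H := fun g => Iff.rfl
  -- the index-two subgroup
  let M : Subgroup G :=
    { carrier := {g | g ∈ zpowers c ∨ w * g ∈ zpowers c}
      one_mem' := Or.inl (one_mem _)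
      mul_mem' := by
        rintro a b (ha | ha) (hb | hb)
        · exact Or.inl (mul_mem ha hb)
        · right
          have := mul_mem (hwC a ha) hb
          rwa [show w * a * w * (w * b) = w * a * (w * w) * b by group, hww, mul_one, mul_assoc] at this
        · right
          have := mul_mem ha hb
          rwa [mul_assoc] at this
        · left
          have := mul_mem (hwC _ ha) hb
          rwa [show w * (w * a) * w * (w * b) = (w * w) * a * (w * w) * b by group, hww, one_mul,
            mul_one] at this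
      inv_mem' := by
        rintro a (ha | ha)
        · exact Or.inl (inv_mem ha)
        · right
          have := hwC _ (inv_mem ha)
          rwa [mul_inv_rev, hwi, show w * (a⁻¹ * w) * w = w * a⁻¹ * (w * w) by group, hww, mul_one] at this }
  have hMmem : ∀ g, g ∈ M ↔ g ∈ zpowers c ∨ w * g ∈ zpowers c := fun g => Iff.rfl
  have hMH : ∀ x ∈ H, x ∈ M → x ∈ zpowers c := by
    rintro x hx (hxM | hxM)
    · exact hxM
    · refine absurd ?_ hwnH
      have := mul_mem (hCH hxM) (inv_mem hx)
      rwa [mul_inv_cancel_right] at this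
  obtain ⟨x, hxH, hxC⟩ : ∃ x ∈ H, x ∉ zpowers c := by
    by_contra! hh
    have := card_dvd_of_le (show H ≤ zpowers c from hh)
    have hco : orderOf c ∣ 4 := orderOf_dvd_of_pow_eq_one (by
      rw [show 4 = 2 * 2 by norm_num, pow_mul, sq c, hcc, sq, hz2])
    rw [hHc, Nat.card_zpowers] at this
    exact absurd (Nat.le_of_dvd (by norm_num) (this.trans hco)) (by norm_num)
  have hCx : ∀ b ∈ H, b ∉ zpowers c → b * x ∈ zpowers c := by
    intro b hb hbC
    have hi : ((zpowers c).subgroupOf H).index = 2 := by
      have := ((zpowers c).subgroupOf H).card_mul_index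
      have hco : orderOf c = 4 := by
        rw [show 4 = 2 ^ (1 + 1) by norm_num]
        refine orderOf_eq_prime_pow ?_ ?_
        · rw [pow_one, sq, hcc]; exact hz1
        · rw [show 2 ^ (1 + 1) = 2 * 2 by norm_num, pow_mul, sq c, hcc, sq, hz2]
      rw [Nat.card_congr (subgroupOfEquivOfLe hCH).toEquiv, Nat.card_zpowers, hHc, hco] at this
      omega
    exact (Subgroup.mul_mem_iff_of_index_two hi (a := (⟨b, hb⟩ : H)) (b := ⟨x, hxH⟩)).2
      (by simp [mem_subgroupOf, hbC, hxC])
  have hrel : M.relIndex (T : Subgroup G) = 2 := by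
    show (M.subgroupOf (T : Subgroup G)).index = 2
    rw [index_eq_two_iff]
    refine ⟨⟨x, (hTcoe x).2 (Or.inl hxH)⟩, fun b => ?_⟩
    simp only [mem_subgroupOf, coe_mul]
    rcases (hTcoe b).1 b.2 with hb | hb
    · by_cases hbC : (b : G) ∈ zpowers c
      · refine Or.inr ⟨Or.inl hbC, fun hh => hxC ?_⟩
        have := mul_mem (inv_mem hbC) (hMH _ (mul_mem hb hxH) hh)
        rwa [inv_mul_cancel_left] at this
      · exact Or.inl ⟨Or.inl (hCx b hb hbC), fun hh => hbC (hMH _ hb hh)⟩
    · have hkey : ∀ y : G, w * y ∈ H → (y ∈ M ↔ w * y ∈ zpowers c) := by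
        refine fun y hy => ⟨?_, fun h' => Or.inr h'⟩
        rintro (hyM | hyM)
        · refine absurd ?_ hwnH
          have := mul_mem hy (inv_mem (hCH hyM))
          rwa [mul_inv_cancel_right] at this
        · exact hyM
      rw [hkey _ (by rw [← mul_assoc]; exact mul_mem hb hxH), hkey _ hb, ← mul_assoc]
      by_cases hbC : w * (b : G) ∈ zpowers c
      · refine Or.inr ⟨hbC, fun hh => hxC ?_⟩
        have := mul_mem (inv_mem hbC) hh
        rwa [inv_mul_cancel_left] at this
      · exact Or.inl ⟨hCx _ hb hbC, hbC⟩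
  have hx1 : x ≠ 1 := fun e => hxC (e ▸ one_mem _)
  have hxz : x ≠ z := fun e => hxC (e ▸ hzC)
  have hxx := hexp x hxH hx1 hxz
  obtain ⟨N, hN, hNi, hxN⟩ := TwoTransfer.exists_index_two T M hrel x ((hTcoe x).2 (Or.inl hxH))
    (fun k g hk hgT => by
      rcases Nat.lt_or_ge k 2 with hk2 | hk2
      · obtain rfl : k = 1 := by omega
        rw [pow_one, sq, hxx] at hgT ⊢
        rcases (hTcoe _).1 hgT with hH' | hH'
        · exact Or.inl (by
            rw [huniq _ hH' z hzH (by
              rw [show g⁻¹ * z * g = MulAut.conj g⁻¹ z by simp, MulEquiv.orderOf_eq, hz]) hz]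
            exact hzC)
        · -- a conjugate of `z` outside `H`
          set v := g⁻¹ * z * g with hv
          refine Or.inr ?_
          have hvv : v * v = 1 := by
            rw [hv, show g⁻¹ * z * g * (g⁻¹ * z * g) = g⁻¹ * (z * z) * g by group, hz2, mul_one,
              inv_mul_cancel]
          by_contra hwv
          set y := w * v with hy
          have hyy : y * y = z := hexp y hH' (fun e => hwv (e ▸ one_mem _)) (fun e => hwv (e ▸ hzC))
          -- `w` inverts `y`
          have hwy : w * y * w = z * y := by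
            have h1 : w * y * w * y = 1 := by
              rw [hy, show w * (w * v) * w * (w * v) = (w * w) * v * (w * w) * v by group, hww, one_mul,
                mul_one, hvv]
            rw [eq_inv_of_mul_eq_one_left h1]
            refine inv_eq_of_mul_eq_one_right ?_
            rw [← mul_assoc, ← hzc y hH', mul_assoc, hyy, hz2]
          have hcy1 : c * y ≠ 1 := fun e => hwv (inv_eq_of_mul_eq_one_right e ▸ inv_mem (mem_zpowers c))
          have hcyz : c * y ≠ z := fun e => hwv (by
            rw [show y = c⁻¹ * z by rw [← e, inv_mul_cancel_left]]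
            exact mul_mem (inv_mem (mem_zpowers c)) hzC)
          have hfixed : w * (c * y) * w = c * y := by
            calc w * (c * y) * w = w * c * (w * w) * y * w := by rw [hww, mul_one]; group
              _ = (w * c * w) * (w * y * w) := by group
              _ = z * c * (z * y) := by rw [hwc, hwy]
              _ = z * (c * z) * y := by group
              _ = c * y := by rw [← hzc c hcH, ← mul_assoc z z c, hz2, one_mul]
          rcases hwcent _ (mul_mem hcH hH') hfixed with e | e
          · exact hcy1 e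
          · exact hcyz e
      · have : x ^ (2 ^ k) = 1 := by
          obtain ⟨j, rfl⟩ := Nat.exists_eq_add_of_le hk2
          rw [pow_add, pow_mul, show x ^ (2 ^ 2) = (x * x) * (x * x) by rw [← pow_two, ← pow_two, ← pow_mul]; norm_num, hxx, hz2, one_pow]
        rw [this, mul_one, inv_mul_cancel]
        exact one_mem _)
    (fun g hgT hgM => by
      set y := g⁻¹ * x * g with hy
      have hyy : y * y = g⁻¹ * z * g := by
        rw [hy, show g⁻¹ * x * g * (g⁻¹ * x * g) = g⁻¹ * (x * x) * g by group, hxx]
      have hyfix : ∀ R : Sylow 3 G, x • R = R → y • (g⁻¹ • R) = g⁻¹ • R := fun R hR => by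
        rw [hy, mul_smul, mul_smul, smul_inv_smul, hR]
      have hyord : y ≠ 1 ∧ y * y ≠ 1 := by
        constructor
        · intro e
          exact hx1 (conj_eq_one_iff.1 (by rw [inv_inv]; exact e : g⁻¹ * x * g⁻¹⁻¹ = 1))
        · rw [hyy]
          intro e
          exact hz1 (conj_eq_one_iff.1 (by rw [inv_inv]; exact e : g⁻¹ * z * g⁻¹⁻¹ = 1))
      have hyP := hyfix P ((hHmem x).1 hxH).1
      have hyQ := hyfix Q ((hHmem x).1 hxH).2
      -- `y` lies in `H`
      have hyH : y ∈ H := by
        rcases (hTcoe y).1 hgT with hh | hh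
        · exact hh
        exfalso
        have h1 := (hHmem _).1 hh
        have hyPQ : y • P = Q := by
          calc y • P = (w * w * y) • P := by rw [hww, one_mul]
            _ = w • ((w * y) • P) := by rw [mul_assoc, mul_smul]
            _ = Q := by rw [h1.1, hwP]
        have hyQP : y • Q = P := by
          calc y • Q = (w * w * y) • Q := by rw [hww, one_mul]
            _ = w • ((w * y) • Q) := by rw [mul_assoc, mul_smul]
            _ = P := by rw [h1.2, hwQ]
        have hyyH : y * y ∈ H := (hHmem _).2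
          ⟨by rw [mul_smul, hyPQ, hyQP], by rw [mul_smul, hyQP, hyPQ]⟩
        have hyyz : y * y = z := huniq _ hyyH z hzH (by
          rw [hyy, show g⁻¹ * z * g = MulAut.conj g⁻¹ z by simp, MulEquiv.orderOf_eq, hz]) hz
        rcases hzfix (g⁻¹ • P) (by rw [← hyyz, mul_smul, hyP, hyP]) with e | e
        · rw [e, hyPQ] at hyP; exact hQ hyP
        · rw [e, hyQP] at hyP; exact hQ hyP.symm
      -- `g` preserves the pair, hence lies in the Sylow subgroup
      have hgz : g⁻¹ * z * g = z := by
        rw [← hyy]
        exact hexp y hyH hyord.1 fun e => hyord.2 (by rw [e, hz2])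
      have hgg : ∀ R, z • R = R → g⁻¹ • R = P ∨ g⁻¹ • R = Q := fun R hR => hzfix _ (by
        nth_rw 1 [← hgz]
        rw [mul_smul, mul_smul, smul_inv_smul, hR])
      have hgP := hgg P ((hHmem z).1 hzH).1
      have hgQ := hgg Q ((hHmem z).1 hzH).2
      have hne2 : g⁻¹ • P ≠ g⁻¹ • Q := fun e => hQ (smul_left_cancel g⁻¹ e).symm
      have hconj : ∀ q ∈ H, ∀ r ∈ zpowers c, q * r * q⁻¹ ∈ zpowers c := by
        intro q hq r hr
        obtain ⟨i, rfl⟩ := mem_zpowers_iff.1 hr
        rw [← conj_zpow]
        exact zpow_mem (hHC q hq) i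
      have hyC : y ∈ zpowers c := hMH y hyH hgM
      apply hxC
      have hxe : x = g * y * g⁻¹ := by rw [hy]; group
      rcases hgP with e1 | e1
      · have e2 : g⁻¹ • Q = Q := hgQ.resolve_left fun e => hne2 (e1.trans e.symm)
        have hgH : g ∈ H := (hHmem g).2
          ⟨(inv_smul_eq_iff.1 e1).symm, (inv_smul_eq_iff.1 e2).symm⟩
        exact hxe ▸ hconj g hgH y hyC
      · have e2 : g⁻¹ • Q = P := hgQ.resolve_right fun e => hne2 (e1.trans e.symm)
        have hgH : w * g ∈ H := (hHmem _).2
          ⟨by rw [mul_smul, (inv_smul_eq_iff.1 e2).symm, hwQ],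
            by rw [mul_smul, (inv_smul_eq_iff.1 e1).symm, hwP]⟩
        have h9 := hwC _ (hconj _ hgH y hyC)
        rwa [mul_inv_rev, hwi, show w * (w * g * y * (g⁻¹ * w)) * w = (w * w) * (g * y * g⁻¹) * (w * w) by group,
          hww, one_mul, mul_one, ← hxe] at h9)
  rcases hN.eq_bot_or_eq_top with rfl | rfl
  · rw [index_bot, h] at hNi; norm_num at hNi
  · exact hxN (mem_top x)

end

end Cfsg.Agent.SmallOrder.Order720
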