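import Cfsg.Agent.SmallOrder.Exceptional

/-!
# Orders excluded by exceptional characters
-/

set_option autoImplicit false

namespace Cfsg.Agent.SmallOrder

open Subgroup

universe u

variable {G : Type u} [Group G]

theorem linear_trivial [IsSimpleGroup G] (hna : ¬ IsMulCommutative G) (χ : IrrCharacter G)
    (h : (χ : G → ℂ) 1 = 1) : (χ : G → ℂ) = fun _ => 1 := by
  obtain ⟨f, hf⟩ := Char.IsChar.exists_hom (Char.IsIrr.isCharacter χ.2) h
  rcases (Subgroup.Normal.eq_bot_or_eq_top (H := f.ker) inferInstance) with h0 | h0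
  · exact absurd ⟨⟨fun a b => (MonoidHom.ker_eq_bot_iff f).1 h0 (by rw [map_mul, map_mul, mul_comm])⟩⟩ hna
  · rw [hf]
    funext g
    rw [MonoidHom.mem_ker.1 (h0 ▸ Subgroup.mem_top g : g ∈ f.ker), Units.val_one]

/-- No simple group has a Sylow subgroup of order `p` with `p e` the order of its normaliser, when
the degree equation has no solution. -/
theorem not_card_of_degrees [Finite G] [IsSimpleGroup G] (hna : ¬ IsMulCommutative G) {p m n e : ℕ}
    [hp : Fact p.Prime] (hG : Nat.card G = p * m) (hm : ¬ p ∣ m) (hn : Nat.card (Sylow p G) = n)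
    (hne : n * e = m) (he : e.Prime) (he3 : e ≤ 3) (hbig : e * e < p - 1)
    (h : ∀ a ∈ (Nat.card G).divisors, a ≠ 1 → ∀ s ∈ [(1 : ℤ), -1], (s * a - 1) % (p : ℤ) = 0 →
      ∀ b ∈ (Nat.card G).divisors, b ≠ 1 → ∀ t ∈ [(1 : ℤ), -1], (t * b - 1) % (p : ℤ) = 0 →
      ¬ ((if e = 2 then (1 + s * a) else (1 + s * a + t * b)).natAbs ∣ Nat.card G ∧
        (if e = 2 then (1 + s * a) else (1 + s * a + t * b)).natAbs ≠ 1)) : False := by
  have := Fintype.ofFinite G
  obtain ⟨P⟩ : Nonempty (Sylow p G) := Sylow.nonempty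
  have hP : Nat.card (P : Subgroup G) = p := by
    rw [card_sylow_eq_pow (a := 1) (by rw [pow_one]; exact hG) hm P, pow_one]
  have hcyc := isCyclic_of_prime_card hP
  have hmul := card_sylow_mul_card_normalizer P
  have hn0 : n ≠ 0 := hn ▸ Nat.card_pos.ne'
  have hN : Nat.card (normalizer ((P : Subgroup G) : Set G)) = p * e := by
    rw [hn, hG, ← hne] at hmul
    exact Nat.eq_of_mul_eq_mul_left (Nat.pos_of_ne_zero hn0) (by rw [hmul]; ring)
  obtain ⟨f, hf, hNc, hf1⟩ := exists_normalizer_index (P : Subgroup G)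
  have hf1' : f ≠ 1 := fun hh => not_normalizer_le_centralizer hna
    (hG ▸ dvd_mul_right p m) P (hf1 hh)
  obtain ⟨c, hc⟩ : p ∣ Nat.card (centralizer ((P : Subgroup G) : Set G)) := by
    conv_lhs => rw [← hP]
    exact card_dvd_of_le (P : Subgroup G).le_centralizer
  have hce : c * f = e := by
    rw [hN, hc, mul_assoc] at hNc
    exact (Nat.eq_of_mul_eq_mul_left hp.out.pos hNc).symm
  have hc1 : c = 1 := by
    rcases (Nat.dvd_prime he).1 (hce ▸ dvd_mul_left f c) with hh | hh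
    · exact absurd hh hf1'
    · subst hh
      exact Nat.eq_of_mul_eq_mul_right he.pos (by rw [hce, one_mul])
  obtain ⟨D, hD, hd1, hd2⟩ := exceptional_degrees hP (by rw [hc, hc1, mul_one]) hN he.two_le he3
    hbig (linear_trivial hna)
  have hsplit : ∀ i, ∃ a ∈ (Nat.card G).divisors, a ≠ 1 ∧ ∃ s : ℤ, s ∈ [(1 : ℤ), -1] ∧
      (s * a - 1) % (p : ℤ) = 0 ∧ D i = s * a := by
    intro i
    obtain ⟨h1, h2, h3⟩ := hD i
    refine ⟨(D i).natAbs, Nat.mem_divisors.2 ⟨h2, Nat.card_pos.ne'⟩, h3, ?_⟩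
    rcases Int.natAbs_eq (D i) with e1 | e1
    · refine ⟨1, by simp, ?_, by rw [one_mul]; exact e1⟩
      rw [one_mul, ← e1]; exact Int.emod_eq_zero_of_dvd h1.symm.dvd
    · refine ⟨-1, by simp, ?_, by rw [neg_one_mul]; exact e1⟩
      rw [neg_one_mul, ← e1]; exact Int.emod_eq_zero_of_dvd h1.symm.dvd
  have he23 : e = 2 ∨ e = 3 := by have := he.two_le; omega
  rcases he23 with rfl | rfl
  · obtain ⟨a, ha, ha1, s, hs, hsm, hDa⟩ := hsplit ⟨0, by norm_num⟩
    refine h a ha ha1 s hs hsm a ha ha1 s hs hsm ?_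
    rw [show ∑ i, D i = D ⟨0, by norm_num⟩ from Fin.sum_univ_one D, hDa] at hd1 hd2
    rw [if_pos rfl]
    exact ⟨hd1, hd2⟩
  · obtain ⟨a, ha, ha1, s, hs, hsm, hDa⟩ := hsplit ⟨0, by norm_num⟩
    obtain ⟨b, hb, hb1, t, ht, htm, hDb⟩ := hsplit ⟨1, by norm_num⟩
    refine h a ha ha1 s hs hsm b hb hb1 t ht htm ?_
    rw [show ∑ i, D i = D ⟨0, by norm_num⟩ + D ⟨1, by norm_num⟩ from Fin.sum_univ_two D, hDa, hDb,
      ← add_assoc] at hd1 hd2
    rw [if_neg (by norm_num)]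
    exact ⟨hd1, hd2⟩

end Cfsg.Agent.SmallOrder
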