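import Cfsg.Agent.SmallOrder.Klein168

/-!
# A local configuration: two Sylow 3-subgroups of order nine meeting in order three
-/

set_option autoImplicit false

namespace Cfsg.Agent.SmallOrder

open Subgroup

variable {G : Type*} [Group G] [Finite G]

/-- An element of prime order `q` normalising `H` centralises it when no proper divisor of `|H|` is
congruent to `|H|` mod `q`. -/
theorem mem_centralizer_of_order {H : Subgroup G} {q : ℕ} [hq : Fact q.Prime] {g : G}
    (hg : g ∈ normalizer (H : Set G)) (ho : orderOf g = q)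
    (hd : ∀ d, d ∣ Nat.card H → d ≡ Nat.card H [MOD q] → d = Nat.card H) :
    g ∈ centralizer (H : Set G) := by
  set σ := H.normalizerMonoidHom ⟨g, hg⟩ with hσdef
  by_cases hσ : σ = 1
  · have h1 : (⟨g, hg⟩ : normalizer (H : Set G)) ∈ H.normalizerMonoidHom.ker := hσ
    rwa [normalizerMonoidHom_ker, mem_subgroupOf] at h1
  exfalso
  have hσo : orderOf σ = q := by
    refine ((Nat.dvd_prime hq.out).1 ?_).resolve_left fun e => hσ (orderOf_eq_one_iff.1 e)
    rw [← ho, ← Subgroup.orderOf_mk g hg]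
    exact orderOf_map_dvd _ _
  have hmod := (IsPGroup.of_card (n := 1) (by rw [Nat.card_zpowers, hσo, pow_one]) :
    IsPGroup q (zpowers σ)).card_modEq_card_fixedPoints H
  let F : Subgroup H :=
    { carrier := {x | σ x = x}
      one_mem' := map_one σ
      mul_mem' := fun {a b} (ha : σ a = a) (hb : σ b = b) => by
        show σ (a * b) = a * b
        rw [map_mul, ha, hb]
      inv_mem' := fun {a} (ha : σ a = a) => by
        show σ a⁻¹ = a⁻¹
        rw [map_inv, ha] }
  have hF : MulAction.fixedPoints (zpowers σ) H = (F : Set H) := by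
    ext x
    refine ⟨fun h => h ⟨σ, mem_zpowers σ⟩, fun h => ?_⟩
    rintro ⟨a, ha⟩
    exact (zpowers_le.2 h : zpowers σ ≤ MulAction.stabilizer _ x) ha
  rw [hF] at hmod
  have hall : F = ⊤ := eq_top_of_card_eq F (hd _ F.card_subgroup_dvd_card hmod.symm)
  exact hσ (MulEquiv.ext fun x => (hall.symm ▸ mem_top x : x ∈ F))

theorem le_centralizer_of_le_abelian {p : ℕ} [Fact p.Prime] {P D : Subgroup G}
    (hP : Nat.card P = p ^ 2) (hD : D ≤ P) : P ≤ centralizer (D : Set G) := by
  have := IsPGroup.isMulCommutative_of_card_eq_prime_sq hP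
  exact P.le_centralizer.trans (centralizer_le hD)

theorem exists_normal_two_subgroup {C : Type*} [Group C] [Finite C] {D : Subgroup C}
    (hD : Nat.card D = 3) (hcent : D ≤ center C) (hC : Nat.card C = 36 ∨ Nat.card C = 72)
    [Fact (Nat.Prime 3)] (hn : 1 < Nat.card (Sylow 3 C)) :
    ∃ R : Subgroup C, R.Normal ∧ (Nat.card R = 8 ∨ (Nat.card R = 4 ∧
      ∀ P : Sylow 3 C, ¬ (P : Subgroup C) ≤ centralizer (R : Set C))) := by
  classical
  have h2 : Fact (Nat.Prime 2) := ⟨Nat.prime_two⟩
  have hG : ∃ m, (m = 4 ∨ m = 8) ∧ Nat.card C = 3 ^ 2 * m := by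
    rcases hC with h | h
    · exact ⟨4, Or.inl rfl, h⟩
    · exact ⟨8, Or.inr rfl, h⟩
  obtain ⟨m, hm, hCm⟩ := hG
  have hm3 : ¬ 3 ∣ m := by rcases hm with rfl | rfl <;> norm_num
  have hn4 : Nat.card (Sylow 3 C) = 4 := by
    have hd := card_sylow_dvd hCm hm3
    have hmod := card_sylow_mod (G := C) 3
    obtain ⟨n, hn'⟩ : ∃ n, Nat.card (Sylow 3 C) = n := ⟨_, rfl⟩
    rw [hn'] at hd hmod hn ⊢
    rcases hm with rfl | rfl <;> have := Nat.le_of_dvd (by norm_num) hd <;> interval_cases n <;> omega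
  let e : Sylow 3 C ≃ Fin 4 := (Finite.equivFin (Sylow 3 C)).trans (finCongr hn4)
  let φ : C →* Equiv.Perm (Fin 4) :=
    (e.permCongrHom : Equiv.Perm (Sylow 3 C) →* Equiv.Perm (Fin 4)).comp
      (MulAction.toPermHom C (Sylow 3 C))
  have hφ : ∀ c, φ c = 1 ↔ ∀ S : Sylow 3 C, c • S = S := by
    intro c
    show e.permCongrHom (MulAction.toPermHom C (Sylow 3 C) c) = 1 ↔ _
    rw [map_eq_one_iff _ e.permCongrHom.injective, Equiv.ext_iff]
    rfl
  -- the kernel is in every normaliser
  have hker : ∀ P : Sylow 3 C, φ.ker ≤ normalizer ((P : Subgroup C) : Set C) := fun P c hc =>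
    Sylow.smul_eq_iff_mem_normalizer.1 ((hφ c).1 hc P)
  have hDker : D ≤ φ.ker := fun d hd => by
    rw [MonoidHom.mem_ker, hφ]
    refine fun S => Sylow.smul_eq_iff_mem_normalizer.2 ?_
    show d ∈ normalizer ((S : Subgroup C) : Set C)
    exact mem_normalizer_iff.2 fun x => (by
      have hdx : d * x * d⁻¹ = x := by
        rw [← mem_center_iff.1 (hcent hd) x, mul_inv_cancel_right]
      rw [hdx])
  have hPnot : ∀ P : Sylow 3 C, ¬ (P : Subgroup C) ≤ φ.ker := by
    intro P hP
    have hall : ∀ Q : Sylow 3 C, Q = P := by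
      intro Q
      have h1 : (P : Subgroup C) ⊓ normalizer ((Q : Subgroup C) : Set C) = P :=
        inf_eq_left.2 (hP.trans (hker Q))
      have h2 : (P : Subgroup C) ⊓ normalizer ((Q : Subgroup C) : Set C) = (P : Subgroup C) ⊓ Q :=
        IsPGroup.inf_normalizer_sylow P.isPGroup' Q
      exact (Sylow.ext (P.is_maximal' Q.isPGroup' (inf_eq_left.1 (h2.symm.trans h1))).symm).symm
    have : Subsingleton (Sylow 3 C) := ⟨fun A B => (hall A).trans (hall B).symm⟩
    rw [Nat.card_eq_one_iff_unique.2 ⟨this, ⟨P⟩⟩] at hn4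
    omega
  -- the image contains the four-group
  have hrange : 12 ∣ Nat.card φ.range := by
    refine Nat.Coprime.mul_dvd_of_dvd_of_dvd (show Nat.Coprime 4 3 by norm_num) ?_ ?_
    · obtain ⟨P⟩ : Nonempty (Sylow 3 C) := Sylow.nonempty
      have h1 : (normalizer ((P : Subgroup C) : Set C)).index ∣ φ.ker.index :=
        index_dvd_of_le (hker P)
      rw [show (normalizer ((P : Subgroup C) : Set C)).index = 4 from
        P.card_eq_index_normalizer.symm.trans hn4, index_ker] at h1
      exact h1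
    · obtain ⟨P⟩ : Nonempty (Sylow 3 C) := Sylow.nonempty
      obtain ⟨x, hxP, hx⟩ := SetLike.not_le_iff_exists.1 (hPnot P)
      obtain ⟨k, hk⟩ := P.isPGroup' ⟨x, hxP⟩
      have hxk : x ^ 3 ^ k = 1 := congrArg Subtype.val hk
      have h1 : orderOf (φ x) ∣ 3 ^ k :=
        orderOf_dvd_of_pow_eq_one (by rw [← map_pow, hxk, map_one])
      obtain ⟨i, -, hi⟩ := (Nat.dvd_prime_pow (by norm_num : Nat.Prime 3)).1 h1
      have hi0 : i ≠ 0 := fun e0 => hx (orderOf_eq_one_iff.1 (by rw [hi, e0, pow_zero]))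
      exact (dvd_pow_self 3 hi0).trans (hi ▸ Subgroup.orderOf_dvd_natCard _ ⟨x, rfl⟩)
  have hKlein : s4Klein ≤ φ.range := by
    have hidx : φ.range.index = 1 ∨ φ.range.index = 2 := by
      have h1 := φ.range.card_mul_index
      rw [Nat.card_perm, Nat.card_fin, show Nat.factorial 4 = 24 from rfl] at h1
      obtain ⟨c, hc⟩ := hrange
      rw [hc] at h1
      have h2 : c * φ.range.index = 2 := by linarith
      exact (Nat.dvd_prime Nat.prime_two).1 (Dvd.intro_left c h2)
    intro σ hσ
    obtain ⟨τ, hτ⟩ := (show ∀ σ ∈ s4Elems, ∃ τ : Equiv.Perm (Fin 4), τ * τ = σ by decide +kernel) σ hσ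
    rcases hidx with h | h
    · rw [index_eq_one.1 h]; exact mem_top _
    · rw [← hτ]; exact mul_self_mem_of_index_two h τ
  -- its preimage
  set W := s4Klein.comap φ with hW
  have : W.Normal := by
    have := s4Klein_normal
    exact Subgroup.Normal.comap inferInstance φ
  have hDW : D ≤ W := fun d hd => by
    rw [hW, mem_comap, MonoidHom.mem_ker.1 (hDker hd)]
    exact one_mem _
  have hkW : φ.ker ≤ W := fun d hd => by
    rw [hW, mem_comap, MonoidHom.mem_ker.1 hd]
    exact one_mem _
  have hWc : Nat.card W = 4 * Nat.card φ.ker := by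
    have h1 := (φ.ker.subgroupOf W).card_mul_index
    rw [Nat.card_congr (subgroupOfEquivOfLe hkW).toEquiv] at h1
    have h2 : (φ.ker.subgroupOf W).index = 4 := by
      have h3 : φ.ker.subgroupOf W = (φ.comp W.subtype).ker := by
        ext x; simp [mem_subgroupOf]
      rw [h3, index_ker]
      have h4 : (φ.comp W.subtype).range = s4Klein := by
        rw [MonoidHom.range_comp, range_subtype, hW]
        exact map_comap_eq_self hKlein
      rw [h4]
      exact isKleinFour_s4Klein.card_four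
    rw [← h1, h2, mul_comm]
  have hkc : Nat.card φ.ker = 3 ∨ Nat.card φ.ker = 6 := by
    have h1 := φ.ker.card_mul_index
    rw [index_ker] at h1
    obtain ⟨c, hc⟩ := hrange
    rw [hc] at h1
    obtain ⟨j, hj⟩ := hD ▸ card_dvd_of_le hDker
    rw [hj] at h1 ⊢
    have hjc : j * c * 36 = Nat.card C := by rw [← h1]; ring
    rcases hC with h | h <;> rw [h] at hjc
    · have : j * c = 1 := by omega
      obtain rfl := Nat.eq_one_of_mul_eq_one_right this
      left; rfl
    · have : j * c = 2 := by omega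
      rcases (Nat.dvd_prime Nat.prime_two).1 (Dvd.intro c this) with rfl | rfl
      · left; rfl
      · right; rfl
  -- its Sylow 2-subgroup
  obtain ⟨S⟩ : Nonempty (Sylow 2 W) := Sylow.nonempty
  obtain ⟨a, ha, hWa⟩ : ∃ a, ((a = 2 ∧ Nat.card φ.ker = 3) ∨ (a = 3 ∧ Nat.card φ.ker = 6)) ∧
      Nat.card W = 2 ^ a * 3 := by
    rcases hkc with h | h
    · exact ⟨2, Or.inl ⟨rfl, h⟩, by rw [hWc, h]; norm_num⟩
    · exact ⟨3, Or.inr ⟨rfl, h⟩, by rw [hWc, h]; norm_num⟩
  have hSc : Nat.card (S : Subgroup W) = 2 ^ a := card_sylow_eq_pow hWa (by norm_num) S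
  have hSn : (S : Subgroup W).Normal := by
    refine normalizer_eq_top_iff.1 (eq_top_of_card_eq _ ?_)
    refine Nat.dvd_antisymm (card_subgroup_dvd_card _) ?_
    rw [hWa]
    refine Nat.Coprime.mul_dvd_of_dvd_of_dvd (Nat.Coprime.pow_left _ (by norm_num)) ?_ ?_
    · rw [← hSc]; exact card_dvd_of_le le_normalizer
    · have hle : D.subgroupOf W ≤ normalizer ((S : Subgroup W) : Set W) := by
        intro d hd
        rw [mem_normalizer_iff]
        intro x
        have : d * x * d⁻¹ = x := Subtype.ext (by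
          have hd' : (d : C) ∈ D := hd
          have hc := mem_center_iff.1 (hcent hd') (x : C)
          show (d : C) * x * (d : C)⁻¹ = x
          rw [← hc, mul_inv_cancel_right])
        rw [this]
      have h1 := card_dvd_of_le hle
      rwa [Nat.card_congr (subgroupOfEquivOfLe hDW).toEquiv, hD] at h1
  have : Subsingleton (Sylow 2 W) := ⟨fun A B => by
    obtain ⟨g, rfl⟩ := MulAction.exists_smul_eq W S A
    obtain ⟨g', rfl⟩ := MulAction.exists_smul_eq W S B
    rw [Sylow.smul_eq_of_normal, Sylow.smul_eq_of_normal]⟩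
  have := S.characteristic_of_normal hSn
  set R := (S : Subgroup W).map W.subtype with hR
  have hRn : R.Normal := by
    rw [hR]
    infer_instance
  have hRc : Nat.card R = 2 ^ a := by
    rw [hR, ← Nat.card_congr ((S : Subgroup W).equivMapOfInjective _ W.subtype_injective).toEquiv, hSc]
  refine ⟨R, hRn, ?_⟩
  rcases ha with ⟨rfl, hk3⟩ | ⟨rfl, hk6⟩
  swap
  · left; rw [hRc]; rfl
  right
  refine ⟨by rw [hRc]; rfl, fun P hP => ?_⟩
  -- `R` maps onto the four-group, which no element of order three centralises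
  have himg : R.map φ = s4Klein := by
    refine eq_of_le_of_card_ge (fun σ hσ => ?_) ?_
    · obtain ⟨r, ⟨w, -, rfl⟩, rfl⟩ := hσ
      exact w.2
    · have hdis : R ⊓ φ.ker = ⊥ := inf_eq_bot_of_coprime (by rw [hRc, hk3]; norm_num)
      have hinj : Function.Injective (φ.comp R.subtype) := by
        rw [← MonoidHom.ker_eq_bot_iff, eq_bot_iff]
        intro x hx
        have : (x : C) ∈ R ⊓ φ.ker := ⟨x.2, hx⟩
        rw [hdis] at this
        exact Subtype.ext this
      rw [show Nat.card s4Klein = 4 from isKleinFour_s4Klein.card_four,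
        ← (show (φ.comp R.subtype).range = R.map φ by rw [MonoidHom.range_comp, range_subtype]),
        ← Nat.card_congr (MonoidHom.ofInjective hinj).toEquiv, hRc]
      norm_num
  obtain ⟨x, hxP, hx⟩ := SetLike.not_le_iff_exists.1 (hPnot P)
  have hcomm : ∀ σ ∈ s4Elems, φ x * σ = σ * φ x := by
    intro σ hσ
    obtain ⟨r, hr, rfl⟩ := himg.ge hσ
    rw [← map_mul, ← map_mul, mem_centralizer_iff.1 (hP hxP) r hr]
  obtain ⟨k, hk⟩ := P.isPGroup' ⟨x, hxP⟩
  have hxk : (φ x) ^ 3 ^ k = 1 := by
    rw [← map_pow, show x ^ 3 ^ k = 1 from congrArg Subtype.val hk, map_one]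
  -- such a permutation squares to one
  have hsq := (show ∀ σ : Equiv.Perm (Fin 4), (∀ τ ∈ s4Elems, σ * τ = τ * σ) → σ * σ = 1 by
    decide +kernel) (φ x) hcomm
  have h2' : orderOf (φ x) ∣ 2 := orderOf_dvd_of_pow_eq_one (by rw [sq]; exact hsq)
  have h3' := orderOf_dvd_of_pow_eq_one hxk
  have h1' := Nat.eq_one_of_dvd_coprimes (Nat.Coprime.pow_right k (by norm_num)) h2' h3'
  exact hx (orderOf_eq_one_iff.1 h1')

theorem exists_central_involution_sylow (h4 : 2 ∣ Nat.card G) (T : Sylow 2 G) :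
    ∃ z ∈ (T : Subgroup G), orderOf z = 2 ∧ (T : Subgroup G) ≤ centralizer ({z} : Set G) := by
  have : Fact (Nat.Prime 2) := ⟨Nat.prime_two⟩
  have : Nontrivial (T : Subgroup G) := (nontrivial_iff_ne_bot _).2 (T.ne_bot_of_dvd_card h4)
  have hne := T.isPGroup'.center_nontrivial
  obtain ⟨k, hk⟩ := (T.isPGroup'.to_subgroup (center (T : Subgroup G))).exists_card_eq
  have h2 : 2 ∣ Nat.card (center (T : Subgroup G)) := by
    rw [hk]
    refine dvd_pow_self 2 ?_
    rintro rfl
    rw [pow_zero] at hk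
    exact (Finite.one_lt_card_iff_nontrivial.2 hne).ne' hk
  obtain ⟨z, hz⟩ := exists_prime_orderOf_dvd_card' 2 h2
  exact ⟨(z : (T : Subgroup G)), (z : (T : Subgroup G)).2, by
    rw [Subgroup.orderOf_coe, Subgroup.orderOf_coe, hz],
    fun t ht => mem_centralizer_singleton_iff.2
      (congrArg Subtype.val (mem_center_iff.1 z.2 ⟨t, ht⟩))⟩

variable [IsSimpleGroup G]

/-- The configuration is impossible when `G` has few subgroups of the orders that turn up. -/
theorem nine_local (hna : ¬ IsMulCommutative G) [Fact (Nat.Prime 3)] {a m : ℕ} (ha : 5 ≤ a)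
    (hG : Nat.card G = 2 ^ a * m) (hm : ¬ 2 ∣ m)
    (hno : ∀ H : Subgroup G, H ≠ ⊤ → (72 ∣ Nat.card H → Nat.card H = 72) ∧
      (48 ∣ Nat.card H → Nat.card H = 48))
    {D : Subgroup G} (hD : Nat.card D = 3)
    (hC : Nat.card (centralizer (D : Set G)) = 36 ∨ Nat.card (centralizer (D : Set G)) = 72)
    {P Q : Sylow 3 G} (hPQ : P ≠ Q) (hPC : (P : Subgroup G) ≤ centralizer (D : Set G))
    (hQC : (Q : Subgroup G) ≤ centralizer (D : Set G)) : False := by
  classical
  have h2 : Fact (Nat.Prime 2) := ⟨Nat.prime_two⟩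
  set C := centralizer (D : Set G) with hCdef
  have hDabel : IsMulCommutative D := (isCyclic_of_prime_card hD).isMulCommutative
  have hDC : D ≤ C := D.le_centralizer
  have hcent : D.subgroupOf C ≤ center C := fun d hd => mem_center_iff.2 fun c =>
    Subtype.ext (mem_centralizer_iff.1 c.2 d hd).symm
  obtain ⟨R₀, hR₀n, hR₀⟩ := exists_normal_two_subgroup
    ((Nat.card_congr (subgroupOfEquivOfLe hDC).toEquiv).trans hD) hcent hC
    (one_lt_card_sylow_of_ne hPC hQC hPQ)
  set R := R₀.map C.subtype with hR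
  have hRc : Nat.card R = Nat.card R₀ := by
    rw [hR, ← Nat.card_congr (R₀.equivMapOfInjective _ C.subtype_injective).toEquiv]
  have hRC : R ≤ C := map_subtype_le _
  have hCN : C ≤ normalizer (R : Set G) := by
    rw [← normal_subgroupOf_iff_le_normalizer hRC, hR, ← comap_subtype,
      comap_map_eq_self_of_injective C.subtype_injective]
    exact hR₀n
  -- normalisers of 2-subgroups grow
  have hgrow : ∀ (U : Subgroup G) (i : ℕ), Nat.card U = 2 ^ i → i < a →
      2 ^ (i + 1) ∣ Nat.card (normalizer (U : Set G)) := by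
    intro U i hU hi
    refine Sylow.prime_pow_dvd_card_normalizer ?_ hU
    rw [hG]
    exact dvd_mul_of_dvd_left (pow_dvd_pow 2 hi) m
  have hne_top : ∀ U : Subgroup G, ∀ i, Nat.card U = 2 ^ i → i ≠ 0 → i < a →
      normalizer (U : Set G) ≠ ⊤ := by
    intro U i hU hi hia
    refine normalizer_sub_ne_top (fun e => ?_) (fun e => ?_)
    · rw [e, card_bot] at hU
      exact (Nat.one_lt_two_pow hi).ne hU
    · rw [e, card_top, hG] at hU
      have h1 : 2 ^ a ∣ 2 ^ i := hU ▸ dvd_mul_right _ _
      exact (Nat.pow_dvd_pow_iff_le_right (by norm_num)).1 h1 |>.not_gt hia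
  have h9 : 9 ∣ Nat.card C := by rcases hC with h | h <;> rw [h] <;> norm_num
  rcases hR₀ with h8 | ⟨h4, hact⟩
  · -- a normal subgroup of order eight
    rw [h8] at hRc
    have h144 : 144 ∣ Nat.card (normalizer (R : Set G)) :=
      Nat.Coprime.mul_dvd_of_dvd_of_dvd (show Nat.Coprime 16 9 by norm_num)
        (hgrow R 3 hRc (by omega)) (h9.trans (card_dvd_of_le hCN))
    have := (hno _ (hne_top R 3 hRc (by norm_num) (by omega))).1 ((by norm_num : 72 ∣ 144).trans h144)
    rw [this] at h144
    norm_num at h144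
  rw [h4] at hRc
  set M := normalizer (R : Set G) with hMdef
  have hM72 : Nat.card M = 72 := by
    refine (hno M (hne_top R 2 hRc (by norm_num) (by omega))).1 ?_
    exact Nat.Coprime.mul_dvd_of_dvd_of_dvd (show Nat.Coprime 8 9 by norm_num)
      (hgrow R 2 hRc (by omega)) (h9.trans (card_dvd_of_le hCN))
  set CR := centralizer (R : Set G) with hCRdef
  -- an element of order three moves `R`
  have hnot : ∀ S : Sylow 3 G, (S : Subgroup G) ≤ C → ¬ (S : Subgroup G) ≤ CR := by
    intro S hSC hS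
    refine hact (S.subtype hSC) fun x hx => mem_centralizer_iff.2 fun r hr => Subtype.ext ?_
    exact mem_centralizer_iff.1 (hS hx) r ⟨r, hr, rfl⟩
  have hRcomm : R ≤ CR := by
    have := IsPGroup.isMulCommutative_of_card_eq_prime_sq (p := 2) (G := R) (by rw [hRc]; norm_num)
    exact R.le_centralizer
  obtain ⟨T, hRT⟩ := ((IsPGroup.of_card (n := 2) (by rw [hRc]; norm_num)) : IsPGroup 2 R).exists_le_sylow
  have hTc : Nat.card (T : Subgroup G) = 2 ^ a := card_sylow_eq_pow hG hm T
  have h2G : 2 ∣ Nat.card G := hG ▸ dvd_mul_of_dvd_left (dvd_pow_self 2 (by omega)) m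
  have hDCR : D ≤ CR := fun d hd => mem_centralizer_iff.2 fun r hr =>
    (mem_centralizer_iff.1 (hRC hr) d hd).symm
  have hCRM : CR ≤ M := centralizer_le_normalizer _
  -- the part of `T` centralising `R`
  by_cases hCT : (T : Subgroup G) ⊓ CR ≤ R
  · obtain ⟨z, hzT, hz2, hzc⟩ := exists_central_involution_sylow h2G T
    have hzR : z ∈ R := hCT ⟨hzT, mem_centralizer_iff.2 fun r hr =>
      mem_centralizer_singleton_iff.1 (hzc (hRT hr))⟩
    have hDz : D ≤ centralizer ({z} : Set G) := fun d hd =>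
      mem_centralizer_singleton_iff.2 ((mem_centralizer_iff.1 (hRC hzR) d hd))
    have hzne : centralizer ({z} : Set G) ≠ ⊤ := by
      intro e
      have hzc' : z ∈ center G := mem_center_iff.2 fun g =>
        mem_centralizer_singleton_iff.1 (e ▸ mem_top g : g ∈ centralizer ({z} : Set G))
      rw [center_eq_bot hna, mem_bot] at hzc'
      rw [hzc', orderOf_one] at hz2
      omega
    have h32 : 32 ∣ Nat.card (centralizer ({z} : Set G)) :=
      ((pow_dvd_pow 2 ha).trans hTc.symm.dvd).trans (card_dvd_of_le hzc)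
    have h48 : 48 ∣ Nat.card (centralizer ({z} : Set G)) :=
      Nat.Coprime.mul_dvd_of_dvd_of_dvd (show Nat.Coprime 16 3 by norm_num)
        ((by norm_num : 16 ∣ 32).trans h32) (hD ▸ card_dvd_of_le hDz)
    rw [(hno _ hzne).2 h48] at h32
    norm_num at h32
  obtain ⟨t, ⟨htT, htC⟩, htR⟩ := SetLike.not_le_iff_exists.1 hCT
  set S8 := (T : Subgroup G) ⊓ CR with hS8
  have hlt : R < S8 := lt_of_le_of_ne (le_inf hRT hRcomm) fun e => htR (e ▸ ⟨htT, htC⟩)
  obtain ⟨i, -, hi⟩ := (Nat.dvd_prime_pow Nat.prime_two).1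
    ((card_dvd_of_le (inf_le_left : S8 ≤ T)).trans hTc.dvd)
  have hi3 : 3 ≤ i := by
    have h1 : Nat.card R < Nat.card S8 := by
      by_contra! hle
      exact hlt.ne (eq_of_le_of_card_ge hlt.le hle)
    rw [hRc, hi] at h1
    by_contra hlt3
    interval_cases i <;> norm_num at h1
  have hCRc : Nat.card CR = 24 := by
    have h1 := card_dvd_of_le hCRM
    rw [hM72] at h1
    have h24 : 24 ∣ Nat.card CR := Nat.Coprime.mul_dvd_of_dvd_of_dvd (show Nat.Coprime 8 3 by norm_num)
      (((pow_dvd_pow 2 hi3).trans hi.symm.dvd).trans (card_dvd_of_le inf_le_right))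
      (hD ▸ card_dvd_of_le hDCR)
    have h72 : Nat.card CR ≠ 72 := fun e => by
      have hall : CR = M := eq_of_le_of_card_ge hCRM (by rw [hM72, e])
      exact hnot P hPC ((hPC.trans hCN).trans hall.ge)
    obtain ⟨c, hc⟩ := h24
    rw [hc] at h1 h72 ⊢
    have := Nat.le_of_dvd (by norm_num) h1
    have hc0 : c ≠ 0 := by rintro rfl; norm_num at h1
    have hc3 : c ≤ 3 := by omega
    interval_cases c <;> omega
  have hS8c : Nat.card S8 = 8 := by
    have h1 := card_dvd_of_le (inf_le_right : S8 ≤ CR)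
    rw [hi, hCRc] at h1
    have hi4 : i ≤ 3 := by
      by_contra hc
      have := (pow_dvd_pow 2 (show 4 ≤ i by omega)).trans h1
      norm_num at this
    rw [hi, show i = 3 by omega]; rfl
  set N := normalizer (S8 : Set G) with hN
  have hNne : N ≠ ⊤ := hne_top S8 3 hS8c (by norm_num) (by omega)
  -- the Sylow 2-subgroups of `C(R)`
  have hSy : ∀ S : Sylow 2 CR, Nat.card (S : Subgroup CR) = 8 := fun S => by
    rw [card_sylow_eq_pow (a := 3) (m := 3) hCRc (by norm_num) S]; rfl
  let S : Sylow 2 CR := Sylow.ofCard (S8.subgroupOf CR) (by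
    rw [Nat.card_congr (subgroupOfEquivOfLe (inf_le_right : S8 ≤ CR)).toEquiv, hS8c, hCRc,
      show (24 : ℕ) = 2 ^ 3 * 3 from rfl, Nat.factorization_mul (by norm_num) (by norm_num),
      Finsupp.add_apply, Nat.prime_two.factorization_pow, Finsupp.single_eq_same,
      Nat.factorization_eq_zero_of_not_dvd (show ¬ 2 ∣ 3 by norm_num), add_zero]
    rfl)
  have : (CR.subgroupOf M).Normal := by
    rw [hCRdef, hMdef, ← normalizerMonoidHom_ker]
    infer_instance
  -- Frattini
  have hNM : (N ⊓ M) ⊔ CR = M := by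
    refine le_antisymm (sup_le inf_le_right hCRM) fun g hg => ?_
    let gS : Sylow 2 CR := Sylow.ofCard ((S8.map (MulAut.conj g).toMonoidHom).subgroupOf CR) (by
      have hle : S8.map (MulAut.conj g).toMonoidHom ≤ CR := by
        rintro _ ⟨x, hx, rfl⟩
        exact (normal_subgroupOf_iff_le_normalizer hCRM).1 inferInstance hg |>
          fun h => (mem_normalizer_iff.1 h x).1 hx.2
      rw [Nat.card_congr (subgroupOfEquivOfLe hle).toEquiv,
        ← Nat.card_congr (S8.equivMapOfInjective _ (MulAut.conj g).injective).toEquiv, hS8c, hCRc,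
        show (24 : ℕ) = 2 ^ 3 * 3 from rfl, Nat.factorization_mul (by norm_num) (by norm_num),
        Finsupp.add_apply, Nat.prime_two.factorization_pow, Finsupp.single_eq_same,
        Nat.factorization_eq_zero_of_not_dvd (show ¬ 2 ∣ 3 by norm_num), add_zero]
      rfl)
    obtain ⟨c, hc⟩ := MulAction.exists_smul_eq CR gS S
    have hcg : (c : G) * g ∈ N ⊓ M := by
      refine ⟨?_, M.mul_mem (hCRM c.2) hg⟩
      have hmap : S8.map (MulAut.conj ((c : G) * g)).toMonoidHom ≤ S8 := by
        rintro _ ⟨x, hx, rfl⟩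
        have hx' : g * x * g⁻¹ ∈ CR := by
          exact (mem_normalizer_iff.1 ((normal_subgroupOf_iff_le_normalizer hCRM).1 inferInstance hg) x).1 hx.2
        have h1 : c * ⟨_, hx'⟩ * c⁻¹ ∈ ((c • gS : Sylow 2 CR) : Subgroup CR) := by
          rw [Sylow.coe_subgroup_smul]
          exact ⟨⟨_, hx'⟩, ⟨x, hx, rfl⟩, rfl⟩
        rw [hc] at h1
        have h2 : (c : G) * (g * x * g⁻¹) * (c : G)⁻¹ ∈ S8 := h1
        simpa [mul_assoc] using h2
      have heq := eq_of_le_of_card_ge hmap
        (by rw [← Nat.card_congr (S8.equivMapOfInjective _ (MulAut.conj ((c : G) * g)).injective).toEquiv])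
      show (c : G) * g ∈ normalizer (S8 : Set G)
      rw [mem_normalizer_iff]
      intro x
      refine ⟨fun hx => hmap ⟨x, hx, rfl⟩, fun hx => ?_⟩
      obtain ⟨w, hw, hwx⟩ := heq.ge hx
      exact (MulAut.conj ((c : G) * g)).injective hwx ▸ hw
    rw [show g = (c : G)⁻¹ * ((c : G) * g) by simp]
    exact mul_mem (mem_sup_right (CR.inv_mem c.2)) (mem_sup_left hcg)
  -- hence an element of order three normalising `S8` and moving `R`
  have h3L : 3 ∣ Nat.card ↥(N ⊓ M) := by
    by_contra h3
    have h1 := card_dvd_of_le (inf_le_right : N ⊓ M ≤ M)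
    rw [hM72] at h1
    have h8 : Nat.card ↥(N ⊓ M) ∣ 8 :=
      (((Nat.prime_three.coprime_iff_not_dvd).2 h3).pow_left 2).symm.dvd_of_dvd_mul_left
        (show Nat.card ↥(N ⊓ M) ∣ 3 ^ 2 * 8 from h1)
    have hS8M : S8 ≤ N ⊓ M := le_inf le_normalizer (inf_le_right.trans hCRM)
    have : N ⊓ M = S8 := (eq_of_le_of_card_ge hS8M (by rw [hS8c]; exact Nat.le_of_dvd (by norm_num) h8)).symm
    rw [this] at hNM
    have hle : M ≤ CR := hNM ▸ sup_le inf_le_right le_rfl
    have := card_le_of_le hle
    omega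
  obtain ⟨w', hw'⟩ := exists_prime_orderOf_dvd_card' (G := ↥(N ⊓ M)) 3 h3L
  set w := (w' : G) with hw
  have hwo : orderOf w = 3 := by rw [hw, Subgroup.orderOf_coe, hw']
  have hN48 : Nat.card N = 48 :=
    (hno N hNne).2 (Nat.Coprime.mul_dvd_of_dvd_of_dvd (show Nat.Coprime 16 3 by norm_num)
      (hgrow S8 3 hS8c (by omega)) (h3L.trans (card_dvd_of_le inf_le_left)))
  have hwC : w ∉ CR := by
    intro hwC
    -- then `S8` would be normal in `C(R)`
    have hle : S8.subgroupOf CR ⊔ zpowers (⟨w, hwC⟩ : CR) ≤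
        normalizer ((S8.subgroupOf CR : Subgroup CR) : Set CR) := by
      refine sup_le le_normalizer (zpowers_le.2 ?_)
      rw [← subgroupOf_normalizer_eq inf_le_right]
      exact w'.2.1
    have h24 : CR ≤ N := by
      intro x hx
      have hc8 : 24 ∣ Nat.card (normalizer ((S8.subgroupOf CR : Subgroup CR) : Set CR)) := by
        refine Nat.Coprime.mul_dvd_of_dvd_of_dvd (show Nat.Coprime 8 3 by norm_num) ?_ ?_
        · have := card_dvd_of_le (le_sup_left.trans hle)
          rwa [Nat.card_congr (subgroupOfEquivOfLe (inf_le_right : S8 ≤ CR)).toEquiv, hS8c] at this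
        · have := card_dvd_of_le (le_sup_right.trans hle)
          rwa [Nat.card_zpowers, Subgroup.orderOf_mk, hwo] at this
      have htop : normalizer ((S8.subgroupOf CR : Subgroup CR) : Set CR) = ⊤ :=
        eq_top_of_card_eq _ (Nat.dvd_antisymm (card_subgroup_dvd_card _) (hCRc ▸ hc8))
      rw [← subgroupOf_normalizer_eq inf_le_right, subgroupOf_eq_top] at htop
      exact htop hx
    have hMN : M ≤ N := hNM ▸ sup_le inf_le_left h24
    have h144 : 144 ∣ Nat.card N := Nat.Coprime.mul_dvd_of_dvd_of_dvd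
      (show Nat.Coprime 16 9 by norm_num) (hgrow S8 3 hS8c (by omega))
      ((show 9 ∣ Nat.card M by rw [hM72]; norm_num).trans (card_dvd_of_le hMN))
    rw [hN48] at h144
    norm_num at h144
  -- `N` normalises `R`
  have hNM' : N ≤ M := by
    intro g hg
    set R' := R.map (MulAut.conj g).toMonoidHom with hR'
    have hR'c : Nat.card R' = 4 := by
      rw [hR', ← Nat.card_congr (R.equivMapOfInjective _ (MulAut.conj g).injective).toEquiv, hRc]
    have hR'S : R' ≤ S8 := by
      rintro _ ⟨r, hr, rfl⟩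
      exact (mem_normalizer_iff.1 hg r).1 (hlt.le hr)
    -- `w` lies in a normal subgroup of index two normalising `R`
    have hwR' : ∀ r ∈ R', w * r * w⁻¹ ∈ R' := by
      have hLN : ((N ⊓ M).subgroupOf N).Normal := by
        refine normal_of_index_eq_two ?_
        have h1 := ((N ⊓ M).subgroupOf N).card_mul_index
        rw [Nat.card_congr (subgroupOfEquivOfLe (inf_le_left : N ⊓ M ≤ N)).toEquiv, hN48] at h1
        have h2 := card_dvd_of_le (inf_le_right : N ⊓ M ≤ M)
        have h24 : 24 ∣ Nat.card ↥(N ⊓ M) := Nat.Coprime.mul_dvd_of_dvd_of_dvd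
          (show Nat.Coprime 8 3 by norm_num)
          (hS8c ▸ card_dvd_of_le (le_inf le_normalizer (inf_le_right.trans hCRM))) h3L
        obtain ⟨c, hc⟩ := h24
        rw [hM72, hc] at h2
        rw [hc] at h1
        have hc2 : c * ((N ⊓ M).subgroupOf N).index = 2 := by linarith
        rcases (Nat.dvd_prime Nat.prime_two).1 (Dvd.intro _ hc2) with rfl | rfl
        · simpa using hc2
        · norm_num at h2
      rintro _ ⟨r, hr, rfl⟩
      have hw'' : g⁻¹ * w * g ∈ N ⊓ M := by
        have := hLN.conj_mem ⟨w, w'.2.1⟩ (show (⟨w, w'.2.1⟩ : N) ∈ (N ⊓ M).subgroupOf N from w'.2)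
          ⟨g, hg⟩⁻¹
        exact ⟨N.mul_mem (N.mul_mem (N.inv_mem hg) w'.2.1) hg, by
          simpa [mem_subgroupOf] using this⟩
      refine ⟨g⁻¹ * w * g * r * (g⁻¹ * w * g)⁻¹, (mem_normalizer_iff.1 hw''.2 r).1 hr, ?_⟩
      simp [mul_assoc]
    have hRR : R' = R := by
      by_contra hne
      have hinf : 2 ∣ Nat.card ↥(R ⊓ R') := by
        by_contra h2'
        have h1 := card_dvd_of_le (inf_le_left : R ⊓ R' ≤ R)
        rw [hRc] at h1
        have h0 : Nat.card ↥(R ⊓ R') = 1 := by
          have := Nat.le_of_dvd (by norm_num) h1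
          interval_cases Nat.card ↥(R ⊓ R') <;> omega
        have hinj : Function.Injective (fun x : R × R' =>
            (⟨x.1 * x.2, S8.mul_mem (hlt.le x.1.2) (hR'S x.2.2)⟩ : S8)) := by
          rintro ⟨a₁, b₁⟩ ⟨a₂, b₂⟩ hh
          have he : (a₁ : G) * b₁ = a₂ * b₂ := congrArg Subtype.val hh
          have h1 : (a₂ : G)⁻¹ * a₁ = b₂ * (b₁ : G)⁻¹ := by
            rw [eq_mul_inv_iff_mul_eq, mul_assoc, he, inv_mul_cancel_left]
          have hm : (a₂ : G)⁻¹ * a₁ ∈ R ⊓ R' :=
            ⟨R.mul_mem (R.inv_mem a₂.2) a₁.2, h1 ▸ R'.mul_mem b₂.2 (R'.inv_mem b₁.2)⟩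
          rw [Subgroup.card_eq_one.1 h0, mem_bot] at hm
          obtain rfl : a₂ = a₁ := Subtype.ext (inv_mul_eq_one.1 hm)
          obtain rfl : b₁ = b₂ := Subtype.ext (mul_left_cancel he)
          rfl
        have := Nat.card_le_card_of_injective _ hinj
        rw [Nat.card_prod, hRc, hR'c, hS8c] at this
        omega
      obtain ⟨v', hv'⟩ := exists_prime_orderOf_dvd_card' (G := ↥(R ⊓ R')) 2 hinf
      have hv1 : (v' : G) ≠ 1 := fun e => by
        rw [← Subgroup.orderOf_coe, e, orderOf_one] at hv'; omega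
      -- `w` fixes `v`
      have hRR'2 : Nat.card ↥(R ⊓ R') ≤ 2 := by
        by_contra hgt
        have h1 := card_dvd_of_le (inf_le_left : R ⊓ R' ≤ R)
        rw [hRc] at h1
        have h4' : Nat.card ↥(R ⊓ R') = 4 := by
          have := Nat.le_of_dvd (by norm_num) h1
          interval_cases Nat.card ↥(R ⊓ R') <;> omega
        exact hne ((eq_of_le_of_card_ge inf_le_right (by rw [hR'c, h4'])).symm.trans
          (eq_of_le_of_card_ge inf_le_left (by rw [hRc, h4'])))
      have hwv : w * (v' : G) * w⁻¹ = v' := by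
        have hmem : w * (v' : G) * w⁻¹ ∈ R ⊓ R' :=
          ⟨(mem_normalizer_iff.1 w'.2.2 _).1 v'.2.1, hwR' _ v'.2.2⟩
        have h2' : Nat.card ↥(R ⊓ R') = 2 := le_antisymm hRR'2 (Nat.le_of_dvd Nat.card_pos hinf)
        obtain ⟨b, hb, hb'⟩ := (Nat.card_eq_two_iff' (1 : ↥(R ⊓ R'))).1 h2'
        have hne1 : (⟨_, hmem⟩ : ↥(R ⊓ R')) ≠ 1 := fun e => by
          have e' : w * (v' : G) * w⁻¹ = 1 := congrArg Subtype.val e
          rw [conj_eq_one_iff] at e'
          exact hv1 e'
        exact congrArg Subtype.val ((hb' _ hne1).trans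
          (hb' v' fun e => hv1 (congrArg Subtype.val e)).symm)
      apply hwC
      -- an element of order three fixing an involution of a group of order four centralises it
      have h3' : Fact (Nat.Prime 3) := inferInstance
      refine (show w ∈ centralizer (R : Set G) from ?_)
      set σ := R.normalizerMonoidHom ⟨w, w'.2.2⟩ with hσ
      by_contra hwC'
      have hσ1 : σ ≠ 1 := fun e => hwC' (by
        have h1 : (⟨w, w'.2.2⟩ : normalizer (R : Set G)) ∈ R.normalizerMonoidHom.ker := e
        rwa [normalizerMonoidHom_ker, mem_subgroupOf] at h1)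
      have hσo : orderOf σ = 3 := by
        refine ((Nat.dvd_prime Nat.prime_three).1 ?_).resolve_left fun e => hσ1 (orderOf_eq_one_iff.1 e)
        rw [← hwo, ← Subgroup.orderOf_mk w w'.2.2]
        exact orderOf_map_dvd _ _
      have hmod := (IsPGroup.of_card (n := 1) (by rw [Nat.card_zpowers, hσo, pow_one]) :
        IsPGroup 3 (zpowers σ)).card_modEq_card_fixedPoints R
      let F : Subgroup R :=
        { carrier := {x | σ x = x}
          one_mem' := map_one σ
          mul_mem' := fun {a b} (ha : σ a = a) (hb : σ b = b) => by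
            show σ (a * b) = a * b
            rw [map_mul, ha, hb]
          inv_mem' := fun {a} (ha : σ a = a) => by
            show σ a⁻¹ = a⁻¹
            rw [map_inv, ha] }
      have hF : MulAction.fixedPoints (zpowers σ) R = (F : Set R) := by
        ext x
        refine ⟨fun h => h ⟨σ, mem_zpowers σ⟩, fun h => ?_⟩
        rintro ⟨b, hb⟩
        exact (zpowers_le.2 h : zpowers σ ≤ MulAction.stabilizer _ x) hb
      rw [hF, hRc] at hmod
      have hvF : (⟨v', v'.2.1⟩ : R) ∈ F := Subtype.ext hwv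
      have h2F : 2 ∣ Nat.card F := by
        have h1 := Subgroup.orderOf_dvd_natCard F hvF
        rwa [← Subgroup.orderOf_coe, show ((⟨v', v'.2.1⟩ : R) : G) = v' from rfl,
          Subgroup.orderOf_coe, hv'] at h1
      have hF4 := F.card_subgroup_dvd_card.trans hRc.dvd
      have hFne : Nat.card F ≠ 4 := fun e => hσ1 (MulEquiv.ext fun x =>
        ((eq_top_of_card_eq F (e.trans hRc.symm)).symm ▸ mem_top x : x ∈ F))
      have := Nat.le_of_dvd (by norm_num) hF4
      have hFc : Nat.card F = Nat.card ((F : Set R)) := rfl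
      rw [← hFc] at hmod
      simp only [Nat.ModEq] at hmod
      interval_cases Nat.card F <;> omega
    rw [hMdef, mem_normalizer_iff]
    intro x
    refine ⟨fun hx => hRR.le ⟨x, hx, rfl⟩, fun hx => ?_⟩
    obtain ⟨r, hr, hrx⟩ := hRR.ge hx
    exact (MulAut.conj g).injective hrx ▸ hr
  have := card_dvd_of_le hNM'
  rw [hN48, hM72] at this
  norm_num at this

end Cfsg.Agent.SmallOrder
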