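import Cfsg.Agent.SmallOrder.Perm

/-!
# Elements of prime order when the Sylow subgroups have prime order
-/

set_option autoImplicit false

namespace Cfsg.Agent.SmallOrder

open Subgroup

variable {G : Type*} [Group G] [Finite G] {p : ℕ} [hp : Fact p.Prime]

theorem card_orderOf_eq_mul (hP : ∀ P : Sylow p G, Nat.card (P : Subgroup G) = p) :
    Nat.card {g : G // orderOf g = p} = Nat.card (Sylow p G) * (p - 1) := by
  classical
  have := Fintype.ofFinite (Sylow p G)
  have hz : ∀ (P : Sylow p G) (g : G), g ∈ (P : Subgroup G) → orderOf g = p →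
      zpowers g = (P : Subgroup G) := fun P g hg ho =>
    eq_of_le_of_card_ge (zpowers_le.2 hg) (by rw [hP, Nat.card_zpowers, ho])
  let F : (Σ P : Sylow p G, {x : (P : Subgroup G) // x ≠ 1}) → {g : G // orderOf g = p} :=
    fun x => ⟨(x.2.1 : G), by
      rw [orderOf_coe]
      refine ((Nat.dvd_prime hp.out).1 ?_).resolve_left fun h => x.2.2 (orderOf_eq_one_iff.1 h)
      exact (_root_.orderOf_dvd_natCard x.2.1).trans (hP x.1).dvd⟩
  have hF : Function.Bijective F := by
    refine ⟨?_, fun g => ?_⟩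
    · rintro ⟨P, x, hx⟩ ⟨Q, y, hy⟩ h
      have hxy : (x : G) = y := congrArg Subtype.val h
      have hPQ : P = Q := Sylow.ext (by
        rw [← hz P x x.2 (F ⟨P, x, hx⟩).2, ← hz Q y y.2 (F ⟨Q, y, hy⟩).2, hxy])
      subst hPQ
      obtain rfl : x = y := Subtype.ext hxy
      rfl
    · obtain ⟨P, hP'⟩ := (IsPGroup.of_card (n := 1)
        (by rw [Nat.card_zpowers, g.2, pow_one]) : IsPGroup p (zpowers g.1)).exists_le_sylow
      refine ⟨⟨P, ⟨g, hP' (mem_zpowers g.1)⟩, fun h => ?_⟩, Subtype.ext rfl⟩
      have h1 := g.2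
      rw [show g.1 = 1 from congrArg Subtype.val h, orderOf_one] at h1
      exact hp.out.ne_one h1.symm
  rw [← Nat.card_congr (Equiv.ofBijective F hF), Nat.card_sigma,
    Finset.sum_congr rfl (g := fun _ => p - 1) fun P _ => ?_, Finset.sum_const, Finset.card_univ,
    smul_eq_mul, Nat.card_eq_fintype_card (α := Sylow p G)]
  have := Fintype.ofFinite (P : Subgroup G)
  rw [Nat.card_eq_fintype_card, Fintype.card_subtype_compl, Fintype.card_subtype_eq,
    ← Nat.card_eq_fintype_card, hP]

omit hp in
theorem card_orderOf_disjoint_le (l : Finset ℕ) :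
    ∑ n ∈ l, Nat.card {g : G // orderOf g = n} ≤ Nat.card G := by
  classical
  have := Fintype.ofFinite G
  simp only [Nat.card_eq_fintype_card, Fintype.card_subtype]
  rw [← Finset.card_biUnion]
  · exact Finset.card_le_univ _
  · intro i _ j _ hij
    refine Finset.disjoint_filter.2 ?_
    exact fun g _ h1 h2 => hij (h1.symm.trans h2)

end Cfsg.Agent.SmallOrder
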