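import Cfsg.Agent.SmallOrder.Involution
import Cfsg.Agent.SmallOrder.Perm
import Cfsg.Agent.SmallOrder.Elements

/-!
# A self-centralising subgroup of prime order with the full automiser

If `|C(P)| = p` and `|N(P)| = p (p - 1)`, all elements of order `p` are conjugate, every
character takes an integer value `m` on them, and the multiple `p` of their indicator is the
generalized character `∑ m χ`, of norm `p`.
-/

set_option autoImplicit false

namespace Cfsg.Agent.SmallOrder

open Subgroup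

universe u

variable {G : Type u} [Group G] {P : Subgroup G} {p n : ℕ}

section Classes

variable [Finite G] [hp : Fact p.Prime] (hP : Nat.card P = p)
  (hC : Nat.card (centralizer (P : Set G)) = p)
  (hN : Nat.card (normalizer (P : Set G)) = p * (p - 1)) (hG : Nat.card G = p * (p - 1) * n)
  (hpn : ¬ p ∣ (p - 1) * n)

include hP hG hpn in
theorem exists_sylow_eq : ∃ S : Sylow p G, (S : Subgroup G) = P := by
  obtain ⟨S, hS⟩ := (IsPGroup.of_card (n := 1) (by rw [hP, pow_one]) :
    IsPGroup p P).exists_le_sylow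
  exact ⟨S, (eq_of_le_of_card_ge hS (by
    rw [hP, card_sylow_eq_pow (a := 1) (m := (p - 1) * n) (by rw [hG]; ring) hpn S, pow_one])).symm⟩

include hP hC hN in
theorem normalizerMonoidHom_surjective : Function.Surjective P.normalizerMonoidHom := by
  rw [← MonoidHom.range_eq_top]
  refine eq_top_of_card_eq _ ?_
  rw [card_mulAut_of_prime hP, ← index_ker, normalizerMonoidHom_ker]
  have h := ((centralizer (P : Set G)).subgroupOf (normalizer (P : Set G))).card_mul_index
  rw [Nat.card_congr (subgroupOfEquivOfLe (centralizer_le_normalizer _)).toEquiv, hC, hN] at h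
  exact Nat.eq_of_mul_eq_mul_left hp.out.pos h

include hP hC hN hG hpn in
/-- All elements of order `p` are conjugate. -/
theorem isConj_of_orderOf_eq {g h : G} (hg : orderOf g = p) (hh : orderOf h = p) : IsConj g h := by
  obtain ⟨S, hS⟩ := exists_sylow_eq hP hG hpn
  have hcon : ∀ x : G, orderOf x = p → ∃ a : G, a * x * a⁻¹ ∈ P := by
    intro x hx
    obtain ⟨Q, hQ⟩ := (IsPGroup.of_card (n := 1) (by rw [Nat.card_zpowers, hx, pow_one]) :
      IsPGroup p (zpowers x)).exists_le_sylow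
    obtain ⟨a, ha⟩ := MulAction.exists_smul_eq G Q S
    refine ⟨a, ?_⟩
    rw [← hS, ← ha, Sylow.coe_subgroup_smul]
    exact ⟨x, hQ (mem_zpowers x), by simp⟩
  obtain ⟨a, ha⟩ := hcon g hg
  obtain ⟨b, hb⟩ := hcon h hh
  have ho : ∀ {x c : G}, orderOf x = p → orderOf (c * x * c⁻¹) = p := fun {x c} hx => by
    rw [show c * x * c⁻¹ = MulAut.conj c x by simp, MulEquiv.orderOf_eq, hx]
  -- an automorphism of `P` carries one to the other
  have hgen : zpowers (⟨a * g * a⁻¹, ha⟩ : P) = ⊤ := by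
    refine eq_top_of_card_eq _ ?_
    rw [Nat.card_zpowers, Subgroup.orderOf_mk, ho hg, hP]
  obtain ⟨j, hj⟩ : ∃ j : ℕ, (⟨a * g * a⁻¹, ha⟩ : P) ^ j = ⟨b * h * b⁻¹, hb⟩ := by
    have := hgen.symm ▸ mem_top (⟨b * h * b⁻¹, hb⟩ : P)
    exact Submonoid.mem_powers_iff _ _ |>.1 (mem_powers_iff_mem_zpowers.2 this)
  have hjp : (Nat.card P).Coprime j := by
    rw [hP, Nat.Prime.coprime_iff_not_dvd hp.out]
    rintro ⟨i, rfl⟩
    rw [pow_mul, ← hP, pow_card_eq_one', one_pow] at hj
    have h1 := ho (c := b) hh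
    rw [← show (1 : G) = b * h * b⁻¹ from congrArg Subtype.val hj, orderOf_one] at h1
    exact hp.out.ne_one h1.symm
  let hcomm : IsMulCommutative P := (isCyclic_of_prime_card hP).isMulCommutative
  let σ : MulAut P :=
    { powCoprime hjp with
      map_mul' := fun x y => (hcomm.is_comm.comm x y |> fun e => Commute.mul_pow e j) }
  obtain ⟨w, hw⟩ := normalizerMonoidHom_surjective hP hC hN σ
  have h2 : (w : G) * (a * g * a⁻¹) * (w : G)⁻¹ = b * h * b⁻¹ := by
    have := congrArg Subtype.val ((DFunLike.congr_fun hw ⟨a * g * a⁻¹, ha⟩).trans hj)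
    exact this
  rw [isConj_iff]
  refine ⟨b⁻¹ * w * a, ?_⟩
  calc b⁻¹ * w * a * g * (b⁻¹ * w * a)⁻¹ = b⁻¹ * ((w : G) * (a * g * a⁻¹) * (w : G)⁻¹) * b := by
        group
    _ = h := by rw [h2]; group

include hP hC hN hG hpn in
theorem card_centralizer_orderOf {g : G} (hg : orderOf g = p) :
    Nat.card (centralizer ({g} : Set G)) = p := by
  have : Nontrivial P := Finite.one_lt_card_iff_nontrivial.1 (by rw [hP]; exact hp.out.one_lt)
  obtain ⟨x, hx⟩ := exists_ne (1 : P)
  have hxo : orderOf (x : G) = p :=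
    ((Nat.dvd_prime hp.out).1 (hP ▸ Subgroup.orderOf_dvd_natCard P x.2)).resolve_left
      fun e => hx (Subtype.ext (orderOf_eq_one_iff.1 e))
  have hz : zpowers (x : G) = P :=
    eq_of_le_of_card_ge (zpowers_le.2 x.2) (by rw [hP, Nat.card_zpowers, hxo])
  have h1 : Nat.card (centralizer ({(x : G)} : Set G)) = p := by
    rw [← centralizer_closure, ← zpowers_eq_closure, hz, hC]
  have h2 := (centralizer ({g} : Set G)).card_mul_index
  have h3 := (centralizer ({(x : G)} : Set G)).card_mul_index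
  rw [← Char.card_isConj_eq_index] at h2 h3
  have hcl : Nat.card {a : G // IsConj g a} = Nat.card {a : G // IsConj (x : G) a} :=
    Nat.card_congr (Equiv.subtypeEquivRight fun a =>
      ⟨(isConj_of_orderOf_eq hP hC hN hG hpn hxo hg).trans,
        (isConj_of_orderOf_eq hP hC hN hG hpn hg hxo).trans⟩)
  rw [hcl, ← h3, h1] at h2
  have : Nonempty {a : G // IsConj (x : G) a} := ⟨⟨_, IsConj.refl _⟩⟩
  exact Nat.eq_of_mul_eq_mul_right Nat.card_pos h2

include hP hC hN hG hpn in
/-- Some involution inverts a given element of order `p`. -/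
theorem exists_inverting (hp2 : p ≠ 2) {g : G} (hg : orderOf g = p) :
    ∃ w : G, orderOf w = 2 ∧ w * g * w⁻¹ = g⁻¹ := by
  obtain ⟨w, hw⟩ := isConj_iff.1
    (isConj_of_orderOf_eq hP hC hN hG hpn hg ((orderOf_inv g).trans hg))
  have hC' : centralizer ({g} : Set G) = zpowers g := by
    refine (eq_of_le_of_card_ge ?_ ?_).symm
    · rw [zpowers_le, mem_centralizer_singleton_iff]
    · rw [card_centralizer_orderOf hP hC hN hG hpn hg, Nat.card_zpowers, hg]
  have hww : w * w ∈ centralizer ({g} : Set G) := by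
    rw [mem_centralizer_singleton_iff]
    have : w * w * g * (w * w)⁻¹ = g := by
      calc w * w * g * (w * w)⁻¹ = w * (w * g * w⁻¹) * w⁻¹ := by group
        _ = w * g⁻¹ * w⁻¹ := by rw [hw]
        _ = (w * g * w⁻¹)⁻¹ := by group
        _ = g := by rw [hw, inv_inv]
    exact mul_inv_eq_iff_eq_mul.1 this
  rw [hC'] at hww
  obtain ⟨i, hi⟩ := mem_zpowers_iff.1 hww
  have hinv : w * (w * w) * w⁻¹ = (w * w)⁻¹ := by
    rw [← hi, ← conj_zpow, hw, inv_zpow]
  rw [show w * (w * w) * w⁻¹ = w * w by group] at hinv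
  have h2 : orderOf (w * w) ∣ 2 := orderOf_dvd_of_pow_eq_one (by
    rw [sq]; nth_rw 1 [hinv]; exact inv_mul_cancel _)
  have h3 : orderOf (w * w) ∣ p := hg ▸ orderOf_dvd_of_mem_zpowers ⟨i, hi⟩
  refine ⟨w, orderOf_eq_prime ?_ fun e => ?_, hw⟩
  · rw [sq]
    exact orderOf_eq_one_iff.1 (Nat.eq_one_of_dvd_coprimes
      ((Nat.coprime_primes Nat.prime_two hp.out).2 (Ne.symm hp2)) h2 h3)
  · rw [e, one_mul, inv_one, mul_one] at hw
    have h4 : orderOf g ∣ 2 := orderOf_dvd_of_pow_eq_one (by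
      rw [sq]; nth_rw 2 [hw]; exact mul_inv_cancel g)
    exact hp2 ((Nat.prime_dvd_prime_iff_eq hp.out Nat.prime_two).1 (hg ▸ h4))

end Classes

section Count

variable [Fintype G] [hp : Fact p.Prime] (hP : Nat.card P = p)
  (hC : Nat.card (centralizer (P : Set G)) = p)
  (hN : Nat.card (normalizer (P : Set G)) = p * (p - 1)) (hG : Nat.card G = p * (p - 1) * n)
  (hpn : ¬ p ∣ (p - 1) * n) (hp2 : p ≠ 2)

open scoped Classical

include hP hC hN hG hpn hp2 in
theorem card_orderOf_p : (Finset.univ.filter fun g : G => orderOf g = p).card * p = Nat.card G := by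
  have : Nontrivial P := Finite.one_lt_card_iff_nontrivial.1 (by rw [hP]; exact hp.out.one_lt)
  obtain ⟨x, hx⟩ := exists_ne (1 : P)
  have hxo : orderOf (x : G) = p :=
    ((Nat.dvd_prime hp.out).1 (hP ▸ Subgroup.orderOf_dvd_natCard P x.2)).resolve_left
      fun e => hx (Subtype.ext (orderOf_eq_one_iff.1 e))
  have h := (centralizer ({(x : G)} : Set G)).card_mul_index
  rw [card_centralizer_orderOf hP hC hN hG hpn hxo, ← Char.card_isConj_eq_index, mul_comm] at h
  rw [← h, Nat.card_eq_fintype_card, Fintype.card_subtype]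
  congr 2
  ext a
  simp only [Finset.mem_filter, Finset.mem_univ, true_and]
  refine ⟨fun ha => isConj_of_orderOf_eq hP hC hN hG hpn hxo ha, fun ha => ?_⟩
  obtain ⟨b, rfl⟩ := isConj_iff.1 ha
  rw [show b * (x : G) * b⁻¹ = MulAut.conj b x by simp, MulEquiv.orderOf_eq, hxo]

include hP hC hN hG hpn hp2 in
/-- The pairs of conjugates of an involution with product of order `p`. -/
theorem card_pairs_orderOf_p {t : G} (ht : orderOf t = 2) :
    ∃ k : ℕ, (k = 0 ∨ k = Nat.card (centralizer ({t} : Set G)) ^ 2) ∧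
      ((∃ g w : G, orderOf g = p ∧ (w * t * w⁻¹) * g * (w * t * w⁻¹)⁻¹ = g⁻¹) →
        k = Nat.card (centralizer ({t} : Set G)) ^ 2) ∧
      (Finset.univ.filter fun a : G => orderOf (a * t * a⁻¹ * t) = p).card = k := by
  set c := Nat.card (centralizer ({t} : Set G)) with hc
  have hsq : ∀ a : G, (a * t * a⁻¹)⁻¹ = a * t * a⁻¹ := fun a => by
    have h2 := ht ▸ pow_orderOf_eq_one t
    rw [sq] at h2
    refine inv_eq_of_mul_eq_one_right ?_
    rw [show a * t * a⁻¹ * (a * t * a⁻¹) = a * (t * t) * a⁻¹ by group, h2, mul_one, mul_inv_cancel]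
  -- conjugates of `t` inverting `g`
  set I : G → Finset G := fun g =>
    Finset.univ.filter fun w => (w * t * w⁻¹) * g * (w * t * w⁻¹)⁻¹ = g⁻¹ with hI
  have hrev : ∀ (g u v : G), u⁻¹ = u → v⁻¹ = v → u * v = g → u * g * u⁻¹ = g⁻¹ := by
    intro g u v hu hv e
    rw [← e, mul_inv_rev, hv, hu, ← mul_assoc]
    nth_rw 1 [← hu]
    rw [inv_mul_cancel, one_mul]
  have hprod : ∀ (g w : G), w ∈ I g → ∀ x ∈ zpowers g,
      (w * t * w⁻¹) * x * (w * t * w⁻¹)⁻¹ = x⁻¹ := by
    intro g w hw x hx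
    obtain ⟨i, rfl⟩ := mem_zpowers_iff.1 hx
    rw [← conj_zpow, (Finset.mem_filter.1 hw).2, inv_zpow]
  -- each of them is shifted by the powers of `g`
  have hshift : ∀ g : G, orderOf g = p → ∀ w ∈ I g, ∀ x ∈ zpowers g,
      ∃ v : G, v * t * v⁻¹ = x * (w * t * w⁻¹) := by
    intro g hg w hw x hx
    have hx1 : x ^ p = 1 := by
      obtain ⟨i, rfl⟩ := mem_zpowers_iff.1 hx
      rw [← zpow_natCast, ← zpow_mul, mul_comm, zpow_mul, zpow_natCast, ← hg, pow_orderOf_eq_one,
        one_zpow]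
    set j := x ^ ((p + 1) / 2) with hj
    have hjj : j * j = x := by
      have hodd : p % 2 = 1 := hp.out.eq_two_or_odd.resolve_left hp2
      rw [hj, ← pow_add, show (p + 1) / 2 + (p + 1) / 2 = p + 1 by omega, pow_succ, hx1, one_mul]
    have h1 := hprod g w hw j (Subgroup.pow_mem _ hx _)
    refine ⟨j * w, ?_⟩
    have h2 : (w * t * w⁻¹) * j⁻¹ = j * (w * t * w⁻¹) := by
      have h3 : (w * t * w⁻¹) * j = j⁻¹ * (w * t * w⁻¹) := mul_inv_eq_iff_eq_mul.1 h1
      calc (w * t * w⁻¹) * j⁻¹ = j * (j⁻¹ * (w * t * w⁻¹)) * j⁻¹ := by group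
        _ = j * (w * t * w⁻¹) := by rw [← h3]; group
    calc j * w * t * (j * w)⁻¹ = j * ((w * t * w⁻¹) * j⁻¹) := by group
      _ = x * (w * t * w⁻¹) := by rw [h2, ← mul_assoc, hjj]
  have hfib : ∀ u : G, (∃ v : G, v * t * v⁻¹ = u) →
      (Finset.univ.filter fun w : G => w * t * w⁻¹ = u).card = c := by
    rintro u ⟨v, rfl⟩
    rw [hc, Nat.card_eq_fintype_card, Fintype.card_subtype]
    refine Finset.card_nbij' (fun b => v⁻¹ * b) (fun b => v * b) ?_ ?_
      (fun b _ => by simp) (fun b _ => by simp)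
    · intro b hb
      simp only [Finset.mem_univ, true_and, Finset.coe_filter, Set.mem_ofPred_eq] at hb ⊢
      rw [mem_centralizer_singleton_iff]
      calc v⁻¹ * b * t = v⁻¹ * (b * t * b⁻¹) * b := by group
        _ = t * (v⁻¹ * b) := by rw [hb]; group
    · intro b hb
      simp only [Finset.mem_univ, true_and, Finset.coe_filter, Set.mem_ofPred_eq] at hb ⊢
      rw [mem_centralizer_singleton_iff] at hb
      calc v * b * t * (v * b)⁻¹ = v * (b * t) * b⁻¹ * v⁻¹ := by group
        _ = v * t * v⁻¹ := by rw [hb]; group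
  -- the number of pairs giving `g`
  have hIcard : ∀ g : G, orderOf g = p → (I g).Nonempty → (I g).card = p * c := by
    intro g hg ⟨w₀, hw₀⟩
    set u₀ := w₀ * t * w₀⁻¹ with hu₀
    have hC' : centralizer ({g} : Set G) = zpowers g := by
      refine (eq_of_le_of_card_ge ?_ ?_).symm
      · rw [zpowers_le, mem_centralizer_singleton_iff]
      · rw [card_centralizer_orderOf hP hC hN hG hpn hg, Nat.card_zpowers, hg]
    have hmaps : ∀ w ∈ I g, w * t * w⁻¹ * u₀⁻¹ ∈ zpowers g := by
      intro w hw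
      rw [← hC', mem_centralizer_singleton_iff]
      have e1 := (Finset.mem_filter.1 hw).2
      have e2 := (Finset.mem_filter.1 hw₀).2
      have e3 : u₀⁻¹ * g * u₀ = g⁻¹ := by
        have := hsq w₀
        rw [← hu₀] at this
        rw [this]
        nth_rw 2 [← this]
        exact e2
      have : w * t * w⁻¹ * u₀⁻¹ * g * (w * t * w⁻¹ * u₀⁻¹)⁻¹ = g := by
        calc w * t * w⁻¹ * u₀⁻¹ * g * (w * t * w⁻¹ * u₀⁻¹)⁻¹
            = w * t * w⁻¹ * (u₀⁻¹ * g * u₀) * (w * t * w⁻¹)⁻¹ := by group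
          _ = (w * t * w⁻¹ * g * (w * t * w⁻¹)⁻¹)⁻¹ := by rw [e3]; group
          _ = g := by rw [e1, inv_inv]
      exact mul_inv_eq_iff_eq_mul.1 this
    rw [Finset.card_eq_sum_card_fiberwise
      (f := fun w : G => w * t * w⁻¹ * u₀⁻¹)
      (t := Finset.univ.filter fun x : G => x ∈ zpowers g)
      (fun w hw => Finset.mem_filter.2 ⟨Finset.mem_univ _, hmaps w hw⟩)]
    rw [Finset.sum_congr rfl (g := fun _ => c) fun x hx => ?_, Finset.sum_const, smul_eq_mul,
      ← Fintype.card_subtype, ← Nat.card_eq_fintype_card, Nat.card_zpowers, hg]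
    have hx' := (Finset.mem_filter.1 hx).2
    rw [← hfib (x * u₀) (hshift g hg w₀ hw₀ x hx')]
    congr 1
    ext w
    simp only [hI, Finset.mem_filter, Finset.mem_univ, true_and]
    refine ⟨fun h => mul_inv_eq_iff_eq_mul.1 h.2, fun h => ⟨?_, by rw [h, mul_inv_cancel_right]⟩⟩
    rw [h]
    calc x * u₀ * g * (x * u₀)⁻¹ = x * (u₀ * g * u₀⁻¹) * x⁻¹ := by group
      _ = x * g⁻¹ * x⁻¹ := by rw [(Finset.mem_filter.1 hw₀).2]
      _ = g⁻¹ := by
        obtain ⟨i, rfl⟩ := mem_zpowers_iff.1 hx'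
        rw [((Commute.refl g).zpow_left i).inv_right.eq, mul_inv_cancel_right]
  have hpair : ∀ g : G, orderOf g = p →
      (Finset.univ.filter fun x : G × G => x.1 * t * x.1⁻¹ * (x.2 * t * x.2⁻¹) = g).card =
        (I g).card * c := by
    intro g hg
    rw [Finset.card_eq_sum_card_fiberwise (f := Prod.fst) (t := I g) fun x hx => by
      simp only [Finset.coe_filter, Finset.mem_univ, true_and, Set.mem_ofPred_eq] at hx
      exact Finset.mem_filter.2 ⟨Finset.mem_univ _, hrev g _ _ (hsq _) (hsq _) hx⟩]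
    rw [Finset.sum_congr rfl (g := fun _ => c) fun w hw => ?_, Finset.sum_const, smul_eq_mul]
    -- the partner of `w`
    obtain ⟨v, hv⟩ := hshift g hg w hw g⁻¹ (Subgroup.inv_mem _ (mem_zpowers g))
    have h1 : w * t * w⁻¹ * g = g⁻¹ * (w * t * w⁻¹) :=
      mul_inv_eq_iff_eq_mul.1 (Finset.mem_filter.1 hw).2
    rw [← hfib _ ⟨v, hv⟩]
    refine Finset.card_nbij' Prod.snd (fun z => (w, z)) ?_ ?_ ?_ (fun z _ => rfl)
    · intro x hx
      simp only [Finset.coe_filter, Finset.mem_univ, true_and, Set.mem_ofPred_eq,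
        Finset.mem_filter] at hx ⊢
      obtain ⟨hx, rfl⟩ := hx
      rw [← h1, ← hx, ← mul_assoc]
      nth_rw 2 [← hsq x.1]
      rw [mul_inv_cancel, one_mul]
    · intro z hz
      simp only [Finset.coe_filter, Finset.mem_univ, true_and, Set.mem_ofPred_eq,
        Finset.mem_filter, and_true] at hz ⊢
      rw [hz, ← h1, ← mul_assoc]
      nth_rw 2 [← hsq w]
      rw [mul_inv_cancel, one_mul]
    · intro x hx
      simp only [Finset.coe_filter, Finset.mem_univ, true_and, Set.mem_ofPred_eq,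
        Finset.mem_filter] at hx
      obtain ⟨-, rfl⟩ := hx
      rfl
  -- count the pairs twice
  set S := Finset.univ.filter fun x : G × G =>
    orderOf (x.1 * t * x.1⁻¹ * (x.2 * t * x.2⁻¹)) = p with hS
  set A := Finset.univ.filter fun a : G => orderOf (a * t * a⁻¹ * t) = p with hA
  have hone : S.card = Nat.card G * A.card := by
    rw [Nat.card_eq_fintype_card, ← Finset.card_univ, ← Finset.card_product]
    refine Finset.card_nbij' (fun x => (x.2, x.2⁻¹ * x.1)) (fun x => (x.1 * x.2, x.1)) ?_ ?_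
      (fun x _ => by simp) (fun x _ => by simp)
    · intro x hx
      simp only [hS, hA, Finset.coe_product, Finset.coe_univ, Set.mem_prod, Set.mem_univ, true_and,
        Finset.coe_filter, Finset.mem_univ, Set.mem_ofPred_eq] at hx ⊢
      rw [← hx, ← MulEquiv.orderOf_eq (MulAut.conj x.2)]
      congr 1
      simp only [MulAut.conj_apply]
      group
    · intro x hx
      simp only [hS, hA, Finset.coe_product, Finset.coe_univ, Set.mem_prod, Set.mem_univ, true_and,
        Finset.coe_filter, Finset.mem_univ, Set.mem_ofPred_eq] at hx ⊢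
      rw [← hx, ← MulEquiv.orderOf_eq (MulAut.conj x.1⁻¹)]
      congr 1
      simp only [MulAut.conj_apply]
      group
  have htwo : S.card = ∑ g ∈ Finset.univ.filter (fun g : G => orderOf g = p), (I g).card * c := by
    rw [Finset.card_eq_sum_card_fiberwise
      (f := fun x : G × G => x.1 * t * x.1⁻¹ * (x.2 * t * x.2⁻¹))
      (t := Finset.univ.filter fun g : G => orderOf g = p) (fun x hx => by
        simp only [hS, Finset.coe_filter, Finset.mem_univ, true_and, Set.mem_ofPred_eq] at hx ⊢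
        exact hx)]
    refine Finset.sum_congr rfl fun g hg => ?_
    rw [← hpair g (Finset.mem_filter.1 hg).2]
    congr 1
    ext x
    simp only [hS, Finset.mem_filter, Finset.mem_univ, true_and]
    exact ⟨fun h => h.2, fun h => ⟨h ▸ (Finset.mem_filter.1 hg).2, h⟩⟩
  by_cases hex : ∃ g w : G, orderOf g = p ∧ (w * t * w⁻¹) * g * (w * t * w⁻¹)⁻¹ = g⁻¹
  · have hall : ∀ g : G, orderOf g = p → (I g).card = p * c := by
      intro g hg
      refine hIcard g hg ?_
      obtain ⟨g', w, hg', hw⟩ := hex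
      obtain ⟨b, rfl⟩ := isConj_iff.1 (isConj_of_orderOf_eq hP hC hN hG hpn hg' hg)
      refine ⟨b * w, Finset.mem_filter.2 ⟨Finset.mem_univ _, ?_⟩⟩
      calc b * w * t * (b * w)⁻¹ * (b * g' * b⁻¹) * (b * w * t * (b * w)⁻¹)⁻¹
          = b * (w * t * w⁻¹ * g' * (w * t * w⁻¹)⁻¹) * b⁻¹ := by group
        _ = (b * g' * b⁻¹)⁻¹ := by rw [hw]; group
    refine ⟨c ^ 2, Or.inr rfl, fun _ => rfl, ?_⟩
    rw [Finset.sum_congr rfl (g := fun _ => p * c * c)
      (fun g hg => by rw [hall g (Finset.mem_filter.1 hg).2]), Finset.sum_const, smul_eq_mul,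
      ← mul_assoc, ← mul_assoc, card_orderOf_p hP hC hN hG hpn hp2, hone, mul_assoc] at htwo
    rw [sq]
    exact Nat.eq_of_mul_eq_mul_left Nat.card_pos htwo
  · refine ⟨0, Or.inl rfl, fun h => absurd h hex, ?_⟩
    rw [Finset.sum_eq_zero fun g hg => ?_] at htwo
    · rw [hone] at htwo
      exact (Nat.mul_eq_zero.1 htwo).resolve_left Nat.card_pos.ne'
    · rw [Finset.card_eq_zero.2, zero_mul]
      refine Finset.filter_eq_empty_iff.2 fun w _ hw => hex ⟨g, w, (Finset.mem_filter.1 hg).2, hw⟩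

end Count

section Characters

variable [Fintype G] [hp : Fact p.Prime] (hP : Nat.card P = p)
  (hC : Nat.card (centralizer (P : Set G)) = p)
  (hN : Nat.card (normalizer (P : Set G)) = p * (p - 1)) (hG : Nat.card G = p * (p - 1) * n)
  (hpn : ¬ p ∣ (p - 1) * n) (hp2 : p ≠ 2)

open scoped Classical

include hP hC hN hG hpn in
/-- Characters are integers on the elements of order `p`, congruent to the degree. -/
theorem exists_int_apply_orderOf {χ : G → ℂ} (h : IsIrrCharacter G χ) :
    ∃ m : ℤ, (∀ g : G, orderOf g = p → χ g = m) ∧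
      ∀ d : ℕ, χ 1 = d → (p : ℤ) ∣ (d : ℤ) - m := by
  have : Nontrivial P := Finite.one_lt_card_iff_nontrivial.1 (by rw [hP]; exact hp.out.one_lt)
  obtain ⟨x, hx⟩ := exists_ne (1 : P)
  have hxo : ∀ y : P, y ≠ 1 → orderOf (y : G) = p := fun y hy =>
    ((Nat.dvd_prime hp.out).1 (hP ▸ Subgroup.orderOf_dvd_natCard P y.2)).resolve_left
      fun e => hy (Subtype.ext (orderOf_eq_one_iff.1 e))
  have hcl := Char.isClassFunction_of_isIrr h
  have hc := Char.IsIrr.isCharacter h
  obtain ⟨q, hq⟩ := Char.IsChar.exists_rat hc (x : G) fun k hk => by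
    refine (Char.classFun_isConj hcl (isConj_of_orderOf_eq hP hC hN hG hpn ?_ (hxo x hx)))
    rw [Nat.Coprime.orderOf_pow, hxo x hx]
    rw [hxo x hx]
    exact (hk.coprime_dvd_right (hG ▸ dvd_mul_of_dvd_left (dvd_mul_right p _) n)).symm
  obtain ⟨m, hm⟩ := Char.exists_int_of_isIntegral_rat (q := q) (hq ▸ Char.IsChar.isIntegral hc _)
  have hval : ∀ g : G, orderOf g = p → χ g = m := fun g hg => by
    rw [Char.classFun_isConj hcl (isConj_of_orderOf_eq hP hC hN hG hpn hg (hxo x hx)), hq, ← hm]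
    norm_cast
  refine ⟨m, hval, fun d hd => ?_⟩
  obtain ⟨k, hk⟩ := Char.classInner_isCharacter_eq_natCast (Char.isCharacter_res P hc)
    (Char.isCharacter_one (G := P))
  have hsum : ∑ y : P, χ (y : G) = (d : ℂ) + ((p : ℂ) - 1) * m := by
    rw [← Finset.add_sum_erase _ _ (Finset.mem_univ (1 : P)), OneMemClass.coe_one, hd,
      Finset.sum_congr rfl fun (y : P) hy => hval (y : G) (hxo y (Finset.ne_of_mem_erase hy)),
      Finset.sum_const, Finset.card_erase_of_mem (Finset.mem_univ _), Finset.card_univ,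
      ← Nat.card_eq_fintype_card, hP, nsmul_eq_mul, Nat.cast_sub hp.out.one_le, Nat.cast_one]
  have h2 : (d : ℂ) + ((p : ℂ) - 1) * m = (p : ℂ) * k := by
    rw [← hsum, ← hk, classInner, hP, mul_inv_cancel_left₀ (Nat.cast_ne_zero.2 hp.out.ne_zero)]
    exact Finset.sum_congr rfl fun y _ => by simp
  have h3 : (d : ℤ) + ((p : ℤ) - 1) * m = (p : ℤ) * k := by exact_mod_cast h2
  exact ⟨(k : ℤ) - m, by linarith⟩

include hP hC hN hG hpn hp2 in
/-- The multiplicities of `p` times the indicator of the elements of order `p`. -/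
theorem exists_rational_mult :
    ∃ m : IrrCharacter G → ℤ,
      m ⟨fun _ => 1, Char.isIrrCharacter_one⟩ = 1 ∧
      (∑ χ, m χ ^ 2 = p) ∧
      (∀ (χ : IrrCharacter G) (d : ℕ), (χ : G → ℂ) 1 = d → (p : ℤ) ∣ (d : ℤ) - m χ) ∧
      (∀ g : G, ¬ orderOf g = p → ∑ χ, (m χ : ℂ) * (χ : G → ℂ) g = 0) ∧
      ∀ t : G, orderOf t = 2 → ∃ k : ℕ,
        (k = 0 ∨ k = Nat.card (centralizer ({t} : Set G)) ^ 2) ∧
        ((∃ g w : G, orderOf g = p ∧ (w * t * w⁻¹) * g * (w * t * w⁻¹)⁻¹ = g⁻¹) →
          k = Nat.card (centralizer ({t} : Set G)) ^ 2) ∧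
        ∑ χ, (m χ : ℂ) * ((χ : G → ℂ) t ^ 2 / (χ : G → ℂ) 1) = (p : ℂ) * k / Nat.card G := by
  choose m hm hd using fun χ : IrrCharacter G =>
    exists_int_apply_orderOf hP hC hN hG hpn χ.2
  set F : G → ℂ := fun g => if orderOf g = p then (p : ℂ) else 0 with hF
  have hFc : IsClassFunction G F := fun g k => by
    simp only [hF, show orderOf (k * g * k⁻¹) = orderOf g from MulEquiv.orderOf_eq (MulAut.conj k) g]
  have hcard := card_orderOf_p hP hC hN hG hpn hp2
  have hG0 : (Nat.card G : ℂ) ≠ 0 := Char.card_ne_zero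
  have hin : ∀ χ : IrrCharacter G, classInner F (χ : G → ℂ) = (m χ : ℂ) := by
    intro χ
    simp only [classInner, hF, ite_mul, zero_mul, ← Finset.sum_filter]
    rw [Finset.sum_congr rfl (g := fun _ => (p : ℂ) * (m χ : ℂ)) fun g hg => by
      rw [hm χ g (Finset.mem_filter.1 hg).2, map_intCast], Finset.sum_const, nsmul_eq_mul,
      ← mul_assoc, ← mul_assoc, inv_mul_eq_div, mul_assoc]
    rw [div_mul_eq_mul_div, ← mul_assoc, ← Nat.cast_mul, hcard, mul_div_cancel_left₀ _ hG0]
  have hval : ∀ g, ∑ χ, (m χ : ℂ) * (χ : G → ℂ) g = F g := fun g => by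
    simp only [← hin]
    exact Invol.apply_eq_sum hFc g
  refine ⟨m, ?_, ?_, fun χ d h => hd χ d h, fun g hg => (hval g).trans (if_neg hg), fun t ht => ?_⟩
  · have h1 := hin ⟨fun _ => 1, Char.isIrrCharacter_one⟩
    simp only [classInner, hF, map_one, mul_one, ← Finset.sum_filter, Finset.sum_const,
      nsmul_eq_mul, ← Nat.cast_mul, hcard] at h1
    rw [inv_mul_cancel₀ hG0] at h1
    exact_mod_cast h1.symm
  · have h1 := Char.classInner_eq_sum (f' := F) hFc
    have h2 : classInner F F = (p : ℂ) := by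
      simp only [classInner, hF, ite_mul, zero_mul, ← Finset.sum_filter]
      rw [Finset.sum_congr rfl (g := fun _ => (p : ℂ) * p) fun g hg => by
        rw [if_pos (Finset.mem_filter.1 hg).2, Complex.conj_natCast], Finset.sum_const,
        nsmul_eq_mul, ← mul_assoc (_ : ℂ) (p : ℂ) (p : ℂ), ← Nat.cast_mul, hcard,
        inv_mul_cancel_left₀ hG0]
    rw [h2] at h1
    have h3 : ((∑ χ, m χ ^ 2 : ℤ) : ℂ) = ((p : ℤ) : ℂ) := by
      rw [Int.cast_natCast, h1, Int.cast_sum]
      refine Finset.sum_congr rfl fun χ _ => ?_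
      rw [hin, ← Char.classInner_conj_symm F (χ : G → ℂ), hin, map_intCast]
      push_cast
      ring
    exact_mod_cast h3
  · obtain ⟨k, hk, hk', hA⟩ := card_pairs_orderOf_p hP hC hN hG hpn hp2 ht
    refine ⟨k, hk, hk', ?_⟩
    have e : ∀ χ : IrrCharacter G, (χ : G → ℂ) t ^ 2 / (χ : G → ℂ) 1 =
        (Nat.card G : ℂ)⁻¹ * ∑ a, (χ : G → ℂ) (a * t * a⁻¹ * t) := fun χ => by
      have h := CharArith.classMult χ.2 t t
      have h1 := Char.IsIrr.one_ne_zero χ.2
      field_simp
      linear_combination -h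
    simp only [e, Finset.mul_sum]
    rw [Finset.sum_comm]
    simp only [mul_left_comm _ (Nat.card G : ℂ)⁻¹, ← Finset.mul_sum, hval, hF, ← Finset.sum_filter,
      Finset.sum_const, nsmul_eq_mul]
    rw [hA]
    ring

end Characters

end Cfsg.Agent.SmallOrder
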