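import Cfsg.Agent.SmallOrder.Parity
import Cfsg.Agent.SmallOrder.Rational
import Cfsg.Agent.SmallOrder.ExceptionalOrders
import Cfsg.Agent.S1010

/-!
# The cases for a simple group of order 5040

In each case `P` is a Sylow seven-subgroup and `y` generates it.
-/

set_option autoImplicit false

namespace Cfsg.Agent.SmallOrder.Order5040

open Subgroup

universe u

variable {G : Type u} [Group G] [Finite G] [IsSimpleGroup G]

theorem small_index (hna : ¬ IsMulCommutative G) (h : Nat.card G = 5040) (H : Subgroup G)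
    (hH : H ≠ ⊤) : 8 ≤ H.index := by
  have hd := two_mul_card_dvd hna H hH
  rw [h] at hd
  by_contra! hlt
  interval_cases H.index <;> norm_num [Nat.factorial] at hd

theorem ne_top_of_centralizer (hna : ¬ IsMulCommutative G) {x : G} (hx : x ≠ 1) :
    centralizer ({x} : Set G) ≠ ⊤ := fun e => by
  have : x ∈ center G := mem_center_iff.2 fun g =>
    mem_centralizer_singleton_iff.1 (e ▸ mem_top g : g ∈ _)
  rw [center_eq_bot hna, mem_bot] at this
  exact hx this

/-- An overgroup of the normaliser of index eight or fifteen leaves no room for the centraliser. -/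
theorem overgroup (hna : ¬ IsMulCommutative G) [Fact (Nat.Prime 7)] (P : Sylow 7 G) {y : G}
    (hy : orderOf y = 7) (hyP : zpowers y = (P : Subgroup G)) {H : Subgroup G} (hH : H ≠ ⊤)
    (hNH : normalizer ((P : Subgroup G) : Set G) ≤ H) (hm : H.index = 8 ∨ H.index = 15) :
    Nat.card (centralizer ({y} : Set G)) = 7 ∨ Nat.card (centralizer ({y} : Set G)) = 49 ∨
      Nat.card (centralizer ({y} : Set G)) = 1 := by
  obtain ⟨k, hk, hkp, -, hfix, hd, hd2⟩ := centralizer_bound hna H hH hy
  have hle := card_fixedBy_le_one P hyP hNH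
  rw [hfix] at hle
  obtain ⟨c, hc⟩ : ∃ c, Nat.card (centralizer ({y} : Set G)) = c := ⟨_, rfl⟩
  rw [hc] at hd hd2 ⊢
  have h7 : Nat.Prime 7 := by norm_num
  rcases hm with hm | hm <;> rw [hm] at hkp hle hd hd2
  · obtain rfl : k = 1 := by omega
    have : c ∣ 7 := by simpa [Nat.factorial] using hd
    rcases (Nat.dvd_prime h7).1 this with rfl | rfl <;> simp
  · obtain rfl : k = 2 := by omega
    have h2 : 2 * c ∣ 2 * 49 := by simpa [Nat.factorial] using hd2 (Or.inr le_rfl)
    have : c ∣ 7 ^ 2 := Nat.dvd_of_mul_dvd_mul_left two_pos h2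
    obtain ⟨i, hi, rfl⟩ := (Nat.dvd_prime_pow h7).1 this
    interval_cases i <;> simp

/-- The case `|C(P)| = 70`. -/
theorem case_seventy (hna : ¬ IsMulCommutative G) (h : Nat.card G = 5040) [Fact (Nat.Prime 7)]
    (P : Sylow 7 G) {y : G} (hy : orderOf y = 7) (hyP : zpowers y = (P : Subgroup G))
    (hN : Nat.card (normalizer ((P : Subgroup G) : Set G)) = 140)
    (hC : Nat.card (centralizer ({y} : Set G)) = 70) : False := by
  classical
  have h2 : Fact (Nat.Prime 2) := ⟨Nat.prime_two⟩
  set N := normalizer ((P : Subgroup G) : Set G) with hNdef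
  have hPN : (P : Subgroup G) ≤ N := le_normalizer
  have hyN : y ∈ N := hPN (hyP ▸ mem_zpowers y)
  have hCN : centralizer ({y} : Set G) ≤ N := by
    rw [← centralizer_closure, ← zpowers_eq_closure, hyP]
    exact centralizer_le_normalizer _
  have hNne : N ≠ ⊤ := fun e => by rw [e, card_top, h] at hN; omega
  have hidx : N.index = 36 := by
    have := N.card_mul_index
    rw [hN, h] at this
    omega
  obtain ⟨u', hu'⟩ := exists_prime_orderOf_dvd_card' (G := centralizer ({y} : Set G)) 2
    (by rw [hC]; norm_num)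
  set u : G := (u' : G) with hudef
  have hu : orderOf u = 2 := (Subgroup.orderOf_coe u').trans hu'
  have huy : Commute u y := mem_centralizer_singleton_iff.1 u'.2
  set x₀ : G ⧸ N := ((1 : G) : G ⧸ N) with hx₀
  have hfix₀ : ∀ g ∈ N, g • x₀ = x₀ := fun g hg => by
    rw [hx₀, MulAction.Quotient.smul_mk, smul_eq_mul, mul_one, QuotientGroup.eq]
    simpa using N.inv_mem hg
  -- `y` fixes only the coset `N`
  have honly : ∀ x : G ⧸ N, y • x = x → x = x₀ := by
    intro x hx
    have h1 := card_fixedBy_le_one P hyP le_rfl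
    have := Finite.card_le_one_iff_subsingleton.1 h1
    exact congrArg Subtype.val (Subsingleton.elim (⟨x, hx⟩ : MulAction.fixedBy (G ⧸ N) y)
      ⟨x₀, hfix₀ y hyN⟩)
  -- `u` fixes eight cosets
  set F := MulAction.fixedBy (G ⧸ N) u with hF
  have hF8 : Nat.card F = 8 := by
    obtain ⟨j, hj0, hj⟩ := four_dvd_moved hna N hNne hu
    rw [hidx, ← hF] at hj
    let S : SubMulAction (zpowers y) (G ⧸ N) :=
      { carrier := F
        smul_mem' := fun c x hx => by
          rw [hF, MulAction.mem_fixedBy] at hx ⊢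
          show u • ((c : G) • x) = (c : G) • x
          rw [smul_smul]
          obtain ⟨i, hi⟩ := mem_zpowers_iff.1 c.2
          rw [← hi, (huy.zpow_right i).eq, mul_smul, hx] }
    have hmod := (IsPGroup.of_card (n := 1) (by rw [Nat.card_zpowers, hy, pow_one]) :
      IsPGroup 7 (zpowers y)).card_modEq_card_fixedPoints S
    have hone : Nat.card (MulAction.fixedPoints (zpowers y) S) = 1 := by
      refine Nat.card_eq_one_iff_unique.2 ⟨⟨fun a b => Subtype.ext (Subtype.ext ?_)⟩,
        ⟨⟨⟨x₀, hfix₀ u (hCN u'.2)⟩, fun c => Subtype.ext (hfix₀ c ?_)⟩⟩⟩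
      · rw [honly _ (congrArg Subtype.val (a.2 ⟨y, mem_zpowers y⟩)),
          honly _ (congrArg Subtype.val (b.2 ⟨y, mem_zpowers y⟩))]
      · exact (zpowers_le.2 hyN) c.2
    have hS : Nat.card S = Nat.card F := rfl
    rw [hS, hone] at hmod
    unfold Nat.ModEq at hmod
    omega
  -- involutions of `N` fixing as much centralise `P`
  have hinv : ∀ v ∈ N, orderOf v = 2 → Nat.card (MulAction.fixedBy (G ⧸ N) v) = 8 →
      v ∈ centralizer ({y} : Set G) := by
    intro v hv hv2 hv8
    by_contra hvC
    have hvv : v * v = 1 := by rw [← sq, ← hv2, pow_orderOf_eq_one]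
    have hyP' : y ∈ (P : Subgroup G) := hyP ▸ mem_zpowers y
    have hσ : v * y * v⁻¹ ∈ zpowers y := hyP.symm ▸ (mem_normalizer_iff.1 hv y).1 hyP'
    obtain ⟨i, hi⟩ := mem_zpowers_iff.1 hσ
    have hyinv : v * y * v⁻¹ = y⁻¹ := by
      have hcy : Commute y (v * y * v⁻¹) := hi ▸ (Commute.refl y).zpow_right i
      have hfixv : v * (y * (v * y * v⁻¹)) * v⁻¹ = y * (v * y * v⁻¹) := by
        calc v * (y * (v * y * v⁻¹)) * v⁻¹ = v * y * v⁻¹ * (v * v * y * (v * v)⁻¹) := by group
          _ = v * y * v⁻¹ * y := by rw [hvv, one_mul, inv_one, mul_one]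
          _ = y * (v * y * v⁻¹) := hcy.eq.symm
      by_contra hne
      have hz : y * (v * y * v⁻¹) ∈ zpowers y := mul_mem (mem_zpowers y) hσ
      have hz1 : y * (v * y * v⁻¹) ≠ 1 := fun e => hne (eq_inv_of_mul_eq_one_right e)
      have hgen : zpowers (y * (v * y * v⁻¹)) = zpowers y := by
        refine eq_of_le_of_card_ge (zpowers_le.2 hz) ?_
        rw [Nat.card_zpowers, Nat.card_zpowers, hy]
        exact le_of_eq (((Nat.dvd_prime (by norm_num)).1
          (hy ▸ orderOf_dvd_of_mem_zpowers hz)).resolve_left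
            fun e => hz1 (orderOf_eq_one_iff.1 e)).symm
      obtain ⟨l, hl⟩ := mem_zpowers_iff.1 (hgen.symm ▸ mem_zpowers y : y ∈ zpowers _)
      refine hvC (mem_centralizer_singleton_iff.2 ?_)
      have hcv : Commute v (y * (v * y * v⁻¹)) := mul_inv_eq_iff_eq_mul.1 hfixv
      exact (hl ▸ hcv.zpow_right l : Commute v y).eq
    -- each orbit of `y` meets the fixed cosets once
    let e : {x : MulAction.fixedBy (G ⧸ N) v // x.1 ≠ x₀} × Fin 7 → {x : G ⧸ N // x ≠ x₀} :=
      fun a => ⟨y ^ (a.2 : ℕ) • a.1.1.1, fun e => a.1.2 (by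
        exact MulAction.injective _ (e.trans (hfix₀ _ (N.pow_mem hyN (a.2 : ℕ))).symm))⟩
    have hinj : Function.Injective e := by
      rintro ⟨⟨⟨x, hx⟩, hxne⟩, i⟩ ⟨⟨⟨z, hz⟩, hzne⟩, j⟩ he
      have he' : y ^ (i : ℕ) • x = y ^ (j : ℕ) • z := congrArg Subtype.val he
      rw [MulAction.mem_fixedBy] at hx hz
      set r : ℤ := (i : ℤ) - (j : ℤ) with hr
      have hzx : y ^ r • x = z := by
        rw [hr, zpow_sub, zpow_natCast, zpow_natCast,
          ((Commute.refl y).pow_pow (i : ℕ) (j : ℕ)).inv_right.eq, mul_smul, he', inv_smul_smul]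
      have hzx' : y ^ (-r) • x = z := by
        rw [← hz, ← hzx, smul_smul, zpow_neg, ← inv_zpow,
          show v * y ^ r = y⁻¹ ^ r * v by
            rw [← hyinv, conj_zpow, inv_mul_cancel_right],
          mul_smul, hx]
      have hfx : y ^ (r + r) • x = x := by
        rw [zpow_add, mul_smul, hzx, ← hzx', smul_smul, ← zpow_add, add_neg_cancel, zpow_zero,
          one_smul]
      have hij : (i : ℕ) = (j : ℕ) := by
        by_contra hij
        refine hxne (honly x ?_)
        have hne1 : ¬ (orderOf y : ℤ) ∣ r + r := by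
          rw [hy]; have := i.isLt; have := j.isLt; omega
        have hgen : zpowers (y ^ (r + r)) = zpowers y := by
          refine eq_of_le_of_card_ge (zpowers_le.2 (zpow_mem (mem_zpowers y) _)) ?_
          rw [Nat.card_zpowers, Nat.card_zpowers, hy]
          exact le_of_eq (((Nat.dvd_prime (by norm_num)).1
            (hy ▸ orderOf_dvd_of_mem_zpowers (zpow_mem (mem_zpowers y) _))).resolve_left
              fun e => hne1 (orderOf_dvd_iff_zpow_eq_one.2 (orderOf_eq_one_iff.1 e))).symm
        exact (zpowers_le.2 (show y ^ (r + r) ∈ MulAction.stabilizer G x from hfx))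
          (hgen.symm ▸ mem_zpowers y)
      obtain rfl : i = j := Fin.ext hij
      obtain rfl : x = z := MulAction.injective _ he'
      rfl
    have hle := Nat.card_le_card_of_injective e hinj
    have := Fintype.ofFinite (G ⧸ N)
    have h7 : Nat.card {x : MulAction.fixedBy (G ⧸ N) v // x.1 ≠ x₀} = 7 := by
      rw [Nat.card_congr (Equiv.subtypeEquivRight (q := fun x =>
        ¬ x = (⟨x₀, hfix₀ v hv⟩ : MulAction.fixedBy (G ⧸ N) v)) fun x =>
        ⟨fun hh e => hh (congrArg Subtype.val e), fun hh e => hh (Subtype.ext e)⟩),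
        Nat.card_eq_fintype_card, Fintype.card_subtype_compl, Fintype.card_subtype_eq,
        ← Nat.card_eq_fintype_card, hv8]
    rw [Nat.card_prod, h7, Nat.card_fin, Nat.card_eq_fintype_card, Fintype.card_subtype_compl,
      Fintype.card_subtype_eq, ← Nat.card_eq_fintype_card (α := G ⧸ N), ← index_eq_card,
      hidx] at hle
    omega
  -- so the centraliser of `u` is transitive on the fixed cosets of `u`
  set M := centralizer ({u} : Set G) with hM
  have horb : MulAction.orbit M x₀ = F := by
    ext x
    constructor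
    · rintro ⟨c, rfl⟩
      rw [hF, MulAction.mem_fixedBy]
      show u • ((c : G) • x₀) = (c : G) • x₀
      rw [smul_smul, ← mem_centralizer_singleton_iff.1 c.2, mul_smul, hfix₀ u (hCN u'.2)]
    · intro hx
      induction x using QuotientGroup.induction_on with
      | H g =>
        rw [hF, MulAction.mem_fixedBy] at hx
        have hv : g⁻¹ * u * g ∈ N := by
          rw [MulAction.Quotient.smul_mk, smul_eq_mul, QuotientGroup.eq] at hx
          simpa [mul_assoc] using N.inv_mem hx
        have hv2 : orderOf (g⁻¹ * u * g) = 2 := by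
          rw [show g⁻¹ * u * g = MulAut.conj g⁻¹ u by simp, MulEquiv.orderOf_eq, hu]
        have hv8 : Nat.card (MulAction.fixedBy (G ⧸ N) (g⁻¹ * u * g)) = 8 := by
          rw [← hF8]
          refine Nat.card_congr ((MulAction.toPerm g).subtypeEquiv fun z => ?_)
          rw [MulAction.mem_fixedBy, hF, MulAction.mem_fixedBy, MulAction.toPerm_apply, mul_smul,
            mul_smul, inv_smul_eq_iff]
        have hvC := hinv _ hv hv2 hv8
        -- two involutions of the centraliser of `P` are conjugate there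
        have hS : ∀ a : G, a ∈ centralizer ({y} : Set G) → orderOf a = 2 →
            ∃ T : Sylow 2 (centralizer ({y} : Set G)),
              ∀ b ∈ (T : Subgroup (centralizer ({y} : Set G))), (b : G) = 1 ∨ (b : G) = a := by
          intro a ha ha2
          obtain ⟨T, hT⟩ := (IsPGroup.of_card (n := 1)
            (by rw [Nat.card_zpowers, Subgroup.orderOf_mk, ha2, pow_one]) :
            IsPGroup 2 (zpowers (⟨a, ha⟩ : centralizer ({y} : Set G)))).exists_le_sylow
          refine ⟨T, fun b hb => ?_⟩
          have hTe : (T : Subgroup (centralizer ({y} : Set G))) = zpowers (⟨a, ha⟩ : centralizer ({y} : Set G)) :=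
            (eq_of_le_of_card_ge hT (by
              rw [Nat.card_zpowers, Subgroup.orderOf_mk, ha2,
                card_sylow_eq_pow (a := 1) (m := 35) (by rw [hC]; norm_num) (by norm_num) T,
                pow_one])).symm
          rw [hTe] at hb
          obtain ⟨i, rfl⟩ := mem_zpowers_iff.1 hb
          rcases Int.even_or_odd' i with ⟨w, rfl | rfl⟩
          · left
            rw [SubgroupClass.coe_zpow, zpow_mul, zpow_ofNat, ← ha2, pow_orderOf_eq_one, one_zpow]
          · right
            rw [SubgroupClass.coe_zpow, zpow_add, zpow_one, zpow_mul, zpow_ofNat, ← ha2,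
              pow_orderOf_eq_one, one_zpow, one_mul]
        obtain ⟨Tu, hTu⟩ := hS u u'.2 hu
        obtain ⟨Tv, hTv⟩ := hS _ hvC hv2
        obtain ⟨c, hc⟩ := MulAction.exists_smul_eq (centralizer ({y} : Set G)) Tu Tv
        have hTu2 : Nat.card (Tu : Subgroup (centralizer ({y} : Set G))) = 2 := by
          rw [card_sylow_eq_pow (a := 1) (m := 35) (by rw [hC]; norm_num) (by norm_num) Tu, pow_one]
        have : Nontrivial (Tu : Subgroup (centralizer ({y} : Set G))) :=
          Finite.one_lt_card_iff_nontrivial.1 (by rw [hTu2]; norm_num)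
        obtain ⟨b, hb⟩ := exists_ne (1 : (Tu : Subgroup (centralizer ({y} : Set G))))
        have hbu : ((b : centralizer ({y} : Set G)) : G) = u :=
          (hTu _ b.2).resolve_left fun e => hb (Subtype.ext (Subtype.ext e))
        have hmem : c * b * c⁻¹ ∈ (Tv : Subgroup (centralizer ({y} : Set G))) := by
          rw [← hc, Sylow.coe_subgroup_smul]
          exact ⟨b, b.2, by simp⟩
        have hcb : (c : G) * u * (c : G)⁻¹ = g⁻¹ * u * g := by
          have hres := hTv _ hmem
          rw [Subgroup.coe_mul, Subgroup.coe_mul, Subgroup.coe_inv, hbu] at hres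
          refine hres.resolve_left fun e => ?_
          rw [conj_eq_one_iff] at e
          rw [e, orderOf_one] at hu
          omega
        refine ⟨⟨g * c, ?_⟩, ?_⟩
        · rw [mem_centralizer_singleton_iff]
          calc g * c * u = g * ((c : G) * u * (c : G)⁻¹) * c := by group
            _ = u * (g * c) := by rw [hcb]; group
        · show (g * (c : G)) • x₀ = (g : G ⧸ N)
          rw [mul_smul, hfix₀ _ (hCN c.2), hx₀, MulAction.Quotient.smul_mk, smul_eq_mul, mul_one]
  have := Fintype.ofFinite M
  have := Fintype.ofFinite (MulAction.orbit M x₀)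
  have := Fintype.ofFinite (MulAction.stabilizer M x₀)
  have hcount := MulAction.card_orbit_mul_card_stabilizer_eq_card_group M x₀
  simp only [← Nat.card_eq_fintype_card] at hcount
  rw [horb, hF8] at hcount
  -- the stabiliser has order divisible by twenty-eight
  have hNM : N.subgroupOf M ≤ MulAction.stabilizer M x₀ := fun a ha =>
    hfix₀ (a : G) ha
  have h28 : 28 ∣ Nat.card (N.subgroupOf M) := by
    refine Nat.Coprime.mul_dvd_of_dvd_of_dvd (show Nat.Coprime 4 7 by norm_num) ?_ ?_
    · obtain ⟨T, hT⟩ := (IsPGroup.of_card (n := 1)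
        (by rw [Nat.card_zpowers, Subgroup.orderOf_mk, hu, pow_one]) :
        IsPGroup 2 (zpowers (⟨u, hCN u'.2⟩ : N))).exists_le_sylow
      have hT4 : Nat.card (T : Subgroup N) = 2 ^ 2 :=
        card_sylow_eq_pow (a := 2) (m := 35) (by rw [hN]; norm_num) (by norm_num) T
      have hab := IsPGroup.isMulCommutative_of_card_eq_prime_sq hT4
      have hle : (T : Subgroup N).map N.subtype ≤ N ⊓ M := by
        rintro _ ⟨a, ha, rfl⟩
        refine ⟨a.2, ?_⟩
        refine mem_centralizer_singleton_iff.2 ?_
        show (a : G) * u = u * (a : G)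
        have := (mem_centralizer_iff.1 ((T : Subgroup N).le_centralizer ha)) _
          (hT (mem_zpowers _))
        exact (congrArg Subtype.val this).symm
      have := card_dvd_of_le hle
      rw [← Nat.card_congr ((T : Subgroup N).equivMapOfInjective _ N.subtype_injective).toEquiv,
        hT4] at this
      rwa [← Nat.card_congr (subgroupOfEquivOfLe (inf_le_right : N ⊓ M ≤ M)).toEquiv,
        inf_subgroupOf_right] at this
    · have hyM : y ∈ M := mem_centralizer_singleton_iff.2 huy.eq.symm
      have : (⟨y, hyM⟩ : M) ∈ N.subgroupOf M := hyN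
      have h9 := Subgroup.orderOf_dvd_natCard _ this
      rwa [Subgroup.orderOf_mk, hy] at h9
  have h224 : 224 ∣ Nat.card M := by
    rw [← hcount, show (224 : ℕ) = 8 * 28 by norm_num]
    exact Nat.mul_dvd_mul_left 8 (h28.trans (card_dvd_of_le hNM))
  have := h224.trans M.card_subgroup_dvd_card
  rw [h] at this
  norm_num at this

/-- The case `|C(P)| = 21`. -/
theorem case_twentyone (hna : ¬ IsMulCommutative G) (h : Nat.card G = 5040) [Fact (Nat.Prime 7)]
    (P : Sylow 7 G) {y : G} (hy : orderOf y = 7) (hyP : zpowers y = (P : Subgroup G))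
    (hN : Nat.card (normalizer ((P : Subgroup G) : Set G)) = 42)
    (hC : Nat.card (centralizer ({y} : Set G)) = 21) : False := by
  classical
  have h3 : Fact (Nat.Prime 3) := ⟨by norm_num⟩
  have h5 : Fact (Nat.Prime 5) := ⟨by norm_num⟩
  set N := normalizer ((P : Subgroup G) : Set G) with hNdef
  obtain ⟨w', hw'⟩ := exists_prime_orderOf_dvd_card' (G := centralizer ({y} : Set G)) 3
    (by rw [hC]; norm_num)
  set w : G := (w' : G) with hwdef
  have hw : orderOf w = 3 := (Subgroup.orderOf_coe w').trans hw'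
  have hwy : Commute w y := mem_centralizer_singleton_iff.1 w'.2
  set M := centralizer ({w} : Set G) with hM
  have hMne : M ≠ ⊤ := ne_top_of_centralizer hna fun e => by rw [e, orderOf_one] at hw; omega
  have hyM : y ∈ M := mem_centralizer_singleton_iff.2 hwy.symm.eq
  have hPM : (P : Subgroup G) ≤ M := hyP ▸ zpowers_le.2 hyM
  -- nine divides the centraliser of `w`
  have h9 : 9 ∣ Nat.card M := by
    obtain ⟨R, hR⟩ := (IsPGroup.of_card (n := 1) (by rw [Nat.card_zpowers, hw, pow_one]) :
      IsPGroup 3 (zpowers w)).exists_le_sylow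
    have hR9 : Nat.card (R : Subgroup G) = 3 ^ 2 :=
      card_sylow_eq_pow (a := 2) (m := 560) (by rw [h]; norm_num) (by norm_num) R
    have hle := (le_centralizer_of_le_abelian hR9 hR).trans
      (centralizer_le (Set.singleton_subset_iff.2 (mem_zpowers w)))
    have := card_dvd_of_le hle
    rwa [hR9] at this
  -- the number of Sylow seven-subgroups of that centraliser
  have hm := card_sylow_mul_card_normalizer (P.subtype hPM)
  have hmod := card_sylow_mod (G := M) 7
  set a := Nat.card (normalizer (((P.subtype hPM : Sylow 7 M) : Subgroup M) : Set M)) with ha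
  have ha21 : 21 ∣ a := by
    have hle : centralizer ({y} : Set G) ≤ N ⊓ M := le_inf (by
      rw [← centralizer_closure, ← zpowers_eq_closure, hyP]
      exact centralizer_le_normalizer _) (by
      have hcyc : centralizer ({y} : Set G) = zpowers (y * w) := by
        refine (eq_of_le_of_card_ge (zpowers_le.2 (mul_mem
          (mem_centralizer_singleton_iff.2 rfl) w'.2)) ?_).symm
        rw [hC, Nat.card_zpowers,
          hwy.symm.orderOf_mul_eq_mul_orderOf_of_coprime (by rw [hy, hw]; norm_num), hy, hw]
      rw [hcyc, zpowers_le, hM, mem_centralizer_singleton_iff]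
      exact (hwy.symm.mul_left (Commute.refl w)).eq)
    have := card_dvd_of_le hle
    rwa [hC, ← Nat.card_congr (subgroupOfEquivOfLe (inf_le_right : N ⊓ M ≤ M)).toEquiv,
      inf_subgroupOf_right, hNdef, subgroupOf_normalizer_eq hPM] at this
  have ha42 : a ∣ 42 := by
    rw [ha, Sylow.coe_subtype, ← subgroupOf_normalizer_eq hPM,
      ← inf_subgroupOf_right, Nat.card_congr (subgroupOfEquivOfLe inf_le_right).toEquiv, ← hN]
    exact card_dvd_of_le inf_le_left
  obtain ⟨b, hb⟩ := ha21
  have hb12 : b = 1 ∨ b = 2 := by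
    rw [hb, show 42 = 21 * 2 by norm_num] at ha42
    exact (Nat.dvd_prime Nat.prime_two).1 (Nat.dvd_of_mul_dvd_mul_left (by norm_num) ha42)
  obtain ⟨m, hm'⟩ : ∃ m, Nat.card (Sylow 7 M) = m := ⟨_, rfl⟩
  rw [hm', hb] at hm
  rw [hm'] at hmod
  have hi := M.card_mul_index
  rw [h] at hi
  have h8 := small_index hna h M hMne
  have hmb : m * b * M.index = 240 := by
    have : m * (21 * b) * M.index = 5040 := by rw [hm, hi]
    linarith
  have hm30 : m ≤ 30 := by
    have hmb' : m * b * 8 ≤ m * b * M.index := Nat.mul_le_mul_left _ h8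
    rcases hb12 with rfl | rfl <;> omega
  have h3m : 3 ∣ m := by
    rw [← hm] at h9
    rcases hb12 with rfl | rfl <;> omega
  obtain ⟨rfl, hbi⟩ : m = 15 ∧ b * M.index = 16 := by
    have : m = 15 := by omega
    subst this
    exact ⟨rfl, by linarith⟩
  rcases hb12 with rfl | rfl
  · -- order 315: a normal Sylow five-subgroup
    have hM315 : Nat.card M = 315 := by rw [← hm]
    have hd5 := card_sylow_dvd (G := M) (p := 5) (a := 1) (m := 63) (by rw [hM315]; norm_num)
      (by norm_num)
    have hm5 := card_sylow_mod (G := M) 5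
    have hne21 := S1010.result (G := M)
    obtain ⟨n5, hn5⟩ : ∃ n5, Nat.card (Sylow 5 M) = n5 := ⟨_, rfl⟩
    rw [hn5] at hd5 hm5 hne21
    have hn1 : n5 = 1 := by
      have := Nat.le_of_dvd (by norm_num) hd5
      interval_cases n5 <;> omega
    have : Subsingleton (Sylow 5 M) := (Nat.card_eq_one_iff_unique.1 (hn5.trans hn1)).1
    obtain ⟨Q⟩ : Nonempty (Sylow 5 M) := Sylow.nonempty
    have hQ5 : Nat.card (Q : Subgroup M) = 5 := by
      rw [card_sylow_eq_pow (a := 1) (m := 63) (by rw [hM315]; norm_num) (by norm_num) Q, pow_one]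
    have hyQ : (⟨y, hyM⟩ : M) ∈ centralizer ((Q : Subgroup M) : Set M) := by
      refine mem_centralizer_of_order (q := 7) ?_ (by rw [Subgroup.orderOf_mk, hy]) ?_
      · exact Sylow.smul_eq_iff_mem_normalizer.1 (Subsingleton.elim _ _)
      · intro d hd hdm
        rw [hQ5] at hd hdm ⊢
        rcases (Nat.dvd_prime h5.out).1 hd with rfl | rfl
        · simp [Nat.ModEq] at hdm
        · rfl
    obtain ⟨q, hq⟩ := exists_prime_orderOf_dvd_card' (G := (Q : Subgroup M)) 5 hQ5.symm.dvd
    have hqy : ((q : M) : G) ∈ centralizer ({y} : Set G) := mem_centralizer_singleton_iff.2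
      (congrArg Subtype.val (mem_centralizer_iff.1 hyQ _ q.2))
    have := Subgroup.orderOf_dvd_natCard _ hqy
    rw [hC, Subgroup.orderOf_coe, Subgroup.orderOf_coe, hq] at this
    norm_num at this
  · -- index eight
    obtain ⟨k, hk, hkp, -, -, hd, -⟩ := centralizer_bound hna M hMne hy
    rw [show M.index = 8 by omega] at hkp hd
    obtain rfl : k = 1 := by omega
    rw [hC] at hd
    norm_num [Nat.factorial] at hd

/-- The case `|C(P)| = 14`. -/
theorem case_fourteen (hna : ¬ IsMulCommutative G) (h : Nat.card G = 5040) [Fact (Nat.Prime 7)]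
    (P : Sylow 7 G) {y : G} (hy : orderOf y = 7) (hyP : zpowers y = (P : Subgroup G))
    (hN : Nat.card (normalizer ((P : Subgroup G) : Set G)) = 42)
    (hC : Nat.card (centralizer ({y} : Set G)) = 14) : False := by
  classical
  have h2 : Fact (Nat.Prime 2) := ⟨Nat.prime_two⟩
  set N := normalizer ((P : Subgroup G) : Set G) with hNdef
  obtain ⟨u', hu'⟩ := exists_prime_orderOf_dvd_card' (G := centralizer ({y} : Set G)) 2
    (by rw [hC]; norm_num)
  set u : G := (u' : G) with hudef
  have hu : orderOf u = 2 := (Subgroup.orderOf_coe u').trans hu'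
  have huy : Commute u y := mem_centralizer_singleton_iff.1 u'.2
  set M := centralizer ({u} : Set G) with hM
  have hMne : M ≠ ⊤ := ne_top_of_centralizer hna fun e => by rw [e, orderOf_one] at hu; omega
  have hcyc : centralizer ({y} : Set G) = zpowers (y * u) := by
    refine (eq_of_le_of_card_ge (zpowers_le.2 (mul_mem
      (mem_centralizer_singleton_iff.2 rfl) u'.2)) ?_).symm
    rw [hC, Nat.card_zpowers,
      huy.symm.orderOf_mul_eq_mul_orderOf_of_coprime (by rw [hy, hu]; norm_num), hy, hu]
  have hCP : centralizer ((P : Subgroup G) : Set G) = centralizer ({y} : Set G) := by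
    rw [← hyP, zpowers_eq_closure, centralizer_closure]
  have hNM : N ≤ M := by
    intro g hg
    have hgC : g * u * g⁻¹ ∈ centralizer ((P : Subgroup G) : Set G) := by
      refine mem_centralizer_iff.2 fun a ha => ?_
      have ha' : g⁻¹ * a * g ∈ (P : Subgroup G) := (mem_normalizer_iff''.1 hg a).1 ha
      have := mem_centralizer_iff.1 (hCP.symm ▸ u'.2 : u ∈ _) _ ha'
      calc a * (g * u * g⁻¹) = g * (g⁻¹ * a * g * u) * g⁻¹ := by group
        _ = g * (u * (g⁻¹ * a * g)) * g⁻¹ := by rw [this]
        _ = g * u * g⁻¹ * a := by group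
    rw [hCP, hcyc] at hgC
    obtain ⟨i, hi⟩ := mem_zpowers_iff.1 hgC
    have hsq : (g * u * g⁻¹) ^ (2 : ℤ) = 1 := by
      rw [conj_zpow, zpow_ofNat, ← hu, pow_orderOf_eq_one, mul_one, mul_inv_cancel]
    rw [← hi, ← zpow_mul, ← orderOf_dvd_iff_zpow_eq_one,
      huy.symm.orderOf_mul_eq_mul_orderOf_of_coprime (by rw [hy, hu]; norm_num), hy, hu] at hsq
    obtain ⟨l, rfl⟩ : (7 : ℤ) ∣ i := by omega
    have hyl : y ^ (7 * l) = 1 := orderOf_dvd_iff_zpow_eq_one.1 (by rw [hy]; exact dvd_mul_right _ l)
    rw [huy.symm.mul_zpow, hyl, one_mul] at hi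
    rcases Int.even_or_odd' (7 * l) with ⟨j, hj | hj⟩
    · rw [hj, zpow_mul, zpow_ofNat, ← hu, pow_orderOf_eq_one, one_zpow] at hi
      have : u = 1 := by rw [← conj_eq_one_iff (a := g)]; exact hi.symm
      rw [this, orderOf_one] at hu
      omega
    · rw [hj, zpow_add, zpow_one, zpow_mul, zpow_ofNat, ← hu, pow_orderOf_eq_one, one_zpow,
        one_mul] at hi
      rw [hM, mem_centralizer_singleton_iff]
      exact mul_inv_eq_iff_eq_mul.1 hi.symm
  have hPM : (P : Subgroup G) ≤ M := le_normalizer.trans hNM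
  have hm := card_sylow_mul_card_normalizer (P.subtype hPM)
  have hmod := card_sylow_mod (G := M) 7
  rw [Sylow.coe_subtype, ← subgroupOf_normalizer_eq hPM,
    Nat.card_congr (subgroupOfEquivOfLe hNM).toEquiv, hN] at hm
  obtain ⟨m, hm'⟩ : ∃ m, Nat.card (Sylow 7 M) = m := ⟨_, rfl⟩
  rw [hm'] at hm hmod
  have hi := M.card_mul_index
  rw [← hm, h] at hi
  have h8 := small_index hna h M hMne
  have h4 : 4 ∣ m * 42 := hm ▸ four_dvd_card_centralizer (by rw [h]; norm_num) hu
  have hmi : m * M.index = 120 := by linarith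
  have hm15 : m ≤ 15 := by
    have : m * 8 ≤ m * M.index := Nat.mul_le_mul_left _ h8
    omega
  have hm' : M.index = 8 ∨ M.index = 15 := by
    have : m = 8 ∨ m = 15 := by omega
    rcases this with rfl | rfl <;> omega
  rcases overgroup hna P hy hyP hMne hNM hm' with e | e | e <;> omega

end Cfsg.Agent.SmallOrder.Order5040
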