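import Mathlib

/-!
# The finite check for order 5040

`terms` lists the possible pairs (multiplicity, degree); `check` says that for each multiset of
terms of norm six no values at an involution fit, except saturated ones.
-/

set_option autoImplicit false

namespace Cfsg.Agent.SmallOrder.Table5040

/-- The possible terms. -/
def terms : List (ℤ × ℕ) := [(2, 2), (-2, 5), (-1, 6), (1, 8), (2, 9), (-2, 12), (1, 15), (2, 16), (-1, 20), (2, 30), (1, 36), (-2, 40), (-1, 48)]
/-- The square of a multiplicity. -/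
def wt (x : ℤ × ℕ) : ℕ := x.1.natAbs * x.1.natAbs
/-- Lists of terms of given norm. -/
def gen : List (ℤ × ℕ) → ℕ → List (List (ℤ × ℕ))
  | [], q => if q = 0 then [[]] else []
  | x :: xs, q => (List.range (q / wt x + 1)).flatMap fun k =>
      (gen xs (q - k * wt x)).map (List.replicate k x ++ ·)
/-- Possible values of a character of degree `d` at an involution. -/
def vals (d : ℕ) : List ℤ :=
  if d ≤ 18 then (List.range (d / 2 + 1)).map fun i : ℕ => (d : ℤ) - 4 * i
  else (List.range 10).map fun i : ℕ => (((d + 18) % 4 : ℕ) : ℤ) - 18 + 4 * i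
/-- Possible orders of the centraliser of an involution. -/
def cents : List ℕ :=
  [2, 4, 6, 8, 10, 12, 16, 18, 20, 24, 30, 36, 40, 48, 60, 72, 80, 90, 120, 144, 180, 240, 360]
/-- The largest positive weight. -/
def top (L : List (ℤ × ℕ)) : ℕ :=
  L.foldr (fun x M => max (if 0 < x.1 then x.1.natAbs * (720 / x.2) else 0) M) 0
/-- All choices of values. -/
def scan (B : ℤ) (ok : Bool) : List (ℤ × ℕ) → ℤ → ℤ → ℤ → Bool
  | [], tot, sq, v => tot != -1 || decide (B < sq) || cents.all fun c =>
      !(v == (c : ℤ) * c) || decide ((c : ℤ) < sq) || (ok && sq == (c : ℤ))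
  | x :: xs, tot, sq, v => decide (B < sq) || (vals x.2).all fun a =>
      scan B ok xs (tot + x.1 * a) (sq + a * a) (v + x.1 * (a * a) * ((720 / x.2 : ℕ) : ℤ))
/-- The bound for the centraliser. -/
def bound (L : List (ℤ × ℕ)) : ℕ :=
  (cents.filter fun c => decide (c * c ≤ 720 + (c - 1) * top L)).foldr max 0
/-- One list of terms fits no values. -/
def good (L : List (ℤ × ℕ)) : Bool :=
  (L.map fun x => x.1 * (x.2 : ℤ)).sum != -1 || decide (5040 < 1 + (L.map fun x => x.2 * x.2).sum) ||
    scan (bound L : ℕ) ((5039 - (L.map fun x => x.2 * x.2).sum) % 784 != 0) L 0 1 720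

set_option maxHeartbeats 4000000 in
theorem check : ((gen terms 6).all good) = true := by decide +kernel

theorem gen_complete : ∀ (xs : List (ℤ × ℕ)) (q : ℕ) (L : List (ℤ × ℕ)), (∀ a ∈ L, a ∈ xs) →
    (∀ a ∈ L, wt a ≠ 0) → (L.map wt).sum = q → ∃ L' ∈ gen xs q, L'.Perm L
  | [], q, L, hmem, _, hq => by
    obtain rfl : L = [] := List.eq_nil_iff_forall_not_mem.2 fun a ha => absurd (hmem a ha) (by simp)
    simp only [List.map_nil, List.sum_nil] at hq
    subst hq
    exact ⟨[], by simp [gen], List.Perm.refl _⟩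
  | x :: xs, q, L, hmem, hne, hq => by
    set p : ℤ × ℕ → Bool := fun a => decide (a = x) with hp
    have hperm := List.filter_append_perm p L
    have hrep : L.filter p = List.replicate (L.filter p).length x :=
      List.eq_replicate_iff.2 ⟨rfl, fun a ha => by simpa [hp] using (List.mem_filter.1 ha).2⟩
    have hsum := (hperm.map wt).sum_eq
    rw [List.map_append, List.sum_append, hrep, List.map_replicate, List.sum_replicate, smul_eq_mul,
      hq] at hsum
    obtain ⟨L', hL', hp'⟩ := gen_complete xs (q - (L.filter p).length * wt x)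
      (L.filter fun a => !p a) (fun a ha => by
        obtain ⟨ha1, ha2⟩ := List.mem_filter.1 ha
        refine (List.mem_cons.1 (hmem a ha1)).resolve_left ?_
        simpa [hp] using ha2) (fun a ha => hne a (List.mem_filter.1 ha).1) (by omega)
    refine ⟨List.replicate (L.filter p).length x ++ L', ?_, ?_⟩
    · simp only [gen, List.mem_flatMap, List.mem_range, List.mem_map]
      refine ⟨(L.filter p).length, ?_, L', hL', rfl⟩
      rcases Nat.eq_zero_or_pos (L.filter p).length with h0 | h0
      · rw [h0]; exact Nat.succ_pos _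
      · have hx : wt x ≠ 0 := by
          obtain ⟨a, ha⟩ := List.exists_mem_of_length_pos h0
          obtain ⟨ha1, ha2⟩ := List.mem_filter.1 ha
          obtain rfl : a = x := by simpa [hp] using ha2
          exact hne a ha1
        have : (L.filter p).length ≤ q / wt x :=
          (Nat.le_div_iff_mul_le (Nat.pos_of_ne_zero hx)).2 (by omega)
        omega
    · refine (hp'.append_left _).trans ?_
      rw [← hrep]
      exact hperm

theorem exists_perm_map {α β : Type*} (f : α → β) : ∀ {l₁ : List β} {l : List α},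
    l₁.Perm (l.map f) → ∃ l' : List α, l'.Perm l ∧ l'.map f = l₁
  | [], l, h => ⟨[], by simpa using h, rfl⟩
  | b :: l₁, l, h => by
    obtain ⟨a, ha, rfl⟩ := List.mem_map.1 (h.subset (List.mem_cons_self ..))
    obtain ⟨s, t, rfl⟩ := List.append_of_mem ha
    have h' : l₁.Perm ((s ++ t).map f) := by
      rw [List.map_append]
      refine List.Perm.cons_inv (h.trans ?_)
      rw [List.map_append, List.map_cons]
      exact List.perm_middle
    obtain ⟨l', hl', e⟩ := exists_perm_map f h'
    exact ⟨a :: l', (hl'.cons a).trans List.perm_middle.symm, by rw [List.map_cons, e]⟩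

theorem mem_vals {d : ℕ} {a : ℤ} (h1 : a.natAbs ≤ d) (h4 : (4 : ℤ) ∣ (d : ℤ) - a)
    (hb : -18 ≤ a ∧ a ≤ 18) : a ∈ vals d := by
  simp only [vals]
  split_ifs with h
  · simp only [List.mem_map, List.mem_range]
    exact ⟨(((d : ℤ) - a) / 4).toNat, by omega, by omega⟩
  · simp only [List.mem_map, List.mem_range]
    exact ⟨((a + 18 - (((d + 18) % 4 : ℕ) : ℤ)) / 4).toNat, by omega, by omega⟩

theorem scan_sound {α : Type*} (f : α → ℤ × ℕ) (a : α → ℤ) (B : ℤ) (ok : Bool) :
    ∀ (l : List α) (tot sq v : ℤ), scan B ok (l.map f) tot sq v = true →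
      (∀ x ∈ l, a x ∈ vals (f x).2) → tot + (l.map fun x => (f x).1 * a x).sum = -1 →
      sq + (l.map fun x => a x * a x).sum ≤ B → ∀ c ∈ cents,
      v + (l.map fun x => (f x).1 * (a x * a x) * ((720 / (f x).2 : ℕ) : ℤ)).sum = (c : ℤ) * c →
      sq + (l.map fun x => a x * a x).sum ≤ (c : ℤ) →
      ok = true ∧ sq + (l.map fun x => a x * a x).sum = (c : ℤ)
  | [], tot, sq, v, h, _, htot, hB, c, hc, hv, hle => by
    simp only [List.map_nil, List.sum_nil, add_zero] at htot hB hv hle ⊢
    simp only [List.map_nil, scan, Bool.or_eq_true, bne_iff_ne, ne_eq, htot, not_true_eq_false,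
      false_or, decide_eq_true_eq, List.all_eq_true] at h
    rcases h with h | h
    · omega
    · have h9 := h c hc
      simp only [Bool.not_eq_true', beq_eq_false_iff_ne, hv, ne_eq, not_true_eq_false, false_or,
        Bool.and_eq_true, beq_iff_eq] at h9
      rcases h9 with h9 | h9
      · omega
      · exact h9
  | x :: l, tot, sq, v, h, ha, htot, hB, c, hc, hv, hle => by
    simp only [List.map_cons, List.sum_cons] at htot hB hv hle ⊢
    have hnn : 0 ≤ (l.map fun x => a x * a x).sum :=
      List.sum_nonneg fun z hz => by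
        obtain ⟨y, -, rfl⟩ := List.mem_map.1 hz
        exact mul_self_nonneg _
    simp only [List.map_cons, scan, Bool.or_eq_true, decide_eq_true_eq, List.all_eq_true] at h
    have hsq := mul_self_nonneg (a x)
    rcases h with h | h
    · omega
    · obtain ⟨h1, h2⟩ := scan_sound f a B ok l _ _ _ (h (a x) (ha x (List.mem_cons_self ..)))
        (fun y hy => ha y (List.mem_cons_of_mem _ hy)) (by linarith) (by linarith) c hc
        (by linarith) (by linarith)
      exact ⟨h1, by linarith⟩

theorem le_foldr_max {α : Type*} (g : α → ℕ) : ∀ {l : List α} {x : α}, x ∈ l →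
    g x ≤ l.foldr (fun y M => max (g y) M) 0
  | y :: l, x, h => by
    rcases List.mem_cons.1 h with rfl | h
    · exact le_max_left _ _
    · exact (le_foldr_max g h).trans (le_max_right _ _)

theorem le_bound {L : List (ℤ × ℕ)} {c : ℕ} (hc : c ∈ cents)
    (h : c * c ≤ 720 + (c - 1) * top L) : c ≤ bound L :=
  le_foldr_max (fun y => y) (List.mem_filter.2 ⟨hc, decide_eq_true h⟩)

theorem weight_le {L : List (ℤ × ℕ)} {x : ℤ × ℕ} (hx : x ∈ L) (s : ℤ) (hs : 0 ≤ s) :
    x.1 * s * ((720 / x.2 : ℕ) : ℤ) ≤ (top L : ℤ) * s := by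
  have h := le_foldr_max (fun x : ℤ × ℕ => if 0 < x.1 then x.1.natAbs * (720 / x.2) else 0) hx
  rcases le_or_gt x.1 0 with h0 | h0
  · have : x.1 * s * ((720 / x.2 : ℕ) : ℤ) ≤ 0 :=
      mul_nonpos_of_nonpos_of_nonneg (mul_nonpos_of_nonpos_of_nonneg h0 hs) (Int.natCast_nonneg _)
    exact this.trans (mul_nonneg (Int.natCast_nonneg _) hs)
  · simp only [if_pos h0] at h
    rw [show x.1 * s * ((720 / x.2 : ℕ) : ℤ) = (x.1 * ((720 / x.2 : ℕ) : ℤ)) * s by ring]
    refine mul_le_mul_of_nonneg_right ?_ hs
    have h' : ((x.1.natAbs * (720 / x.2) : ℕ) : ℤ) ≤ (top L : ℤ) := by exact_mod_cast h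
    rwa [Nat.cast_mul, Int.natAbs_of_nonneg h0.le] at h'

theorem mem_terms : ∀ d ∈ List.range 71, 5040 % d = 0 → d ≠ 1 → ∀ m ∈ [(1 : ℤ), -1, 2, -2],
    ((d : ℤ) - m) % 7 = 0 → (m, d) ∈ terms := by decide +kernel

theorem mem_cents : ∀ c : ℕ, c < 720 → c % 2 = 0 → 720 % c = 0 → c ∈ cents := by decide +kernel

theorem terms_dvd : ∀ x ∈ terms, x.2 ∣ 720 ∧ wt x ≠ 0 := by decide +kernel

end Cfsg.Agent.SmallOrder.Table5040
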