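import Cfsg.Agent.SmallOrder.LocalTest

/-!
# Two lines in a Sylow subgroup of order `p ^ 2`

If every local subgroup meeting the situation has `p + 1` Sylow `p`-subgroups, the intersections of
`P` with the other Sylow subgroups are as many lines as `(n - 1) / p` says modulo `p`.
-/

set_option autoImplicit false

namespace Cfsg.Agent.SmallOrder

open Subgroup

universe u

variable {G : Type u} [Group G] [Finite G] {p : ℕ} [hp : Fact p.Prime]

open Pointwise in
omit hp [Finite G] in
/-- Conjugation by an element of the normaliser fixes the subgroup. -/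
theorem conj_smul_self {H : Subgroup G} {g : G} (hg : g ∈ normalizer (H : Set G)) :
    MulAut.conj g • H = H := by
  ext x
  rw [mem_pointwise_smul_iff_inv_smul_mem, ← map_inv, MulAut.smul_def, MulAut.conj_apply, inv_inv]
  exact (mem_normalizer_iff''.1 hg x).symm

open Pointwise in
/-- When `n ≡ 1 + 2 p` modulo `p ^ 2`, there are two lines permuted by the normaliser. -/
theorem two_lines (hPc : ∀ P : Sylow p G, Nat.card (P : Subgroup G) = p ^ 2) (hp3 : 3 ≤ p)
    (hn : Nat.card (Sylow p G) % (p * p) = 1 + 2 * p)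
    (hloc : ∀ R : Subgroup G, Nat.card R = p → 1 < Nat.card (Sylow p (normalizer (R : Set G))) →
      (∃ P : Sylow p G, R ≤ (P : Subgroup G)) →
      Nat.card (Sylow p (normalizer (R : Set G))) = p + 1)
    (P : Sylow p G) :
    ∃ R₁ R₂ : Subgroup G, R₁ ≠ R₂ ∧ R₁ ≤ (P : Subgroup G) ∧ R₂ ≤ (P : Subgroup G) ∧
      Nat.card R₁ = p ∧ Nat.card R₂ = p ∧ 1 < Nat.card (Sylow p (normalizer (R₁ : Set G))) ∧
      ∀ g ∈ normalizer ((P : Subgroup G) : Set G),
        R₁.map (MulAut.conj g).toMonoidHom = R₁ ∧ R₂.map (MulAut.conj g).toMonoidHom = R₂ ∨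
        R₁.map (MulAut.conj g).toMonoidHom = R₂ ∧ R₂.map (MulAut.conj g).toMonoidHom = R₁ := by
  classical
  have := Fintype.ofFinite (Sylow p G)
  have := Fintype.ofFinite (Subgroup G)
  have hab : IsMulCommutative (P : Subgroup G) := ⟨⟨IsPGroup.commutative_of_card_eq_prime_sq (hPc P)⟩⟩
  set I : Sylow p G → Subgroup G := fun Q => (P : Subgroup G) ⊓ Q with hI
  set T : Finset (Sylow p G) := Finset.univ.filter fun Q => Q ≠ P ∧ Nat.card (I Q) = p with hT
  set L : Finset (Subgroup G) := T.image I with hL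
  have hInorm : ∀ Q : Sylow p G, (P : Subgroup G) ≤ normalizer (I Q : Set G) := by
    intro Q
    have : (P : Subgroup G) ≤ centralizer (I Q : Set G) :=
      (P : Subgroup G).le_centralizer.trans (centralizer_le inf_le_left)
    exact this.trans (centralizer_le_normalizer _)
  -- the orbit sizes
  have hcardI : ∀ Q : Sylow p G, Q ≠ P → Nat.card (I Q) = 1 ∨ Nat.card (I Q) = p := by
    intro Q hQ
    have h1 : Nat.card (I Q) ∣ p ^ 2 := hPc P ▸ card_dvd_of_le inf_le_left
    obtain ⟨i, hi, hie⟩ := (Nat.dvd_prime_pow hp.out).1 h1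
    rcases (show i = 0 ∨ i = 1 ∨ i = 2 by omega) with rfl | rfl | rfl
    · exact Or.inl (hie.trans (pow_zero p))
    · exact Or.inr (hie.trans (pow_one p))
    · refine absurd (Sylow.ext ?_) hQ
      have h2 : I Q = P := eq_of_le_of_card_ge inf_le_left (by rw [hie, hPc])
      have h3 : (P : Subgroup G) ≤ Q := h2 ▸ inf_le_right
      exact (eq_of_le_of_card_ge h3 (by rw [hPc, hPc])).symm
  have horb : ∀ Q : Sylow p G, Nat.card (MulAction.orbit (P : Subgroup G) Q) * Nat.card (I Q) =
      p ^ 2 := by
    intro Q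
    rw [card_orbit_sylow, ← hPc P,
      ← ((Q : Subgroup G).subgroupOf (P : Subgroup G)).card_mul_index, mul_comm]
    congr 1
    rw [← inf_subgroupOf_left, Nat.card_congr (subgroupOfEquivOfLe inf_le_left).toEquiv]
  have hsmul : ∀ (g : (P : Subgroup G)) (Q : Sylow p G), I (g • Q) = I Q := by
    intro g Q
    have hgP : MulAut.conj (g : G) • (P : Subgroup G) = P :=
      conj_smul_self (le_normalizer g.2)
    have h1 : I (g • Q) = MulAut.conj (g : G) • I Q := by
      rw [hI]
      show (P : Subgroup G) ⊓ ((g • Q : Sylow p G) : Subgroup G) = _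
      rw [Subgroup.smul_inf, hgP]
      rfl
    rw [h1]
    exact conj_smul_self (hInorm Q g.2)
  have hfix : ∀ g : (P : Subgroup G), g • P = P := fun g =>
    Sylow.smul_eq_iff_mem_normalizer.2 (le_normalizer g.2)
  -- each fibre has `p` members
  have hfib : ∀ R ∈ L, (T.filter fun Q => I Q = R).card = p ∧ Nat.card R = p ∧
      1 < Nat.card (Sylow p (normalizer (R : Set G))) ∧ R ≤ (P : Subgroup G) := by
    intro R hR
    obtain ⟨Q, hQ, rfl⟩ := Finset.mem_image.1 hR
    obtain ⟨-, hQP, hQc⟩ := Finset.mem_filter.1 hQ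
    have hle : ∀ Q' : Sylow p G, I Q' = I Q → (Q' : Subgroup G) ≤ normalizer (I Q : Set G) := by
      intro Q' e
      have hab' : IsMulCommutative (Q' : Subgroup G) :=
        ⟨⟨IsPGroup.commutative_of_card_eq_prime_sq (hPc Q')⟩⟩
      have h1 : I Q ≤ (Q' : Subgroup G) := e ▸ inf_le_right
      exact ((Q' : Subgroup G).le_centralizer.trans (centralizer_le h1)).trans
        (centralizer_le_normalizer _)
    have hgt := one_lt_card_sylow_of_ne (hInorm Q) (hle Q rfl) hQP.symm
    have hN := hloc (I Q) hQc hgt ⟨P, inf_le_left⟩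
    refine ⟨le_antisymm ?_ ?_, hQc, hgt, inf_le_left⟩
    · have hinj : (insert P (T.filter fun Q' => I Q' = I Q)).card ≤ p + 1 := by
        rw [← hN, ← Fintype.card_coe, ← Nat.card_eq_fintype_card]
        refine Nat.card_le_card_of_injective
          (fun x => (x : Sylow p G).subtype (show ((x : Sylow p G) : Subgroup G) ≤
            normalizer (I Q : Set G) from by
            rcases Finset.mem_insert.1 x.2 with e | e
            · rw [e]; exact hInorm Q
            · exact hle _ (Finset.mem_filter.1 e).2)) ?_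
        intro x y e
        exact Subtype.ext (Sylow.subtype_injective e)
      rw [Finset.card_insert_of_notMem fun h => (Finset.mem_filter.1 (Finset.mem_filter.1 h).1).2.1 rfl]
        at hinj
      omega
    · have h1 : Nat.card (MulAction.orbit (P : Subgroup G) Q) = p := by
        have := horb Q
        rw [hQc, pow_two] at this
        exact Nat.eq_of_mul_eq_mul_right hp.out.pos this
      refine h1.symm.le.trans ?_
      rw [← Fintype.card_coe, ← Nat.card_eq_fintype_card]
      refine Nat.card_le_card_of_injective (fun x => ⟨(x : Sylow p G), ?_⟩) ?_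
      · obtain ⟨g, hg⟩ := x.2
        simp only [Finset.mem_filter, hT, Finset.mem_univ, true_and, ← hg, hsmul]
        exact ⟨⟨fun e => hQP (smul_left_cancel g (e.trans (hfix g).symm)), hQc⟩, trivial⟩
      · intro x y e
        exact Subtype.ext (congrArg Subtype.val e :)
  have hTcard : T.card = L.card * p := by
    rw [Finset.card_eq_sum_card_image I T, ← hL, Finset.sum_congr rfl fun R hR => (hfib R hR).1,
      Finset.sum_const, smul_eq_mul]
  -- the others fall into orbits of length `p ^ 2`
  have hrest : p * p ∣ Nat.card {Q : Sylow p G // Q ≠ P ∧ Nat.card (I Q) ≠ p} := by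
    let S : SubMulAction (P : Subgroup G) (Sylow p G) :=
      { carrier := {Q | Q ≠ P ∧ Nat.card (I Q) ≠ p}
        smul_mem' := fun g Q hQ => ⟨fun e => hQ.1 (smul_left_cancel g (e.trans (hfix g).symm)),
          by rw [hsmul]; exact hQ.2⟩ }
    refine dvd_card_of_dvd_orbit (H := (P : Subgroup G)) (X := S) fun x => ?_
    have h1 : Nat.card (MulAction.orbit (P : Subgroup G) x) =
        Nat.card (MulAction.orbit (P : Subgroup G) (x : Sylow p G)) := by
      rw [← SubMulAction.val_image_orbit, Nat.card_image_of_injective Subtype.val_injective]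
    have h2 := horb (x : Sylow p G)
    rw [(hcardI _ x.2.1).resolve_right x.2.2, mul_one, pow_two] at h2
    rw [h1, h2]
  have htotal : Nat.card (Sylow p G) =
      1 + T.card + Nat.card {Q : Sylow p G // Q ≠ P ∧ Nat.card (I Q) ≠ p} := by
    rw [Nat.card_eq_fintype_card (α := {Q : Sylow p G // Q ≠ P ∧ Nat.card (I Q) ≠ p}),
      Fintype.card_subtype, Nat.card_eq_fintype_card, ← Finset.card_univ,
      ← Finset.card_erase_add_one (Finset.mem_univ P)]
    rw [← Finset.card_filter_add_card_filter_not (s := Finset.univ.erase P)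
      (fun Q => Nat.card (I Q) = p)]
    have e1 : (Finset.univ.erase P).filter (fun Q => Nat.card (I Q) = p) = T := by
      ext Q; simp [hT]
    have e2 : (Finset.univ.erase P).filter (fun Q => ¬ Nat.card (I Q) = p) =
        Finset.univ.filter fun Q => Q ≠ P ∧ Nat.card (I Q) ≠ p := by
      ext Q; simp
    rw [e1, e2]
    omega
  -- at most `p + 1` lines
  have hLle : L.card * (p - 1) ≤ p ^ 2 - 1 := by
    have h1 : ∀ R ∈ L, Nat.card R = p ∧ R ≤ (P : Subgroup G) := fun R hR =>
      ⟨(hfib R hR).2.1, (hfib R hR).2.2.2⟩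
    have := Fintype.ofFinite G
    let E : Subgroup G → Finset G := fun R => Finset.univ.filter fun x => x ∈ R ∧ x ≠ 1
    have hE : ∀ R, (E R).card = Nat.card R - 1 := fun R => by
      have he : E R = (Finset.univ.filter fun x => x ∈ R).erase 1 := by
        ext x; simp [E, and_comm]
      rw [he, Finset.card_erase_of_mem (by simp), ← Fintype.card_subtype,
        ← Nat.card_eq_fintype_card]
    have hdis : (L : Set (Subgroup G)).PairwiseDisjoint E := by
      intro R hR R' hR' hne
      refine Finset.disjoint_left.2 fun x hx hx' => hne ?_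
      obtain ⟨hxR, hx1⟩ := (Finset.mem_filter.1 hx).2
      obtain ⟨hxR', -⟩ := (Finset.mem_filter.1 hx').2
      have key : ∀ R : Subgroup G, Nat.card R = p → x ∈ R → R = zpowers x := fun R hc hm => by
        refine (eq_of_le_of_card_ge (zpowers_le.2 hm) ?_).symm
        rw [hc, Nat.card_zpowers]
        refine le_of_eq (((Nat.dvd_prime hp.out).1 ?_).resolve_left
          fun e => hx1 (orderOf_eq_one_iff.1 e)).symm
        exact hc ▸ Subgroup.orderOf_dvd_natCard R hm
      rw [key R (h1 R hR).1 hxR, key R' (h1 R' hR').1 hxR']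
    have h2 : (L.biUnion E).card ≤ (E (P : Subgroup G)).card := Finset.card_le_card fun x hx => by
      obtain ⟨R, hR, hxR⟩ := Finset.mem_biUnion.1 hx
      obtain ⟨hxR, hx1⟩ := (Finset.mem_filter.1 hxR).2
      exact Finset.mem_filter.2 ⟨Finset.mem_univ _, (h1 R hR).2 hxR, hx1⟩
    rw [Finset.card_biUnion hdis, Finset.sum_congr rfl (g := fun _ => p - 1) fun R hR => by
      rw [hE, (h1 R hR).1], Finset.sum_const, smul_eq_mul, hE, hPc] at h2
    exact h2
  have hL2 : L.card = 2 := by
    obtain ⟨x, hx⟩ := hrest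
    rw [htotal, hTcard, hx, Nat.add_mul_mod_self_left] at hn
    have h1 : L.card ≤ p + 1 := by
      have h9 : p ^ 2 - 1 = (p + 1) * (p - 1) := by simpa using Nat.sq_sub_sq p 1
      rw [h9] at hLle
      exact Nat.le_of_mul_le_mul_right hLle (by omega)
    have h3 : 1 + L.card * p ≡ 1 + 2 * p [MOD p * p] := by
      rw [Nat.ModEq, hn, Nat.mod_eq_of_lt (by nlinarith)]
    have h4 := Nat.ModEq.mul_right_cancel' hp.out.ne_zero (h3.add_left_cancel' 1)
    rcases lt_trichotomy L.card p with h | h | h
    · rw [Nat.ModEq, Nat.mod_eq_of_lt h, Nat.mod_eq_of_lt (by omega)] at h4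
      exact h4
    · rw [Nat.ModEq, h, Nat.mod_self, Nat.mod_eq_of_lt (by omega)] at h4
      omega
    · rw [Nat.ModEq, show L.card = p + 1 by omega, Nat.add_mod_left, Nat.mod_eq_of_lt (by omega),
        Nat.mod_eq_of_lt (by omega)] at h4
      omega
  obtain ⟨R₁, R₂, hne, hLeq⟩ := Finset.card_eq_two.1 hL2
  have hm1 : R₁ ∈ L := by rw [hLeq]; simp
  have hm2 : R₂ ∈ L := by rw [hLeq]; simp
  refine ⟨R₁, R₂, hne, (hfib _ hm1).2.2.2, (hfib _ hm2).2.2.2, (hfib _ hm1).2.1, (hfib _ hm2).2.1,
    (hfib _ hm1).2.2.1, fun g hg => ?_⟩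
  have hgP : MulAut.conj g • (P : Subgroup G) = P := conj_smul_self hg
  have hmap : ∀ R ∈ L, R.map (MulAut.conj g).toMonoidHom ∈ L := by
    intro R hR
    obtain ⟨Q, hQ, rfl⟩ := Finset.mem_image.1 hR
    obtain ⟨-, hQP, hQc⟩ := Finset.mem_filter.1 hQ
    have hI' : I (g • Q) = MulAut.conj g • I Q := by
      rw [hI]
      show (P : Subgroup G) ⊓ ((g • Q : Sylow p G) : Subgroup G) = _
      rw [Subgroup.smul_inf, hgP]
      rfl
    refine Finset.mem_image.2 ⟨g • Q, ?_, hI'⟩
    refine Finset.mem_filter.2 ⟨Finset.mem_univ _, fun e => hQP ?_, ?_⟩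
    · exact smul_left_cancel g (e.trans (Sylow.smul_eq_iff_mem_normalizer.2 hg).symm)
    · rw [hI', Nat.card_congr (Subgroup.equivSMul _ _).toEquiv.symm, hQc]
  have hinj := Subgroup.map_injective (f := (MulAut.conj g).toMonoidHom) (MulAut.conj g).injective
  have h1 := hmap _ hm1
  have h2 := hmap _ hm2
  rw [hLeq, Finset.mem_insert, Finset.mem_singleton] at h1 h2
  rcases h1 with h1 | h1 <;> rcases h2 with h2 | h2
  · exact absurd (hinj (h1.trans h2.symm)) hne
  · exact Or.inl ⟨h1, h2⟩
  · exact Or.inr ⟨h1, h2⟩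
  · exact absurd (hinj (h1.trans h2.symm)) hne

end Cfsg.Agent.SmallOrder
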