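import Cfsg.Agent.SmallOrder.PrimeTest
import Cfsg.Agent.SmallOrder.TwoLines

/-!
# The orders 3780, 4620, 5148, 5400 and 5880
-/

set_option autoImplicit false
set_option maxRecDepth 4000

namespace Cfsg.Agent.SmallOrder

open Subgroup

universe u

variable {G : Type u} [Group G] [Finite G] [IsSimpleGroup G]

/-- The survivors of the test at a prime are in the list `S`. -/
def survivorsIn (n p : ℕ) (S : List (ℕ × ℕ)) : Bool :=
  (List.range (n / p / p + 1)).all fun j =>
    decide (j = 0) || decide (n / p % (1 + p * j) ≠ 0) ||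
      decide (1 + p * j ≤ 12 ∧ (1 + p * j).factorial % (2 * n) ≠ 0) ||
      (List.range p).all fun e => autBad n p j e false || S.contains (j, e)

theorem of_survivorsIn (hna : ¬ IsMulCommutative G) {n p : ℕ} [Fact p.Prime]
    (hG : Nat.card G = n) (hp3 : 3 < p ∨ p = 3) (hn : n ≤ 6561) (hnp : n % p = 0)
    (hm : n / p % p ≠ 0) {S : List (ℕ × ℕ)} (h : survivorsIn n p S = true) (P : Sylow p G) :
    ∃ x ∈ S, Nat.card (Sylow p G) = 1 + p * x.1 ∧
      Nat.card (centralizer ((P : Subgroup G) : Set G)) = p * (n / p / (1 + p * x.1) / x.2) ∧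
      Nat.card (normalizer ((P : Subgroup G) : Set G)) = p * (n / p / (1 + p * x.1)) := by
  obtain ⟨j, e, hjm, hj0, hep, hmod, hfact, hb, hc⟩ :=
    prime_candidate (sc := false) hna hG hp3 hn hnp hm (fun h => absurd h Bool.false_ne_true) P
  simp only [survivorsIn, List.all_eq_true, List.mem_range, Bool.or_eq_true, decide_eq_true_eq] at h
  rcases h j hjm with ((h1 | h1) | h1) | h1
  · exact absurd h1 hj0
  · exact absurd hmod h1
  · exact absurd hfact h1.2
  · rcases h1 e hep with h2 | h2
    · exact absurd (hb ▸ h2) Bool.false_ne_true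
    · exact ⟨(j, e), List.contains_iff_mem.1 h2, hc⟩

omit [IsSimpleGroup G] in
theorem exists_sylow_eq_zpowers {q m : ℕ} [Fact q.Prime] (hG : Nat.card G = q * m) (hm : ¬ q ∣ m)
    {u : G} (hu : orderOf u = q) : ∃ Q : Sylow q G, (Q : Subgroup G) = zpowers u := by
  obtain ⟨Q, hQ⟩ := (IsPGroup.of_card (n := 1) (by rw [Nat.card_zpowers, hu, pow_one]) :
    IsPGroup q (zpowers u)).exists_le_sylow
  exact ⟨Q, (eq_of_le_of_card_ge hQ (by
    rw [Nat.card_zpowers, hu, card_sylow_eq_pow (a := 1) (by rw [pow_one]; exact hG) hm Q,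
      pow_one])).symm⟩

set_option synthInstance.maxSize 3000 in
theorem hdec5880 : ∀ k < 120 + 1, k ∣ 120 →
    (40 < 120 / k ∨ (120 / k).factorial % (2 * (7 ^ 2 * 120)) = 0) →
      ∀ r < k + 1, r ∣ k → r % 7 = 1 → 1 < r → r = 7 + 1 := by decide +kernel

set_option synthInstance.maxSize 3000 in
theorem hdec5400 : ∀ k < 216 + 1, k ∣ 216 →
    (40 < 216 / k ∨ (216 / k).factorial % (2 * (5 ^ 2 * 216)) = 0) →
      ∀ r < k + 1, r ∣ k → r % 5 = 1 → 1 < r → r = 5 + 1 := by decide +kernel

theorem not_card_3780 (hna : ¬ IsMulCommutative G) : Nat.card G ≠ 3780 := by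
  intro h
  have : Fact (Nat.Prime 7) := ⟨by norm_num⟩
  have : Fact (Nat.Prime 5) := ⟨by norm_num⟩
  obtain ⟨P⟩ : Nonempty (Sylow 7 G) := Sylow.nonempty
  obtain ⟨x, hx, -, hC, -⟩ := of_survivorsIn hna h (by norm_num) (by norm_num) (by norm_num)
    (by norm_num) (S := [(5, 3)]) (by decide +kernel) P
  rw [List.mem_singleton.1 hx] at hC
  dsimp only at hC
  norm_num1 at hC
  obtain ⟨u, hu⟩ := exists_prime_orderOf_dvd_card'
    (G := centralizer ((P : Subgroup G) : Set G)) 5 (by rw [hC]; norm_num)
  obtain ⟨Q, hQ⟩ := exists_sylow_eq_zpowers (q := 5) (m := 756) (by rw [h]) (by norm_num)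
    (u := (u : G)) (by rw [Subgroup.orderOf_coe, hu])
  obtain ⟨y, hy, -, -, hN⟩ := of_survivorsIn hna h (by norm_num) (by norm_num) (by norm_num)
    (by norm_num) (S := [(25, 2)]) (by decide +kernel) Q
  rw [List.mem_singleton.1 hy] at hN
  dsimp only at hN
  norm_num1 at hN
  have hPQ : (P : Subgroup G) ≤ normalizer ((Q : Subgroup G) : Set G) := by
    refine le_trans ?_ (centralizer_le_normalizer _)
    rw [le_centralizer_iff, hQ, zpowers_le]
    exact u.2
  have h7 := card_dvd_of_le hPQ
  rw [card_sylow_eq_pow (a := 1) (m := 540) (by rw [h]; norm_num) (by norm_num) P, hN] at h7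
  norm_num at h7

theorem not_card_4620 (hna : ¬ IsMulCommutative G) : Nat.card G ≠ 4620 := by
  intro h
  have : Fact (Nat.Prime 5) := ⟨by norm_num⟩
  have : Fact (Nat.Prime 7) := ⟨by norm_num⟩
  have : Fact (Nat.Prime 11) := ⟨by norm_num⟩
  obtain ⟨P5⟩ : Nonempty (Sylow 5 G) := Sylow.nonempty
  obtain ⟨P7⟩ : Nonempty (Sylow 7 G) := Sylow.nonempty
  obtain ⟨P11⟩ : Nonempty (Sylow 11 G) := Sylow.nonempty
  obtain ⟨x, hx, hn7, hC7, -⟩ := of_survivorsIn hna h (by norm_num) (by norm_num) (by norm_num)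
    (by norm_num) (S := [(47, 2)]) (by decide +kernel) P7
  rw [List.mem_singleton.1 hx] at hn7 hC7
  obtain ⟨y, hy, hn11, -⟩ := of_survivorsIn hna h (by norm_num) (by norm_num) (by norm_num)
    (by norm_num) (S := [(19, 2)]) (by decide +kernel) P11
  rw [List.mem_singleton.1 hy] at hn11
  obtain ⟨z, hz, hn5, hC5, -⟩ := of_survivorsIn hna h (by norm_num) (by norm_num) (by norm_num)
    (by norm_num) (S := [(13, 2), (46, 2)]) (by decide +kernel) P5
  simp only [List.mem_cons, List.not_mem_nil, or_false] at hz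
  dsimp only at hn7 hn11 hC7
  norm_num1 at hn7 hn11 hC7
  rcases hz with rfl | rfl
  · -- an element of order seven centralises `P5`
    dsimp only at hC5
    norm_num1 at hC5
    obtain ⟨u, hu⟩ := exists_prime_orderOf_dvd_card'
      (G := centralizer ((P5 : Subgroup G) : Set G)) 7 (by rw [hC5]; norm_num)
    obtain ⟨Q, hQ⟩ := exists_sylow_eq_zpowers (q := 7) (m := 660) (by rw [h]) (by norm_num)
      (u := (u : G)) (by rw [Subgroup.orderOf_coe, hu])
    obtain ⟨w, hw, -, hCQ, -⟩ := of_survivorsIn hna h (by norm_num) (by norm_num) (by norm_num)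
      (by norm_num) (S := [(47, 2)]) (by decide +kernel) Q
    rw [List.mem_singleton.1 hw] at hCQ
    dsimp only at hCQ
    norm_num1 at hCQ
    have hle : (P5 : Subgroup G) ≤ centralizer ((Q : Subgroup G) : Set G) := by
      rw [le_centralizer_iff, hQ, zpowers_le]
      exact u.2
    have h5 := card_dvd_of_le hle
    rw [card_sylow_eq_pow (a := 1) (m := 924) (by rw [h]; norm_num) (by norm_num) P5, hCQ] at h5
    norm_num at h5
  · norm_num at hn5
    have hsum := card_orderOf_disjoint_le (G := G) {5, 7, 11}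
    rw [Finset.sum_insert (by norm_num), Finset.sum_insert (by norm_num), Finset.sum_singleton,
      card_orderOf_eq_mul (p := 5) (fun P => (card_sylow_eq_pow (a := 1) (m := 924)
        (by rw [h]; norm_num) (by norm_num) P).trans (pow_one 5)),
      card_orderOf_eq_mul (p := 7) (fun P => (card_sylow_eq_pow (a := 1) (m := 660)
        (by rw [h]; norm_num) (by norm_num) P).trans (pow_one 7)),
      card_orderOf_eq_mul (p := 11) (fun P => (card_sylow_eq_pow (a := 1) (m := 420)
        (by rw [h]; norm_num) (by norm_num) P).trans (pow_one 11)), hn5, hn7, hn11, h] at hsum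
    norm_num at hsum

theorem not_card_5148 (hna : ¬ IsMulCommutative G) : Nat.card G ≠ 5148 := by
  intro h
  classical
  have : Fact (Nat.Prime 11) := ⟨by norm_num⟩
  have : Fact (Nat.Prime 3) := ⟨by norm_num⟩
  obtain ⟨P⟩ : Nonempty (Sylow 11 G) := Sylow.nonempty
  obtain ⟨x, hx, hn, hC, hN⟩ := of_survivorsIn hna h (by norm_num) (by norm_num) (by norm_num)
    (by norm_num) (S := [(7, 2)]) (by decide +kernel) P
  rw [List.mem_singleton.1 hx] at hn hC hN
  dsimp only at hn hC hN
  norm_num1 at hn hC hN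
  obtain ⟨e, he⟩ : ∃ e, (centralizer (P : Set G)).relIndex (normalizer (P : Set G)) = e := ⟨_, rfl⟩
  have hS : BlockThms.OrderP.Setup P e := ⟨by
    rw [card_sylow_eq_pow (a := 1) (m := 468) (by rw [h]; norm_num) (by norm_num) P, pow_one], he⟩
  obtain ⟨K, -, -, -, hKN, hCK, -⟩ := hS.exists_complement
  have hK : Nat.card K = 3 := by
    have : 33 = 11 * Nat.card K := hC.symm.trans hCK
    omega
  have hle : normalizer ((P : Subgroup G) : Set G) ≤ normalizer (K : Set G) := by
    intro g hg
    refine mem_normalizer_iff.2 fun c => ⟨hKN g hg c, fun hc => ?_⟩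
    have := hKN g⁻¹ (inv_mem hg) _ hc
    simpa [mul_assoc] using this
  obtain ⟨hd, hmod⟩ := index_mod_of_normalizer_le P hle
  rw [hn] at hd
  have h9 : 3 ^ 2 ∣ Nat.card (normalizer (K : Set G)) :=
    Sylow.prime_pow_dvd_card_normalizer (n := 1) (by rw [h]; norm_num) (by rw [hK]; norm_num)
  have h66 := card_dvd_of_le hle
  rw [hN] at h66
  have h198 : 198 ∣ Nat.card (normalizer (K : Set G)) := by omega
  obtain ⟨c, hc⟩ := h198
  have hidx := (normalizer (K : Set G)).card_mul_index
  rw [hc, h] at hidx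
  have h26 : (normalizer (K : Set G)).index ∣ 26 := Dvd.intro_left c (by linarith)
  have h26' := Nat.le_of_dvd (by norm_num) h26
  have hone : (normalizer (K : Set G)).index = 1 :=
    (show ∀ i < 27, i ∣ 26 → i % 11 = 1 → i = 1 by decide +kernel) _ (by omega) h26 hmod
  refine normalizer_sub_ne_top (fun e => ?_) (fun e => ?_) (index_eq_one.1 hone)
  · rw [e, card_bot] at hK; norm_num at hK
  · rw [e, card_top, h] at hK; norm_num at hK

/-- A Sylow subgroup of order `p ^ 2` and the number of Sylow subgroups of the local subgroups. -/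
theorem local_count (hna : ¬ IsMulCommutative G) {p m : ℕ} [hp : Fact p.Prime]
    (hG : Nat.card G = p ^ 2 * m) (hm : ¬ p ∣ m) {R : Subgroup G} (hR : Nat.card R = p)
    (h1 : 1 < Nat.card (Sylow p (normalizer (R : Set G))))
    (hP : ∃ P : Sylow p G, R ≤ (P : Subgroup G))
    (hdec : ∀ k < m + 1, k ∣ m → (40 < m / k ∨ (m / k).factorial % (2 * (p ^ 2 * m)) = 0) →
      ∀ r < k + 1, r ∣ k → r % p = 1 → 1 < r → r = p + 1) :
    Nat.card (Sylow p (normalizer (R : Set G))) = p + 1 := by
  obtain ⟨P, hRP⟩ := hP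
  have hPc := card_sylow_eq_pow hG hm P
  have hle : (P : Subgroup G) ≤ normalizer (R : Set G) :=
    (le_centralizer_of_le_abelian hPc hRP).trans (centralizer_le_normalizer _)
  obtain ⟨k, hk⟩ := hPc ▸ card_dvd_of_le hle
  have hmul := (normalizer (R : Set G)).card_mul_index
  rw [hk, hG, mul_assoc] at hmul
  have hkm' := Nat.eq_of_mul_eq_mul_left (pow_pos hp.out.pos 2) hmul
  have hkm : k ∣ m := Dvd.intro _ hkm'
  have hm0 : 0 < m := Nat.pos_of_ne_zero fun e => hm (e ▸ dvd_zero p)
  have hk0 : 0 < k := Nat.pos_of_dvd_of_pos hkm hm0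
  have hne : normalizer (R : Set G) ≠ ⊤ := by
    refine normalizer_sub_ne_top (fun e => ?_) (fun e => ?_)
    · rw [e, card_bot] at hR; exact hp.out.ne_one hR.symm
    · rw [e, card_top, hG] at hR
      have : p ^ 2 ∣ p := Dvd.intro _ hR
      have := Nat.le_of_dvd hp.out.pos this
      nlinarith [hp.out.two_le]
  have hd := card_sylow_dvd hk (fun e => hm (e.trans hkm))
  refine hdec k (by have := Nat.le_of_dvd hm0 hkm; omega) hkm ?_ _
    (by have := Nat.le_of_dvd hk0 hd; omega) hd (card_sylow_mod p) h1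
  right
  rw [show m / k = (normalizer (R : Set G)).index by
    rw [← hkm', Nat.mul_div_cancel_left _ hk0]]
  exact Nat.mod_eq_zero_of_dvd (hG ▸ two_mul_card_dvd hna _ hne)

omit [IsSimpleGroup G] in
/-- An element whose square and cube fix a pair fixes both. -/
theorem le_normalizer_of_pair {R₁ R₂ : Subgroup G} {g : G}
    (hg : R₁.map (MulAut.conj g).toMonoidHom = R₁ ∧ R₂.map (MulAut.conj g).toMonoidHom = R₂ ∨
      R₁.map (MulAut.conj g).toMonoidHom = R₂ ∧ R₂.map (MulAut.conj g).toMonoidHom = R₁) :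
    g * g ∈ normalizer (R₁ : Set G) ∧ g * g ∈ normalizer (R₂ : Set G) := by
  have key : ∀ R : Subgroup G, R.map (MulAut.conj (g * g)).toMonoidHom = R →
      g * g ∈ normalizer (R : Set G) := by
    intro R hR
    refine mem_normalizer_iff.2 fun x => ⟨fun hx => hR ▸ ⟨x, hx, by simp [mul_assoc]⟩, fun hx => ?_⟩
    rw [← hR] at hx
    obtain ⟨y, hy, hyx⟩ := hx
    simp only [MulEquiv.coe_toMonoidHom, MulAut.conj_apply, mul_left_inj, mul_right_inj] at hyx
    exact hyx ▸ hy
  have hcomp : ∀ R : Subgroup G, R.map (MulAut.conj (g * g)).toMonoidHom =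
      (R.map (MulAut.conj g).toMonoidHom).map (MulAut.conj g).toMonoidHom := by
    intro R
    rw [Subgroup.map_map]
    congr 1
    ext x
    simp [mul_assoc]
  rcases hg with ⟨h1, h2⟩ | ⟨h1, h2⟩
  · exact ⟨key _ (by rw [hcomp, h1, h1]), key _ (by rw [hcomp, h2, h2])⟩
  · exact ⟨key _ (by rw [hcomp, h1, h2]), key _ (by rw [hcomp, h2, h1])⟩

theorem not_card_5880 (hna : ¬ IsMulCommutative G) : Nat.card G ≠ 5880 := by
  intro h
  classical
  have : Fact (Nat.Prime 7) := ⟨by norm_num⟩
  have : Fact (Nat.Prime 2) := ⟨Nat.prime_two⟩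
  have hG : Nat.card G = 7 ^ 2 * 120 := by rw [h]; norm_num
  have hPc := fun P : Sylow 7 G => card_sylow_eq_pow hG (by norm_num) P
  obtain ⟨P⟩ : Nonempty (Sylow 7 G) := Sylow.nonempty
  obtain ⟨g1, g2, g3, g4⟩ := sylow_data hG two_ne_zero (by norm_num) hna
  have hn : Nat.card (Sylow 7 G) = 15 := by
    have hle := Nat.le_of_dvd (by norm_num) g1
    rcases (show ∀ d < 121, d ∣ 120 → d % 7 = 1 → d ≠ 1 → d = 8 ∨ d = 15 ∨ d = 120 by
      decide +kernel) _ (by omega) g1 g2 g3 with e | e | e
    · rw [e, h] at g4; norm_num [Nat.factorial] at g4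
    · exact e
    · exfalso
      have hN := card_sylow_mul_card_normalizer P
      rw [e, h] at hN
      refine not_normalizer_le_centralizer hna (by rw [h]; norm_num) P ?_
      have hNP : (P : Subgroup G) = normalizer ((P : Subgroup G) : Set G) :=
        eq_of_le_of_card_ge le_normalizer (by rw [hPc]; omega)
      rw [← hNP]
      exact le_centralizer_of_le_abelian (hPc P) le_rfl
  obtain ⟨R₁, R₂, -, hR1P, -, hR1, -, hgt, hperm⟩ := two_lines hPc (by norm_num) (by rw [hn])
    (fun R hR h1 hP => local_count hna hG (by norm_num) hR h1 hP hdec5880) P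
  have h8 := local_count hna hG (by norm_num) hR1 hgt ⟨P, hR1P⟩ hdec5880
  set H := normalizer (R₁ : Set G) with hH
  have hPH : (P : Subgroup G) ≤ H :=
    (le_centralizer_of_le_abelian (hPc P) hR1P).trans (centralizer_le_normalizer _)
  set M := normalizer ((P : Subgroup G) : Set G) ⊓ H with hM
  -- the order of `M`
  let Q : Sylow 7 H := P.subtype hPH
  have hMc : Nat.card M * 8 = Nat.card H := by
    have h1 := card_sylow_mul_card_normalizer Q
    rw [h8] at h1
    rw [← h1, mul_comm]
    congr 1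
    show Nat.card M = Nat.card (normalizer (((P : Subgroup G).subgroupOf H : Subgroup H) : Set H))
    rw [← subgroupOf_normalizer_eq hPH, hM, ← inf_subgroupOf_right,
      Nat.card_congr (subgroupOfEquivOfLe inf_le_right).toEquiv]
  have hNc : Nat.card (normalizer ((P : Subgroup G) : Set G)) = 392 := by
    have := card_sylow_mul_card_normalizer P
    rw [hn, h] at this
    omega
  -- squares lie in `M`, so `M` has index at most two
  have hsq : ∀ g ∈ normalizer ((P : Subgroup G) : Set G), g * g ∈ M := fun g hg =>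
    ⟨mul_mem hg hg, (le_normalizer_of_pair (hperm g hg)).1⟩
  have hswap : ∀ a ∈ normalizer ((P : Subgroup G) : Set G), a ∉ H →
      R₁.map (MulAut.conj a).toMonoidHom = R₂ ∧ R₂.map (MulAut.conj a).toMonoidHom = R₁ := by
    intro a ha haH
    refine (hperm a ha).resolve_left fun hc => haH (mem_normalizer_iff.2 fun x =>
      ⟨fun hx => hc.1 ▸ ⟨x, hx, by simp⟩, fun hx => ?_⟩)
    rw [← hc.1] at hx
    obtain ⟨y, hy, hyx⟩ := hx
    simp only [MulEquiv.coe_toMonoidHom, MulAut.conj_apply, mul_left_inj, mul_right_inj] at hyx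
    exact hyx ▸ hy
  have hidx : (M.subgroupOf (normalizer ((P : Subgroup G) : Set G))).index ≤ 2 := by
    by_cases hall : normalizer ((P : Subgroup G) : Set G) ≤ H
    · rw [show M.subgroupOf (normalizer ((P : Subgroup G) : Set G)) = ⊤ from
        subgroupOf_eq_top.2 (le_inf le_rfl hall), index_top]
      norm_num
    obtain ⟨a, ha, haH⟩ := SetLike.not_le_iff_exists.1 hall
    refine le_of_eq (index_eq_two_iff'.2 ⟨⟨a, ha⟩, fun b => ?_⟩)
    have hb := b.2
    simp only [mem_subgroupOf, hM, mem_inf, hb, true_and, Subgroup.coe_mul]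
    by_cases hbH : (b : G) ∈ H
    · refine Or.inr ⟨hbH, fun hab => haH ?_⟩
      have := mul_mem hab.2 (inv_mem hbH)
      simpa [mul_assoc] using this
    · refine Or.inl ⟨⟨mul_mem ha hb, ?_⟩, hbH⟩
      refine mem_normalizer_iff.2 fun x => ?_
      have hx : R₁.map (MulAut.conj (a * (b : G))).toMonoidHom = R₁ := by
        rw [show (MulAut.conj (a * (b : G))).toMonoidHom =
          (MulAut.conj a).toMonoidHom.comp (MulAut.conj (b : G)).toMonoidHom by ext; simp [mul_assoc],
          ← Subgroup.map_map, (hswap b hb hbH).1, (hswap a ha haH).2]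
      refine ⟨fun hxm => hx ▸ ⟨x, hxm, by simp [mul_assoc]⟩, fun hxm => ?_⟩
      rw [← hx] at hxm
      obtain ⟨y, hy, hyx⟩ := hxm
      simp only [MulEquiv.coe_toMonoidHom, MulAut.conj_apply, mul_left_inj, mul_right_inj] at hyx
      exact hyx ▸ hy
  have hmi := (M.subgroupOf (normalizer ((P : Subgroup G) : Set G))).card_mul_index
  rw [Nat.card_congr (subgroupOfEquivOfLe (inf_le_left : M ≤ _)).toEquiv, hNc] at hmi
  have hM196 : 196 ≤ Nat.card M := by nlinarith
  have hHd := card_subgroup_dvd_card H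
  rw [h] at hHd
  have hHlt : H.index ≥ 9 := by
    by_contra hlt
    have hne : H ≠ ⊤ := by
      refine normalizer_sub_ne_top (fun e => ?_) (fun e => ?_)
      · rw [e, card_bot] at hR1; norm_num at hR1
      · rw [e, card_top, h] at hR1; norm_num at hR1
    have := two_mul_card_dvd hna H hne
    rw [h] at this
    obtain ⟨i, hi⟩ : ∃ i, H.index = i := ⟨_, rfl⟩
    rw [hi] at this hlt
    interval_cases i <;> norm_num [Nat.factorial] at this
  have hmulH := H.card_mul_index
  rw [← hMc, h] at hmulH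
  nlinarith

theorem not_card_5400 (hna : ¬ IsMulCommutative G) : Nat.card G ≠ 5400 := by
  intro h
  classical
  have : Fact (Nat.Prime 5) := ⟨by norm_num⟩
  have : Fact (Nat.Prime 3) := ⟨by norm_num⟩
  have hG : Nat.card G = 5 ^ 2 * 216 := by rw [h]; norm_num
  have hPc := fun P : Sylow 5 G => card_sylow_eq_pow hG (by norm_num) P
  obtain ⟨P⟩ : Nonempty (Sylow 5 G) := Sylow.nonempty
  obtain ⟨g1, g2, g3, g4⟩ := sylow_data hG two_ne_zero (by norm_num) hna
  have hn : Nat.card (Sylow 5 G) = 36 := by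
    have hle := Nat.le_of_dvd (by norm_num) g1
    rcases (show ∀ d < 217, d ∣ 216 → d % 5 = 1 → d ≠ 1 → d = 6 ∨ d = 36 ∨ d = 216 by
      decide +kernel) _ (by omega) g1 g2 g3 with e | e | e
    · rw [e, h] at g4; norm_num [Nat.factorial] at g4
    · exact e
    · exfalso
      have hN := card_sylow_mul_card_normalizer P
      rw [e, h] at hN
      refine not_normalizer_le_centralizer hna (by rw [h]; norm_num) P ?_
      have hNP : (P : Subgroup G) = normalizer ((P : Subgroup G) : Set G) :=
        eq_of_le_of_card_ge le_normalizer (by rw [hPc]; omega)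
      rw [← hNP]
      exact le_centralizer_of_le_abelian (hPc P) le_rfl
  have hNc : Nat.card (normalizer ((P : Subgroup G) : Set G)) = 150 := by
    have := card_sylow_mul_card_normalizer P
    rw [hn, h] at this
    omega
  obtain ⟨R₁, R₂, hne, hR1P, hR2P, hR1, hR2, -, hperm⟩ := two_lines hPc (by norm_num) (by rw [hn])
    (fun R hR h1 hP => local_count hna hG (by norm_num) hR h1 hP hdec5400) P
  obtain ⟨w', hw'⟩ := exists_prime_orderOf_dvd_card'
    (G := normalizer ((P : Subgroup G) : Set G)) 3 (by rw [hNc]; norm_num)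
  set w : G := (w' : G) with hwdef
  have hw : orderOf w = 3 := by rw [hwdef, Subgroup.orderOf_coe, hw']
  have hw4 : w = w * w * (w * w) := by
    have h3 : w ^ 3 = 1 := hw ▸ pow_orderOf_eq_one w
    calc w = w ^ 3 * w := by rw [h3, one_mul]
      _ = _ := by simp [pow_succ, mul_assoc]
  have hsq := le_normalizer_of_pair (hperm w w'.2)
  have hwN : ∀ R : Subgroup G, Nat.card R = 5 → w * w ∈ normalizer (R : Set G) →
      w ∈ centralizer (R : Set G) := by
    intro R hR hmem
    refine mem_centralizer_of_order ?_ hw ?_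
    · rw [hw4]; exact mul_mem hmem hmem
    · intro d hd hdm
      rw [hR] at hd hdm ⊢
      rcases (Nat.dvd_prime (by norm_num : Nat.Prime 5)).1 hd with rfl | rfl
      · exact absurd hdm (by decide)
      · rfl
  have hwC : w ∈ centralizer ((P : Subgroup G) : Set G) := by
    have hjoin : R₁ ⊔ R₂ = (P : Subgroup G) := by
      refine eq_of_le_of_card_ge (sup_le hR1P hR2P) ?_
      rw [hPc]
      by_contra hlt
      have h1 : Nat.card ↥(R₁ ⊔ R₂) ∣ 5 ^ 2 := hPc P ▸ card_dvd_of_le (sup_le hR1P hR2P)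
      obtain ⟨i, hi, hie⟩ := (Nat.dvd_prime_pow (by norm_num : Nat.Prime 5)).1 h1
      have hi1 : i ≤ 1 := by
        by_contra hi2
        rw [hie, show i = 2 by omega] at hlt
        exact hlt le_rfl
      have hle : Nat.card ↥(R₁ ⊔ R₂) ≤ 5 := by
        rw [hie]
        exact (Nat.pow_le_pow_right (by norm_num) hi1).trans (by norm_num)
      refine hne ?_
      exact (eq_of_le_of_card_ge (le_sup_left : R₁ ≤ R₁ ⊔ R₂) (by rw [hR1]; exact hle)).trans
        (eq_of_le_of_card_ge (le_sup_right : R₂ ≤ R₁ ⊔ R₂) (by rw [hR2]; exact hle)).symm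
    rw [← hjoin, ← zpowers_le, le_centralizer_iff]
    refine sup_le ?_ ?_ <;> rw [le_centralizer_iff, zpowers_le]
    · exact hwN _ hR1 hsq.1
    · exact hwN _ hR2 hsq.2
  set C := centralizer ((P : Subgroup G) : Set G) with hC
  have h75 : 75 ∣ Nat.card C := by
    have h1 := card_dvd_of_le ((le_centralizer_of_le_abelian (hPc P) le_rfl) :
      (P : Subgroup G) ≤ C)
    rw [hPc] at h1
    have h2 : 3 ∣ Nat.card C := hw ▸ Subgroup.orderOf_dvd_natCard C hwC
    exact Nat.Coprime.mul_dvd_of_dvd_of_dvd (show Nat.Coprime 25 3 by norm_num) h1 h2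
  have hC75 : Nat.card C = 75 := by
    have h1 := card_dvd_of_le (centralizer_le_normalizer ((P : Subgroup G) : Set G))
    rw [hNc] at h1
    obtain ⟨c, hc⟩ := h75
    have h150 : Nat.card C ≠ 150 := fun e =>
      not_normalizer_le_centralizer hna (by rw [h]; norm_num) P
        (eq_of_le_of_card_ge (centralizer_le_normalizer _) (by rw [hNc, ← hC, e])).ge
    rw [hc] at h1 h150 ⊢
    have := Nat.le_of_dvd (by norm_num) h1
    have hc0 : c ≠ 0 := by rintro rfl; norm_num at h1
    omega
  -- `⟨w⟩` is the only subgroup of order three in `C`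
  set W := zpowers w with hW
  have hWc : Nat.card W = 3 := by rw [hW, Nat.card_zpowers, hw]
  have hCW : C = (P : Subgroup G) ⊔ W := by
    refine (eq_of_le_of_card_ge (sup_le (le_centralizer_of_le_abelian (hPc P) le_rfl)
      (zpowers_le.2 hwC)) ?_).symm
    rw [hC75]
    refine Nat.le_of_dvd Nat.card_pos ?_
    exact Nat.Coprime.mul_dvd_of_dvd_of_dvd (show Nat.Coprime 25 3 by norm_num)
      ((hPc P).symm.dvd.trans (card_dvd_of_le (le_sup_left : (P : Subgroup G) ≤ _ ⊔ W)))
      (hWc.symm.dvd.trans (card_dvd_of_le (le_sup_right : W ≤ _)))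
  have hCcomm : C ≤ centralizer (C : Set G) := by
    conv_lhs => rw [hCW]
    refine sup_le ?_ ?_
    · rw [le_centralizer_iff]
    · rw [le_centralizer_iff, hCW, sup_le_iff, hW]
      exact ⟨(le_centralizer_iff.1 (zpowers_le.2 hwC)), (zpowers w).le_centralizer⟩
  have hNW : normalizer ((P : Subgroup G) : Set G) ≤ normalizer (W : Set G) := by
    intro g hg
    have hmap : W.map (MulAut.conj g).toMonoidHom = W := by
      have hwg : g * w * g⁻¹ ∈ C := by
        refine mem_centralizer_iff.2 fun x hx => ?_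
        have hx' := (mem_normalizer_iff''.1 hg x).1 hx
        have h1 := mem_centralizer_iff.1 hwC _ hx'
        calc x * (g * w * g⁻¹) = g * (g⁻¹ * x * g * w) * g⁻¹ := by group
          _ = g * (w * (g⁻¹ * x * g)) * g⁻¹ := by rw [h1]
          _ = g * w * g⁻¹ * x := by group
      rw [hW, MonoidHom.map_zpowers, MulEquiv.coe_toMonoidHom, MulAut.conj_apply]
      -- two commuting elements of order three generate a subgroup of order three
      refine (eq_of_le_of_card_ge (zpowers_le.2 ?_) ?_)
      · by_contra hnot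
        have hcm : Commute w (g * w * g⁻¹) := mem_centralizer_iff.1 (hCcomm hwg) w hwC
        have : IsMulCommutative ↥(zpowers w ⊔ zpowers (g * w * g⁻¹)) := by
          refine le_centralizer_iff_isMulCommutative.1 ?_
          have hle : zpowers w ⊔ zpowers (g * w * g⁻¹) ≤ C :=
            sup_le (zpowers_le.2 hwC) (zpowers_le.2 hwg)
          exact hle.trans (hCcomm.trans (centralizer_le hle))
        have h9 : IsPGroup 3 ↥(zpowers w ⊔ zpowers (g * w * g⁻¹)) := by
          refine IsPGroup.to_sup_of_normal_right' ?_ ?_ ?_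
          · exact IsPGroup.of_card (n := 1) (by rw [Nat.card_zpowers, hw, pow_one])
          · exact IsPGroup.of_card (n := 1) (by
              rw [Nat.card_zpowers, ← MulAut.conj_apply, MulEquiv.orderOf_eq, hw, pow_one])
          · exact zpowers_le.2 (centralizer_le_normalizer _ (mem_centralizer_iff.2 fun x hx => by
              obtain ⟨i, rfl⟩ := hx
              exact (hcm.zpow_right i).eq.symm))
        obtain ⟨i, hi⟩ := h9.exists_card_eq
        have hd := card_dvd_of_le (sup_le (zpowers_le.2 hwC) (zpowers_le.2 hwg) :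
          zpowers w ⊔ zpowers (g * w * g⁻¹) ≤ C)
        rw [hi, hC75] at hd
        have hi1 : i ≤ 1 := by
          by_contra hi2
          have := (pow_dvd_pow 3 (show 2 ≤ i by omega)).trans hd
          norm_num at this
        refine hnot ?_
        have he : zpowers w = zpowers w ⊔ zpowers (g * w * g⁻¹) :=
          eq_of_le_of_card_ge le_sup_left (by
            rw [hi, Nat.card_zpowers, hw]
            exact (Nat.pow_le_pow_right (by norm_num) hi1).trans (by norm_num))
        rw [he]
        exact (le_sup_right : zpowers (g * w * g⁻¹) ≤ _) (mem_zpowers _)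
      · rw [Nat.card_zpowers, Nat.card_zpowers, ← MulAut.conj_apply, MulEquiv.orderOf_eq]
    refine mem_normalizer_iff.2 fun x => ⟨fun hx => hmap ▸ ⟨x, hx, by simp⟩, fun hx => ?_⟩
    rw [← hmap] at hx
    obtain ⟨y, hy, hyx⟩ := hx
    simp only [MulEquiv.coe_toMonoidHom, MulAut.conj_apply, mul_left_inj, mul_right_inj] at hyx
    exact hyx ▸ hy
  obtain ⟨hd, hmod⟩ := index_mod_of_normalizer_le P hNW
  rw [hn] at hd
  have h9 : 3 ^ 2 ∣ Nat.card (normalizer (W : Set G)) :=
    Sylow.prime_pow_dvd_card_normalizer (n := 1) (by rw [h]; norm_num) (by rw [hWc]; norm_num)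
  have h150 := card_dvd_of_le hNW
  rw [hNc] at h150
  have h450 : 450 ∣ Nat.card (normalizer (W : Set G)) := by omega
  obtain ⟨c, hc⟩ := h450
  have hidx := (normalizer (W : Set G)).card_mul_index
  rw [hc, h] at hidx
  have h12 : (normalizer (W : Set G)).index ∣ 12 := Dvd.intro_left c (by linarith)
  have h12' := Nat.le_of_dvd (by norm_num) h12
  have hne' : normalizer (W : Set G) ≠ ⊤ := by
    refine normalizer_sub_ne_top (fun e => ?_) (fun e => ?_)
    · rw [e, card_bot] at hWc; norm_num at hWc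
    · rw [e, card_top, h] at hWc; norm_num at hWc
  have hf := two_mul_card_dvd hna _ hne'
  rw [h] at hf
  rcases (show ∀ i < 13, i ∣ 12 → i % 5 = 1 → i = 1 ∨ i = 6 by decide +kernel) _ (by omega) h12 hmod
    with e | e <;> rw [e] at hf <;> norm_num [Nat.factorial] at hf

end Cfsg.Agent.SmallOrder
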