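import Cfsg.Agent.SmallOrder.Two

/-!
# Excluding orders of simple groups by two Sylow subgroups meeting in a maximal subgroup
-/

set_option autoImplicit false

namespace Cfsg.Agent.SmallOrder

open Subgroup

/-- No subgroup can be the normaliser of an intersection with cofactor `k`. -/
def localBad (n p m k : ℕ) : Bool :=
  decide (m % k ≠ 0) || decide (m / k ≤ 40 ∧ (m / k).factorial % (2 * n) ≠ 0) ||
    (List.range (k / p + 1)).all fun i => decide (i = 0) || decide (k % (1 + p * i) ≠ 0)

/-- Every candidate for the number of Sylow `p`-subgroups is impossible. -/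
def localTest (n p a m : ℕ) : Bool :=
  decide (n = p ^ (a + 1) * m ∧ a ≠ 0 ∧ m % p ≠ 0) &&
    (List.range (m / p + 1)).all fun j =>
      decide (j = 0) || decide (m % (1 + p * j) ≠ 0) ||
        decide (1 + p * j ≤ 12 ∧ (1 + p * j).factorial % (2 * n) ≠ 0) ||
        (decide ((1 + p * j) % (p * p) ≠ 1) &&
          (List.range (m + 1)).all fun k => decide (k = 0) || localBad n p m k)

universe u

variable {G : Type u} [Group G] [Finite G]

/-- A subgroup containing the normaliser of a Sylow `p`-subgroup has index one modulo `p`. -/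
theorem index_mod_of_normalizer_le {p : ℕ} [hp : Fact p.Prime] (P : Sylow p G) {H : Subgroup G}
    (hH : normalizer ((P : Subgroup G) : Set G) ≤ H) :
    H.index ∣ Nat.card (Sylow p G) ∧ H.index % p = 1 := by
  classical
  let Q : Sylow p H := P.subtype (le_normalizer.trans hH)
  have hN : normalizer (Q : Set H) =
      (normalizer (P : Set G)).subgroupOf H := by
    show normalizer (((P : Subgroup G).subgroupOf H : Subgroup H) : Set H) = _
    exact (subgroupOf_normalizer_eq (le_normalizer.trans hH)).symm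
  have h1 : Nat.card (Sylow p H) * H.index = Nat.card (Sylow p G) := by
    rw [Q.card_eq_index_normalizer, P.card_eq_index_normalizer, hN]
    exact relIndex_mul_index hH
  refine ⟨Dvd.intro_left _ h1, ?_⟩
  have h2 := card_sylow_mod (G := G) p
  rw [← h1, Nat.mul_mod, card_sylow_mod (G := H) p, one_mul, Nat.mod_mod] at h2
  exact h2

variable [IsSimpleGroup G]

/-- No simple group has an order failing the local test. -/
theorem false_of_localTest (hna : ¬ IsMulCommutative G) {n p a m : ℕ} (hp : p.Prime)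
    (hG : Nat.card G = n) (h : localTest n p a m = true) : False := by
  have : Fact p.Prime := ⟨hp⟩
  simp only [localTest, Bool.and_eq_true, decide_eq_true_eq, List.all_eq_true, List.mem_range,
    Bool.or_eq_true] at h
  obtain ⟨⟨rfl, ha, hm⟩, hall⟩ := h
  have hm' : ¬ p ∣ m := fun hd => hm (Nat.mod_eq_zero_of_dvd hd)
  obtain ⟨h1, h2, h3, h4⟩ := sylow_data hG (Nat.succ_ne_zero a) hm' hna
  obtain ⟨d, hd⟩ : ∃ d, Nat.card (Sylow p G) = d := ⟨_, rfl⟩
  rw [hd] at h1 h2 h3 h4
  have hm0 : 0 < m := Nat.pos_of_ne_zero fun h => hm' (h ▸ dvd_zero p)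
  obtain ⟨j, rfl⟩ : ∃ j, d = 1 + p * j := ⟨d / p, by have := Nat.div_add_mod d p; omega⟩
  have hj0 : j ≠ 0 := by rintro rfl; omega
  have hjm : j < m / p + 1 := by
    have := Nat.le_of_dvd hm0 h1
    have : j ≤ m / p := (Nat.le_div_iff_mul_le hp.pos).2 (by rw [mul_comm]; omega)
    omega
  rcases hall j hjm with ((hb | hb) | hb) | ⟨hmod, hk⟩
  · exact hj0 hb
  · exact hb (Nat.mod_eq_zero_of_dvd h1)
  · exact hb.2 (Nat.mod_eq_zero_of_dvd (hG ▸ h4))
  obtain ⟨H, k, r, hH, -, hkm, hidx, hrk, hr, hr1⟩ := exists_local hG hm' ha hna (by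
    rw [hd, pow_two]
    intro hc
    refine hmod ?_
    rw [Nat.ModEq, Nat.one_mod_eq_one.2 (by nlinarith [hp.two_le])] at hc
    exact hc)
  have hk0 : 0 < k := Nat.pos_of_dvd_of_pos hkm hm0
  have hkle := Nat.le_of_dvd hm0 hkm
  have hb := (hk k (by omega)).resolve_left hk0.ne'
  simp only [localBad, Bool.or_eq_true, decide_eq_true_eq, List.all_eq_true, List.mem_range] at hb
  rcases hb with (hb | hb) | hb
  · exact hb (Nat.mod_eq_zero_of_dvd hkm)
  · refine hb.2 (Nat.mod_eq_zero_of_dvd ?_)
    rw [show m / k = H.index by rw [← hidx, Nat.mul_div_cancel _ hk0], ← hG]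
    exact two_mul_card_dvd hna H hH
  · obtain ⟨i, rfl⟩ : ∃ i, r = 1 + p * i := ⟨r / p, by have := Nat.div_add_mod r p; omega⟩
    have hi : i < k / p + 1 := by
      have := Nat.le_of_dvd hk0 hrk
      have : i ≤ k / p := (Nat.le_div_iff_mul_le hp.pos).2 (by rw [mul_comm]; omega)
      omega
    rcases hb i hi with hb | hb
    · subst hb; omega
    · exact hb (Nat.mod_eq_zero_of_dvd hrk)

end Cfsg.Agent.SmallOrder
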