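import Cfsg.Agent.SmallOrder.PrimeTest
import Cfsg.Agent.SmallOrder.LocalTest

/-!
# The orders from 3641 to 6232

`chunks` has one entry for each order: `(0, p, a, q, b)` for `p ^ a * q ^ b`, `(1, p, a, m, _)` for
the Sylow test, `(2, p, ..)` and `(5, p, a, q, b)` for the test at a prime, `(3, p, a, m, _)` for the
local test and `(4, ..)` for the orders left over.
-/

set_option autoImplicit false
set_option maxRecDepth 100000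

namespace Cfsg.Agent.SmallOrder.Table6232

/-- See the module header. -/
def special : List ℕ := [3648, 3744, 4032, 4080, 4320, 5040, 5472, 5616, 5760, 6048, 6072, 3780, 4620, 5148, 5400, 5880]

/-- See the module header. -/
def chunk0 : List (ℕ × ℕ × ℕ × ℕ × ℕ) := [
  (0,11,1,331,1), (1,607,1,6,0), (0,3643,1,3643,0), (0,2,2,911,1), (0,3,6,5,1), (0,2,1,1823,1), (0,7,1,521,1),
  (4,0,0,0,0), (0,41,1,89,1), (1,73,1,50,0), (0,3,1,1217,1), (1,83,1,44,0), (0,13,1,281,1), (1,29,1,126,0),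
  (1,43,1,85,0), (0,2,3,457,1), (1,53,1,69,0), (1,59,1,62,0), (0,3659,1,3659,0), (1,61,1,60,0), (0,7,1,523,1),
  (0,2,1,1831,1), (1,37,1,99,0), (0,2,4,229,1), (0,5,1,733,1), (1,47,1,78,0), (0,19,1,193,1), (1,131,1,28,0),
  (0,3,1,1223,1), (1,367,1,10,0), (0,3671,1,3671,0), (1,17,1,216,0), (0,3673,1,3673,0), (1,167,1,22,0), (1,7,2,75,0),
  (0,2,2,919,1), (0,3677,1,3677,0), (1,613,1,6,0), (0,13,1,283,1), (1,23,1,160,0), (0,3,2,409,1), (1,263,1,14,0),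
  (0,29,1,127,1), (1,307,1,12,0), (1,67,1,55,0), (1,97,1,38,0), (0,3,1,1229,1), (0,2,3,461,1), (1,31,1,119,0),
  (1,41,1,90,0), (0,3691,1,3691,0), (1,71,1,52,0), (0,3,1,1231,1), (0,2,1,1847,1), (0,5,1,739,1), (2,11,0,0,0),
  (0,3697,1,3697,0), (0,2,1,43,2), (0,3,3,137,1), (1,37,1,100,0), (0,3701,1,3701,0), (1,617,1,6,0), (0,7,1,23,2),
  (0,2,3,463,1), (1,19,1,195,0), (1,109,1,34,0), (0,11,1,337,1), (1,103,1,36,0), (0,3709,1,3709,0), (1,53,1,70,0),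
  (0,3,1,1237,1), (0,2,7,29,1), (0,47,1,79,1), (1,619,1,6,0), (0,5,1,743,1), (0,2,2,929,1), (1,59,1,63,0),
  (1,13,2,22,0), (0,3719,1,3719,0), (1,31,1,120,0), (0,61,2,61,0), (0,2,1,1861,1), (1,73,1,51,0), (1,19,1,196,0),
  (0,5,2,149,1), (1,23,1,162,0), (0,3727,1,3727,0), (0,2,4,233,1), (1,113,1,33,0), (1,373,1,10,0), (1,41,1,91,0),
  (1,311,1,12,0), (0,3733,1,3733,0), (0,2,1,1867,1), (1,83,1,45,0), (0,2,3,467,1), (0,37,1,101,1), (1,89,1,42,0),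
  (0,3739,1,3739,0), (1,17,1,220,0), (1,43,1,87,0), (0,2,1,1871,1), (0,19,1,197,1), (4,0,0,0,0), (1,107,1,35,0),
  (0,2,1,1873,1), (0,3,1,1249,1), (0,2,2,937,1), (0,23,1,163,1), (1,5,4,6,0), (0,11,2,31,1), (1,67,1,56,0),
  (0,3,3,139,1), (0,2,1,1877,1), (0,5,1,751,1), (1,313,1,12,0), (0,13,1,17,2), (0,2,1,1879,1), (1,179,1,21,0),
  (1,47,1,80,0), (0,3761,1,3761,0), (1,19,1,198,0), (0,53,1,71,1), (0,2,2,941,1), (1,251,1,15,0), (1,269,1,14,0),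
  (0,3767,1,3767,0), (1,157,1,24,0), (0,3769,1,3769,0), (1,29,1,130,0), (0,3,2,419,1), (1,41,1,92,0), (0,7,3,11,1),
  (1,37,1,102,0), (0,5,2,151,1), (0,2,6,59,1), (0,3,1,1259,1), (0,2,1,1889,1), (0,3779,1,3779,0), (4,0,0,0,0),
  (0,19,1,199,1), (1,61,1,62,0), (1,97,1,39,0), (1,43,1,88,0), (0,5,1,757,1), (1,631,1,6,0), (0,7,1,541,1),
  (0,2,2,947,1), (0,3,2,421,1), (1,379,1,10,0), (0,17,1,223,1), (1,79,1,48,0), (0,3793,1,3793,0), (1,271,1,14,0),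
  (1,23,1,165,0), (1,73,1,52,0), (0,3797,1,3797,0), (1,211,1,18,0), (0,29,1,131,1), (1,19,1,200,0), (1,181,1,21,0),
  (0,2,1,1901,1), (0,3803,1,3803,0), (1,317,1,12,0), (0,5,1,761,1), (1,173,1,22,0), (0,3,4,47,1), (1,17,1,224,0),
  (0,13,1,293,1), (1,127,1,30,0), (0,37,1,103,1), (0,2,2,953,1), (1,41,1,93,0), (0,2,1,1907,1), (1,109,1,35,0),
  (1,53,1,72,0), (0,11,1,347,1), (1,83,1,46,0), (1,67,1,57,0), (1,191,1,20,0), (0,3821,1,3821,0), (1,13,1,294,0),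
  (0,3823,1,3823,0), (0,2,4,239,1), (1,17,1,225,0), (0,2,1,1913,1), (0,43,1,89,1), (1,29,1,132,0), (0,7,1,547,1),
  (1,383,1,10,0), (0,3,1,1277,1), (0,2,3,479,1), (0,3833,1,3833,0), (1,71,1,54,0), (1,59,1,65,0), (1,137,1,28,0),
  (0,3,1,1279,1), (1,101,1,38,0), (0,11,1,349,1), (2,5,0,0,0), (0,23,1,167,1), (1,113,1,34,0), (1,61,1,63,0),
  (0,2,2,31,2), (0,5,1,769,1), (1,641,1,6,0), (0,3847,1,3847,0), (1,37,1,104,0), (0,3,1,1283,1), (1,11,1,350,0),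
  (0,3851,1,3851,0), (1,107,1,36,0), (0,3853,1,3853,0), (1,47,1,82,0), (1,257,1,15,0), (0,2,4,241,1)]

/-- See the module header. -/
def chunk1 : List (ℕ × ℕ × ℕ × ℕ × ℕ) := [
  (1,29,1,133,0), (1,643,1,6,0), (0,17,1,227,1), (1,193,1,20,0), (1,13,1,297,0), (0,2,1,1931,1), (0,3863,1,3863,0),
  (1,23,1,168,0), (0,5,1,773,1), (0,2,1,1933,1), (0,3,1,1289,1), (0,2,2,967,1), (0,53,1,73,1), (1,43,1,90,0),
  (0,7,2,79,1), (0,2,5,11,2), (0,3,1,1291,1), (1,149,1,26,0), (0,5,3,31,1), (1,19,1,204,0), (0,3877,1,3877,0),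
  (1,277,1,14,0), (0,3,2,431,1), (1,97,1,40,0), (0,3881,1,3881,0), (1,647,1,6,0), (0,11,1,353,1), (0,2,2,971,1),
  (1,37,1,105,0), (1,67,1,58,0), (0,13,2,23,1), (0,2,4,3,5), (0,3889,1,3889,0), (1,389,1,10,0), (0,3,1,1297,1),
  (1,139,1,28,0), (0,17,1,229,1), (1,59,1,66,0), (1,41,1,95,0), (0,2,3,487,1), (0,3,2,433,1), (0,2,1,1949,1),
  (0,7,1,557,1), (1,13,1,300,0), (0,47,1,83,1), (0,2,1,1951,1), (0,3,1,1301,1), (0,2,6,61,1), (1,71,1,55,0),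
  (1,7,1,558,0), (0,3907,1,3907,0), (0,2,2,977,1), (0,3,1,1303,1), (1,23,1,170,0), (0,3911,1,3911,0), (1,163,1,24,0),
  (1,43,1,91,0), (1,103,1,38,0), (1,29,1,135,0), (1,89,1,44,0), (0,3917,1,3917,0), (1,653,1,6,0), (0,3919,1,3919,0),
  (1,7,2,80,0), (0,3,1,1307,1), (1,53,1,74,0), (0,3923,1,3923,0), (1,109,1,36,0), (0,5,2,157,1), (1,151,1,26,0),
  (1,17,1,231,0), (0,2,3,491,1), (0,3929,1,3929,0), (1,131,1,30,0), (0,3931,1,3931,0), (0,2,2,983,1), (1,23,1,171,0),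
  (1,281,1,14,0), (0,5,1,787,1), (1,41,1,96,0), (0,31,1,127,1), (1,179,1,22,0), (1,101,1,39,0), (1,197,1,20,0),
  (0,7,1,563,1), (1,73,1,54,0), (0,3943,1,3943,0), (1,29,1,136,0), (1,263,1,15,0), (0,2,1,1973,1), (0,3947,1,3947,0),
  (1,47,1,84,0), (0,11,1,359,1), (1,79,1,50,0), (0,3,2,439,1), (1,19,1,208,0), (0,59,1,67,1), (1,659,1,6,0),
  (1,113,1,35,0), (1,43,1,92,0), (0,3,1,1319,1), (0,2,1,1979,1), (0,37,1,107,1), (2,11,0,0,0), (0,17,1,233,1),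
  (1,283,1,14,0), (0,3,1,1321,1), (0,2,2,991,1), (1,61,1,65,0), (1,661,1,6,0), (0,3967,1,3967,0), (0,2,7,31,1),
  (0,3,4,7,2), (1,397,1,10,0), (0,11,1,19,2), (1,331,1,12,0), (0,29,1,137,1), (0,2,1,1987,1), (1,53,1,75,0),
  (1,71,1,56,0), (0,41,1,97,1), (1,17,1,234,0), (0,23,1,173,1), (1,199,1,20,0), (0,3,1,1327,1), (1,181,1,22,0),
  (0,7,1,569,1), (1,83,1,48,0), (0,5,1,797,1), (0,2,1,1993,1), (0,3,2,443,1), (0,2,2,997,1), (0,3989,1,3989,0),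
  (1,19,1,210,0), (0,13,1,307,1), (0,2,3,499,1), (0,3,1,11,3), (0,2,1,1997,1), (1,47,1,85,0), (1,37,1,108,0),
  (0,7,1,571,1), (0,2,1,1999,1), (1,43,1,93,0), (0,2,5,5,3), (0,4001,1,4001,0), (1,29,1,138,0), (0,4003,1,4003,0),
  (1,13,1,308,0), (1,89,1,45,0), (0,2,1,2003,1), (0,4007,1,4007,0), (1,167,1,24,0), (0,19,1,211,1), (1,401,1,10,0),
  (1,191,1,21,0), (1,59,1,68,0), (0,4013,1,4013,0), (1,223,1,18,0), (1,73,1,55,0), (0,2,4,251,1), (1,103,1,39,0),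
  (1,41,1,98,0), (0,4019,1,4019,0), (1,67,1,60,0), (0,4021,1,4021,0), (0,2,1,2011,1), (0,3,3,149,1), (0,2,3,503,1),
  (1,23,1,175,0), (1,61,1,66,0), (0,4027,1,4027,0), (1,53,1,76,0), (1,79,1,51,0), (1,31,1,130,0), (0,29,1,139,1),
  (4,0,0,0,0), (0,37,1,109,1), (0,2,1,2017,1), (1,269,1,15,0), (0,2,2,1009,1), (0,11,1,367,1), (1,673,1,6,0),
  (0,7,1,577,1), (1,101,1,40,0), (0,3,2,449,1), (1,47,1,86,0), (0,13,1,311,1), (1,337,1,12,0), (0,5,1,809,1),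
  (1,17,2,14,0), (1,71,1,57,0), (1,23,1,176,0), (0,4049,1,4049,0), (1,2,1,2025,0), (0,4051,1,4051,0), (0,2,2,1013,1),
  (1,193,1,21,0), (0,2,1,2027,1), (0,5,1,811,1), (1,13,2,24,0), (0,4057,1,4057,0), (0,2,1,2029,1), (1,41,1,99,0),
  (1,29,1,140,0), (0,31,1,131,1), (1,677,1,6,0), (0,17,1,239,1), (0,2,5,127,1), (1,271,1,15,0), (1,107,1,38,0),
  (0,7,2,83,1), (1,113,1,36,0), (0,13,1,313,1), (1,37,1,110,0), (1,59,1,69,0), (0,2,3,509,1)]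

/-- See the module header. -/
def chunk2 : List (ℕ × ℕ × ℕ × ℕ × ℕ) := [
  (0,4073,1,4073,0), (1,97,1,42,0), (0,5,2,163,1), (0,2,2,1019,1), (0,3,3,151,1), (0,2,1,2039,1), (0,4079,1,4079,0),
  (4,0,0,0,0), (1,53,1,77,0), (1,157,1,26,0), (0,3,1,1361,1), (0,2,2,1021,1), (1,43,1,95,0), (1,227,1,18,0),
  (0,61,1,67,1), (1,73,1,56,0), (1,47,1,87,0), (1,409,1,10,0), (0,4091,1,4091,0), (1,31,1,132,0), (0,4093,1,4093,0),
  (1,89,1,46,0), (1,5,1,819,0), (0,2,12,2,0), (0,17,1,241,1), (1,683,1,6,0), (0,4099,1,4099,0), (1,41,1,100,0),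
  (0,3,1,1367,1), (1,293,1,14,0), (0,11,1,373,1), (1,19,1,216,0), (0,5,1,821,1), (0,2,1,2053,1), (0,3,1,37,2),
  (1,79,1,52,0), (0,7,1,587,1), (1,137,1,30,0), (0,4111,1,4111,0), (0,2,4,257,1), (0,3,2,457,1), (1,17,1,242,0),
  (0,5,1,823,1), (1,7,3,12,0), (0,23,1,179,1), (1,71,1,58,0), (0,3,1,1373,1), (1,103,1,40,0), (0,13,1,317,1),
  (1,229,1,18,0), (1,31,1,133,0), (0,2,2,1031,1), (1,11,1,375,0), (0,2,1,2063,1), (0,4127,1,4127,0), (1,43,1,96,0),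
  (0,4129,1,4129,0), (1,59,1,70,0), (0,3,5,17,1), (0,2,2,1033,1), (0,4133,1,4133,0), (1,53,1,78,0), (0,5,1,827,1),
  (1,47,1,88,0), (1,197,1,21,0), (0,2,1,2069,1), (0,4139,1,4139,0), (1,23,1,180,0), (0,41,1,101,1), (1,109,1,38,0),
  (0,3,1,1381,1), (1,37,1,112,0), (0,5,1,829,1), (1,691,1,6,0), (1,29,1,143,0), (1,61,1,68,0), (0,3,2,461,1),
  (1,83,1,50,0), (0,7,1,593,1), (1,173,1,24,0), (0,4153,1,4153,0), (1,67,1,62,0), (1,277,1,15,0), (0,2,2,1039,1),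
  (0,4157,1,4157,0), (1,11,1,378,0), (0,4159,1,4159,0), (2,13,0,0,0), (1,73,1,57,0), (0,2,1,2081,1), (0,23,1,181,1),
  (1,347,1,12,0), (1,17,1,245,0), (0,2,1,2083,1), (0,3,2,463,1), (0,2,3,521,1), (0,11,1,379,1), (1,139,1,30,0),
  (0,43,1,97,1), (1,149,1,28,0), (1,107,1,39,0), (0,2,1,2087,1), (0,5,2,167,1), (1,29,1,144,0), (0,4177,1,4177,0),
  (0,2,1,2089,1), (1,199,1,21,0), (1,19,1,220,0), (0,37,1,113,1), (1,41,1,102,0), (0,47,1,89,1), (0,2,3,523,1),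
  (1,31,1,135,0), (1,23,1,182,0), (0,53,1,79,1), (1,349,1,12,0), (0,59,1,71,1), (1,419,1,10,0), (1,127,1,33,0),
  (0,2,5,131,1), (0,7,1,599,1), (1,233,1,18,0), (0,5,1,839,1), (0,2,2,1049,1), (0,3,1,1399,1), (0,2,1,2099,1),
  (1,19,1,221,0), (2,7,0,0,0), (0,4201,1,4201,0), (1,191,1,22,0), (0,3,2,467,1), (0,2,2,1051,1), (0,5,1,29,2),
  (1,701,1,6,0), (0,7,1,601,1), (0,2,4,263,1), (1,61,1,69,0), (1,421,1,10,0), (0,4211,1,4211,0), (2,13,0,0,0),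
  (0,11,1,383,1), (1,43,1,98,0), (1,281,1,15,0), (1,31,1,136,0), (0,4217,1,4217,0), (1,19,1,222,0), (0,4219,1,4219,0),
  (1,211,1,20,0), (1,67,1,63,0), (0,2,1,2111,1), (0,41,1,103,1), (1,11,1,384,0), (0,5,2,13,2), (0,2,1,2113,1),
  (0,3,1,1409,1), (1,151,1,28,0), (0,4229,1,4229,0), (1,47,1,90,0), (0,4231,1,4231,0), (0,2,3,23,2), (1,83,1,51,0),
  (1,73,1,58,0), (1,11,2,35,0), (1,353,1,12,0), (0,19,1,223,1), (1,163,1,26,0), (0,3,3,157,1), (1,53,1,80,0),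
  (0,4241,1,4241,0), (1,101,1,42,0), (0,4243,1,4243,0), (0,2,2,1061,1), (1,283,1,15,0), (1,193,1,22,0), (0,31,1,137,1),
  (1,59,1,72,0), (0,7,1,607,1), (1,17,1,250,0), (1,109,1,39,0), (0,2,2,1063,1), (0,4253,1,4253,0), (1,709,1,6,0),
  (1,37,1,115,0), (1,19,1,224,0), (1,43,1,99,0), (0,2,1,2129,1), (0,4259,1,4259,0), (1,71,1,60,0), (0,4261,1,4261,0),
  (0,2,1,2131,1), (1,29,1,147,0), (1,41,1,104,0), (0,5,1,853,1), (1,79,1,54,0), (0,17,1,251,1), (1,97,1,44,0),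
  (0,3,1,1423,1), (1,61,1,70,0), (0,4271,1,4271,0), (1,89,1,48,0), (0,4273,1,4273,0), (0,2,1,2137,1), (1,19,1,225,0),
  (0,2,2,1069,1), (1,47,1,91,0), (1,31,1,138,0), (0,11,1,389,1), (1,107,1,40,0), (0,3,1,1427,1), (0,2,1,2141,1),
  (0,4283,1,4283,0), (1,17,1,252,0), (0,5,1,857,1), (0,2,1,2143,1), (0,3,1,1429,1), (0,2,6,67,1)]

/-- See the module header. -/
def chunk3 : List (ℕ × ℕ × ℕ × ℕ × ℕ) := [
  (0,4289,1,4289,0), (1,13,1,330,0), (0,7,1,613,1), (1,37,1,116,0), (0,3,4,53,1), (1,113,1,38,0), (0,5,1,859,1),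
  (1,179,1,24,0), (0,4297,1,4297,0), (1,307,1,14,0), (0,3,1,1433,1), (1,43,1,100,0), (1,23,1,187,0), (1,239,1,18,0),
  (0,13,1,331,1), (0,2,4,269,1), (1,41,1,105,0), (0,2,1,2153,1), (0,59,1,73,1), (1,359,1,12,0), (0,31,1,139,1),
  (1,431,1,10,0), (0,3,2,479,1), (1,11,1,392,0), (0,19,1,227,1), (1,719,1,6,0), (0,5,1,863,1), (1,83,1,52,0),
  (0,3,1,1439,1), (1,127,1,34,0), (0,7,1,617,1), (4,0,0,0,0), (0,29,1,149,1), (0,2,1,2161,1), (1,131,1,33,0),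
  (1,47,1,92,0), (0,5,2,173,1), (1,103,1,42,0), (0,4327,1,4327,0), (0,2,3,541,1), (1,37,1,117,0), (1,433,1,10,0),
  (0,61,1,71,1), (1,19,2,12,0), (0,7,1,619,1), (1,197,1,22,0), (1,17,2,15,0), (0,2,4,271,1), (0,4337,1,4337,0),
  (1,241,1,18,0), (0,4339,1,4339,0), (1,31,1,140,0), (0,3,1,1447,1), (1,167,1,26,0), (0,43,1,101,1), (1,181,1,24,0),
  (1,79,1,55,0), (1,53,1,82,0), (1,23,1,189,0), (0,2,2,1087,1), (0,4349,1,4349,0), (1,29,1,150,0), (0,19,1,229,1),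
  (0,2,8,17,1), (0,3,1,1451,1), (1,311,1,14,0), (1,67,1,65,0), (1,11,2,36,0), (0,4357,1,4357,0), (0,2,1,2179,1),
  (0,3,1,1453,1), (1,109,1,40,0), (0,7,2,89,1), (1,727,1,6,0), (0,4363,1,4363,0), (0,2,2,1091,1), (1,97,1,45,0),
  (1,59,1,74,0), (0,11,1,397,1), (1,13,1,336,0), (0,17,1,257,1), (1,23,1,190,0), (1,47,1,93,0), (0,2,2,1093,1),
  (0,4373,1,4373,0), (0,2,1,3,7), (0,5,4,7,1), (0,2,3,547,1), (0,3,1,1459,1), (1,199,1,22,0), (0,29,1,151,1),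
  (1,73,1,60,0), (0,13,1,337,1), (1,313,1,14,0), (0,3,2,487,1), (0,2,5,137,1), (0,5,1,877,1), (1,43,1,102,0),
  (0,41,1,107,1), (0,2,2,1097,1), (1,11,1,399,0), (1,439,1,10,0), (0,4391,1,4391,0), (1,61,1,72,0), (0,23,1,191,1),
  (0,2,1,13,3), (1,293,1,15,0), (1,157,1,28,0), (0,4397,1,4397,0), (1,733,1,6,0), (0,53,1,83,1), (2,11,0,0,0),
  (0,3,3,163,1), (1,71,1,62,0), (1,37,1,119,0), (1,367,1,12,0), (0,5,1,881,1), (0,2,1,2203,1), (1,113,1,39,0),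
  (1,29,1,152,0), (0,4409,1,4409,0), (1,2,1,2205,0), (0,11,1,401,1), (0,2,2,1103,1), (0,3,1,1471,1), (0,2,1,2207,1),
  (0,5,1,883,1), (1,23,1,192,0), (0,7,1,631,1), (0,2,1,47,2), (0,3,2,491,1), (1,17,1,260,0), (0,4421,1,4421,0),
  (1,67,1,66,0), (0,4423,1,4423,0), (1,79,1,56,0), (1,59,1,75,0), (0,2,1,2213,1), (0,19,1,233,1), (1,41,1,108,0),
  (0,43,1,103,1), (1,443,1,10,0), (1,211,1,21,0), (0,2,4,277,1), (1,31,1,143,0), (1,739,1,6,0), (0,5,1,887,1),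
  (0,2,2,1109,1), (1,29,1,153,0), (1,317,1,14,0), (0,23,1,193,1), (1,37,1,120,0), (0,4441,1,4441,0), (0,2,1,2221,1),
  (0,3,1,1481,1), (1,101,1,44,0), (1,127,1,35,0), (1,13,1,342,0), (0,4447,1,4447,0), (0,2,5,139,1), (0,3,1,1483,1),
  (1,89,1,50,0), (0,4451,1,4451,0), (1,53,1,84,0), (0,61,1,73,1), (1,131,1,34,0), (1,11,1,405,0), (0,2,3,557,1),
  (0,4457,1,4457,0), (1,743,1,6,0), (0,7,3,13,1), (1,223,1,20,0), (0,3,1,1487,1), (1,97,1,46,0), (0,4463,1,4463,0),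
  (1,31,1,144,0), (1,47,1,95,0), (1,29,1,154,0), (0,3,1,1489,1), (0,2,2,1117,1), (0,41,1,109,1), (1,149,1,30,0),
  (0,17,1,263,1), (1,43,1,104,0), (1,71,1,63,0), (0,2,1,2237,1), (0,5,2,179,1), (1,373,1,12,0), (0,11,2,37,1),
  (0,2,1,2239,1), (0,3,1,1493,1), (2,7,0,0,0), (0,4481,1,4481,0), (1,83,1,54,0), (0,4483,1,4483,0), (1,59,1,76,0),
  (1,23,1,195,0), (0,2,1,2243,1), (0,7,1,641,1), (1,17,1,264,0), (0,67,2,67,0), (1,449,1,10,0), (0,3,2,499,1),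
  (0,2,2,1123,1), (0,4493,1,4493,0), (1,107,1,42,0), (1,31,1,145,0), (0,2,4,281,1), (0,3,1,1499,1), (1,173,1,26,0),
  (0,11,1,409,1), (3,5,2,36,0), (0,7,1,643,1), (0,2,1,2251,1), (1,79,1,57,0), (0,2,3,563,1)]

/-- See the module header. -/
def chunk4 : List (ℕ × ℕ × ℕ × ℕ × ℕ) := [
  (1,53,1,85,0), (1,751,1,6,0), (0,4507,1,4507,0), (1,23,1,196,0), (0,3,3,167,1), (1,41,1,110,0), (0,13,1,347,1),
  (1,47,1,96,0), (0,4513,1,4513,0), (1,61,1,74,0), (1,43,1,105,0), (0,2,2,1129,1), (0,4517,1,4517,0), (1,251,1,18,0),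
  (0,4519,1,4519,0), (1,113,1,40,0), (1,137,1,33,0), (1,19,1,238,0), (0,4523,1,4523,0), (1,29,1,156,0), (0,5,2,181,1),
  (1,73,1,62,0), (0,3,2,503,1), (0,2,4,283,1), (0,7,1,647,1), (1,151,1,30,0), (0,23,1,197,1), (1,103,1,44,0),
  (0,3,1,1511,1), (0,2,1,2267,1), (0,5,1,907,1), (5,7,3,3,4), (0,13,1,349,1), (0,2,1,2269,1), (1,89,1,51,0),
  (1,227,1,20,0), (0,19,1,239,1), (1,757,1,6,0), (1,59,1,77,0), (0,2,6,71,1), (1,101,1,45,0), (0,2,1,2273,1),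
  (0,4547,1,4547,0), (1,379,1,12,0), (0,4549,1,4549,0), (1,13,1,350,0), (1,41,1,111,0), (0,2,3,569,1), (0,29,1,157,1),
  (1,23,1,198,0), (0,5,1,911,1), (1,67,1,68,0), (1,31,1,147,0), (1,53,1,86,0), (0,47,1,97,1), (1,19,1,240,0),
  (0,4561,1,4561,0), (0,2,1,2281,1), (0,3,3,13,2), (1,163,1,28,0), (1,83,1,55,0), (1,761,1,6,0), (0,4567,1,4567,0),
  (0,2,3,571,1), (0,3,1,1523,1), (1,457,1,10,0), (0,7,1,653,1), (1,127,1,36,0), (0,17,1,269,1), (0,2,1,2287,1),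
  (1,61,1,75,0), (1,13,1,352,0), (0,23,1,199,1), (1,109,1,42,0), (0,19,1,241,1), (1,229,1,20,0), (0,3,2,509,1),
  (1,79,1,58,0), (0,4583,1,4583,0), (1,191,1,24,0), (1,131,1,35,0), (0,2,1,2293,1), (1,139,1,33,0), (1,37,1,124,0),
  (0,13,1,353,1), (1,17,1,270,0), (0,4591,1,4591,0), (1,41,1,112,0), (0,3,1,1531,1), (0,2,1,2297,1), (0,5,1,919,1),
  (1,383,1,12,0), (0,4597,1,4597,0), (1,19,1,242,0), (1,73,1,63,0), (1,23,1,200,0), (0,43,1,107,1), (1,59,1,78,0),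
  (0,4603,1,4603,0), (0,2,2,1151,1), (1,307,1,15,0), (1,47,1,98,0), (0,17,1,271,1), (0,2,9,3,2), (0,11,1,419,1),
  (1,461,1,10,0), (1,53,1,87,0), (0,2,2,1153,1), (0,7,1,659,1), (1,769,1,6,0), (1,71,1,65,0), (0,2,3,577,1),
  (0,3,5,19,1), (0,2,1,2309,1), (0,31,1,149,1), (4,0,0,0,0), (0,4621,1,4621,0), (0,2,1,2311,1), (1,67,1,69,0),
  (0,2,4,17,2), (0,5,3,37,1), (1,257,1,18,0), (0,7,1,661,1), (1,89,1,52,0), (0,3,1,1543,1), (1,463,1,10,0),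
  (0,11,1,421,1), (1,193,1,24,0), (0,41,1,113,1), (1,331,1,14,0), (1,103,1,45,0), (1,61,1,76,0), (0,4637,1,4637,0),
  (1,773,1,6,0), (0,4639,1,4639,0), (1,29,1,160,0), (1,17,1,273,0), (1,211,1,22,0), (0,4643,1,4643,0), (1,43,1,108,0),
  (0,5,1,929,1), (1,101,1,46,0), (0,3,1,1549,1), (1,83,1,56,0), (0,4649,1,4649,0), (1,31,1,150,0), (0,4651,1,4651,0),
  (0,2,2,1163,1), (1,47,1,99,0), (1,179,1,26,0), (1,19,1,245,0), (1,97,1,48,0), (0,4657,1,4657,0), (1,137,1,34,0),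
  (0,3,1,1553,1), (1,233,1,20,0), (0,59,1,79,1), (1,37,1,126,0), (0,4663,1,4663,0), (1,53,1,88,0), (1,311,1,15,0),
  (0,2,1,2333,1), (0,13,1,359,1), (1,389,1,12,0), (1,29,1,161,0), (1,467,1,10,0), (0,3,3,173,1), (0,2,6,73,1),
  (0,4673,1,4673,0), (1,41,1,114,0), (1,17,1,275,0), (1,167,1,28,0), (0,3,1,1559,1), (0,2,1,2339,1), (0,4679,1,4679,0),
  (2,13,0,0,0), (0,31,1,151,1), (0,2,1,2341,1), (1,223,1,21,0), (0,2,2,1171,1), (0,5,1,937,1), (1,71,1,66,0),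
  (0,43,1,109,1), (0,2,4,293,1), (0,3,2,521,1), (1,67,1,70,0), (0,4691,1,4691,0), (1,23,1,204,0), (0,13,1,19,2),
  (0,2,1,2347,1), (1,313,1,15,0), (0,2,3,587,1), (1,61,1,77,0), (1,29,1,162,0), (0,37,1,127,1), (1,47,1,100,0),
  (0,3,1,1567,1), (0,2,1,2351,1), (0,4703,1,4703,0), (1,7,2,96,0), (0,5,1,941,1), (1,181,1,26,0), (0,3,2,523,1),
  (1,107,1,44,0), (0,17,1,277,1), (1,157,1,30,0), (0,7,1,673,1), (1,31,1,152,0), (0,3,1,1571,1), (0,2,1,2357,1),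
  (1,41,1,115,0), (1,131,1,36,0), (0,53,1,89,1), (1,337,1,14,0), (1,13,1,363,0), (1,59,1,80,0)]

/-- See the module header. -/
def chunk5 : List (ℕ × ℕ × ℕ × ℕ × ℕ) := [
  (0,4721,1,4721,0), (1,787,1,6,0), (0,4723,1,4723,0), (0,2,2,1181,1), (2,7,0,0,0), (1,139,1,34,0), (0,29,1,163,1),
  (1,197,1,24,0), (0,4729,1,4729,0), (1,43,1,110,0), (1,83,1,57,0), (1,2,2,1183,0), (0,4733,1,4733,0), (1,263,1,18,0),
  (0,5,1,947,1), (0,2,7,37,1), (0,3,1,1579,1), (1,103,1,46,0), (0,7,1,677,1), (1,79,1,60,0), (0,11,1,431,1),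
  (0,2,1,2371,1), (1,31,1,153,0), (0,2,3,593,1), (1,73,1,65,0), (1,113,1,42,0), (0,47,1,101,1), (0,2,2,1187,1),
  (0,3,1,1583,1), (1,19,1,250,0), (0,4751,1,4751,0), (1,11,1,432,0), (0,7,2,97,1), (0,2,1,2377,1), (1,317,1,15,0),
  (1,41,1,116,0), (0,67,1,71,1), (1,61,1,78,0), (0,4759,1,4759,0), (2,17,0,0,0), (0,3,2,23,2), (0,2,1,2381,1),
  (0,11,1,433,1), (1,397,1,12,0), (0,5,1,953,1), (0,2,1,2383,1), (1,227,1,21,0), (0,2,5,149,1), (0,19,1,251,1),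
  (1,53,1,90,0), (0,13,1,367,1), (0,2,2,1193,1), (1,43,1,111,0), (1,31,1,154,0), (0,5,2,191,1), (1,199,1,24,0),
  (0,17,1,281,1), (0,2,1,2389,1), (0,3,4,59,1), (1,239,1,20,0), (0,7,1,683,1), (1,797,1,6,0), (0,4783,1,4783,0),
  (1,23,1,208,0), (1,29,1,165,0), (0,2,1,2393,1), (0,4787,1,4787,0), (1,19,1,252,0), (0,4789,1,4789,0), (1,479,1,10,0),
  (0,3,1,1597,1), (0,2,3,599,1), (0,4793,1,4793,0), (1,47,1,102,0), (1,137,1,35,0), (1,109,1,44,0), (1,41,1,117,0),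
  (0,2,1,2399,1), (0,4799,1,4799,0), (5,3,6,5,2), (0,4801,1,4801,0), (0,2,1,7,4), (0,3,1,1601,1), (0,2,2,1201,1),
  (0,5,1,31,2), (1,89,1,54,0), (1,23,1,209,0), (0,2,3,601,1), (1,229,1,21,0), (1,37,1,130,0), (0,17,1,283,1),
  (1,401,1,12,0), (0,4813,1,4813,0), (1,83,1,58,0), (1,107,1,45,0), (1,43,1,112,0), (0,4817,1,4817,0), (1,73,1,66,0),
  (0,61,1,79,1), (1,241,1,20,0), (0,3,1,1607,1), (0,2,1,2411,1), (1,53,1,91,0), (1,67,1,72,0), (0,5,2,193,1),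
  (1,127,1,38,0), (0,3,1,1609,1), (1,71,1,68,0), (0,11,1,439,1), (1,23,1,210,0), (0,4831,1,4831,0), (0,2,5,151,1),
  (0,3,3,179,1), (0,2,1,2417,1), (0,5,1,967,1), (1,31,1,156,0), (0,7,1,691,1), (1,59,1,82,0), (0,3,1,1613,1),
  (1,11,2,40,0), (0,47,1,103,1), (1,269,1,18,0), (0,29,1,167,1), (1,173,1,28,0), (1,19,1,255,0), (0,2,1,2423,1),
  (0,37,1,131,1), (1,101,1,48,0), (0,13,1,373,1), (1,97,1,50,0), (1,11,1,441,0), (0,2,2,1213,1), (0,23,1,211,1),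
  (1,809,1,6,0), (0,5,1,971,1), (0,2,3,607,1), (0,3,1,1619,1), (1,347,1,14,0), (0,43,1,113,1), (1,3,5,20,0),
  (0,4861,1,4861,0), (1,17,1,286,0), (0,3,1,1621,1), (0,2,8,19,1), (1,139,1,35,0), (1,811,1,6,0), (0,31,1,157,1),
  (0,2,2,1217,1), (0,3,2,541,1), (1,487,1,10,0), (0,4871,1,4871,0), (1,29,1,168,0), (0,11,1,443,1), (0,2,1,2437,1),
  (1,13,1,375,0), (1,53,1,92,0), (0,4877,1,4877,0), (1,271,1,18,0), (1,41,1,119,0), (1,61,1,80,0), (0,3,1,1627,1),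
  (0,2,1,2441,1), (0,19,1,257,1), (1,37,1,132,0), (0,5,1,977,1), (1,349,1,14,0), (0,3,3,181,1), (1,47,1,104,0),
  (0,4889,1,4889,0), (1,163,1,30,0), (0,67,1,73,1), (0,2,2,1223,1), (1,233,1,21,0), (0,2,1,2447,1), (1,89,1,55,0),
  (1,17,1,288,0), (0,59,1,83,1), (1,79,1,62,0), (1,71,1,69,0), (1,5,2,196,0), (0,13,2,29,1), (1,43,1,114,0),
  (0,4903,1,4903,0), (0,2,3,613,1), (1,109,1,45,0), (1,223,1,22,0), (0,7,1,701,1), (1,409,1,12,0), (0,4909,1,4909,0),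
  (1,491,1,10,0), (0,3,1,1637,1), (0,2,4,307,1), (0,17,3,17,0), (1,2,1,2457,0), (0,5,1,983,1), (0,2,2,1229,1),
  (1,149,1,33,0), (0,2,1,2459,1), (0,4919,1,4919,0), (1,41,1,120,0), (1,37,1,133,0), (1,107,1,46,0), (0,3,2,547,1),
  (0,2,2,1231,1), (0,5,2,197,1), (1,821,1,6,0), (0,13,1,379,1), (2,11,0,0,0), (1,53,1,93,0), (1,29,1,170,0),
  (0,4931,1,4931,0), (1,137,1,36,0), (0,4933,1,4933,0), (0,2,1,2467,1), (1,47,1,105,0), (0,2,3,617,1)]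

/-- See the module header. -/
def chunk6 : List (ℕ × ℕ × ℕ × ℕ × ℕ) := [
  (0,4937,1,4937,0), (1,823,1,6,0), (0,11,1,449,1), (1,19,1,260,0), (0,3,4,61,1), (1,353,1,14,0), (0,4943,1,4943,0),
  (1,103,1,48,0), (1,43,1,115,0), (0,2,1,2473,1), (1,97,1,51,0), (0,2,2,1237,1), (0,7,2,101,1), (1,2,1,2475,0),
  (0,4951,1,4951,0), (0,2,3,619,1), (1,127,1,39,0), (0,2,1,2477,1), (0,5,1,991,1), (1,59,1,84,0), (0,4957,1,4957,0),
  (1,67,1,74,0), (1,29,1,171,0), (2,31,0,0,0), (0,11,2,41,1), (1,827,1,6,0), (0,7,1,709,1), (1,73,1,68,0),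
  (1,331,1,15,0), (1,191,1,26,0), (0,4967,1,4967,0), (1,23,1,216,0), (0,4969,1,4969,0), (1,71,1,70,0), (0,3,1,1657,1),
  (1,113,1,44,0), (0,4973,1,4973,0), (1,829,1,6,0), (0,5,2,199,1), (0,2,4,311,1), (1,79,1,63,0), (1,131,1,38,0),
  (0,13,1,383,1), (1,83,1,60,0), (0,17,1,293,1), (1,53,1,94,0), (1,151,1,33,0), (1,89,1,56,0), (0,5,1,997,1),
  (1,277,1,18,0), (0,4987,1,4987,0), (1,43,1,116,0), (0,3,1,1663,1), (1,499,1,10,0), (1,31,1,161,0), (1,13,1,384,0),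
  (0,4993,1,4993,0), (1,227,1,22,0), (1,37,1,135,0), (0,2,2,1249,1), (0,19,1,263,1), (1,17,1,294,0), (0,4999,1,4999,0),
  (0,2,3,5,4), (0,3,1,1667,1), (1,61,1,82,0), (0,5003,1,5003,0), (1,139,1,36,0), (1,13,1,385,0), (0,2,1,2503,1),
  (0,3,1,1669,1), (0,2,4,313,1), (0,5009,1,5009,0), (1,167,1,30,0), (0,5011,1,5011,0), (1,179,1,28,0), (0,3,2,557,1),
  (1,109,1,46,0), (1,59,1,85,0), (1,19,1,264,0), (0,29,1,173,1), (1,193,1,26,0), (1,239,1,21,0), (1,251,1,20,0),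
  (0,5021,1,5021,0), (1,31,1,162,0), (0,5023,1,5023,0), (0,2,5,157,1), (1,67,1,75,0), (1,359,1,14,0), (0,11,1,457,1),
  (1,419,1,12,0), (0,47,1,107,1), (1,503,1,10,0), (1,43,1,117,0), (1,37,1,136,0), (0,7,1,719,1), (1,839,1,6,0),
  (1,53,1,95,0), (0,2,2,1259,1), (1,73,1,69,0), (1,229,1,22,0), (0,5039,1,5039,0), (4,0,0,0,0), (0,71,2,71,0),
  (0,2,1,2521,1), (0,3,1,41,2), (1,97,1,52,0), (0,5,1,1009,1), (1,29,2,6,0), (0,7,2,103,1), (0,2,3,631,1),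
  (1,17,1,297,0), (1,101,1,50,0), (0,5051,1,5051,0), (1,421,1,12,0), (0,31,1,163,1), (1,19,2,14,0), (1,337,1,15,0),
  (0,2,6,79,1), (0,13,1,389,1), (1,281,1,18,0), (0,5059,1,5059,0), (1,23,1,220,0), (1,241,1,21,0), (0,2,1,2531,1),
  (0,61,1,83,1), (1,211,1,24,0), (0,5,1,1013,1), (1,149,1,34,0), (0,3,2,563,1), (1,181,1,28,0), (0,37,1,137,1),
  (1,13,2,30,0), (0,11,1,461,1), (0,2,4,317,1), (1,89,1,57,0), (1,59,1,86,0), (1,29,1,175,0), (1,47,1,108,0),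
  (0,5077,1,5077,0), (0,2,1,2539,1), (0,3,1,1693,1), (1,127,1,40,0), (0,5081,1,5081,0), (1,11,2,42,0), (1,23,1,221,0),
  (1,41,1,124,0), (1,113,1,45,0), (0,2,1,2543,1), (0,5087,1,5087,0), (1,53,1,96,0), (0,7,1,727,1), (1,509,1,10,0),
  (0,3,1,1697,1), (1,67,1,76,0), (0,11,1,463,1), (1,283,1,18,0), (0,5,1,1019,1), (1,7,2,104,0), (0,3,1,1699,1),
  (0,2,1,2549,1), (0,5099,1,5099,0), (1,17,1,300,0), (0,5101,1,5101,0), (0,2,1,2551,1), (0,3,6,7,1), (2,29,0,0,0),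
  (0,5,1,1021,1), (1,37,1,138,0), (0,5107,1,5107,0), (0,2,2,1277,1), (1,131,1,39,0), (1,73,1,70,0), (0,19,1,269,1),
  (1,71,1,72,0), (0,5113,1,5113,0), (0,2,1,2557,1), (1,31,1,165,0), (0,2,2,1279,1), (1,43,1,119,0), (1,853,1,6,0),
  (0,5119,1,5119,0), (0,2,10,5,1), (0,3,2,569,1), (1,197,1,26,0), (0,47,1,109,1), (1,61,1,84,0), (0,5,3,41,1),
  (1,233,1,22,0), (0,3,1,1709,1), (0,2,3,641,1), (0,23,1,223,1), (1,19,1,270,0), (0,7,1,733,1), (0,2,2,1283,1),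
  (1,59,1,87,0), (1,151,1,34,0), (1,79,1,65,0), (1,107,1,48,0), (0,11,1,467,1), (1,367,1,14,0), (0,3,2,571,1),
  (1,257,1,20,0), (0,53,1,97,1), (1,857,1,6,0), (0,37,1,139,1), (0,2,3,643,1), (1,5,1,1029,0), (1,83,1,62,0),
  (0,5147,1,5147,0), (4,0,0,0,0), (0,19,1,271,1), (1,103,1,50,0), (1,101,1,51,0), (1,23,1,224,0)]

/-- See the module header. -/
def chunk7 : List (ℕ × ℕ × ℕ × ℕ × ℕ) := [
  (0,5153,1,5153,0), (1,859,1,6,0), (0,5,1,1031,1), (0,2,2,1289,1), (0,3,3,191,1), (0,2,1,2579,1), (1,67,1,77,0),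
  (1,43,1,120,0), (0,13,1,397,1), (1,89,1,58,0), (0,3,1,1721,1), (0,2,2,1291,1), (0,5,1,1033,1), (1,41,1,126,0),
  (0,5167,1,5167,0), (1,19,1,272,0), (0,3,1,1723,1), (1,47,1,110,0), (0,5171,1,5171,0), (1,431,1,12,0), (0,7,1,739,1),
  (1,199,1,26,0), (1,23,1,225,0), (0,2,3,647,1), (0,31,1,167,1), (1,863,1,6,0), (0,5179,1,5179,0), (1,37,1,140,0),
  (1,157,1,33,0), (0,2,1,2591,1), (0,71,1,73,1), (0,2,6,3,4), (1,61,1,85,0), (0,2,1,2593,1), (1,19,1,273,0),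
  (0,2,2,1297,1), (0,5189,1,5189,0), (1,173,1,30,0), (0,29,1,179,1), (1,59,1,88,0), (0,3,2,577,1), (1,53,1,98,0),
  (0,5,1,1039,1), (1,433,1,12,0), (0,5197,1,5197,0), (1,113,1,46,0), (0,3,1,1733,1), (2,13,0,0,0), (0,7,1,743,1),
  (1,17,2,18,0), (0,11,2,43,1), (0,2,2,1301,1), (1,347,1,15,0), (1,137,1,38,0), (0,41,1,127,1), (1,31,1,168,0),
  (0,5209,1,5209,0), (1,521,1,10,0), (0,3,3,193,1), (0,2,2,1303,1), (0,13,1,401,1), (1,79,1,66,0), (1,149,1,35,0),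
  (0,2,5,163,1), (1,47,1,111,0), (0,2,1,2609,1), (0,17,1,307,1), (1,29,1,180,0), (0,23,1,227,1), (1,373,1,14,0),
  (0,3,1,1741,1), (0,2,3,653,1), (1,19,1,275,0), (1,67,1,78,0), (0,5227,1,5227,0), (0,2,2,1307,1), (1,83,1,63,0),
  (1,523,1,10,0), (0,5231,1,5231,0), (1,109,1,48,0), (0,5233,1,5233,0), (0,2,1,2617,1), (1,349,1,15,0), (1,2,2,1309,0),
  (0,5237,1,5237,0), (1,97,1,54,0), (0,13,2,31,1), (1,131,1,40,0), (0,3,1,1747,1), (0,2,1,2621,1), (0,7,2,107,1),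
  (1,23,1,228,0), (0,5,1,1049,1), (1,61,1,86,0), (1,53,1,99,0), (0,2,7,41,1), (0,29,1,181,1), (1,2,1,2625,0),
  (0,59,1,89,1), (1,101,1,52,0), (1,103,1,51,0), (1,71,1,74,0), (0,5,1,1051,1), (1,73,1,72,0), (0,7,1,751,1),
  (1,239,1,22,0), (0,3,1,1753,1), (1,263,1,20,0), (0,5261,1,5261,0), (1,877,1,6,0), (0,19,1,277,1), (1,47,1,112,0),
  (1,5,1,1053,0), (0,2,1,2633,1), (0,23,1,229,1), (1,439,1,12,0), (0,11,1,479,1), (1,31,1,170,0), (1,251,1,21,0),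
  (0,2,3,659,1), (0,5273,1,5273,0), (1,293,1,18,0), (0,5,2,211,1), (0,2,2,1319,1), (0,3,1,1759,1), (1,29,1,182,0),
  (0,5279,1,5279,0), (1,11,1,480,0), (0,5281,1,5281,0), (1,139,1,38,0), (0,3,2,587,1), (0,2,2,1321,1), (1,151,1,35,0),
  (1,881,1,6,0), (0,17,1,311,1), (0,2,3,661,1), (1,43,1,123,0), (1,23,2,10,0), (1,37,1,143,0), (3,7,1,108,0),
  (0,67,1,79,1), (0,2,1,2647,1), (1,353,1,15,0), (0,2,4,331,1), (0,5297,1,5297,0), (1,883,1,6,0), (0,7,1,757,1),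
  (1,53,1,100,0), (1,31,1,171,0), (1,241,1,22,0), (0,5303,1,5303,0), (1,13,1,408,0), (0,5,1,1061,1), (1,379,1,14,0),
  (1,61,1,87,0), (0,2,2,1327,1), (0,5309,1,5309,0), (1,59,1,90,0), (0,47,1,113,1), (0,2,6,83,1), (1,23,1,231,0),
  (0,2,1,2657,1), (0,5,1,1063,1), (1,443,1,12,0), (0,13,1,409,1), (0,2,1,2659,1), (0,3,3,197,1), (1,19,1,280,0),
  (0,17,1,313,1), (1,887,1,6,0), (0,5323,1,5323,0), (0,2,2,11,3), (1,71,1,75,0), (0,2,1,2663,1), (0,7,1,761,1),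
  (1,37,1,144,0), (0,73,2,73,0), (1,41,1,130,0), (0,3,1,1777,1), (1,43,1,124,0), (0,5333,1,5333,0), (1,127,1,42,0),
  (1,97,1,55,0), (1,29,1,184,0), (0,3,2,593,1), (1,157,1,34,0), (0,19,1,281,1), (1,89,1,60,0), (0,7,2,109,1),
  (0,2,1,2671,1), (1,137,1,39,0), (0,2,5,167,1), (0,5,1,1069,1), (1,2,1,2673,0), (0,5347,1,5347,0), (1,191,1,28,0),
  (0,3,1,1783,1), (1,107,1,50,0), (0,5351,1,5351,0), (1,223,1,24,0), (0,53,1,101,1), (0,2,1,2677,1), (1,17,1,315,0),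
  (1,103,1,52,0), (0,11,1,487,1), (1,47,1,114,0), (0,23,1,233,1), (1,67,1,80,0), (0,3,1,1787,1), (1,383,1,14,0),
  (0,31,1,173,1), (1,149,1,36,0), (1,37,1,145,0), (0,2,1,2683,1), (0,3,1,1789,1), (1,61,1,88,0)]

/-- See the module header. -/
def chunk8 : List (ℕ × ℕ × ℕ × ℕ × ℕ) := [
  (1,59,1,91,0), (1,179,1,30,0), (0,41,1,131,1), (1,79,1,68,0), (0,3,3,199,1), (0,2,1,2687,1), (0,5,3,43,1),
  (2,7,0,0,0), (0,19,1,283,1), (0,2,1,2689,1), (1,163,1,33,0), (1,269,1,20,0), (0,5381,1,5381,0), (1,23,1,234,0),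
  (0,7,1,769,1), (0,2,3,673,1), (1,359,1,15,0), (0,2,1,2693,1), (0,5387,1,5387,0), (1,449,1,12,0), (0,17,1,317,1),
  (1,11,1,490,0), (0,3,2,599,1), (0,2,4,337,1), (0,5393,1,5393,0), (1,31,1,174,0), (1,83,1,65,0), (1,71,1,76,0),
  (1,257,1,21,0), (0,2,1,2699,1), (0,5399,1,5399,0), (4,0,0,0,0), (0,11,1,491,1), (1,73,1,74,0), (0,3,1,1801,1),
  (1,193,1,28,0), (1,47,1,115,0), (1,53,1,102,0), (0,5407,1,5407,0), (0,2,5,13,2), (0,3,2,601,1), (1,541,1,10,0),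
  (0,7,1,773,1), (1,41,1,132,0), (0,5413,1,5413,0), (0,2,1,2707,1), (1,19,2,15,0), (0,2,3,677,1), (0,5417,1,5417,0),
  (1,43,1,126,0), (0,5419,1,5419,0), (1,271,1,20,0), (1,139,1,39,0), (0,2,1,2711,1), (1,29,1,187,0), (1,113,1,48,0),
  (1,31,1,175,0), (0,2,1,2713,1), (0,3,4,67,1), (1,59,1,92,0), (0,61,1,89,1), (1,181,1,30,0), (0,5431,1,5431,0),
  (1,97,1,56,0), (0,3,1,1811,1), (1,19,1,286,0), (0,5,1,1087,1), (1,151,1,36,0), (0,5437,1,5437,0), (0,2,1,2719,1),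
  (1,37,1,147,0), (1,17,1,320,0), (0,5441,1,5441,0), (1,907,1,6,0), (0,5443,1,5443,0), (0,2,2,1361,1), (1,11,2,45,0),
  (1,389,1,14,0), (0,13,1,419,1), (1,227,1,24,0), (0,5449,1,5449,0), (1,109,1,50,0), (1,79,1,69,0), (1,47,1,116,0),
  (1,41,1,133,0), (1,101,1,54,0), (0,5,1,1091,1), (1,31,1,176,0), (1,107,1,51,0), (0,2,1,2729,1), (0,53,1,103,1),
  (2,13,0,0,0), (0,43,1,127,1), (0,2,1,2731,1), (0,3,2,607,1), (0,2,3,683,1), (0,5,1,1093,1), (1,911,1,6,0),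
  (1,71,1,77,0), (0,2,2,1367,1), (0,3,1,1823,1), (1,547,1,10,0), (0,5471,1,5471,0), (4,0,0,0,0), (0,13,1,421,1),
  (1,23,1,238,0), (1,73,1,75,0), (0,2,2,37,2), (0,5477,1,5477,0), (1,83,1,66,0), (0,5479,1,5479,0), (1,137,1,40,0),
  (1,29,1,189,0), (0,2,1,2741,1), (0,5483,1,5483,0), (1,457,1,12,0), (0,5,1,1097,1), (1,211,1,26,0), (1,59,1,93,0),
  (0,2,4,7,3), (0,11,1,499,1), (1,61,1,90,0), (0,17,2,19,1), (0,2,2,1373,1), (0,3,1,1831,1), (1,67,1,82,0),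
  (1,157,1,35,0), (1,229,1,24,0), (0,23,1,239,1), (0,2,1,2749,1), (1,47,1,117,0), (1,5,3,44,0), (0,5501,1,5501,0),
  (1,131,1,42,0), (0,5503,1,5503,0), (0,2,7,43,1), (1,367,1,15,0), (0,2,1,2753,1), (0,5507,1,5507,0), (1,17,1,324,0),
  (0,7,1,787,1), (1,29,1,190,0), (1,167,1,33,0), (1,53,1,104,0), (0,37,1,149,1), (1,919,1,6,0), (0,5,1,1103,1),
  (1,197,1,28,0), (0,3,2,613,1), (1,89,1,62,0), (0,5519,1,5519,0), (1,23,1,240,0), (0,5521,1,5521,0), (1,251,1,22,0),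
  (1,263,1,21,0), (0,2,2,1381,1), (1,17,1,325,0), (1,307,1,18,0), (0,5527,1,5527,0), (0,2,3,691,1), (1,97,1,57,0),
  (1,79,1,70,0), (0,5531,1,5531,0), (1,461,1,12,0), (0,11,1,503,1), (0,2,1,2767,1), (1,41,1,135,0), (0,2,5,173,1),
  (0,7,2,113,1), (1,71,1,78,0), (0,29,1,191,1), (1,277,1,20,0), (0,3,1,1847,1), (1,163,1,34,0), (0,23,1,241,1),
  (1,11,1,504,0), (0,5,1,1109,1), (1,59,1,94,0), (0,3,1,43,2), (1,73,1,76,0), (0,31,1,179,1), (1,2,1,2775,0),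
  (1,61,1,91,0), (0,2,4,347,1), (0,3,2,617,1), (0,2,1,2777,1), (1,101,1,55,0), (1,463,1,12,0), (0,5557,1,5557,0),
  (1,397,1,14,0), (1,109,1,51,0), (1,139,1,40,0), (0,67,1,83,1), (1,103,1,54,0), (0,5563,1,5563,0), (1,107,1,52,0),
  (1,53,1,105,0), (1,23,1,242,0), (0,19,1,293,1), (1,29,1,192,0), (0,5569,1,5569,0), (1,557,1,10,0), (0,3,2,619,1),
  (1,199,1,28,0), (0,5573,1,5573,0), (1,929,1,6,0), (0,5,2,223,1), (1,41,1,136,0), (1,13,2,33,0), (0,2,1,2789,1),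
  (0,7,1,797,1), (1,31,1,180,0), (0,5581,1,5581,0), (0,2,1,2791,1), (0,3,1,1861,1), (0,2,4,349,1)]

/-- See the module header. -/
def chunk9 : List (ℕ × ℕ × ℕ × ℕ × ℕ) := [
  (0,5,1,1117,1), (1,19,1,294,0), (0,37,1,151,1), (1,127,1,44,0), (0,3,5,23,1), (1,43,1,130,0), (0,5591,1,5591,0),
  (1,233,1,24,0), (1,47,1,119,0), (0,2,1,2797,1), (1,373,1,15,0), (0,2,2,1399,1), (0,29,1,193,1), (1,311,1,18,0),
  (0,11,1,509,1), (2,7,0,0,0), (0,3,1,1867,1), (0,2,1,2801,1), (0,13,1,431,1), (1,467,1,12,0), (1,59,1,95,0),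
  (0,2,1,2803,1), (1,89,1,63,0), (0,2,3,701,1), (0,71,1,79,1), (1,17,1,330,0), (0,31,1,181,1), (1,61,1,92,0),
  (0,3,1,1871,1), (1,401,1,14,0), (0,5,1,1123,1), (4,0,0,0,0), (0,41,1,137,1), (0,2,1,53,2), (0,3,1,1873,1),
  (1,281,1,20,0), (1,73,1,77,0), (1,937,1,6,0), (0,5623,1,5623,0), (1,37,1,152,0), (0,3,2,5,4), (1,97,1,58,0),
  (0,17,1,331,1), (1,67,1,84,0), (0,13,1,433,1), (1,563,1,10,0), (0,3,1,1877,1), (0,2,9,11,1), (0,43,1,131,1),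
  (1,313,1,18,0), (1,23,1,245,0), (0,2,2,1409,1), (0,3,1,1879,1), (0,2,1,2819,1), (0,5639,1,5639,0), (1,47,1,120,0),
  (0,5641,1,5641,0), (1,31,1,182,0), (1,19,1,297,0), (1,83,1,68,0), (0,5,1,1129,1), (1,941,1,6,0), (0,5647,1,5647,0),
  (0,2,4,353,1), (1,269,1,21,0), (1,113,1,50,0), (0,5651,1,5651,0), (1,157,1,36,0), (0,5653,1,5653,0), (1,257,1,22,0),
  (1,29,1,195,0), (1,101,1,56,0), (0,5657,1,5657,0), (1,41,1,138,0), (0,5659,1,5659,0), (1,283,1,20,0), (1,37,1,153,0),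
  (1,149,1,38,0), (0,7,1,809,1), (1,59,1,96,0), (1,103,1,55,0), (0,2,1,2833,1), (0,3,1,1889,1), (1,109,1,52,0),
  (0,5669,1,5669,0), (1,2,1,2835,0), (0,53,1,107,1), (0,2,3,709,1), (1,61,1,93,0), (0,2,1,2837,1), (0,5,2,227,1),
  (1,11,1,516,0), (0,7,1,811,1), (1,167,1,34,0), (0,3,2,631,1), (1,71,1,80,0), (1,23,1,247,0), (1,947,1,6,0),
  (0,5683,1,5683,0), (1,29,1,196,0), (1,379,1,15,0), (0,2,1,2843,1), (0,11,2,47,1), (1,79,1,72,0), (0,5689,1,5689,0),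
  (1,569,1,10,0), (1,271,1,21,0), (0,2,2,1423,1), (0,5693,1,5693,0), (1,73,1,78,0), (1,67,1,85,0), (0,2,6,89,1),
  (0,3,3,211,1), (1,37,1,154,0), (0,41,1,139,1), (1,19,1,300,0), (0,5701,1,5701,0), (0,2,1,2851,1), (0,3,1,1901,1),
  (1,31,1,184,0), (1,163,1,35,0), (1,317,1,18,0), (0,13,1,439,1), (0,2,2,1427,1), (1,173,1,33,0), (1,571,1,10,0),
  (0,5711,1,5711,0), (1,17,1,336,0), (0,29,1,197,1), (0,2,1,2857,1), (1,127,1,45,0), (0,2,2,1429,1), (0,5717,1,5717,0),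
  (1,953,1,6,0), (1,43,1,133,0), (1,13,1,440,0), (0,3,1,1907,1), (0,2,1,2861,1), (0,59,1,97,1), (2,53,0,0,0),
  (0,5,2,229,1), (1,409,1,14,0), (1,83,1,69,0), (0,2,5,179,1), (0,17,1,337,1), (1,191,1,30,0), (0,11,1,521,1),
  (0,2,2,1433,1), (1,13,1,441,0), (1,61,1,94,0), (1,37,1,155,0), (1,239,1,24,0), (0,5737,1,5737,0), (1,151,1,38,0),
  (0,3,1,1913,1), (1,41,1,140,0), (0,5741,1,5741,0), (1,29,1,198,0), (0,5743,1,5743,0), (0,2,4,359,1), (1,383,1,15,0),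
  (1,17,1,338,0), (0,7,1,821,1), (1,479,1,12,0), (0,5749,1,5749,0), (1,23,1,250,0), (0,3,4,71,1), (0,2,3,719,1),
  (0,11,1,523,1), (1,137,1,42,0), (0,5,1,1151,1), (0,2,2,1439,1), (1,101,1,57,0), (0,2,1,2879,1), (0,13,1,443,1),
  (4,0,0,0,0), (0,7,1,823,1), (1,67,1,86,0), (1,113,1,51,0), (1,131,1,44,0), (0,5,1,1153,1), (1,31,2,6,0),
  (0,73,1,79,1), (1,103,1,56,0), (0,3,2,641,1), (1,577,1,10,0), (0,29,1,199,1), (1,37,1,156,0), (0,23,1,251,1),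
  (0,2,1,2887,1), (1,11,1,525,0), (0,2,4,19,2), (0,53,1,109,1), (1,107,1,54,0), (0,5779,1,5779,0), (1,17,2,20,0),
  (1,47,1,123,0), (1,59,1,98,0), (0,5783,1,5783,0), (1,241,1,24,0), (1,89,1,65,0), (1,263,1,22,0), (0,3,2,643,1),
  (0,2,2,1447,1), (0,7,1,827,1), (1,193,1,30,0), (0,5791,1,5791,0), (0,2,5,181,1), (0,3,1,1931,1), (0,2,1,2897,1),
  (1,61,1,95,0), (1,23,1,252,0), (1,31,1,187,0), (1,223,1,26,0), (0,3,1,1933,1), (1,29,1,200,0)]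

/-- See the module header. -/
def chunk10 : List (ℕ × ℕ × ℕ × ℕ × ℕ) := [
  (0,5801,1,5801,0), (1,967,1,6,0), (0,7,1,829,1), (0,2,2,1451,1), (1,43,1,135,0), (0,2,1,2903,1), (0,5807,1,5807,0),
  (1,11,2,48,0), (0,37,1,157,1), (1,83,1,70,0), (1,149,1,39,0), (0,2,2,1453,1), (0,5813,1,5813,0), (1,2,1,2907,0),
  (0,5,1,1163,1), (0,2,3,727,1), (1,277,1,21,0), (0,2,1,2909,1), (0,11,1,23,2), (1,97,1,60,0), (0,5821,1,5821,0),
  (1,71,1,82,0), (0,3,2,647,1), (1,13,1,448,0), (0,5,2,233,1), (1,971,1,6,0), (0,5827,1,5827,0), (1,47,1,124,0),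
  (1,67,1,87,0), (1,53,1,110,0), (0,7,3,17,1), (0,2,3,3,6), (0,19,1,307,1), (0,2,1,2917,1), (1,389,1,15,0),
  (0,2,2,1459,1), (0,13,1,449,1), (1,139,1,42,0), (0,5839,1,5839,0), (1,73,1,80,0), (1,59,1,99,0), (1,127,1,46,0),
  (0,5843,1,5843,0), (1,487,1,12,0), (1,167,1,35,0), (1,79,1,74,0), (0,3,1,1949,1), (1,43,1,136,0), (0,5849,1,5849,0),
  (1,13,1,450,0), (0,5851,1,5851,0), (1,2,2,1463,0), (0,3,1,1951,1), (0,2,1,2927,1), (0,5,1,1171,1), (1,61,1,96,0),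
  (0,5857,1,5857,0), (1,101,1,58,0), (1,7,1,837,0), (1,293,1,20,0), (0,5861,1,5861,0), (1,977,1,6,0), (1,41,1,143,0),
  (0,2,3,733,1), (1,23,1,255,0), (1,419,1,14,0), (0,5867,1,5867,0), (1,163,1,36,0), (0,5869,1,5869,0), (1,587,1,10,0),
  (1,103,1,57,0), (0,2,4,367,1), (0,7,1,839,1), (1,89,1,66,0), (0,5,3,47,1), (1,113,1,52,0), (0,3,2,653,1),
  (0,2,1,2939,1), (0,5879,1,5879,0), (4,0,0,0,0), (0,5881,1,5881,0), (1,173,1,34,0), (1,53,1,111,0), (0,2,2,1471,1),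
  (1,107,1,55,0), (1,109,1,54,0), (0,7,1,29,2), (0,2,8,23,1), (1,151,1,39,0), (1,31,1,190,0), (0,43,1,137,1),
  (1,491,1,12,0), (0,71,1,83,1), (1,421,1,14,0), (1,131,1,45,0), (1,67,1,88,0), (0,5897,1,5897,0), (1,983,1,6,0),
  (0,17,1,347,1), (1,59,1,100,0), (1,281,1,21,0), (1,227,1,26,0), (0,5903,1,5903,0), (1,41,1,144,0), (0,5,1,1181,1),
  (0,2,1,2953,1), (1,179,1,33,0), (1,211,1,28,0), (0,19,1,311,1), (1,197,1,30,0), (0,23,1,257,1), (0,2,3,739,1),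
  (0,3,4,73,1), (0,2,1,2957,1), (1,13,2,35,0), (1,29,1,204,0), (0,61,1,97,1), (1,269,1,22,0), (0,3,1,1973,1),
  (1,37,1,160,0), (0,31,1,191,1), (1,47,1,126,0), (0,5923,1,5923,0), (0,2,2,1481,1), (1,79,1,75,0), (0,2,1,2963,1),
  (0,5927,1,5927,0), (1,13,1,456,0), (0,7,2,11,2), (1,593,1,10,0), (0,3,2,659,1), (0,2,2,1483,1), (0,17,1,349,1),
  (1,43,1,138,0), (0,5,1,1187,1), (1,53,1,112,0), (0,3,1,1979,1), (0,2,1,2969,1), (0,5939,1,5939,0), (2,11,0,0,0),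
  (0,13,1,457,1), (0,2,1,2971,1), (1,283,1,21,0), (0,2,3,743,1), (1,41,1,145,0), (1,991,1,6,0), (0,19,1,313,1),
  (0,2,2,1487,1), (0,3,2,661,1), (1,5,2,238,0), (0,11,1,541,1), (1,31,1,192,0), (0,5953,1,5953,0), (1,229,1,26,0),
  (1,397,1,15,0), (0,2,2,1489,1), (1,37,1,161,0), (1,331,1,18,0), (0,59,1,101,1), (1,149,1,40,0), (0,3,1,1987,1),
  (1,271,1,22,0), (0,67,1,89,1), (1,71,1,84,0), (0,5,1,1193,1), (1,157,1,38,0), (1,17,1,351,0), (0,2,4,373,1),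
  (0,47,1,127,1), (1,199,1,30,0), (0,7,1,853,1), (0,2,2,1493,1), (1,181,1,33,0), (1,103,1,58,0), (0,5,2,239,1),
  (1,83,1,72,0), (0,43,1,139,1), (1,61,1,98,0), (0,3,1,1993,1), (1,23,1,260,0), (0,5981,1,5981,0), (1,997,1,6,0),
  (0,31,1,193,1), (1,17,1,352,0), (1,19,1,315,0), (1,73,1,82,0), (0,5987,1,5987,0), (1,499,1,12,0), (0,53,1,113,1),
  (1,599,1,10,0), (0,3,1,1997,1), (1,107,1,56,0), (0,13,1,461,1), (1,37,1,162,0), (1,109,1,55,0), (0,2,2,1499,1),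
  (0,3,1,1999,1), (0,2,1,2999,1), (0,7,1,857,1), (3,5,2,48,0), (0,17,1,353,1), (0,2,1,3001,1), (1,29,1,207,0),
  (1,79,1,76,0), (0,5,1,1201,1), (1,13,1,462,0), (0,6007,1,6007,0), (0,2,3,751,1), (0,3,1,2003,1), (1,601,1,10,0),
  (0,6011,1,6011,0), (1,167,1,36,0), (0,7,1,859,1), (1,97,1,62,0), (1,401,1,15,0), (0,2,7,47,1)]

/-- See the module header. -/
def chunk11 : List (ℕ × ℕ × ℕ × ℕ × ℕ) := [
  (0,11,1,547,1), (1,59,1,102,0), (0,13,1,463,1), (1,43,1,140,0), (0,3,3,223,1), (0,2,1,3011,1), (0,19,1,317,1),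
  (1,251,1,24,0), (0,5,2,241,1), (1,131,1,46,0), (1,41,1,147,0), (1,137,1,44,0), (0,6029,1,6029,0), (1,67,1,90,0),
  (0,37,1,163,1), (1,29,1,208,0), (0,3,1,2011,1), (1,431,1,14,0), (1,71,1,85,0), (1,503,1,12,0), (0,6037,1,6037,0),
  (0,2,1,3019,1), (1,61,1,99,0), (1,151,1,40,0), (0,7,1,863,1), (1,53,1,114,0), (0,6043,1,6043,0), (0,2,2,1511,1),
  (1,31,1,195,0), (0,2,1,3023,1), (0,6047,1,6047,0), (4,0,0,0,0), (0,23,1,263,1), (1,11,2,50,0), (0,3,1,2017,1),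
  (1,89,1,68,0), (0,6053,1,6053,0), (1,1009,1,6,0), (1,173,1,35,0), (0,2,3,757,1), (0,3,2,673,1), (1,233,1,26,0),
  (0,73,1,83,1), (1,101,1,60,0), (1,29,1,209,0), (1,433,1,14,0), (1,47,1,129,0), (0,2,4,379,1), (0,5,1,1213,1),
  (1,337,1,18,0), (0,6067,1,6067,0), (1,41,1,148,0), (1,17,2,21,0), (1,607,1,10,0), (0,13,1,467,1), (4,0,0,0,0),
  (0,6073,1,6073,0), (0,2,1,3037,1), (0,3,5,5,2), (1,31,1,196,0), (0,59,1,103,1), (1,1013,1,6,0), (0,6079,1,6079,0),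
  (1,19,1,320,0), (0,3,1,2027,1), (0,2,1,3041,1), (1,79,1,77,0), (1,13,2,36,0), (0,5,1,1217,1), (1,179,1,34,0),
  (0,3,1,2029,1), (0,2,3,761,1), (0,6089,1,6089,0), (1,2,1,3045,0), (0,6091,1,6091,0), (0,2,2,1523,1), (0,3,2,677,1),
  (1,277,1,22,0), (1,53,1,115,0), (1,127,1,48,0), (1,67,1,91,0), (0,2,1,3049,1), (1,107,1,57,0), (1,61,1,100,0),
  (0,6101,1,6101,0), (1,113,1,54,0), (0,17,1,359,1), (1,109,1,56,0), (1,37,1,165,0), (1,71,1,86,0), (0,31,1,197,1),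
  (1,509,1,12,0), (0,41,1,149,1), (1,47,1,130,0), (1,97,1,63,0), (0,2,5,191,1), (0,6113,1,6113,0), (1,1019,1,6,0),
  (0,5,1,1223,1), (1,139,1,44,0), (0,3,1,2039,1), (1,23,1,266,0), (0,29,1,211,1), (1,17,1,360,0), (0,6121,1,6121,0),
  (0,2,1,3061,1), (1,157,1,39,0), (0,2,2,1531,1), (0,5,3,7,2), (1,1021,1,6,0), (0,11,1,557,1), (0,2,4,383,1),
  (0,3,3,227,1), (1,613,1,10,0), (0,6131,1,6131,0), (1,73,1,84,0), (0,6133,1,6133,0), (0,2,1,3067,1), (1,409,1,15,0),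
  (1,59,1,104,0), (0,17,1,19,2), (1,31,1,198,0), (0,7,1,877,1), (1,307,1,20,0), (1,89,1,69,0), (1,83,1,74,0),
  (0,6143,1,6143,0), (0,2,11,3,1), (0,5,1,1229,1), (1,439,1,14,0), (0,3,2,683,1), (1,53,1,116,0), (1,43,1,143,0),
  (1,41,1,150,0), (0,6151,1,6151,0), (0,2,3,769,1), (1,293,1,21,0), (1,181,1,34,0), (0,5,1,1231,1), (1,19,1,324,0),
  (0,47,1,131,1), (0,2,1,3079,1), (0,3,1,2053,1), (2,11,0,0,0), (0,61,1,101,1), (1,79,1,78,0), (0,6163,1,6163,0),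
  (1,67,1,92,0), (1,137,1,45,0), (0,2,1,3083,1), (0,7,1,881,1), (1,257,1,24,0), (0,31,1,199,1), (1,617,1,10,0),
  (1,17,1,363,0), (0,2,2,1543,1), (0,6173,1,6173,0), (1,7,3,18,0), (1,19,1,325,0), (0,2,5,193,1), (1,71,1,87,0),
  (0,2,1,3089,1), (0,37,1,167,1), (1,103,1,60,0), (0,7,1,883,1), (1,281,1,22,0), (0,3,3,229,1), (0,2,3,773,1),
  (0,5,1,1237,1), (1,1031,1,6,0), (0,23,1,269,1), (1,17,1,364,0), (0,3,1,2063,1), (1,619,1,10,0), (0,41,1,151,1),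
  (1,43,1,144,0), (0,11,1,563,1), (1,163,1,38,0), (1,59,1,105,0), (0,2,2,1549,1), (0,6197,1,6197,0), (1,1033,1,6,0),
  (0,6199,1,6199,0), (1,31,1,200,0), (1,53,1,117,0), (1,443,1,14,0), (0,6203,1,6203,0), (1,47,1,132,0), (1,73,1,85,0),
  (1,107,1,58,0), (0,3,1,2069,1), (0,2,6,97,1), (0,7,1,887,1), (1,23,1,270,0), (0,6211,1,6211,0), (0,2,2,1553,1),
  (1,109,1,57,0), (1,239,1,26,0), (1,113,1,55,0), (1,37,1,168,0), (0,6217,1,6217,0), (0,2,1,3109,1), (0,3,2,691,1),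
  (1,311,1,20,0), (0,6221,1,6221,0), (1,61,1,102,0), (0,7,2,127,1), (0,2,4,389,1), (1,83,1,75,0), (1,283,1,22,0),
  (0,13,1,479,1), (1,173,1,36,0), (0,6229,1,6229,0), (1,89,1,70,0), (1,67,1,93,0), (1,41,1,152,0)]
/-- Primality below 6562. -/
def isP (p : ℕ) : Bool :=
  decide (2 ≤ p ∧ p ≤ 6562) &&
    (List.range 82).all fun k => decide (k < 2) || decide (p < k * k) || decide (p % k ≠ 0)

theorem prime_of_isP {p : ℕ} (h : isP p = true) : p.Prime := by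
  simp only [isP, Bool.and_eq_true, decide_eq_true_eq, List.all_eq_true, List.mem_range,
    Bool.or_eq_true] at h
  obtain ⟨⟨h2, h9⟩, hall⟩ := h
  rw [Nat.prime_def_le_sqrt]
  refine ⟨h2, fun k hk hks hd => ?_⟩
  have hkk := Nat.le_sqrt.1 hks
  have hk82 : k < 82 := by nlinarith
  rcases hall k hk82 with (hb | hb) | hb
  · omega
  · omega
  · exact hb (Nat.mod_eq_zero_of_dvd hd)

/-- The entry `x` is a valid reason against a simple group of order `n`. -/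
def ok (n : ℕ) : ℕ × ℕ × ℕ × ℕ × ℕ → Bool
  | (0, p, a, q, b) => decide (n = p ^ a * q ^ b) && isP p && isP q
  | (1, p, a, m, _) => sylowTest n p a m && isP p
  | (2, p, _, _, _) => primeTest n p false && isP p
  | (3, p, a, m, _) => localTest n p a m && isP p
  | (5, p, a, q, b) => primeTest n p true && isP p && isP q &&
      decide (n = 2 ^ a * q ^ b * p ∧ 2 ≠ p ∧ q ≠ p)
  | (_, _, _, _, _) => special.contains n

/-- The entries of a list are valid for the orders from `lo` on. -/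
def checkFrom : ℕ → List (ℕ × ℕ × ℕ × ℕ × ℕ) → Bool
  | _, [] => true
  | lo, x :: l => ok lo x && checkFrom (lo + 1) l

theorem checkFrom_spec : ∀ (l : List (ℕ × ℕ × ℕ × ℕ × ℕ)) (lo : ℕ), checkFrom lo l = true →
    ∀ n, lo ≤ n → n < lo + l.length → ∃ x, ok n x = true
  | [], lo, _, n, h1, h2 => by simp at h2; omega
  | x :: l, lo, h, n, h1, h2 => by
    simp only [checkFrom, Bool.and_eq_true] at h
    rcases Nat.eq_or_lt_of_le h1 with rfl | h3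
    · exact ⟨x, h.1⟩
    · exact checkFrom_spec l (lo + 1) h.2 n h3 (by simp only [List.length_cons] at h2; omega)

theorem check0 : checkFrom 3641 chunk0 = true ∧ chunk0.length = 216 := by decide +kernel

theorem check1 : checkFrom 3857 chunk1 = true ∧ chunk1.length = 216 := by decide +kernel

theorem check2 : checkFrom 4073 chunk2 = true ∧ chunk2.length = 216 := by decide +kernel

theorem check3 : checkFrom 4289 chunk3 = true ∧ chunk3.length = 216 := by decide +kernel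

theorem check4 : checkFrom 4505 chunk4 = true ∧ chunk4.length = 216 := by decide +kernel

theorem check5 : checkFrom 4721 chunk5 = true ∧ chunk5.length = 216 := by decide +kernel

theorem check6 : checkFrom 4937 chunk6 = true ∧ chunk6.length = 216 := by decide +kernel

theorem check7 : checkFrom 5153 chunk7 = true ∧ chunk7.length = 216 := by decide +kernel

theorem check8 : checkFrom 5369 chunk8 = true ∧ chunk8.length = 216 := by decide +kernel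

theorem check9 : checkFrom 5585 chunk9 = true ∧ chunk9.length = 216 := by decide +kernel

theorem check10 : checkFrom 5801 chunk10 = true ∧ chunk10.length = 216 := by decide +kernel

theorem check11 : checkFrom 6017 chunk11 = true ∧ chunk11.length = 216 := by decide +kernel

theorem exists_ok {n : ℕ} (h1 : 3640 < n) (h2 : n ≤ 6232) : ∃ x, ok n x = true := by
  by_cases c0 : n < 3857
  · exact checkFrom_spec _ _ check0.1 n (by omega) (by rw [check0.2]; omega)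
  by_cases c1 : n < 4073
  · exact checkFrom_spec _ _ check1.1 n (by omega) (by rw [check1.2]; omega)
  by_cases c2 : n < 4289
  · exact checkFrom_spec _ _ check2.1 n (by omega) (by rw [check2.2]; omega)
  by_cases c3 : n < 4505
  · exact checkFrom_spec _ _ check3.1 n (by omega) (by rw [check3.2]; omega)
  by_cases c4 : n < 4721
  · exact checkFrom_spec _ _ check4.1 n (by omega) (by rw [check4.2]; omega)
  by_cases c5 : n < 4937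
  · exact checkFrom_spec _ _ check5.1 n (by omega) (by rw [check5.2]; omega)
  by_cases c6 : n < 5153
  · exact checkFrom_spec _ _ check6.1 n (by omega) (by rw [check6.2]; omega)
  by_cases c7 : n < 5369
  · exact checkFrom_spec _ _ check7.1 n (by omega) (by rw [check7.2]; omega)
  by_cases c8 : n < 5585
  · exact checkFrom_spec _ _ check8.1 n (by omega) (by rw [check8.2]; omega)
  by_cases c9 : n < 5801
  · exact checkFrom_spec _ _ check9.1 n (by omega) (by rw [check9.2]; omega)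
  by_cases c10 : n < 6017
  · exact checkFrom_spec _ _ check10.1 n (by omega) (by rw [check10.2]; omega)
  exact checkFrom_spec _ _ check11.1 n (by omega) (by rw [check11.2]; omega)

theorem cases {G : Type*} [Group G] [Finite G] [IsSimpleGroup G] (hna : ¬ IsMulCommutative G)
    (h1 : 3640 < Nat.card G) (h2 : Nat.card G ≤ 6232) : Nat.card G ∈ special := by
  obtain ⟨x, hx⟩ := exists_ok h1 h2
  unfold ok at hx
  split at hx
  all_goals simp only [Bool.and_eq_true, decide_eq_true_eq, List.contains_iff_mem] at hx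
  · exact (three_primes hna (prime_of_isP hx.1.2) (prime_of_isP hx.2) hx.1.1).elim
  · exact (false_of_sylowTest hna (prime_of_isP hx.2) rfl hx.1).elim
  · exact (false_of_primeTest hna (prime_of_isP hx.2) rfl (fun h => absurd h Bool.false_ne_true)
      hx.1).elim
  · exact (false_of_localTest hna (prime_of_isP hx.2) rfl hx.1).elim
  · obtain ⟨⟨⟨ht, hp⟩, hq⟩, hn, h2p, hqp⟩ := hx
    refine (false_of_primeTest hna (prime_of_isP hp) rfl (fun _ P => ?_) ht).elim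
    have := Fact.mk (prime_of_isP hp)
    exact BlockThms.sylow_self_centralizing 2 _ _ _ _ Nat.prime_two (prime_of_isP hq) h2p hqp hn P
  · exact hx

end Cfsg.Agent.SmallOrder.Table6232
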