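import Cfsg.Agent.SmallOrder.Perm
import Cfsg.Agent.SmallOrder.Local
import Cfsg.Agent.ProjExt.Det
import Cfsg.Agent.Char.Ortho

/-!
# Parity conditions at involutions, and fixed cosets of overgroups of a Sylow normaliser
-/

set_option autoImplicit false

namespace Cfsg.Agent.SmallOrder

open Subgroup Module

universe u

variable {G : Type u} [Group G] [Finite G]

/-- The degree of a character and its value at an involution agree modulo four, in a simple
group. -/
theorem four_dvd_degree_sub_apply [IsSimpleGroup G] (hna : ¬ IsMulCommutative G) {χ : G → ℂ}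
    (h : IsCharacter G χ) {t : G} (ht : orderOf t = 2) {d : ℕ} {a : ℤ} (hd : χ 1 = d)
    (ha : χ t = a) : (4 : ℤ) ∣ (d : ℤ) - a := by
  classical
  obtain ⟨n, ρ, rfl⟩ := h
  obtain ⟨μ, b, hb, hμ, htr⟩ := Char.exists_eigenbasis ρ t
  rw [ρ.char_one] at hd
  have hμ' : ∀ i, μ i = 1 ∨ μ i = -1 := fun i => sq_eq_one_iff.1 (ht ▸ hμ i)
  set N := Finset.univ.filter fun i => μ i = -1 with hN
  have hdet : LinearMap.det (ρ t) = 1 := by
    let ν : G →* ℂˣ := ((LinearMap.det).comp ρ).toHomUnits
    have hν : ν t = 1 := by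
      rcases (Subgroup.Normal.eq_bot_or_eq_top (H := ν.ker) inferInstance) with h0 | h0
      · exact absurd ⟨⟨fun a b => (MonoidHom.ker_eq_bot_iff ν).1 h0
          (by rw [map_mul, map_mul, mul_comm])⟩⟩ hna
      · exact MonoidHom.mem_ker.1 (h0 ▸ Subgroup.mem_top t : t ∈ ν.ker)
    exact congrArg Units.val hν
  have hprod : ∏ i, μ i = (-1) ^ N.card := by
    rw [← Finset.prod_filter_mul_prod_filter_not Finset.univ (fun i => μ i = -1), ← hN,
      Finset.prod_congr rfl (fun i hi => (Finset.mem_filter.1 hi).2), Finset.prod_const,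
      Finset.prod_eq_one (fun i hi => (hμ' i).resolve_right (Finset.mem_filter.1 hi).2), mul_one]
  have heven : Even N.card := by
    rw [← neg_one_pow_eq_one_iff_even (R := ℂ) (by norm_num), ← hprod,
      ← ProjExt.det_eq_prod_of_eigenbasis _ b μ hb, hdet]
  have hsum : ∀ i, μ i = 1 - 2 * if μ i = -1 then 1 else 0 := fun i => by
    rcases hμ' i with e | e <;> rw [e] <;> norm_num
  rw [htr, Finset.sum_congr rfl (fun i _ => hsum i), Finset.sum_sub_distrib, Finset.sum_const,
    Finset.card_univ, Fintype.card_fin, nsmul_eq_mul, mul_one, ← Finset.mul_sum, Finset.sum_boole,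
    ← hN] at ha
  have ha'' : (d : ℂ) - 2 * (N.card : ℂ) = (a : ℂ) := by rw [← hd]; exact ha
  have ha' : (d : ℤ) - 2 * N.card = a := by exact_mod_cast ha''
  obtain ⟨j, hj⟩ := heven
  exact ⟨j, by rw [← ha', hj]; push_cast; ring⟩

/-- An involution moves a multiple of four cosets. -/
theorem four_dvd_moved [IsSimpleGroup G] (hna : ¬ IsMulCommutative G) (H : Subgroup G)
    (hH : H ≠ ⊤) {u : G} (hu : orderOf u = 2) :
    ∃ j, j ≠ 0 ∧ Nat.card (MulAction.fixedBy (G ⧸ H) u) + 4 * j = H.index := by
  classical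
  have : Fact (Nat.Prime 2) := ⟨Nat.prime_two⟩
  obtain ⟨f, e, hf, hfe, hs⟩ := exists_hom_alt hna H hH
  have ho : orderOf (f u) = 2 := by rw [orderOf_injective f hf, hu]
  obtain ⟨k, hk⟩ := cycleType_of_pow_eq_one (σ := f u) (p := 2) (ho ▸ pow_orderOf_eq_one (f u))
  have hsign := hs u
  rw [Equiv.Perm.sign_of_cycleType, hk, Multiset.sum_replicate, Multiset.card_replicate,
    smul_eq_mul, show k * 2 + k = k + 2 * k by ring, pow_add, pow_mul, neg_one_sq, one_pow,
    mul_one, neg_one_pow_eq_one_iff_even (show (-1 : ℤˣ) ≠ 1 by decide)] at hsign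
  obtain ⟨j, rfl⟩ := hsign
  refine ⟨j, ?_, ?_⟩
  · rintro rfl
    rw [Multiset.replicate_zero, Equiv.Perm.cycleType_eq_zero] at hk
    rw [hk, orderOf_one] at ho
    omega
  rw [Nat.card_congr (e.subtypeEquiv (q := fun i => f u i = i) fun x => by
    rw [hfe, e.injective.eq_iff]; rfl)]
  have hcf := Equiv.Perm.card_fixedPoints (f u)
  rw [hk, Multiset.sum_replicate, smul_eq_mul, Fintype.card_fin,
    ← Nat.card_eq_fintype_card] at hcf
  have hle : (j + j) * 2 ≤ H.index := by
    have := (f u).sum_cycleType_le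
    rwa [hk, Multiset.sum_replicate, smul_eq_mul, Fintype.card_fin] at this
  show Nat.card (Function.fixedPoints (f u)) + 4 * j = H.index
  omega

/-- When four divides the order, four divides the centraliser of each involution. -/
theorem four_dvd_card_centralizer (h4 : 4 ∣ Nat.card G) {u : G} (hu : orderOf u = 2) :
    4 ∣ Nat.card (centralizer ({u} : Set G)) := by
  have : Fact (Nat.Prime 2) := ⟨Nat.prime_two⟩
  obtain ⟨T, hT⟩ := (IsPGroup.of_card (n := 1) (by rw [Nat.card_zpowers, hu, pow_one]) :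
    IsPGroup 2 (zpowers u)).exists_le_sylow
  obtain ⟨z, hzT, hz, hTz⟩ := exists_central_involution_sylow
    (dvd_trans (by norm_num) h4) T
  have huz : Commute u z :=
    mem_centralizer_singleton_iff.1 (hTz (hT (mem_zpowers u)))
  by_cases e : z = u
  · subst e
    refine dvd_trans ?_ (card_dvd_of_le hTz)
    rw [T.card_eq_multiplicity, show (4 : ℕ) = 2 ^ 2 by norm_num]
    exact pow_dvd_pow 2 ((Nat.prime_two.pow_dvd_iff_le_factorization Nat.card_pos.ne').1 h4)
  · -- `u` and `z` generate a four-group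
    set V : Subgroup G := zpowers u ⊔ zpowers z with hV
    have hVC : V ≤ centralizer ({u} : Set G) := sup_le
      (zpowers_le.2 (mem_centralizer_singleton_iff.2 rfl))
      (zpowers_le.2 (mem_centralizer_singleton_iff.2 huz.symm.eq))
    have hVT : V ≤ (T : Subgroup G) := sup_le hT (zpowers_le.2 hzT)
    obtain ⟨k, hk⟩ := (T.isPGroup'.to_le hVT).exists_card_eq
    have hk2 : 2 ≤ k := by
      by_contra! hlt
      have h1 : Nat.card V ≤ 2 := hk ▸ (Nat.pow_le_pow_right two_pos (by omega : k ≤ 1)).trans (le_refl _)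
      have h2 : zpowers u = V :=
        eq_of_le_of_card_ge le_sup_left (by rwa [Nat.card_zpowers, hu])
      have hzu : z ∈ zpowers u := h2 ▸ (le_sup_right : zpowers z ≤ V) (mem_zpowers z)
      obtain ⟨i, hi⟩ := mem_zpowers_iff.1 hzu
      rcases Int.even_or_odd' i with ⟨w, rfl | rfl⟩
      · rw [zpow_mul, zpow_ofNat, ← hu, pow_orderOf_eq_one, one_zpow] at hi
        rw [← hi, orderOf_one] at hz
        omega
      · rw [zpow_add, zpow_one, zpow_mul, zpow_ofNat, ← hu, pow_orderOf_eq_one, one_zpow,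
          one_mul] at hi
        exact e hi.symm
    refine dvd_trans ?_ (card_dvd_of_le hVC)
    rw [hk]
    exact (pow_dvd_pow 2 hk2 : 2 ^ 2 ∣ 2 ^ k)

/-- A generator of a Sylow subgroup fixes only one coset of an overgroup of the normaliser. -/
theorem card_fixedBy_le_one {p : ℕ} [hp : Fact p.Prime] (P : Sylow p G) {y : G}
    (hy : zpowers y = (P : Subgroup G)) {H : Subgroup G}
    (hNH : normalizer ((P : Subgroup G) : Set G) ≤ H) :
    Nat.card (MulAction.fixedBy (G ⧸ H) y) ≤ 1 := by
  have key : ∀ x : G ⧸ H, y • x = x → x = ((1 : G) : G ⧸ H) := by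
    intro x hx
    induction x using QuotientGroup.induction_on with
    | H g =>
      rw [MulAction.Quotient.smul_mk, smul_eq_mul, QuotientGroup.eq] at hx
      have hm : g⁻¹ * y * g ∈ H := by
        have := H.inv_mem hx
        simpa [mul_assoc] using this
      have hQH : ((g⁻¹ • P : Sylow p G) : Subgroup G) ≤ H := by
        rw [Sylow.coe_subgroup_smul]
        rintro _ ⟨a, ha, rfl⟩
        rw [← hy] at ha
        obtain ⟨i, rfl⟩ := mem_zpowers_iff.1 ha
        simp only [MulDistribMulAction.toMonoidEnd_apply, MulDistribMulAction.toMonoidHom_apply,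
          MulAut.smul_def, MulAut.conj_apply, inv_inv]
        rw [show g⁻¹ * y ^ i * g = (g⁻¹ * y * g) ^ i by
          conv_lhs => rw [show g⁻¹ * y ^ i * g = g⁻¹ * y ^ i * g⁻¹⁻¹ by rw [inv_inv],
            ← conj_zpow, inv_inv]]
        exact zpow_mem hm i
      obtain ⟨⟨h, hh⟩, he⟩ := MulAction.exists_smul_eq H (P.subtype (le_normalizer.trans hNH))
        ((g⁻¹ • P).subtype hQH)
      have hsub : (⟨h, hh⟩ : H) • P.subtype (le_normalizer.trans hNH) =
          (h • P).subtype (Sylow.smul_le (le_normalizer.trans hNH) ⟨h, hh⟩) :=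
        Sylow.smul_subtype (le_normalizer.trans hNH) ⟨h, hh⟩
      rw [hsub] at he
      have he' := Sylow.subtype_injective he
      have hmem : g * h ∈ normalizer ((P : Subgroup G) : Set G) :=
        Sylow.smul_eq_iff_mem_normalizer.1 (by rw [mul_smul, he', smul_inv_smul])
      have hg : g ∈ H := by simpa using H.mul_mem (hNH hmem) (H.inv_mem hh)
      exact QuotientGroup.eq.2 (by simpa using H.inv_mem hg)
  have : Subsingleton (MulAction.fixedBy (G ⧸ H) y) :=
    ⟨fun a b => Subtype.ext ((key _ a.2).trans (key _ b.2).symm)⟩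
  exact Finite.card_le_one_iff_subsingleton.2 this

end Cfsg.Agent.SmallOrder
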