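import Cfsg.Agent.SmallOrder.Two

/-!
# A numerical test for the order of a simple group

`SylowTest n p a m` says that no number of Sylow `p`-subgroups is possible in a simple group of
order `n = p ^ a * m`: too few (the action on them is faithful and even), or a normaliser centralising
its Sylow subgroup of order `p` or `p ^ 2` (Burnside), or `p + 1` of them and too large a normaliser.
-/

set_option autoImplicit false

namespace Cfsg.Agent.SmallOrder

open Subgroup

/-- The candidate `d = 1 + p j` is impossible. -/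
def candBad (n p a m j : ℕ) : Bool :=
  let d := 1 + p * j
  decide (m % d ≠ 0) ||
  decide (d ≤ 12 ∧ d.factorial % (2 * n) ≠ 0) ||
  decide (a = 1 ∧ Nat.gcd (p - 1) (m / d) = 1) ||
  decide (a = 2 ∧ Nat.gcd ((p - 1) * (p + 1)) (m / d) = 1) ||
  decide (a = 1 ∧ p ≠ 2 ∧ d = p + 1 ∧ (p + 1) * (p * (p - 1)) % (2 * n) ≠ 0)

/-- All candidates for the number of Sylow subgroups are impossible. -/
def sylowTest (n p a m : ℕ) : Bool :=
  decide (n = p ^ a * m ∧ a ≠ 0 ∧ m % p ≠ 0) &&
    (List.range (m / p + 1)).all fun j => decide (j = 0) || candBad n p a m j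

universe u

variable {G : Type u} [Group G] [Finite G]

/-- An automorphism of prime order `q ≠ p` of a group of order `p` or `p ^ 2`. -/
theorem prime_orderOf_mulAut {Q : Type*} [Group Q] [Finite Q] {p q a : ℕ} (hp : p.Prime)
    (hq : q.Prime) (ha : a ≤ 2) (hQ : Nat.card Q = p ^ a) (hne : q ≠ p) {σ : MulAut Q}
    (hσ : orderOf σ = q) : q ∣ (p - 1) * (if a = 2 then p + 1 else 1) := by
  classical
  have : Fact q.Prime := ⟨hq⟩
  have hP : IsPGroup q ↥(zpowers σ) := IsPGroup.of_card (n := 1) (by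
    rw [Nat.card_zpowers, hσ, pow_one])
  have hmod := hP.card_modEq_card_fixedPoints Q
  let F : Subgroup Q :=
    { carrier := {x | σ x = x}
      one_mem' := map_one σ
      mul_mem' := fun {a b} ha hb => by
        show σ (a * b) = a * b
        rw [map_mul, (ha : σ a = a), (hb : σ b = b)]
      inv_mem' := fun {a} ha => by
        show σ a⁻¹ = a⁻¹
        rw [map_inv, (ha : σ a = a)] }
  have hF : MulAction.fixedPoints ↥(zpowers σ) Q = (F : Set Q) := by
    ext x
    refine ⟨fun h => h ⟨σ, mem_zpowers σ⟩, fun h => ?_⟩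
    rintro ⟨g, hg⟩
    exact (zpowers_le.2 (show σ ∈ MulAction.stabilizer (MulAut Q) x from h) :
      zpowers σ ≤ MulAction.stabilizer (MulAut Q) x) hg
  rw [hF, hQ] at hmod
  obtain ⟨i, hi, hiF⟩ := (Nat.dvd_prime_pow hp).1 (hQ ▸ F.card_subgroup_dvd_card)
  have hia : i ≠ a := fun e => by
    have h1 : σ = 1 := MulEquiv.ext fun x => by
      have hx : x ∈ F := by
        rw [eq_top_of_card_eq F (by rw [hiF, hQ, e])]
        exact mem_top x
      exact hx
    rw [h1, orderOf_one] at hσ
    exact hq.ne_one hσ.symm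
  have h1 : q ∣ p ^ a - p ^ i := by
    have := (Nat.modEq_iff_dvd' (Nat.pow_le_pow_right hp.pos hi)).1 (by simpa [hiF] using hmod.symm)
    exact this
  have hqp : ¬ q ∣ p := fun h => hne ((Nat.prime_dvd_prime_iff_eq hq hp).1 h)
  obtain ⟨rfl, rfl⟩ | ⟨rfl, rfl⟩ | ⟨rfl, rfl⟩ :
      (a = 1 ∧ i = 0) ∨ (a = 2 ∧ i = 0) ∨ (a = 2 ∧ i = 1) := by omega
  · simpa using h1
  · rw [if_pos rfl]
    refine h1.trans (dvd_of_eq ?_)
    rw [pow_zero, mul_comm, ← Nat.sq_sub_sq, one_pow]
  · rw [if_pos rfl]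
    rw [show p ^ 2 - p ^ 1 = p * (p - 1) by rw [Nat.mul_sub, mul_one, pow_one, sq]] at h1
    exact dvd_mul_of_dvd_left ((hq.dvd_mul.1 h1).resolve_left hqp) _

variable [IsSimpleGroup G]

/-- Burnside transfer: a Sylow subgroup of order `p` or `p ^ 2` has a normaliser index with a
common factor with `(p - 1) (p + 1)`. -/
theorem not_coprime_normalizer_index (hna : ¬ IsMulCommutative G) {p a m n : ℕ} [hp : Fact p.Prime]
    (hG : Nat.card G = p ^ a * m) (ha : a ≠ 0) (ha2 : a ≤ 2) (hm : ¬ p ∣ m)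
    (hn : Nat.card (Sylow p G) = n) :
    Nat.gcd ((p - 1) * (if a = 2 then p + 1 else 1)) (m / n) ≠ 1 := by
  classical
  intro hgcd
  obtain ⟨P⟩ : Nonempty (Sylow p G) := Sylow.nonempty
  have hP := card_sylow_eq_pow hG hm P
  have hp' : p ∣ Nat.card G := hG ▸ dvd_mul_of_dvd_left (dvd_pow_self p ha) m
  refine not_normalizer_le_centralizer hna hp' P ?_
  obtain ⟨e, he, hNC, he1⟩ := exists_normalizer_index (P : Subgroup G)
  refine he1 ?_
  -- `P` lies in its centraliser, so `e` divides `m / n`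
  have hcomm : (P : Subgroup G) ≤ centralizer ((P : Subgroup G) : Set G) := by
    have : IsMulCommutative (P : Subgroup G) := by
      rcases (show a = 1 ∨ a = 2 by omega) with rfl | rfl
      · have := isCyclic_of_prime_card (hP.trans (pow_one p))
        exact IsCyclic.isMulCommutative
      · exact ⟨⟨IsPGroup.commutative_of_card_eq_prime_sq hP⟩⟩
    exact (P : Subgroup G).le_centralizer
  obtain ⟨c, hc⟩ : p ^ a ∣ Nat.card (centralizer ((P : Subgroup G) : Set G)) :=
    hP ▸ card_dvd_of_le hcomm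
  have hmul := card_sylow_mul_card_normalizer P
  rw [hn, hNC, hc, hG] at hmul
  have hnce : n * (c * e) = m := Nat.eq_of_mul_eq_mul_left (pow_pos hp.out.pos a)
    (by linarith [hmul])
  have hn0 : 0 < n := hn ▸ Nat.card_pos
  have hdiv : e ∣ m / n := by
    rw [← hnce, Nat.mul_div_cancel_left _ hn0]
    exact dvd_mul_left e c
  by_contra hne
  -- an element of prime order in the image
  have hcard : Nat.card (MonoidHom.range (P : Subgroup G).normalizerMonoidHom) = e := by
    have h2 := ((centralizer ((P : Subgroup G) : Set G)).subgroupOf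
      (normalizer ((P : Subgroup G) : Set G))).card_mul_index
    rw [Nat.card_congr (subgroupOfEquivOfLe (centralizer_le_normalizer _)).toEquiv, hNC,
      ← normalizerMonoidHom_ker, index_ker] at h2
    exact Nat.eq_of_mul_eq_mul_left Nat.card_pos h2
  obtain ⟨q, hq, hqe⟩ := Nat.exists_prime_and_dvd hne
  have : Fact q.Prime := ⟨hq⟩
  obtain ⟨σ, hσ⟩ := exists_prime_orderOf_dvd_card' q (hcard.symm ▸ hqe)
  have hqm : q ∣ m / n := hqe.trans hdiv
  have hqp : q ≠ p := fun h => hm (h ▸ hqm.trans (Nat.div_dvd_of_dvd (hnce ▸ dvd_mul_right n _)))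
  have h9 := prime_orderOf_mulAut hp.out hq ha2 hP hqp
    (σ := (σ : MulAut (P : Subgroup G))) (by rw [orderOf_coe, hσ])
  exact hq.ne_one (Nat.dvd_one.1 (hgcd ▸ Nat.dvd_gcd h9 hqm))

/-- No simple group has an order failing the test. -/
theorem false_of_sylowTest (hna : ¬ IsMulCommutative G) {n p a m : ℕ} (hp : p.Prime)
    (hG : Nat.card G = n) (h : sylowTest n p a m = true) : False := by
  have : Fact p.Prime := ⟨hp⟩
  simp only [sylowTest, Bool.and_eq_true, decide_eq_true_eq, List.all_eq_true, List.mem_range,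
    Bool.or_eq_true] at h
  obtain ⟨⟨rfl, ha, hm⟩, hall⟩ := h
  have hm' : ¬ p ∣ m := fun hd => hm (Nat.mod_eq_zero_of_dvd hd)
  obtain ⟨h1, h2, h3, h4⟩ := sylow_data hG ha hm' hna
  set d := Nat.card (Sylow p G) with hd
  have hm0 : 0 < m := Nat.pos_of_ne_zero fun h => hm' (h ▸ dvd_zero p)
  obtain ⟨j, hj⟩ : ∃ j, d = 1 + p * j := ⟨d / p, by have := Nat.div_add_mod d p; omega⟩
  have hj0 : j ≠ 0 := by rintro rfl; omega
  have hjm : j < m / p + 1 := by
    have := Nat.le_of_dvd hm0 h1
    have : j ≤ m / p := (Nat.le_div_iff_mul_le hp.pos).2 (by rw [mul_comm]; omega)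
    omega
  have hb := (hall j hjm).resolve_left hj0
  simp only [candBad, ← hj, Bool.or_eq_true, decide_eq_true_eq] at hb
  have hgcd := fun ha2 => not_coprime_normalizer_index (n := d) hna hG ha ha2 hm' rfl
  rcases hb with (((hb | ⟨-, hb⟩) | ⟨rfl, hb⟩) | ⟨rfl, hb⟩) | ⟨rfl, hp2, hdp, hb⟩
  · exact hb (Nat.mod_eq_zero_of_dvd h1)
  · exact hb (Nat.mod_eq_zero_of_dvd (hG ▸ h4))
  · exact hgcd (by norm_num) (by simpa using hb)
  · exact hgcd le_rfl (by simpa using hb)
  · exact hb (Nat.mod_eq_zero_of_dvd (hG ▸ card_dvd_of_card_sylow_le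
      (by rw [hG, pow_one]) hm' hp2 hna hdp))

end Cfsg.Agent.SmallOrder
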