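import Cfsg.Agent.SmallOrder.Two
import Cfsg.Agent.SmallOrder.Parity
import Cfsg.Agent.SmallOrder.ExceptionalOrders
import Cfsg.Agent.SmallOrder.SylowFilter
import Cfsg.Agent.TwoTransfer.Basic
import Cfsg.Agent.S0077

/-!
# The orders 420, 480, 612, 756, 840, 960, 1008, 1040, 1080 are not simple
-/

set_option autoImplicit false

namespace Cfsg.Agent.SmallOrder

open Subgroup
open scoped commutatorElement

universe u

variable {G : Type u} [Group G] [Finite G]

theorem centralizer_zpowers_eq (y : G) :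
    centralizer ((zpowers y : Subgroup G) : Set G) = centralizer ({y} : Set G) := by
  rw [zpowers_eq_closure, centralizer_closure]

theorem exists_orderOf_zpowers {p : ℕ} [hp : Fact p.Prime] (P : Sylow p G)
    (hP : Nat.card (P : Subgroup G) = p) :
    ∃ y : G, orderOf y = p ∧ zpowers y = (P : Subgroup G) := by
  obtain ⟨x, hx⟩ := exists_prime_orderOf_dvd_card' (G := (P : Subgroup G)) p (dvd_of_eq hP.symm)
  refine ⟨x, by rw [orderOf_coe, hx], eq_of_le_of_card_ge (zpowers_le.2 x.2) ?_⟩
  rw [Nat.card_zpowers, orderOf_coe, hx, hP]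

theorem index_ne_one {H : Subgroup G} (h : H ≠ ⊤) : H.index ≠ 1 := fun e => h (index_eq_one.1 e)

variable [IsSimpleGroup G]

/-- If `C(H)` is the whole group then `H` is trivial. -/
theorem centralizer_ne_top (hna : ¬ IsMulCommutative G) {x : G} (hx : x ≠ 1) :
    centralizer ({x} : Set G) ≠ ⊤ := fun h => hx (by
  have hxc : x ∈ center G := mem_center_iff.2 fun g =>
    mem_centralizer_singleton_iff.1 (h ▸ mem_top g : g ∈ centralizer ({x} : Set G))
  rwa [center_eq_bot hna, mem_bot] at hxc)

/-- The index of the centraliser in the normaliser of a Sylow subgroup of prime order. -/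
theorem centralizer_dvd {p m n r : ℕ} [hp : Fact p.Prime] (hG : Nat.card G = p * m)
    (hm : ¬ p ∣ m) (hn : Nat.card (Sylow p G) = n) (hr : n * r = m) (P : Sylow p G) :
    ∃ (y : G) (c e : ℕ), orderOf y = p ∧ zpowers y = (P : Subgroup G) ∧
      Nat.card (normalizer ((P : Subgroup G) : Set G)) = p * r ∧
      Nat.card (centralizer ({y} : Set G)) = p * c ∧ c * e = r ∧ e ∣ p - 1 ∧
      (¬ IsMulCommutative G → e ≠ 1) := by
  have hG1 : Nat.card G = p ^ 1 * m := by rw [pow_one]; exact hG
  have hP := (card_sylow_eq_pow hG1 hm P).trans (pow_one p)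
  obtain ⟨y, hy, hyP⟩ := exists_orderOf_zpowers P hP
  obtain ⟨e, he, hNC, he1⟩ := exists_normalizer_index (P : Subgroup G)
  rw [card_mulAut_of_prime hP] at he
  have hN : Nat.card (normalizer ((P : Subgroup G) : Set G)) = p * r := by
    have h := card_sylow_mul_card_normalizer P
    rw [hn, hG, ← hr] at h
    refine Nat.eq_of_mul_eq_mul_left (hn ▸ Nat.card_pos : 0 < n) (h.trans ?_)
    ring
  have hCy : centralizer ((P : Subgroup G) : Set G) = centralizer ({y} : Set G) := by
    rw [← hyP, centralizer_zpowers_eq]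
  rw [hCy] at hNC he1
  obtain ⟨c, hc⟩ : p ∣ Nat.card (centralizer ({y} : Set G)) := by
    rw [← hy, ← Nat.card_zpowers]
    exact card_dvd_of_le (zpowers_le.2 (mem_centralizer_singleton_iff.2 rfl))
  refine ⟨y, c, e, hy, hyP, hN, hc, ?_, he, fun hna e1 => ?_⟩
  · rw [hN, hc, mul_assoc] at hNC
    exact (Nat.eq_of_mul_eq_mul_left hp.out.pos hNC).symm
  · refine not_normalizer_le_centralizer hna (hG ▸ dvd_mul_right p m) P ?_
    rw [hCy]
    exact he1 e1

/-- 480 and 960. -/
theorem not_card_fifteen (hna : ¬ IsMulCommutative G) {a : ℕ} (ha : 4 ≤ a)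
    (hG : Nat.card G = 2 ^ (a + 1) * 15) : False := by
  have : Fact (Nat.Prime 2) := ⟨Nat.prime_two⟩
  obtain ⟨h1, -, h3, h4⟩ := sylow_data hG (by omega) (by norm_num) hna
  have hbig : ¬ 2 * Nat.card G ∣ (5 : ℕ).factorial := fun h => by
    rw [hG] at h
    have h32 : 2 ^ 5 ∣ (5 : ℕ).factorial :=
      ((pow_dvd_pow 2 (by omega : 5 ≤ a + 1)).trans ((dvd_mul_right _ 15).trans (dvd_mul_left _ 2))).trans h
    norm_num [Nat.factorial] at h32
  have hn : Nat.card (Sylow 2 G) = 15 := by
    have hle : Nat.card (Sylow 2 G) ≤ 15 := Nat.le_of_dvd (by norm_num) h1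
    by_contra hne
    have hle5 : Nat.card (Sylow 2 G) ≤ 5 := by
      generalize Nat.card (Sylow 2 G) = n at h1 hne hle
      interval_cases n <;> omega
    exact hbig (h4.trans (Nat.factorial_dvd_factorial hle5))
  obtain ⟨H, k, n, hH, -, hk, hi, hnk, hn2, hn1⟩ := exists_local hG (by norm_num) (by omega) hna
    (by rw [hn]; decide)
  have hk3 : 3 ≤ k := by
    have := Nat.le_of_dvd (Nat.pos_of_ne_zero (by rintro rfl; simp at hi)) hnk
    omega
  refine hbig ((two_mul_card_dvd hna H hH).trans (Nat.factorial_dvd_factorial ?_))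
  nlinarith

theorem not_card_612 (hna : ¬ IsMulCommutative G) (h : Nat.card G = 612) : False := by
  have : Fact (Nat.Prime 17) := ⟨by norm_num⟩
  obtain ⟨h1, h2, h3, -⟩ := sylow_data (p := 17) (a := 1) (m := 36) (h.trans (by norm_num))
    one_ne_zero (by norm_num) hna
  have hn : Nat.card (Sylow 17 G) = 18 := by
    have := Nat.le_of_dvd (by norm_num) h1
    generalize Nat.card (Sylow 17 G) = n at *
    interval_cases n <;> omega
  refine not_card_of_degrees hna (p := 17) (m := 36) (e := 2) (h.trans (by norm_num)) (by norm_num) hn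
    (by norm_num) Nat.prime_two (by norm_num) (by norm_num) ?_
  rw [h]
  decide +kernel

theorem not_card_1040 (hna : ¬ IsMulCommutative G) (h : Nat.card G = 1040) : False := by
  have : Fact (Nat.Prime 13) := ⟨by norm_num⟩
  obtain ⟨h1, h2, h3, -⟩ := sylow_data (p := 13) (a := 1) (m := 80) (h.trans (by norm_num))
    one_ne_zero (by norm_num) hna
  have hn : Nat.card (Sylow 13 G) = 40 := by
    have := Nat.le_of_dvd (by norm_num) h1
    generalize Nat.card (Sylow 13 G) = n at *
    interval_cases n <;> omega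
  refine not_card_of_degrees hna (p := 13) (m := 80) (e := 2) (h.trans (by norm_num)) (by norm_num) hn
    (by norm_num) Nat.prime_two (by norm_num) (by norm_num) ?_
  rw [h]
  decide +kernel

theorem not_card_840 (hna : ¬ IsMulCommutative G) (h : Nat.card G = 840) : False := by
  have : Fact (Nat.Prime 7) := ⟨by norm_num⟩
  obtain ⟨P⟩ : Nonempty (Sylow 7 G) := Sylow.nonempty
  have hG : Nat.card G = 7 * 120 := h.trans (by norm_num)
  obtain ⟨h1, h2, h3, -⟩ := sylow_data (p := 7) (a := 1) (m := 120) (h.trans (by norm_num))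
    one_ne_zero (by norm_num) hna
  have hn : Nat.card (Sylow 7 G) = 15 := by
    have h8 : Nat.card (Sylow 7 G) ≠ 8 := fun e => by
      have := card_dvd_of_card_sylow_le hG (by norm_num) (by norm_num) hna e
      rw [h] at this
      norm_num at this
    have h120 : Nat.card (Sylow 7 G) ≠ 120 := fun e => by
      obtain ⟨y, c, e', -, -, -, -, hce, -, he1⟩ := centralizer_dvd hG (by norm_num) e (r := 1)
        (by norm_num) P
      exact he1 hna (Nat.eq_one_of_mul_eq_one_left hce)
    have := Nat.le_of_dvd (by norm_num) h1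
    generalize Nat.card (Sylow 7 G) = n at *
    interval_cases n <;> omega
  obtain ⟨y, c, e, hy, hyP, hN, hC, hce, he, -⟩ := centralizer_dvd hG (by norm_num) hn (r := 8)
    (by norm_num) P
  have hne := normalizer_ne_top hna (hG ▸ dvd_mul_right 7 120) P
  obtain ⟨k, hk0, hkp, -, hfix, -, h2k⟩ := centralizer_bound hna _ hne hy
  have hle := card_fixedBy_le_one P hyP le_rfl
  have hidx : (normalizer ((P : Subgroup G) : Set G)).index = 15 :=
    P.card_eq_index_normalizer.symm.trans hn
  simp only [hidx] at hkp hfix h2k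
  obtain rfl : k = 2 := by omega
  have h9 := h2k (Or.inr le_rfl)
  rw [hC] at h9
  have he6 : e ≤ 6 := Nat.le_of_dvd (by norm_num) he
  have hce' : c ∣ 8 := Dvd.intro e hce
  have hc49 : 2 * (7 * c) ∣ 98 := by simpa [Nat.factorial] using h9
  have := Nat.le_of_dvd (by norm_num) hce'
  interval_cases c <;> omega

theorem not_card_1080 (hna : ¬ IsMulCommutative G) (h : Nat.card G = 1080) : False := by
  have : Fact (Nat.Prime 3) := ⟨by norm_num⟩
  have : Fact (Nat.Prime 5) := ⟨by norm_num⟩
  have hG3 : Nat.card G = 3 ^ (2 + 1) * 40 := h.trans (by norm_num)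
  -- a subgroup of index ten
  obtain ⟨M, hMne, hM⟩ : ∃ M : Subgroup G, M ≠ ⊤ ∧ M.index = 10 := by
    obtain ⟨h1, h2, h3, h4⟩ := sylow_data hG3 (by norm_num) (by norm_num) hna
    obtain hn | hn : Nat.card (Sylow 3 G) = 10 ∨ Nat.card (Sylow 3 G) = 40 := by
      have := Nat.le_of_dvd (by norm_num) h1
      rw [h] at h4
      generalize Nat.card (Sylow 3 G) = n at *
      interval_cases n <;> first | omega | (norm_num [Nat.factorial] at h4)
    · obtain ⟨P⟩ : Nonempty (Sylow 3 G) := Sylow.nonempty
      exact ⟨_, normalizer_ne_top hna (by rw [h]; norm_num) P, P.card_eq_index_normalizer.symm.trans hn⟩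
    · obtain ⟨H, k, n, hH, -, hk, hi, hnk, hn2, hn1⟩ := exists_local hG3 (by norm_num) (by norm_num) hna
        (by rw [hn]; decide)
      have hd := two_mul_card_dvd hna H hH
      rw [h] at hd
      have := index_ne_one hH
      refine ⟨H, hH, ?_⟩
      have hk0 : 0 < k := Nat.pos_of_ne_zero (by rintro rfl; simp at hi)
      have hnle := Nat.le_of_dvd hk0 hnk
      have hn4 : 4 ≤ n := by omega
      have hidx : H.index ≤ 10 := by nlinarith
      generalize H.index = i at *
      interval_cases i <;> first | omega | (norm_num [Nat.factorial] at hd)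
  have hMc : Nat.card M = 108 := by
    have := M.card_mul_index
    rw [hM, h] at this
    omega
  -- the centraliser of an element of order five
  have hG5 : Nat.card G = 5 * 216 := h.trans (by norm_num)
  obtain ⟨h1, h2, h3, -⟩ := sylow_data (p := 5) (a := 1) (m := 216) (h.trans (by norm_num))
    one_ne_zero (by norm_num) hna
  obtain ⟨P⟩ : Nonempty (Sylow 5 G) := Sylow.nonempty
  have hn : Nat.card (Sylow 5 G) = 36 := by
    have h6 : Nat.card (Sylow 5 G) ≠ 6 := fun e => by
      have := card_dvd_of_card_sylow_le hG5 (by norm_num) (by norm_num) hna e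
      rw [h] at this
      norm_num at this
    have h216 : Nat.card (Sylow 5 G) ≠ 216 := fun e => by
      obtain ⟨y, c, e', -, -, -, -, hce, -, he1⟩ := centralizer_dvd hG5 (by norm_num) e (r := 1)
        (by norm_num) P
      exact he1 hna (Nat.eq_one_of_mul_eq_one_left hce)
    have := Nat.le_of_dvd (by norm_num) h1
    generalize Nat.card (Sylow 5 G) = n at *
    interval_cases n <;> omega
  obtain ⟨y, c, e, hy, -, -, hC, hce, he, -⟩ := centralizer_dvd hG5 (by norm_num) hn (r := 6)
    (by norm_num) P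
  obtain ⟨k, hk0, hkp, hkeq, -, -, h2k⟩ := centralizer_bound hna M hMne hy
  have hk := hkeq (by rw [hMc]; norm_num)
  rw [hM] at hk h2k
  obtain rfl : k = 2 := by omega
  have h9 := h2k (Or.inr le_rfl)
  rw [hC] at h9
  have hc49 : 2 * (5 * c) ∣ 50 := by simpa [Nat.factorial] using h9
  have he4 : e ≤ 4 := Nat.le_of_dvd (by norm_num) he
  have hce' : c ∣ 6 := Dvd.intro e hce
  have := Nat.le_of_dvd (by norm_num) hce'
  interval_cases c <;> omega

/-- A subgroup of index at most six, or seven, in a group of order 420. -/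
theorem seven_le_index_420 (hna : ¬ IsMulCommutative G) (h : Nat.card G = 420) (H : Subgroup G)
    (hH : H ≠ ⊤) : 7 ≤ H.index := by
  have hd := two_mul_card_dvd hna H hH
  rw [h] at hd
  by_contra! hlt
  generalize H.index = i at *
  interval_cases i <;> norm_num [Nat.factorial] at hd

/-- A four-group normalising a subgroup of prime order does not act faithfully on it. -/
theorem exists_involution_centralizing (hna : ¬ IsMulCommutative G) (h4 : ¬ 8 ∣ Nat.card G)
    {p : ℕ} [hp : Fact p.Prime] (hp2 : p ≠ 2) {y : G} (hy : orderOf y = p)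
    (hN : 4 ∣ Nat.card (normalizer ((zpowers y : Subgroup G) : Set G))) :
    ∃ u : G, orderOf u = 2 ∧ u ∈ centralizer ({y} : Set G) := by
  classical
  have : Fact (Nat.Prime 2) := ⟨Nat.prime_two⟩
  by_contra hne
  push Not at hne
  obtain ⟨R, hRc⟩ := Sylow.exists_subgroup_card_pow_prime 2 (n := 2)
    (G := normalizer ((zpowers y : Subgroup G) : Set G)) (by simpa using hN)
  set T := R.map (normalizer ((zpowers y : Subgroup G) : Set G)).subtype with hT
  have hTc : Nat.card T = 2 ^ 2 := by
    rw [hT, ← Nat.card_congr (R.equivMapOfInjective _ (subtype_injective _)).toEquiv, hRc]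
  have h4G : 2 ^ 2 ∣ Nat.card G := hTc ▸ card_subgroup_dvd_card T
  have hfac : (Nat.card G).factorization 2 = 2 := by
    refine le_antisymm ?_ ((Nat.prime_two.pow_dvd_iff_le_factorization Nat.card_pos.ne').1 h4G)
    by_contra! hlt
    exact h4 ((pow_dvd_pow 2 (show 3 ≤ _ from hlt)).trans (Nat.ordProj_dvd _ _))
  let S : Sylow 2 G := Sylow.ofCard T (by rw [hTc, hfac])
  have hScyc : ¬ IsCyclic T := by
    have := not_isCyclic_sylow hna (minFac_eq_two (even_iff_two_dvd.2
      ((dvd_pow_self 2 two_ne_zero).trans h4G))) S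
    exact this
  have hK := isKleinFour_of_not_cyclic (by rw [hTc]; norm_num) hScyc
  -- two commuting involutions inverting `y`
  have hinv : ∀ t ∈ T, t ≠ 1 → t * y * t⁻¹ = y⁻¹ := by
    intro t ht ht1
    have htN : t ∈ normalizer ((zpowers y : Subgroup G) : Set G) := by
      obtain ⟨r, -, rfl⟩ := ht
      exact r.2
    have ht2 : t * t = 1 := congrArg Subtype.val (IsKleinFour.mul_self (G := T) ⟨t, ht⟩)
    have hord : orderOf t = 2 := orderOf_eq_prime (by rw [sq]; exact ht2) ht1
    obtain ⟨i, hi⟩ := mem_zpowers_iff.1 ((mem_normalizer_iff.1 htN y).1 (mem_zpowers y))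
    have hsq : y ^ (i * i) = y := by
      have e : t * (t * y * t⁻¹) * t⁻¹ = y := by
        rw [inv_eq_of_mul_eq_one_right ht2, ← mul_assoc, ← mul_assoc, ht2, one_mul, mul_assoc, ht2, mul_one]
      rw [← hi, ← conj_zpow, ← hi, ← zpow_mul] at e
      exact e
    have hdvd : (p : ℤ) ∣ (i - 1) * (i + 1) := by
      rw [← hy, orderOf_dvd_iff_zpow_eq_one, show (i - 1) * (i + 1) = i * i - 1 by ring, zpow_sub,
        hsq, zpow_one, mul_inv_cancel]
    rcases (Nat.prime_iff_prime_int.1 hp.out).dvd_or_dvd hdvd with hd | hd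
    · exfalso
      rw [← hy, orderOf_dvd_iff_zpow_eq_one, zpow_sub, zpow_one, mul_inv_eq_one] at hd
      refine hne t hord (mem_centralizer_singleton_iff.2 ?_)
      rw [hd] at hi
      exact mul_inv_eq_iff_eq_mul.1 hi.symm
    · rw [← hy, orderOf_dvd_iff_zpow_eq_one, zpow_add, zpow_one, mul_eq_one_iff_eq_inv] at hd
      rw [← hi, hd]
  have : Nontrivial T := Finite.one_lt_card_iff_nontrivial.1 (by rw [hTc]; norm_num)
  obtain ⟨a, ha⟩ := exists_ne (1 : T)
  obtain ⟨b, hb, hba⟩ : ∃ b : T, b ≠ 1 ∧ b ≠ a := by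
    by_contra! hh
    have hle : Nat.card T ≤ 2 := by
      have := Fintype.ofFinite T
      rw [Nat.card_eq_fintype_card]
      refine (Finset.card_le_card (t := ({1, a} : Finset T)) fun x _ => ?_).trans Finset.card_le_two
      by_cases hx : x = 1
      · simp [hx]
      · simp [hh x hx]
    rw [hTc] at hle
    norm_num at hle
  have hab1 : (a * b : T) ≠ 1 := fun e => hba (by
    rw [mul_eq_one_iff_eq_inv'] at e
    rw [e, inv_eq_of_mul_eq_one_right (IsKleinFour.mul_self a)])
  have h1 := hinv a a.2 (fun e => ha (Subtype.ext e))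
  have h2 := hinv b b.2 (fun e => hb (Subtype.ext e))
  have h3 := hinv (a * b : T) (a * b : T).2 (fun e => hab1 (Subtype.ext e))
  rw [coe_mul, show (a : G) * b * y * ((a : G) * b)⁻¹ = a * (b * y * (b : G)⁻¹) * (a : G)⁻¹ by group,
    h2, ← inv_inj, ← conj_inv, inv_inv, h1, inv_inj] at h3
  have hy2 : orderOf y ∣ 2 := orderOf_dvd_of_pow_eq_one (by
    rw [sq]
    nth_rw 2 [h3]
    exact mul_inv_cancel y)
  rw [hy] at hy2
  exact hp2 ((Nat.prime_dvd_prime_iff_eq hp.out Nat.prime_two).1 hy2)

theorem not_card_420 (hna : ¬ IsMulCommutative G) (h : Nat.card G = 420) : False := by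
  have : Fact (Nat.Prime 2) := ⟨Nat.prime_two⟩
  have : Fact (Nat.Prime 5) := ⟨by norm_num⟩
  have : Fact (Nat.Prime 7) := ⟨by norm_num⟩
  have h8 : ¬ 8 ∣ Nat.card G := by rw [h]; norm_num
  have key : ∀ p r : ℕ, ∀ _ : Fact p.Prime, p ≠ 2 → ∀ m, Nat.card G = p * m → ¬ p ∣ m →
      Nat.card (Sylow p G) * r = m → 4 ∣ p * r →
      ∃ y u : G, orderOf y = p ∧ orderOf u = 2 ∧ u ∈ centralizer ({y} : Set G) := by
    intro p r _ hp2 m hG hm hr h4
    obtain ⟨P⟩ : Nonempty (Sylow p G) := Sylow.nonempty
    obtain ⟨y, c, e, hy, hyP, hN, -⟩ := centralizer_dvd hG hm rfl hr P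
    obtain ⟨u, hu, huy⟩ := exists_involution_centralizing hna h8 hp2 hy (by rw [hyP, hN]; exact h4)
    exact ⟨y, u, hy, hu, huy⟩
  -- the two numbers of Sylow subgroups
  have hn5 : Nat.card (Sylow 5 G) = 21 := by
    obtain ⟨h1, h2, h3, -⟩ := sylow_data (p := 5) (a := 1) (m := 84) (h.trans (by norm_num))
      one_ne_zero (by norm_num) hna
    have h6 : Nat.card (Sylow 5 G) ≠ 6 := fun e => by
      have := card_dvd_of_card_sylow_le (h.trans (by norm_num) : Nat.card G = 5 * 84) (by norm_num)
        (by norm_num) hna e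
      rw [h] at this
      norm_num at this
    have := Nat.le_of_dvd (by norm_num) h1
    generalize Nat.card (Sylow 5 G) = n at *
    interval_cases n <;> omega
  have hn7 : Nat.card (Sylow 7 G) = 15 := by
    obtain ⟨h1, h2, h3, -⟩ := sylow_data (p := 7) (a := 1) (m := 60) (h.trans (by norm_num))
      one_ne_zero (by norm_num) hna
    have := Nat.le_of_dvd (by norm_num) h1
    generalize Nat.card (Sylow 7 G) = n at *
    interval_cases n <;> omega
  obtain ⟨y5, u5, hy5, hu5, hc5⟩ := key 5 4 inferInstance (by norm_num) 84 (h.trans (by norm_num))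
    (by norm_num) (by rw [hn5]) (by norm_num)
  obtain ⟨y7, u7, hy7, hu7, hc7⟩ := key 7 4 inferInstance (by norm_num) 60 (h.trans (by norm_num))
    (by norm_num) (by rw [hn7]) (by norm_num)
  -- all involutions are conjugate
  have hconj : IsConj u5 u7 := by
    obtain ⟨T⟩ : Nonempty (Sylow 2 G) := Sylow.nonempty
    have hTc : Nat.card (T : Subgroup G) = 4 := by
      rw [card_sylow_eq_pow (a := 2) (m := 105) (h.trans (by norm_num)) (by norm_num) T]
      norm_num
    have hT : IsKleinFour (T : Subgroup G) := isKleinFour_of_not_cyclic hTc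
      (not_isCyclic_sylow hna (minFac_eq_two (by rw [h]; decide)) T)
    have into : ∀ u : G, orderOf u = 2 → ∃ g : G, g * u * g⁻¹ ∈ (T : Subgroup G) := by
      intro u hu
      obtain ⟨Q, hQ⟩ := (IsPGroup.of_card (n := 1) (by rw [Nat.card_zpowers, hu, pow_one]) :
        IsPGroup 2 (zpowers u)).exists_le_sylow
      obtain ⟨g, rfl⟩ := MulAction.exists_smul_eq G Q T
      exact ⟨g, by rw [Sylow.coe_subgroup_smul]; exact ⟨u, hQ (mem_zpowers u), by simp⟩⟩
    obtain ⟨g, hg⟩ := into u5 hu5
    obtain ⟨g', hg'⟩ := into u7 hu7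
    set a := g * u5 * g⁻¹ with ha
    set b := g' * u7 * g'⁻¹ with hb
    have hab : IsConj a b := by
      by_contra hne
      have hb1 : b ≠ 1 := fun e => by
        rw [hb, conj_eq_one_iff] at e
        rw [e, orderOf_one] at hu7
        omega
      have ha1 : a ≠ 1 := fun e => by
        rw [ha, conj_eq_one_iff] at e
        rw [e, orderOf_one] at hu5
        omega
      have hbo : orderOf b = 2 := by rw [hb, show g' * u7 * g'⁻¹ = MulAut.conj g' u7 by simp, MulEquiv.orderOf_eq, hu7]
      have hao : orderOf a = 2 := by rw [ha, show g * u5 * g⁻¹ = MulAut.conj g u5 by simp, MulEquiv.orderOf_eq, hu5]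
      have hrel : (zpowers b).relIndex (T : Subgroup G) = 2 := by
        have h1 := ((zpowers b).subgroupOf (T : Subgroup G)).card_mul_index
        rw [Nat.card_congr (subgroupOfEquivOfLe (zpowers_le.2 hg')).toEquiv, Nat.card_zpowers, hbo, hTc] at h1
        show ((zpowers b).subgroupOf (T : Subgroup G)).index = 2
        omega
      obtain ⟨N, hN, hNi, haN⟩ := TwoTransfer.exists_index_two T (zpowers b) hrel a hg
        (fun k x hk _ => by
          have : a ^ (2 ^ k) = 1 := orderOf_dvd_iff_pow_eq_one.1 (by rw [hao]; exact dvd_pow_self 2 (show k ≠ 0 by omega))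
          rw [this, mul_one, inv_mul_cancel]
          exact one_mem _)
        (fun x _ hx => by
          obtain ⟨i, hi⟩ := mem_zpowers_iff.1 hx
          rcases Int.even_or_odd' i with ⟨w, rfl | rfl⟩
          · rw [zpow_mul, zpow_ofNat, ← hbo, pow_orderOf_eq_one, one_zpow] at hi
            exact ha1 ((conj_eq_one_iff (a := x⁻¹)).1 (by rw [inv_inv]; exact hi.symm))
          · rw [zpow_add, zpow_one, zpow_mul, zpow_ofNat, ← hbo, pow_orderOf_eq_one, one_zpow,
              one_mul] at hi
            exact hne (isConj_iff.2 ⟨x⁻¹, by rw [inv_inv]; exact hi.symm⟩))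
      rcases hN.eq_bot_or_eq_top with rfl | rfl
      · rw [index_bot, h] at hNi; norm_num at hNi
      · exact haN (mem_top a)
    exact (isConj_iff.2 ⟨g, rfl⟩).trans (hab.trans (isConj_iff.2 ⟨g', rfl⟩).symm)
  -- hence the centraliser of an involution is too large
  have hu1 : u7 ≠ 1 := fun e => by rw [e, orderOf_one] at hu7; omega
  have hcard : Nat.card (centralizer ({u5} : Set G)) = Nat.card (centralizer ({u7} : Set G)) := by
    obtain ⟨g, rfl⟩ := isConj_iff.1 hconj
    rw [← Nat.card_congr ((centralizer ({u5} : Set G)).equivMapOfInjective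
      (MulAut.conj g).toMonoidHom (MulAut.conj g).injective).toEquiv.symm]
    congr 2
    ext x
    simp only [mem_map, MulEquiv.coe_toMonoidHom, MulAut.conj_apply, mem_centralizer_singleton_iff]
    constructor
    · rintro ⟨z, hz, rfl⟩
      rw [show g * z * g⁻¹ * (g * u5 * g⁻¹) = g * (z * u5) * g⁻¹ by group, hz]
      group
    · intro hx
      refine ⟨g⁻¹ * x * g, ?_, by group⟩
      calc g⁻¹ * x * g * u5 = g⁻¹ * (x * (g * u5 * g⁻¹)) * g := by group
        _ = g⁻¹ * (g * u5 * g⁻¹ * x) * g := by rw [hx]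
        _ = u5 * (g⁻¹ * x * g) := by group
  have hdvd : ∀ {y u : G}, u ∈ centralizer ({y} : Set G) →
      orderOf y ∣ Nat.card (centralizer ({u} : Set G)) := fun {y u} hc => by
    rw [← Nat.card_zpowers]
    exact card_dvd_of_le (zpowers_le.2 (mem_centralizer_singleton_iff.2
      (mem_centralizer_singleton_iff.1 hc).symm))
  have h5 := hdvd hc5
  rw [hy5, hcard] at h5
  have h7 := hdvd hc7
  rw [hy7] at h7
  have h4 := four_dvd_card_centralizer (by rw [h]; norm_num) hu7
  have h140 : 4 * 5 * 7 ∣ Nat.card (centralizer ({u7} : Set G)) :=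
    Nat.Coprime.mul_dvd_of_dvd_of_dvd (by norm_num)
      (Nat.Coprime.mul_dvd_of_dvd_of_dvd (by norm_num) h4 h5) h7
  have hne := centralizer_ne_top hna hu1
  have hi := seven_le_index_420 hna h _ hne
  have hm := (centralizer ({u7} : Set G)).card_mul_index
  rw [h] at hm
  have := Nat.le_of_dvd Nat.card_pos h140
  nlinarith

/-- 756. -/
theorem not_card_756 (hna : ¬ IsMulCommutative G) (h : Nat.card G = 756) : False := by
  classical
  have : Fact (Nat.Prime 3) := ⟨by norm_num⟩
  have hG : Nat.card G = 3 ^ (2 + 1) * 28 := h.trans (by norm_num)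
  obtain ⟨h1, h2, h3, h4⟩ := sylow_data hG (by norm_num) (by norm_num) hna
  have hn : Nat.card (Sylow 3 G) = 28 := by
    have := Nat.le_of_dvd (by norm_num) h1
    rw [h] at h4
    generalize Nat.card (Sylow 3 G) = n at *
    interval_cases n <;> first | omega | (norm_num [Nat.factorial] at h4)
  have hPc : ∀ P : Sylow 3 G, Nat.card (P : Subgroup G) = 27 := fun P => by
    rw [card_sylow_eq_pow hG (by norm_num) P]
    norm_num
  have hN : ∀ P : Sylow 3 G, normalizer ((P : Subgroup G) : Set G) = (P : Subgroup G) := fun P => by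
    refine (eq_of_le_of_card_ge le_normalizer (le_of_eq ?_)).symm
    have hm := card_sylow_mul_card_normalizer P
    rw [hn, h] at hm
    rw [hPc]
    omega
  have hbig : ∀ H : Subgroup G, H ≠ ⊤ → 9 ≤ H.index := fun H hH => by
    have hd := two_mul_card_dvd hna H hH
    rw [h] at hd
    by_contra! hlt
    generalize H.index = i at *
    interval_cases i <;> norm_num [Nat.factorial] at hd
  -- two Sylow subgroups meet in at most three elements
  have hmeet : ∀ P Q : Sylow 3 G, P ≠ Q → ∀ R : Subgroup G, R ≤ P → R ≤ Q → Nat.card R < 9 := by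
    intro P Q hne R hRP hRQ
    by_contra! hR
    obtain ⟨i, hi⟩ : ∃ i, i ≤ 3 ∧ Nat.card R = 3 ^ i := by
      have := card_dvd_of_le hRP
      rw [hPc, show (27 : ℕ) = 3 ^ 3 by norm_num] at this
      obtain ⟨i, hi, e⟩ := (Nat.dvd_prime_pow (by norm_num)).1 this
      exact ⟨i, hi, e⟩
    have hi2 : i = 2 := by
      obtain ⟨hi3, hi'⟩ := hi
      have h3' : i ≠ 3 := by
        rintro rfl
        exact hne (Sylow.ext ((eq_of_le_of_card_ge hRP (by rw [hi', hPc]; norm_num)).symm.trans
          (eq_of_le_of_card_ge hRQ (by rw [hi', hPc]; norm_num))))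
      rw [hi'] at hR
      interval_cases i <;> omega
    subst hi2
    have hnorm : ∀ S : Sylow 3 G, R ≤ S → (S : Subgroup G) ≤ normalizer (R : Set G) := by
      intro S hle
      rw [← normal_subgroupOf_iff_le_normalizer hle]
      refine normal_of_index_eq_minFac_card ?_
      have h9 := (R.subgroupOf (S : Subgroup G)).card_mul_index
      rw [Nat.card_congr (subgroupOfEquivOfLe hle).toEquiv, hi.2, hPc] at h9
      rw [hPc]
      norm_num at h9 ⊢
      omega
    have hR0 : R ≠ ⊥ := fun e => by rw [e, card_bot] at hR; omega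
    have hR1 : R ≠ ⊤ := fun e => by
      rw [e, card_top, h] at hi
      norm_num at hi
    have hNne := normalizer_sub_ne_top hR0 hR1
    obtain ⟨k, hk⟩ : 27 ∣ Nat.card (normalizer (R : Set G)) := hPc P ▸ card_dvd_of_le (hnorm P hRP)
    have hm := (normalizer (R : Set G)).card_mul_index
    rw [hk, h] at hm
    have h9 := hbig _ hNne
    have hk3 : k ≤ 3 := by nlinarith
    have hgt := one_lt_card_sylow_of_ne (hnorm P hRP) (hnorm Q hRQ) hne
    have hmod := card_sylow_mod (G := normalizer (R : Set G)) 3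
    have hkne : k ≠ 0 := by rintro rfl; simp at hm
    have hk3' : ¬ 3 ∣ k := fun hd => by
      obtain ⟨j, rfl⟩ := hd
      obtain rfl : j = 1 := by omega
      omega
    have hdvd := card_sylow_dvd (G := normalizer (R : Set G)) (p := 3) (a := 3) (m := k)
      (by rw [hk]; norm_num) hk3'
    have := Nat.le_of_dvd (Nat.pos_of_ne_zero hkne) hdvd
    omega
  -- the centre of `P` is weakly closed
  obtain ⟨P⟩ : Nonempty (Sylow 3 G) := Sylow.nonempty
  have hPnc : ¬ IsMulCommutative (P : Subgroup G) := fun hc => by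
    refine not_normalizer_le_centralizer hna (by rw [h]; norm_num) P ?_
    rw [hN]
    exact (P : Subgroup G).le_centralizer
  set Z : Subgroup G := (P : Subgroup G) ⊓ centralizer ((P : Subgroup G) : Set G) with hZ
  have hZ0 : ∃ z ∈ Z, z ≠ 1 := by
    have : Nontrivial (P : Subgroup G) :=
      Finite.one_lt_card_iff_nontrivial.1 (by rw [hPc]; norm_num)
    have := P.isPGroup'.center_nontrivial
    obtain ⟨z, hz⟩ := exists_ne (1 : center (P : Subgroup G))
    refine ⟨((z : (P : Subgroup G)) : G), ⟨(z : (P : Subgroup G)).2, mem_centralizer_iff.2 fun x hx =>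
      congrArg Subtype.val (mem_center_iff.1 z.2 ⟨x, hx⟩)⟩, fun e => hz (Subtype.ext (Subtype.ext e))⟩
  have hzc : ∀ w ∈ (P : Subgroup G), ∀ Q : Sylow 3 G,
      (Q : Subgroup G) ≤ centralizer ({w} : Set G) → w ∈ Z := by
    intro w hw Q hQ
    by_contra hwZ
    have hw1 : w ≠ 1 := fun e => hwZ (e ▸ one_mem Z)
    set R := (P : Subgroup G) ⊓ centralizer ({w} : Set G) with hR
    have hwR : zpowers w ≤ R := zpowers_le.2 ⟨hw, mem_centralizer_singleton_iff.2 rfl⟩
    have hZR : Z ≤ R := le_inf inf_le_left fun z hz => mem_centralizer_singleton_iff.2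
      (mem_centralizer_iff.1 hz.2 w hw).symm
    obtain ⟨i, hi⟩ := (P.isPGroup'.to_le (inf_le_left : R ≤ P)).exists_card_eq
    have h9 : 9 ≤ Nat.card R := by
      by_contra! hlt
      have hi1 : i ≤ 1 := by
        by_contra! h2
        have : 3 ^ 2 ≤ 3 ^ i := Nat.pow_le_pow_right (by norm_num) h2
        rw [hi] at hlt
        linarith
      obtain ⟨z, hzZ, hz1⟩ := hZ0
      have hzo : 3 ≤ orderOf z := by
        have hd := Subgroup.orderOf_dvd_natCard (P : Subgroup G) hzZ.1
        rw [hPc, show (27 : ℕ) = 3 ^ 3 by norm_num] at hd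
        obtain ⟨j, hj, hje⟩ := (Nat.dvd_prime_pow (by norm_num)).1 hd
        rw [hje]
        refine Nat.le_self_pow (fun e => hz1 (orderOf_eq_one_iff.1 (by rw [hje, e, pow_zero]))) 3
      have heq : zpowers z = R := eq_of_le_of_card_ge ((zpowers_le.2 hzZ).trans hZR)
        (by rw [Nat.card_zpowers, hi]; exact le_trans (Nat.pow_le_pow_right (by norm_num) hi1) (by simpa using hzo))
      exact hwZ ((zpowers_le.2 hzZ) (heq ▸ hwR (mem_zpowers w)))
    have hRp : IsPGroup 3 (R.subgroupOf (centralizer ({w} : Set G))) :=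
      (P.isPGroup'.to_le (inf_le_left : R ≤ P)).of_equiv (subgroupOfEquivOfLe inf_le_right).symm
    obtain ⟨S, hS⟩ := hRp.exists_le_sylow
    set S' := (S : Subgroup (centralizer ({w} : Set G))).map (centralizer ({w} : Set G)).subtype with hS'
    have hS'c : 27 ≤ Nat.card S' := by
      rw [hS', ← Nat.card_congr (Subgroup.equivMapOfInjective (S : Subgroup (centralizer ({w} : Set G))) _
        (subtype_injective _)).toEquiv,
        S.card_eq_multiplicity]
      have hd : 3 ^ 3 ∣ Nat.card (centralizer ({w} : Set G)) := by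
        rw [show (3 : ℕ) ^ 3 = 27 by norm_num, ← hPc Q]
        exact card_dvd_of_le hQ
      exact le_trans (by norm_num) (Nat.pow_le_pow_right (by norm_num)
        (((by norm_num : Nat.Prime 3).pow_dvd_iff_le_factorization Nat.card_pos.ne').1 hd))
    obtain ⟨P', hP'⟩ := (S.isPGroup'.map (centralizer ({w} : Set G)).subtype).exists_le_sylow
    have hS'eq : S' = P' := eq_of_le_of_card_ge hP' (by rw [hPc]; exact hS'c)
    have hRS : R ≤ P' := hS'eq ▸ fun x hx =>
      ⟨⟨x, hx.2⟩, hS (mem_subgroupOf.2 hx), rfl⟩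
    have hPP : P' = P := by
      by_contra hne
      exact absurd (hmeet P' P hne R hRS inf_le_left) (by omega)
    refine hwZ ⟨hw, mem_centralizer_iff.2 fun x hx => ?_⟩
    have : x ∈ centralizer ({w} : Set G) := map_subtype_le _ (hS'eq ▸ hPP.symm ▸ hx : x ∈ S')
    exact mem_centralizer_singleton_iff.1 this
  have hW : Cfsg.IsWeaklyClosed Z (P : Subgroup G) := by
    refine ⟨inf_le_left, fun g hg => eq_of_le_of_card_ge ?_ (le_of_eq
      (Nat.card_congr (Z.equivMapOfInjective _ (MulAut.conj g).injective).toEquiv))⟩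
    rintro _ ⟨z, hz, rfl⟩
    refine hzc _ (hg ⟨z, hz, rfl⟩) (g • P) ?_
    rw [Sylow.coe_subgroup_smul]
    rintro _ ⟨x, hx, rfl⟩
    refine mem_centralizer_singleton_iff.2 ?_
    simp only [MulDistribMulAction.toMonoidEnd_apply, MulDistribMulAction.toMonoidHom_apply,
      MulAut.smul_def, MulEquiv.coe_toMonoidHom, MulAut.conj_apply]
    calc g * x * g⁻¹ * (g * z * g⁻¹) = g * (x * z) * g⁻¹ := by group
      _ = g * (z * x) * g⁻¹ := by rw [mem_centralizer_iff.1 hz.2 x hx]
      _ = g * z * g⁻¹ * (g * x * g⁻¹) := by group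
  have hZ1 : Z ≠ ⊥ := fun e => by
    obtain ⟨z, hz, hz1⟩ := hZ0
    exact hz1 (mem_bot.1 (e ▸ hz))
  have hZt : Z ≠ ⊤ := fun e => by
    exact sylow_ne_top hna P (top_le_iff.1 (e ▸ inf_le_left))
  -- the normaliser of the centre is `P`
  have hNZ : normalizer (Z : Set G) = (P : Subgroup G) := by
    have hle : (P : Subgroup G) ≤ normalizer (Z : Set G) := fun x hx => by
      refine mem_normalizer_iff.2 fun z => ?_
      have hc : ∀ z ∈ Z, x * z * x⁻¹ = z := fun z hz => by
        rw [mem_centralizer_iff.1 hz.2 x hx, mul_inv_cancel_right]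
      refine ⟨fun hz => by rw [hc z hz]; exact hz, fun hz => ?_⟩
      have hxi : ∀ z ∈ Z, x⁻¹ * z * x = z := fun z hz => by
        rw [mul_assoc, ← mem_centralizer_iff.1 hz.2 x hx, inv_mul_cancel_left]
      have := hxi _ hz
      rw [show x⁻¹ * (x * z * x⁻¹) * x = z by group] at this
      exact this ▸ hz
    obtain ⟨k, hk⟩ : 27 ∣ Nat.card (normalizer (Z : Set G)) := hPc P ▸ card_dvd_of_le hle
    have hm := (normalizer (Z : Set G)).card_mul_index
    rw [hk, h] at hm
    have h9 := hbig _ (normalizer_sub_ne_top hZ1 hZt)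
    have hk3 : k ≤ 3 := by nlinarith
    have hkne : k ≠ 0 := by rintro rfl; simp at hm
    have hk3' : ¬ 3 ∣ k := fun hd => by
      obtain ⟨j, rfl⟩ := hd
      obtain rfl : j = 1 := by omega
      omega
    have hdvd := card_sylow_dvd (G := normalizer (Z : Set G)) (p := 3) (a := 3) (m := k)
      (by rw [hk]; norm_num) hk3'
    have hmod := card_sylow_mod (G := normalizer (Z : Set G)) 3
    have hle' := Nat.le_of_dvd (Nat.pos_of_ne_zero hkne) hdvd
    have hone : Nat.card (Sylow 3 ↥(normalizer (Z : Set G))) = 1 := by omega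
    refine le_antisymm (fun x hx => ?_) hle
    rw [← hN P]
    refine Sylow.smul_eq_iff_mem_normalizer.1 ?_
    by_contra hne
    have hle2 : ((x • P : Sylow 3 G) : Subgroup G) ≤ normalizer (Z : Set G) := by
      rw [Sylow.coe_subgroup_smul]
      rintro _ ⟨y, hy, rfl⟩
      exact mul_mem (mul_mem hx (hle hy)) (inv_mem hx)
    have := one_lt_card_sylow_of_ne hle2 hle hne
    omega
  have hgr := Agent.S0077.result P Z inf_le_right hW
  have hperf : commutator G = ⊤ :=
    (Subgroup.Normal.eq_bot_or_eq_top (H := commutator G) inferInstance).resolve_left fun e =>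
      hna ⟨⟨fun a b => commutatorElement_eq_one_iff_mul_comm.1
        (mem_bot.1 (e ▸ commutator_mem_commutator (mem_top a) (mem_top b)))⟩⟩
  rw [hperf, top_inf_eq, hNZ] at hgr
  have hle : (P : Subgroup G) ≤ ⁅(P : Subgroup G), (P : Subgroup G)⁆ := fun x hx => by
    have h9 : x ∈ ⁅(P : Subgroup G), (P : Subgroup G)⁆ ⊓ (P : Subgroup G) := hgr ▸ hx
    exact h9.1
  have : Group.IsSolvable (P : Subgroup G) :=
    by
      haveI := P.isPGroup'.isNilpotent
      infer_instance
  refine hPnc ⟨⟨fun a b => ?_⟩⟩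
  have hcomm : commutator (P : Subgroup G) = ⊤ := by
    rw [eq_top_iff]
    intro x _
    have h9 := hle x.2
    rw [← Subgroup.map_subtype_commutator] at h9
    obtain ⟨y, hy, e⟩ := h9
    rwa [← Subtype.ext e]
  have : Nontrivial (P : Subgroup G) := Finite.one_lt_card_iff_nontrivial.1 (by rw [hPc]; norm_num)
  have h9 := Group.IsSolvable.commutator_lt_top_of_nontrivial (G := (P : Subgroup G))
  exact absurd hcomm h9.ne

/-- 1008. -/
theorem not_card_1008 (hna : ¬ IsMulCommutative G) (h : Nat.card G = 1008) : False := by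
  classical
  have : Fact (Nat.Prime 2) := ⟨Nat.prime_two⟩
  have : Fact (Nat.Prime 7) := ⟨by norm_num⟩
  have hG7 : Nat.card G = 7 * 144 := h.trans (by norm_num)
  obtain ⟨h1, h2, h3, -⟩ := sylow_data (p := 7) (a := 1) (m := 144) (h.trans (by norm_num))
    one_ne_zero (by norm_num) hna
  have hn : Nat.card (Sylow 7 G) = 36 := by
    have h8 : Nat.card (Sylow 7 G) ≠ 8 := fun e => by
      have := card_dvd_of_card_sylow_le hG7 (by norm_num) (by norm_num) hna e
      rw [h] at this
      norm_num at this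
    have := Nat.le_of_dvd (by norm_num) h1
    generalize Nat.card (Sylow 7 G) = n at *
    interval_cases n <;> omega
  obtain ⟨P⟩ : Nonempty (Sylow 7 G) := Sylow.nonempty
  obtain ⟨y, c, e, hy, hyP, hN, hC, hce, he, he1⟩ := centralizer_dvd hG7 (by norm_num) hn (r := 4)
    (by norm_num) P
  have hc2 : c = 2 := by
    have h1 := he1 hna
    have h4 : c ∣ 4 := Dvd.intro e hce
    have := Nat.le_of_dvd (by norm_num) h4
    have := Nat.le_of_dvd (by norm_num) he
    have : e ≠ 4 := fun e4 => by rw [e4] at he; norm_num at he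
    interval_cases c <;> omega
  subst hc2
  obtain ⟨u', hu'⟩ := exists_prime_orderOf_dvd_card' (G := centralizer ({y} : Set G)) 2
    (by rw [hC]; norm_num)
  set u : G := (u' : G) with hudef
  have hu : orderOf u = 2 := by rw [hudef, orderOf_coe, hu']
  have huy : Commute u y := mem_centralizer_singleton_iff.1 u'.2
  have hu1 : u ≠ 1 := fun e => by rw [e, orderOf_one] at hu; omega
  -- a proper subgroup has index at least ten
  have hten : ∀ H : Subgroup G, H ≠ ⊤ → 10 ≤ H.index := fun H hH => by
    by_contra! hlt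
    have hd := two_mul_card_dvd hna H hH
    rw [h] at hd
    obtain ⟨k, hk0, hkp, -, -, hb1, hb2⟩ := centralizer_bound hna H hH hy
    rw [hC] at hb1 hb2
    obtain hi | hi : H.index = 8 ∨ H.index = 9 := by
      generalize H.index = i at *
      interval_cases i <;> first | omega | (norm_num [Nat.factorial] at hd)
    · rw [hi] at hkp hb1
      obtain rfl : k = 1 := by omega
      norm_num [Nat.factorial] at hb1
    · rw [hi] at hkp hb2
      obtain rfl : k = 1 := by omega
      have := hb2 (Or.inl (by norm_num))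
      norm_num [Nat.factorial] at this
  -- the centraliser of `u` is the normaliser of `P`
  set C := centralizer ({u} : Set G) with hCu
  have hyC : y ∈ C := mem_centralizer_singleton_iff.2 huy.symm
  have huC : u ∈ C := mem_centralizer_singleton_iff.2 rfl
  have hCne : C ≠ ⊤ := centralizer_ne_top hna hu1
  have h28 : Nat.card C = 28 := by
    have hd4 : 4 ∣ Nat.card C := four_dvd_card_centralizer (by rw [h]; norm_num) hu
    have hd7 : 7 ∣ Nat.card C := by
      rw [← hy, ← Nat.card_zpowers]
      exact card_dvd_of_le (zpowers_le.2 hyC)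
    have hm := C.card_mul_index
    rw [h] at hm
    have h10 := hten C hCne
    have hle : Nat.card C ≤ 100 := by nlinarith
    have hd : Nat.card C ∣ 1008 := Dvd.intro _ hm
    have hPC : (P : Subgroup G) ≤ C := hyP ▸ zpowers_le.2 hyC
    set m := Nat.card C / 7 with hmdef
    have hCm : Nat.card C = 7 ^ 1 * m := by rw [pow_one, Nat.mul_div_cancel' hd7]
    have hm7 : ¬ 7 ∣ m := fun hd' => by
      have e7 : Nat.card C = 7 * m := by rw [hCm, pow_one]
      have : 7 * 7 ∣ 1008 := (Nat.mul_dvd_mul_left 7 hd').trans (e7 ▸ hd)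
      norm_num at this
    -- `P` is normal in `C`
    have hsub : Nat.card (Sylow 7 C) * 14 ∣ Nat.card C := by
      rw [← card_sylow_mul_card_normalizer (P.subtype hPC)]
      refine mul_dvd_mul_left _ ?_
      have hcomm : Commute y u := huy.symm
      have h14 : orderOf (y * u) = 14 := by
        rw [hcomm.orderOf_mul_eq_mul_orderOf_of_coprime (by rw [hy, hu]; norm_num), hy, hu]
      have hmem : (⟨y * u, mul_mem hyC huC⟩ : C) ∈
          normalizer (((P.subtype hPC : Sylow 7 C) : Subgroup C) : Set C) := by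
        have hyn : y * u ∈ centralizer ((P : Subgroup G) : Set G) := by
          rw [← hyP, centralizer_zpowers_eq, mem_centralizer_singleton_iff]
          exact ((Commute.refl y).mul_left huy).eq
        refine centralizer_le_normalizer _ (mem_centralizer_iff.2 fun x hx => Subtype.ext ?_)
        exact mem_centralizer_iff.1 hyn x hx
      have h9 := Subgroup.orderOf_dvd_natCard _ hmem
      rwa [← orderOf_coe (a := (⟨y * u, mul_mem hyC huC⟩ : C)), h14] at h9
    have hn1 : Nat.card (Sylow 7 C) = 1 := by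
      have hmod := card_sylow_mod (G := C) 7
      have h14le := Nat.le_of_dvd Nat.card_pos hsub
      omega
    have hCN : C ≤ normalizer ((P : Subgroup G) : Set G) := fun x hx => by
      refine Sylow.smul_eq_iff_mem_normalizer.1 ?_
      by_contra hne
      have hle2 : ((x • P : Sylow 7 G) : Subgroup G) ≤ C := by
        rw [Sylow.coe_subgroup_smul]
        rintro _ ⟨z, hz, rfl⟩
        exact mul_mem (mul_mem hx (hPC hz)) (inv_mem hx)
      have := one_lt_card_sylow_of_ne hle2 hPC hne
      omega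
    have h28' := Nat.le_of_dvd Nat.card_pos (card_dvd_of_le hCN)
    have hle28 : Nat.card C ≤ 28 := Nat.le_of_dvd (by norm_num) ((card_dvd_of_le hCN).trans (by rw [hN]))
    have h74 : 28 ∣ Nat.card C := Nat.Coprime.mul_dvd_of_dvd_of_dvd (m := 4) (n := 7) (by norm_num) hd4 hd7
    have := Nat.le_of_dvd Nat.card_pos h74
    omega
  -- a Sylow 2-subgroup containing `u`
  obtain ⟨T, hT⟩ := (IsPGroup.of_card (n := 1) (by rw [Nat.card_zpowers, hu, pow_one]) :
    IsPGroup 2 (zpowers u)).exists_le_sylow
  have huT : u ∈ (T : Subgroup G) := hT (mem_zpowers u)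
  have hTc : Nat.card (T : Subgroup G) = 16 := by
    rw [card_sylow_eq_pow (a := 4) (m := 63) (h.trans (by norm_num)) (by norm_num) T]
    norm_num
  -- no eight-subgroup of `T` centralises a conjugate of `u`
  have hno8 : ∀ (K : Subgroup G) (g : G), Nat.card K = 8 → ¬ K ≤ centralizer ({g⁻¹ * u * g} : Set G) := by
    intro K g hK hle
    have h8 := card_dvd_of_le hle
    have heq : centralizer ({g⁻¹ * u * g} : Set G) = C.map (MulAut.conj g⁻¹).toMonoidHom := by
      ext x
      simp only [hCu, mem_map, MulEquiv.coe_toMonoidHom, MulAut.conj_apply, mem_centralizer_singleton_iff,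
        inv_inv]
      constructor
      · intro hx
        refine ⟨g * x * g⁻¹, ?_, by group⟩
        calc g * x * g⁻¹ * u = g * (x * (g⁻¹ * u * g)) * g⁻¹ := by group
          _ = g * (g⁻¹ * u * g * x) * g⁻¹ := by rw [hx]
          _ = u * (g * x * g⁻¹) := by group
      · rintro ⟨z, hz, rfl⟩
        calc g⁻¹ * z * g * (g⁻¹ * u * g) = g⁻¹ * (z * u) * g := by group
          _ = g⁻¹ * u * g * (g⁻¹ * z * g) := by rw [hz]; group
    rw [hK, heq, ← Nat.card_congr (C.equivMapOfInjective _ (MulAut.conj g⁻¹).injective).toEquiv, h28] at h8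
    norm_num at h8
  -- an index-two subgroup of `T` with no conjugate of `u`
  suffices hM : ∃ M : Subgroup G, M ≤ (T : Subgroup G) ∧ Nat.card M = 8 ∧
      ∀ g : G, g⁻¹ * u * g ∉ M by
    obtain ⟨M, hMT, hMc, hMu⟩ := hM
    have hrel : M.relIndex (T : Subgroup G) = 2 := by
      have h1 := (M.subgroupOf (T : Subgroup G)).card_mul_index
      rw [Nat.card_congr (subgroupOfEquivOfLe hMT).toEquiv, hMc, hTc] at h1
      show (M.subgroupOf (T : Subgroup G)).index = 2
      omega
    obtain ⟨N, hN', hNi, huN⟩ := TwoTransfer.exists_index_two T M hrel u huT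
      (fun k x hk _ => by
        have : u ^ (2 ^ k) = 1 := orderOf_dvd_iff_pow_eq_one.1 (by rw [hu]; exact dvd_pow_self 2 (show k ≠ 0 by omega))
        rw [this, mul_one, inv_mul_cancel]
        exact one_mem _)
      (fun x _ => hMu x)
    rcases hN'.eq_bot_or_eq_top with rfl | rfl
    · rw [index_bot, h] at hNi; norm_num at hNi
    · exact huN (mem_top u)
  -- work inside `T`
  set u₀ : (T : Subgroup G) := ⟨u, huT⟩ with hu0
  set D := commutator (T : Subgroup G) with hD
  -- conjugates of `u` in `T` have centraliser of order at most four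
  have hcent : ∀ v : (T : Subgroup G), (∃ g : G, g⁻¹ * u * g = (v : G)) →
      Nat.card (centralizer ({v} : Set (T : Subgroup G))) ≤ 4 := by
    rintro v ⟨g, hg⟩
    by_contra! hlt
    obtain ⟨i, hi⟩ := (T.isPGroup'.to_subgroup (centralizer ({v} : Set (T : Subgroup G)))).exists_card_eq
    have hi3 : 3 ≤ i := by
      by_contra! h2
      have : 2 ^ i ≤ 2 ^ 2 := Nat.pow_le_pow_right (by norm_num) (by omega)
      omega
    obtain ⟨K, hK⟩ := Sylow.exists_subgroup_card_pow_prime 2 (n := 3)
      (G := centralizer ({v} : Set (T : Subgroup G))) (by rw [hi]; exact pow_dvd_pow 2 hi3)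
    set f := ((T : Subgroup G).subtype.comp (centralizer ({v} : Set (T : Subgroup G))).subtype) with hf
    refine hno8 (K.map f) g ?_ ?_
    · rw [← Nat.card_congr (K.equivMapOfInjective f
        ((subtype_injective _).comp (subtype_injective _))).toEquiv, hK]
      norm_num
    · rintro _ ⟨x, -, rfl⟩
      rw [mem_centralizer_singleton_iff, hg]
      exact congrArg Subtype.val (mem_centralizer_singleton_iff.1 x.2)
  -- the class of a conjugate of `u` fills its coset of `D`
  have hDle : 4 ≤ Nat.card D ∧ ∀ v : (T : Subgroup G), (∃ g : G, g⁻¹ * u * g = (v : G)) →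
      Nat.card D = 4 → ∀ d ∈ D, IsConj v (v * d) := by
    have key : ∀ v : (T : Subgroup G), (∃ g : G, g⁻¹ * u * g = (v : G)) →
        4 ≤ Nat.card D ∧ (Nat.card D = 4 → ∀ d ∈ D, IsConj v (v * d)) := by
      intro v hv
      let F : {a : (T : Subgroup G) // IsConj v a} → D := fun a => ⟨v⁻¹ * a.1, by
        obtain ⟨b, hb⟩ := isConj_iff.1 a.2
        rw [← hb, show v⁻¹ * (b * v * b⁻¹) = ⁅v⁻¹, b⁆ by rw [commutatorElement_def]; group]
        exact commutator_mem_commutator (mem_top _) (mem_top _)⟩
      have hF : Function.Injective F := fun a b hab =>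
        Subtype.ext (mul_left_cancel (congrArg Subtype.val hab))
      have hcl : 4 ≤ Nat.card {a : (T : Subgroup G) // IsConj v a} := by
        rw [Char.card_isConj_eq_index]
        have h4 := hcent v hv
        have hm := (centralizer ({v} : Set (T : Subgroup G))).card_mul_index
        rw [hTc] at hm
        nlinarith
      have hle := Nat.card_le_card_of_injective F hF
      refine ⟨hcl.trans hle, fun h4 d hd => ?_⟩
      obtain ⟨a, ha⟩ := (hF.bijective_of_nat_card_le (by omega)).2 ⟨d, hd⟩
      have : v⁻¹ * a.1 = d := congrArg Subtype.val ha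
      rw [← this, mul_inv_cancel_left]
      exact a.2
    exact ⟨(key u₀ ⟨1, by simp [hu0]⟩).1, fun v hv => (key v hv).2⟩
  -- maximal subgroups not containing `u`
  have hmax : ∀ x : (T : Subgroup G), ∃ M : Subgroup (T : Subgroup G),
      x ∈ M ∧ Nat.card M = 8 ∧ D ≤ M := by
    intro x
    have hx8 : Nat.card (zpowers x) ∣ 2 ^ 3 := by
      obtain ⟨i, hi⟩ := (T.isPGroup'.to_subgroup (zpowers x)).exists_card_eq
      rw [hi]
      refine pow_dvd_pow 2 ?_
      by_contra! h4
      have hd := card_subgroup_dvd_card (zpowers x)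
      rw [hi, hTc] at hd
      have hle := Nat.le_of_dvd (by norm_num) hd
      have : 2 ^ 4 ≤ 2 ^ i := Nat.pow_le_pow_right (by norm_num) h4
      have htop : zpowers x = ⊤ := eq_top_of_le_card _ (by rw [hi, hTc]; simpa using this)
      have hcl := hDle.1
      have : IsMulCommutative (T : Subgroup G) := by
        refine ⟨⟨fun a b => ?_⟩⟩
        obtain ⟨i, rfl⟩ := mem_zpowers_iff.1 (htop ▸ mem_top a : a ∈ zpowers x)
        obtain ⟨j, rfl⟩ := mem_zpowers_iff.1 (htop ▸ mem_top b : b ∈ zpowers x)
        exact zpow_mul_comm x i j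
      have hDbot : D = ⊥ := by
        rw [eq_bot_iff, hD, _root_.commutator_def, commutator_le]
        intro a _ b _
        rw [mem_bot, commutatorElement_eq_one_iff_mul_comm]
        exact Std.Commutative.comm a b
      rw [hDbot, card_bot] at hcl
      omega
    obtain ⟨i, hi⟩ := (T.isPGroup'.to_subgroup (zpowers x)).exists_card_eq
    have hi3 : i ≤ 3 := (Nat.pow_dvd_pow_iff_le_right (by norm_num)).1 (hi ▸ hx8)
    obtain ⟨M, hMc, hxM⟩ := Sylow.exists_subgroup_card_pow_prime_le (m := 3) 2 (by rw [hTc]; norm_num)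
      (zpowers x) hi hi3
    refine ⟨M, hxM (mem_zpowers x), by rw [hMc]; norm_num, ?_⟩
    have hMi : M.index = 2 := by
      have := M.card_mul_index
      rw [hMc, hTc] at this
      omega
    have := normal_of_index_eq_minFac_card (H := M) (by rw [hMi, hTc]; rfl)
    have hc : IsCyclic ((T : Subgroup G) ⧸ M) := isCyclic_of_prime_card (p := 2) hMi
    rw [hD, ← Normal.quotient_commutative_iff_commutator_le]
    exact IsCyclic.isMulCommutative
  -- the derived subgroup has order four
  have hD4 : Nat.card D = 4 := by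
    obtain ⟨M, -, hMc, hDM⟩ := hmax 1
    obtain ⟨x, hx⟩ : ∃ x : (T : Subgroup G), x ∉ M := by
      by_contra! hall
      rw [(eq_top_iff.2 (fun x _ => hall x) : M = ⊤), card_top, hTc] at hMc
      omega
    obtain ⟨M', hxM', hM'c, hDM'⟩ := hmax x
    have h1 := hDle.1
    have hne : D ≠ M := fun e => by
      have : M = M' := eq_of_le_of_card_ge (e ▸ hDM') (by omega)
      exact hx (this ▸ hxM')
    have hlt : Nat.card D < 8 := lt_of_not_ge fun h9 => hne (eq_of_le_of_card_ge hDM (by omega))
    obtain ⟨i, hi⟩ := (T.isPGroup'.to_subgroup D).exists_card_eq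
    rw [hi] at h1 hlt ⊢
    have : i ≤ 2 := by
      by_contra! h3
      have : 2 ^ 3 ≤ 2 ^ i := Nat.pow_le_pow_right (by norm_num) h3
      omega
    interval_cases i <;> omega
  -- no conjugate of `u` in `D`
  have hDnot : ∀ v : (T : Subgroup G), v ∈ D → ¬ ∃ g : G, g⁻¹ * u * g = (v : G) := by
    intro v hv hg
    have hv1 : v ≠ 1 := fun e => by
      obtain ⟨g, hg⟩ := hg
      rw [e, OneMemClass.coe_one] at hg
      exact hu1 ((conj_eq_one_iff (a := g⁻¹)).1 (by rw [inv_inv]; exact hg))
    -- the class of `v` lies in `D` minus the identity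
    have hcls : (centralizer ({v} : Set (T : Subgroup G))).index ≤ 3 := by
      rw [← Char.card_isConj_eq_index]
      have : Nat.card {a : (T : Subgroup G) // IsConj v a} ≤ Nat.card {a : D // a ≠ 1} := by
        refine Nat.card_le_card_of_injective (fun a => ⟨⟨a.1, ?_⟩, ?_⟩) fun a b hab => ?_
        · obtain ⟨b, hb⟩ := isConj_iff.1 a.2
          rw [← hb]
          exact (inferInstance : D.Normal).conj_mem v hv b
        · intro e
          have e' : a.1 = 1 := congrArg Subtype.val e
          obtain ⟨b, hb⟩ := isConj_iff.1 a.2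
          rw [e', conj_eq_one_iff] at hb
          exact hv1 hb
        · exact Subtype.ext (congrArg (fun z => (z.1 : (T : Subgroup G))) hab)
      have h3 : Nat.card {a : D // a ≠ 1} ≤ 3 := by
        have hopt := Nat.card_congr (Equiv.optionSubtypeNe (1 : D))
        rw [Finite.card_option] at hopt
        refine Nat.le_of_lt_succ ?_
        calc Nat.card {a : D // a ≠ 1} < Nat.card D := lt_of_lt_of_le (Nat.lt_succ_self _) hopt.le
          _ ≤ 4 := hD4.le
      omega
    have h4 := hcent v hg
    have hm := (centralizer ({v} : Set (T : Subgroup G))).card_mul_index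
    rw [hTc] at hm
    obtain ⟨i, hi⟩ := (T.isPGroup'.to_subgroup (centralizer ({v} : Set (T : Subgroup G)))).exists_card_eq
    rw [hi] at h4 hm
    have : i ≤ 2 := (Nat.pow_le_pow_iff_right (show 1 < 2 by norm_num)).1 (by simpa using h4)
    interval_cases i <;> omega
  obtain ⟨M0, huM0, hM0c, hDM0⟩ := hmax u₀
  obtain ⟨x, hx⟩ : ∃ x : (T : Subgroup G), x ∉ M0 := by
    by_contra! hall
    have h16 : Nat.card M0 = 16 := by rw [(eq_top_iff.2 (fun x _ => hall x) : M0 = ⊤), card_top, hTc]
    omega
  obtain ⟨M1, hxM1, hM1c, hDM1⟩ := hmax x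
  -- a subgroup of order eight over `D` is `D` and one coset
  have hcoset : ∀ M : Subgroup (T : Subgroup G), D ≤ M → Nat.card M = 8 → ∀ v ∈ M, v ∉ D →
      ∀ w ∈ M, w ∉ D → v⁻¹ * w ∈ D := by
    intro M hDM hMc v hv hvD w hw hwD
    have hi : (D.subgroupOf M).index = 2 := by
      have := (D.subgroupOf M).card_mul_index
      rw [Nat.card_congr (subgroupOfEquivOfLe hDM).toEquiv, hD4, hMc] at this
      omega
    exact (Subgroup.mul_mem_iff_of_index_two hi (a := (⟨v, hv⟩ : M)⁻¹) (b := ⟨w, hw⟩)).2
      (by simp [mem_subgroupOf, hvD, hwD])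
  have huD : u₀ ∉ D := fun hd => hDnot u₀ hd ⟨1, by simp [hu0]⟩
  have huM1 : u₀ ∉ M1 := fun hu' => hx (by
    have := hcoset M1 hDM1 hM1c u₀ hu' huD x hxM1 (fun hd => hx (hDM0 hd))
    simpa using mul_mem huM0 (hDM0 this))
  have lift : ∀ M : Subgroup (T : Subgroup G), Nat.card M = 8 →
      (∀ v ∈ M, ¬ ∃ g : G, g⁻¹ * u * g = (v : G)) →
      ∃ M : Subgroup G, M ≤ (T : Subgroup G) ∧ Nat.card M = 8 ∧ ∀ g : G, g⁻¹ * u * g ∉ M := by
    intro M hMc hMu
    refine ⟨M.map (T : Subgroup G).subtype, map_subtype_le M, ?_, fun g hg => ?_⟩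
    · rw [← Nat.card_congr (M.equivMapOfInjective _ (subtype_injective _)).toEquiv, hMc]
    · obtain ⟨v, hv, e⟩ := hg
      exact hMu v hv ⟨g, e.symm⟩
  by_cases hb : ∀ v ∈ M1, ¬ ∃ g : G, g⁻¹ * u * g = (v : G)
  · exact lift M1 hM1c hb
  push Not at hb
  obtain ⟨v, hvM1, hv⟩ := hb
  have hvD : v ∉ D := fun hd => hDnot v hd hv
  obtain ⟨M2, hwM2, hM2c, hDM2⟩ := hmax (u₀ * v)
  refine lift M2 hM2c fun w hw hwc => ?_
  have hwD : w ∉ D := fun hd => hDnot w hd hwc
  have huvD : u₀ * v ∉ D := fun hd => huM1 (by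
    simpa [mul_assoc] using mul_mem (hDM1 hd) (inv_mem hvM1))
  have hd0 : (u₀ * v)⁻¹ * w ∈ D := hcoset M2 hDM2 hM2c _ hwM2 huvD w hw hwD
  -- three cosets of involutions
  have hsq : ∀ a : (T : Subgroup G), (∃ g : G, g⁻¹ * u * g = (a : G)) → ∀ d ∈ D,
      (a * d) * (a * d) = 1 := by
    intro a ha d hd
    obtain ⟨b, hb⟩ := isConj_iff.1 (hDle.2 a ha hD4 d hd)
    obtain ⟨g, hg⟩ := ha
    have haa : (a : G) * a = 1 := by
      rw [← hg, show g⁻¹ * u * g * (g⁻¹ * u * g) = g⁻¹ * (u * u) * g by group,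
        ← sq, ← hu, pow_orderOf_eq_one, mul_one, inv_mul_cancel]
    rw [← hb, show b * a * b⁻¹ * (b * a * b⁻¹) = b * (a * a) * b⁻¹ by group,
      show a * a = 1 from Subtype.ext haa, mul_one, mul_inv_cancel]
  have hinv : ∀ a : (T : Subgroup G), (∃ g : G, g⁻¹ * u * g = (a : G)) → ∀ d ∈ D,
      a * d * a⁻¹ = d⁻¹ := by
    intro a ha d hd
    have h1 := hsq a ha 1 (one_mem D)
    rw [mul_one] at h1
    have h2 := hsq a ha d hd
    rw [inv_eq_of_mul_eq_one_right h1, eq_inv_iff_mul_eq_one, mul_assoc (a * d) a d]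
    exact h2
  -- hence `u` centralises `D`
  have hDu : ∀ d ∈ D, Commute u₀ d := by
    intro d hd
    have hw' : w = u₀ * v * ((u₀ * v)⁻¹ * w) := by group
    set d₀ := (u₀ * v)⁻¹ * w with hd0'
    have hu₀c : ∃ g : G, g⁻¹ * u * g = (u₀ : G) := ⟨1, by simp [hu0]⟩
    have hA := hinv w hwc d hd
    rw [hw'] at hA
    have habel : d₀ * d * d₀⁻¹ = d := by
      have := congrArg Subtype.val (IsPGroup.commutative_of_card_eq_prime_sq (p := 2) (G := D)
        (by rw [hD4]; norm_num) ⟨d₀, hd0⟩ ⟨d, hd⟩)
      simp only [coe_mul] at this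
      rw [this, mul_inv_cancel_right]
    rw [show u₀ * v * d₀ * d * (u₀ * v * d₀)⁻¹ = u₀ * (v * (d₀ * d * d₀⁻¹) * v⁻¹) * u₀⁻¹ by group,
      habel, hinv v hv d hd, hinv u₀ hu₀c d⁻¹ (inv_mem hd), inv_inv] at hA
    have hB := hinv u₀ hu₀c d hd
    rw [← hA] at hB
    exact mul_inv_eq_iff_eq_mul.1 hB
  have h8 : D ⊔ zpowers u₀ ≤ centralizer ({u₀} : Set (T : Subgroup G)) := sup_le
    (fun d hd => mem_centralizer_singleton_iff.2 (hDu d hd).eq.symm)
    (zpowers_le.2 (mem_centralizer_singleton_iff.2 rfl))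
  have hlt : D < D ⊔ zpowers u₀ := lt_of_le_of_ne le_sup_left fun e =>
    huD (e ▸ le_sup_right (a := D) (mem_zpowers u₀))
  have hc4 := (card_dvd_of_le h8).trans (dvd_refl _)
  have := hcent u₀ ⟨1, by simp [hu0]⟩
  have hgt : Nat.card D < Nat.card ↥(D ⊔ zpowers u₀) := by
    refine lt_of_le_of_ne (Nat.le_of_dvd Nat.card_pos (card_dvd_of_le hlt.le)) fun e => hlt.ne ?_
    exact eq_of_le_of_card_ge hlt.le (le_of_eq e.symm)
  have := Nat.le_of_dvd Nat.card_pos hc4
  omega

end Cfsg.Agent.SmallOrder
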