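import Cfsg.Agent.SmallOrder.Rational
import Cfsg.Agent.SmallOrder.Special6232
import Cfsg.Agent.SmallOrder.Exclude1092

/-!
# No simple group has order 1512

The generalized character supported on the elements of order seven and its values at an involution
inverting such an element leave only centralisers of order eight, but this involution commutes with
an element of order three.
-/

set_option autoImplicit false
set_option maxRecDepth 8000
set_option synthInstance.maxSize 5000

namespace Cfsg.Agent.SmallOrder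

open Subgroup

namespace Order1512Check

/-- The possible multiplicity, degree and value at the involution. -/
def items : List (ℤ × ℕ × ℤ) :=
  ([1, -1, 2, -2] : List ℤ).flatMap fun m => (List.range 39).flatMap fun (d : ℕ) =>
    if 2 ≤ d ∧ 216 % d = 0 ∧ ((d : ℤ) - m) % 7 = 0 then
      (List.range 21).filterMap fun (r : ℕ) =>
        if ((r : ℤ) - 10).natAbs ≤ d ∧ (r : ℤ) - 10 ≠ d ∧ ((d : ℤ) - ((r : ℤ) - 10)) % 4 = 0 then
          some (m, d, (r : ℤ) - 10) else none
    else []

/-- The possible orders of the centraliser. -/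
def cents : List ℕ := [6, 12, 18, 24, 36, 54, 72, 108]

/-- The running sums: what is left of six, degrees, squares of degrees, values, weighted squares
and squares of values. -/
abbrev St : Type := ℤ × ℤ × ℕ × ℤ × ℤ × ℤ

/-- Add one character. -/
def add (it : ℤ × ℕ × ℤ) (s : St) : St :=
  (s.1 - it.1 ^ 2, s.2.1 + it.1 * it.2.1, s.2.2.1 + it.2.1 * it.2.1, s.2.2.2.1 + it.1 * it.2.2,
    s.2.2.2.2.1 + it.1 * (it.2.2 * it.2.2) * ((216 / it.2.1 : ℕ) : ℤ),
    s.2.2.2.2.2 + it.2.2 * it.2.2)

/-- The sums are no solution. -/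
def ok (s : St) : Bool :=
  decide (s.1 ≠ 0 ∨ s.2.1 ≠ -1 ∨ s.2.2.2.1 ≠ -1) ||
    cents.all fun c => decide (216 + s.2.2.2.2.1 ≠ (c : ℤ) ^ 2 ∨ (c : ℤ) ≤ s.2.2.2.2.2)

/-- The sums are out of range. -/
def out (s : St) : Bool :=
  decide (s.1 < 0) || decide (1511 < s.2.2.1) || decide (108 ≤ s.2.2.2.2.2)

/-- No multiset from the list completes the sums to a solution. -/
def dfs : ℕ → List (ℤ × ℕ × ℤ) → St → Bool
  | 0, _, _ => false
  | _ + 1, [], s => ok s
  | f + 1, it :: l, s => dfs f l s && (out (add it s) || dfs f (it :: l) (add it s))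

theorem dfs_true : dfs 200 items (6, 0, 0, 0, 0, 0) = true := by decide +kernel

/-- The sums over a set. -/
def total {ι : Type*} (key : ι → ℤ × ℕ × ℤ) (S : Finset ι) (s : St) : St :=
  (s.1 - ∑ i ∈ S, (key i).1 ^ 2, s.2.1 + ∑ i ∈ S, (key i).1 * (key i).2.1,
    s.2.2.1 + ∑ i ∈ S, (key i).2.1 * (key i).2.1, s.2.2.2.1 + ∑ i ∈ S, (key i).1 * (key i).2.2,
    s.2.2.2.2.1 + ∑ i ∈ S, (key i).1 * ((key i).2.2 * (key i).2.2) * ((216 / (key i).2.1 : ℕ) : ℤ),
    s.2.2.2.2.2 + ∑ i ∈ S, (key i).2.2 * (key i).2.2)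

theorem dfs_spec {ι : Type*} [DecidableEq ι] (key : ι → ℤ × ℕ × ℤ) :
    ∀ (f : ℕ) (l : List (ℤ × ℕ × ℤ)) (s : St), dfs f l s = true → ∀ S : Finset ι,
      (∀ i ∈ S, key i ∈ l) → out (total key S s) = false → ok (total key S s) = true := by
  intro f
  induction f with
  | zero => intro l s h; simp [dfs] at h
  | succ f ih =>
    intro l s h S hS hout
    cases l with
    | nil =>
      obtain rfl : S = ∅ := Finset.eq_empty_of_forall_notMem fun i hi => by simpa using hS i hi
      simpa [total, dfs] using h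
    | cons it l =>
      simp only [dfs, Bool.and_eq_true, Bool.or_eq_true] at h
      by_cases hex : ∃ i ∈ S, key i = it
      · obtain ⟨i, hi, rfl⟩ := hex
        have htot : total key S s = total key (S.erase i) (add (key i) s) := by
          simp only [total, add, ← Finset.add_sum_erase S _ hi, Prod.mk.injEq]
          refine ⟨?_, ?_, ?_, ?_, ?_, ?_⟩ <;> ring
        rw [htot] at hout ⊢
        refine ih _ _ (h.2.resolve_left fun ho => ?_) _
          (fun j hj => hS j (Finset.mem_of_mem_erase hj)) hout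
        simp only [out, total, Bool.or_eq_false_iff] at hout
        have a1 := of_decide_eq_false hout.1.1
        have a2 := of_decide_eq_false hout.1.2
        have a3 := of_decide_eq_false hout.2
        simp only [out, Bool.or_eq_true, decide_eq_true_eq] at ho
        have h1 : 0 ≤ ∑ j ∈ S.erase i, (key j).1 ^ 2 := Finset.sum_nonneg fun _ _ => sq_nonneg _
        have h2 : 0 ≤ ∑ j ∈ S.erase i, (key j).2.2 * (key j).2.2 :=
          Finset.sum_nonneg fun _ _ => mul_self_nonneg _
        omega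
      · refine ih _ _ h.1 S (fun j hj => ?_) hout
        exact (List.mem_cons.1 (hS j hj)).resolve_left fun e => hex ⟨j, hj, e⟩

theorem mem_items_check : ∀ m ∈ ([1, -1, 2, -2] : List ℤ), ∀ d : ℕ, d < 39 → 2 ≤ d → 216 % d = 0 →
    ((d : ℤ) - m) % 7 = 0 → ∀ r : ℕ, r < 21 → (r : ℤ) - 10 ≠ d → ((r : ℤ) - 10).natAbs ≤ d →
      ((d : ℤ) - ((r : ℤ) - 10)) % 4 = 0 → (m, d, (r : ℤ) - 10) ∈ items := by
  decide +kernel

end Order1512Check

universe u

variable {G : Type u} [Group G] [Finite G] [IsSimpleGroup G]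

open Order1512Check in
/-- The involutions inverting elements of order seven have centralisers of order prime to three. -/
theorem three_not_dvd_1512 [Fact (Nat.Prime 7)] (hna : ¬ IsMulCommutative G)
    (h : Nat.card G = 1512) {P : Subgroup G}
    (hP : Nat.card P = 7) (hC : Nat.card (centralizer (P : Set G)) = 7)
    (hN : Nat.card (normalizer (P : Set G)) = 7 * (7 - 1)) {g u : G} (hg : orderOf g = 7)
    (hu : orderOf u = 2) (hinv : u * g * u⁻¹ = g⁻¹) :
    ¬ 3 ∣ Nat.card (centralizer ({u} : Set G)) := by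
  classical
  intro h3
  have := Fintype.ofFinite G
  have hG : Nat.card G = 7 * (7 - 1) * 36 := by rw [h]
  obtain ⟨m, hm1, hmsq, hmd, hmz, hminv⟩ :=
    exists_rational_mult hP hC hN hG (by norm_num) (by norm_num)
  set one : IrrCharacter G := ⟨fun _ => 1, Char.isIrrCharacter_one⟩ with hone
  choose d hd0 hd using fun χ : IrrCharacter G => Char.IsIrr.degree χ.2
  choose a ha using fun χ : IrrCharacter G =>
    exists_int_apply_involution (Char.IsIrr.isCharacter χ.2) hu
  have hd1 : d one = 1 := by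
    have h9 := hd one
    change (1 : ℂ) = _ at h9
    exact_mod_cast h9.symm
  have ha1 : a one = 1 := by
    have h9 := ha one
    change (1 : ℂ) = _ at h9
    exact_mod_cast h9.symm
  set J := Finset.univ.filter fun χ => m χ ≠ 0 ∧ χ ≠ one with hJ
  have hsplit : ∀ f : IrrCharacter G → ℂ, ∑ χ, (m χ : ℂ) * f χ =
      f one + ∑ χ ∈ J, (m χ : ℂ) * f χ := by
    intro f
    rw [← Finset.add_sum_erase _ _ (Finset.mem_univ one), hm1, Int.cast_one, one_mul]
    congr 1
    refine (Finset.sum_subset (fun χ hχ => Finset.mem_erase.2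
      ⟨(Finset.mem_filter.1 hχ).2.2, Finset.mem_univ _⟩) fun χ hχ hn' => ?_).symm
    have : m χ = 0 := by
      by_contra h0
      exact hn' (Finset.mem_filter.2 ⟨Finset.mem_univ _, h0, (Finset.mem_erase.1 hχ).1⟩)
    rw [this, Int.cast_zero, zero_mul]
  have hJsq : ∑ χ ∈ J, m χ ^ 2 = 6 := by
    have h9 := hsplit fun χ => (m χ : ℂ)
    simp only [hm1, Int.cast_one, ← sq] at h9
    have h8 : (∑ χ, m χ ^ 2 : ℤ) = 1 + ∑ χ ∈ J, m χ ^ 2 := by exact_mod_cast h9
    rw [hmsq] at h8
    push_cast at h8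
    linarith
  have hsum_le : ∀ f : IrrCharacter G → ℤ, (∀ χ, 0 ≤ f χ) → f one + ∑ χ ∈ J, f χ ≤ ∑ χ, f χ := by
    intro f hf
    rw [← Finset.add_sum_erase _ _ (Finset.mem_univ one)]
    have hle : ∑ χ ∈ J, f χ ≤ ∑ χ ∈ Finset.univ.erase one, f χ :=
      Finset.sum_le_sum_of_subset_of_nonneg (fun χ hχ => Finset.mem_erase.2
        ⟨(Finset.mem_filter.1 hχ).2.2, Finset.mem_univ _⟩) fun χ _ _ => hf χ
    linarith
  have hsq : ∑ χ ∈ J, (d χ : ℤ) * d χ ≤ 1511 := by
    have h9 := Char.sum_sq_degree (G := G)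
    simp only [hd, h, sq] at h9
    have h8 : ∑ χ, (d χ : ℤ) * d χ = 1512 := by exact_mod_cast h9
    have := hsum_le (fun χ => (d χ : ℤ) * d χ) fun χ => mul_self_nonneg _
    rw [h8, hd1] at this
    push_cast at this
    linarith
  obtain ⟨c, hc⟩ : ∃ c, Nat.card (centralizer ({u} : Set G)) = c := ⟨_, rfl⟩
  rw [hc] at h3
  have hqa : ∑ χ ∈ J, a χ * a χ < c := by
    have h9 := Char.second_orthogonality u u
    rw [if_pos (IsConj.refl u)] at h9
    simp only [ha, map_intCast] at h9
    have h8 : ∑ χ, a χ * a χ = (Nat.card (centralizer ({u} : Set G)) : ℤ) := by exact_mod_cast h9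
    have := hsum_le (fun χ => a χ * a χ) fun χ => mul_self_nonneg _
    rw [h8, hc, ha1] at this
    linarith
  have hcmem : c ∈ cents := by
    have hcd : c ∣ 1512 := by rw [← hc, ← h]; exact card_subgroup_dvd_card _
    have h2 : 2 ∣ c := by
      rw [← hc, ← hu]
      exact Subgroup.orderOf_dvd_natCard _ (mem_centralizer_singleton_iff.2 rfl)
    have h7 : ¬ 7 ∣ c := fun h7' => by
      obtain ⟨x, hx⟩ := exists_prime_orderOf_dvd_card'
        (G := centralizer ({u} : Set G)) 7 (hc.symm ▸ h7')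
      have hxG : orderOf (x : G) = 7 := (Subgroup.orderOf_coe x).trans hx
      have h9 := Subgroup.orderOf_dvd_natCard _
        (show u ∈ centralizer ({(x : G)} : Set G) from mem_centralizer_singleton_iff.2
          (mem_centralizer_singleton_iff.1 x.2).symm)
      rw [card_centralizer_orderOf hP hC hN hG (by norm_num) hxG, hu] at h9
      norm_num at h9
    have hne : centralizer ({u} : Set G) ≠ ⊤ := centralizer_ne_top hna fun e => by
      rw [e, orderOf_one] at hu; omega
    have hf := Nat.mod_eq_zero_of_dvd (two_mul_card_dvd hna _ hne)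
    have hmi := (centralizer ({u} : Set G)).card_mul_index
    rw [hc, h] at hmi
    rw [h, show (centralizer ({u} : Set G)).index = 1512 / c by
      rw [← hmi, Nat.mul_div_cancel_left _ (hc ▸ Nat.card_pos)]] at hf
    exact (show ∀ c ∈ Nat.divisors 1512, 2 ∣ c → 3 ∣ c → ¬ 7 ∣ c →
      (1512 / c ≤ 8 → (1512 / c).factorial % (2 * 1512) = 0) → c ∈ cents by decide +kernel) c
      (Nat.mem_divisors.2 ⟨hcd, by norm_num⟩) h2 h3 h7 fun _ => hf
  have hc108 : c ≤ 108 := (show ∀ c ∈ cents, c ≤ 108 by decide) c hcmem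
  let key : IrrCharacter G → ℤ × ℕ × ℤ := fun χ => (m χ, d χ, a χ)
  have hkey : ∀ χ ∈ J, key χ ∈ items := by
    intro χ hχ
    obtain ⟨-, hm0, hne⟩ := Finset.mem_filter.1 hχ
    have hm2 : m χ * m χ ≤ 6 := by
      have := Finset.single_le_sum (f := fun ψ => m ψ ^ 2) (fun _ _ => sq_nonneg _) hχ
      rw [hJsq] at this
      nlinarith
    have hmr : m χ ∈ ([1, -1, 2, -2] : List ℤ) := by
      have : -2 ≤ m χ ∧ m χ ≤ 2 := ⟨by nlinarith, by nlinarith⟩
      simp only [List.mem_cons, List.not_mem_nil, or_false]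
      omega
    have hdd := hmd χ (d χ) (hd χ)
    have hd2 : 2 ≤ d χ := by
      have := hd0 χ
      by_contra hlt
      exact hne (Subtype.ext (linear_trivial hna χ
        (by rw [hd, show d χ = 1 by omega, Nat.cast_one])))
    have hd39 : d χ < 39 := by
      have := Finset.single_le_sum (f := fun ψ => (d ψ : ℤ) * d ψ) (fun _ _ => mul_self_nonneg _) hχ
      nlinarith
    have hdvd : d χ ∣ 1512 := h ▸ Char.IsIrr.degree_dvd_card χ.2 (hd χ)
    have h216 : 216 % d χ = 0 := by
      refine Nat.mod_eq_zero_of_dvd (Nat.Coprime.dvd_of_dvd_mul_left ?_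
        (show d χ ∣ 7 * 216 from hdvd))
      refine Nat.Coprime.symm ((Nat.Prime.coprime_iff_not_dvd (by norm_num)).2 fun h7 => ?_)
      simp only [List.mem_cons, List.not_mem_nil, or_false] at hmr
      obtain ⟨q, hq⟩ := h7
      rw [hq] at hdd
      push_cast at hdd
      omega
    have ha2 : a χ * a χ < 108 := by
      have := Finset.single_le_sum (f := fun ψ => a ψ * a ψ) (fun _ _ => mul_self_nonneg _) hχ
      have : (c : ℤ) ≤ 108 := by exact_mod_cast hc108
      linarith
    obtain ⟨r, hr, hra⟩ : ∃ r : ℕ, r < 21 ∧ a χ = (r : ℤ) - 10 :=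
      ⟨(a χ + 10).toNat, by
        have : a χ ≤ 10 := by nlinarith
        omega, by
        have : -10 ≤ a χ := by nlinarith
        omega⟩
    have hker : a χ ≠ d χ := fun e => by
      have := (degree_facts hna χ fun e1 => hne (Subtype.ext e1)).2.2 u
        (by rw [ha, hd, e, Int.cast_natCast])
      rw [this, orderOf_one] at hu
      omega
    have habs := natAbs_apply_le (Char.IsIrr.isCharacter χ.2) (hd χ) (ha χ)
    have h4 := four_dvd_degree_sub_apply hna (Char.IsIrr.isCharacter χ.2) hu (hd χ) (ha χ)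
    show (m χ, d χ, a χ) ∈ items
    rw [hra] at hker habs h4 ⊢
    exact mem_items_check _ hmr _ hd39 hd2 h216 (Int.emod_eq_zero_of_dvd hdd) r hr hker habs
      (Int.emod_eq_zero_of_dvd h4)
  have hsx : ∑ χ ∈ J, m χ * (d χ : ℤ) = -1 := by
    have h9 := hsplit fun χ => (χ : G → ℂ) 1
    rw [hmz 1 (by simp)] at h9
    simp only [hd, hd1, Nat.cast_one] at h9
    have h8 : (0 : ℤ) = 1 + ∑ χ ∈ J, m χ * (d χ : ℤ) := by exact_mod_cast h9
    linarith
  have hsa : ∑ χ ∈ J, m χ * a χ = -1 := by
    have h9 := hsplit fun χ => (χ : G → ℂ) u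
    rw [hmz u (by rw [hu]; norm_num)] at h9
    simp only [ha, ha1, Int.cast_one] at h9
    have h8 : (0 : ℤ) = 1 + ∑ χ ∈ J, m χ * a χ := by exact_mod_cast h9
    linarith
  have hsv : 216 + ∑ χ ∈ J, m χ * (a χ * a χ) * ((216 / d χ : ℕ) : ℤ) = (c : ℤ) ^ 2 := by
    obtain ⟨k, -, hk, heq⟩ := hminv u hu
    rw [hk ⟨g, 1, hg, by rw [one_mul, inv_one, mul_one]; exact hinv⟩, hsplit, hc] at heq
    simp only [ha, hd, h, ha1, hd1] at heq
    push_cast at heq
    have h8 : ((216 + ∑ χ ∈ J, m χ * (a χ * a χ) * ((216 / d χ : ℕ) : ℤ) : ℤ) : ℂ) =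
        (((c : ℤ) ^ 2 : ℤ) : ℂ) := by
      simp only [Int.cast_add, Int.cast_sum, Int.cast_mul, Int.cast_pow, Int.cast_natCast,
        Int.cast_ofNat]
      have hterm : ∑ χ ∈ J, (m χ : ℂ) * ((a χ : ℂ) * (a χ : ℂ)) * (((216 / d χ : ℕ) : ℕ) : ℂ) =
          216 * ∑ χ ∈ J, (m χ : ℂ) * ((a χ : ℂ) ^ 2 / (d χ : ℂ)) := by
        rw [Finset.mul_sum]
        refine Finset.sum_congr rfl fun χ hχ => ?_
        have h216 : d χ ∣ 216 := by
          have := hkey χ hχ
          have hall : ∀ it ∈ items, 216 % it.2.1 = 0 := by decide +kernel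
          exact Nat.dvd_of_mod_eq_zero (hall _ this)
        rw [Nat.cast_div h216 (Nat.cast_ne_zero.2 (hd0 χ).ne')]
        push_cast
        ring
      rw [hterm]
      linear_combination (216 : ℂ) * heq
    exact_mod_cast h8
  have h9 := dfs_spec key 200 items _ dfs_true J hkey (by
    simp only [Order1512Check.out, total, key, hJsq, Bool.or_eq_false_iff, decide_eq_false_iff_not,
      not_lt, not_le, zero_add]
    refine ⟨⟨by norm_num, ?_⟩, ?_⟩
    · exact_mod_cast hsq
    · have : (c : ℤ) ≤ 108 := by exact_mod_cast hc108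
      linarith)
  simp only [Order1512Check.ok, total, key, hJsq, zero_add, hsx, hsa, hsv, sub_self, ne_eq,
    not_true_eq_false, or_self, decide_false, Bool.false_or, List.all_eq_true, decide_eq_true_eq,
    false_or] at h9
  have h10 := h9 c hcmem
  first
    | (rcases h10 with h10 | h10; exacts [h10 rfl, absurd h10 (not_le.2 hqa)])
    | exact absurd h10 (not_le.2 hqa)

theorem not_card_1512 (hna : ¬ IsMulCommutative G) : Nat.card G ≠ 1512 := by
  intro h
  classical
  have h7 : Fact (Nat.Prime 7) := ⟨by norm_num⟩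
  have : Fact (Nat.Prime 3) := ⟨Nat.prime_three⟩
  obtain ⟨S⟩ : Nonempty (Sylow 7 G) := Sylow.nonempty
  have hS := (card_sylow_eq_pow (a := 1) (m := 216) (by rw [h]; norm_num) (by norm_num) S).trans
    (pow_one 7)
  obtain ⟨x, hx, hn, hC, hN⟩ := of_survivorsIn hna h (by norm_num) (by norm_num) (by norm_num)
    (by norm_num) (S := [(5, 2), (5, 6)]) (by decide +kernel) S
  simp only [List.mem_cons, List.not_mem_nil, or_false] at hx
  rcases hx with rfl | rfl
  · -- the centraliser has a normal subgroup of order three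
    dsimp only at hn hC hN
    norm_num1 at hn hC hN
    obtain ⟨e, he⟩ : ∃ e, (centralizer (S : Set G)).relIndex (normalizer (S : Set G)) = e := ⟨_, rfl⟩
    have hSS : BlockThms.OrderP.Setup S e := ⟨hS, he⟩
    obtain ⟨K, -, -, -, hKN, hCK, -⟩ := hSS.exists_complement
    have hK : Nat.card K = 3 := by
      have : 21 = 7 * Nat.card K := hC.symm.trans hCK
      omega
    have hle : normalizer ((S : Subgroup G) : Set G) ≤ normalizer (K : Set G) := by
      intro g hg
      refine mem_normalizer_iff.2 fun c => ⟨hKN g hg c, fun hc => ?_⟩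
      have := hKN g⁻¹ (inv_mem hg) _ hc
      simpa [mul_assoc] using this
    obtain ⟨hd, hmod⟩ := index_mod_of_normalizer_le S hle
    rw [hn] at hd
    have h9 : 3 ^ 2 ∣ Nat.card (normalizer (K : Set G)) :=
      Sylow.prime_pow_dvd_card_normalizer (n := 1) (by rw [h]; norm_num) (by rw [hK]; norm_num)
    have h42 := card_dvd_of_le hle
    rw [hN] at h42
    obtain ⟨c, hc⟩ : 126 ∣ Nat.card (normalizer (K : Set G)) := by omega
    have hidx := (normalizer (K : Set G)).card_mul_index
    rw [hc, h] at hidx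
    have h12 : (normalizer (K : Set G)).index ∣ 12 := Dvd.intro_left c (by linarith)
    have h12' := Nat.le_of_dvd (by norm_num) h12
    have hone : (normalizer (K : Set G)).index = 1 :=
      (show ∀ i < 13, i ∣ 12 → i % 7 = 1 → i = 1 by decide +kernel) _ (by omega) h12 hmod
    refine normalizer_sub_ne_top (fun e => ?_) (fun e => ?_) (index_eq_one.1 hone)
    · rw [e, card_bot] at hK; norm_num at hK
    · rw [e, card_top, h] at hK; norm_num at hK
  dsimp only at hC hN
  norm_num1 at hC hN
  set P : Subgroup G := (S : Subgroup G) with hPdef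
  have hC' : Nat.card (centralizer (P : Set G)) = 7 := hC
  have hN' : Nat.card (normalizer (P : Set G)) = 7 * (7 - 1) := by rw [hN]
  have hsurj := normalizerMonoidHom_surjective (P := P) hS hC' hN'
  have hcyc : IsCyclic P := isCyclic_of_prime_card hS
  have : IsCyclic (MulAut P) := by
    rw [(IsCyclic.mulAutMulEquiv P).isCyclic, show Nat.card P = 7 from hS]
    exact ZMod.isCyclic_units_prime Fact.out
  obtain ⟨σ, hσ⟩ := IsCyclic.exists_generator (α := MulAut P)
  have hσo : orderOf σ = 6 :=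
    (orderOf_eq_card_of_forall_mem_zpowers hσ).trans (card_mulAut_of_prime hS)
  obtain ⟨w, hw⟩ := hsurj σ
  have h6 : 6 ∣ orderOf (w : G) := by
    rw [← hσo, ← hw, Subgroup.orderOf_coe]
    exact orderOf_map_dvd _ _
  obtain ⟨j, hj⟩ := h6
  have hj0 : j ≠ 0 := by
    rintro rfl
    exact (orderOf_pos (w : G)).ne' (by rw [hj, mul_zero])
  set v := w ^ j with hv
  have hvo : orderOf (v : G) = 6 := by
    rw [hv, SubmonoidClass.coe_pow, orderOf_pow' _ hj0, hj, Nat.gcd_mul_left_left,
      Nat.mul_div_cancel _ (Nat.pos_of_ne_zero hj0)]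
  set u : G := (v : G) ^ 3 with hu
  have huo : orderOf u = 2 := by rw [hu, orderOf_pow' _ (by norm_num), hvo]; rfl
  have hv2 : orderOf ((v : G) ^ 2) = 3 := by rw [orderOf_pow' _ (by norm_num), hvo]; rfl
  obtain ⟨y, hy, hyP⟩ := exists_orderOf_zpowers S hS
  have huN : u ∈ normalizer (P : Set G) := by rw [hu]; exact pow_mem v.2 3
  have hinv : u * y * u⁻¹ = y⁻¹ := by
    have hyz : zpowers y = P := hyP
    obtain ⟨i, hi⟩ := mem_zpowers_iff.1
      (hyz.ge ((mem_normalizer_iff.1 huN y).1 (hyz.le (mem_zpowers y))))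
    have huu : u * u = 1 := by
      have := pow_orderOf_eq_one u
      rwa [huo, sq] at this
    have h1 : y ^ (i * i) = y := by
      rw [zpow_mul, hi, conj_zpow, hi]
      calc u * (u * y * u⁻¹) * u⁻¹ = u * u * y * (u * u)⁻¹ := by group
        _ = y := by rw [huu]; simp
    have h2 : ((7 : ℕ) : ℤ) ∣ (i - 1) * (i + 1) := by
      rw [← hy, orderOf_dvd_iff_zpow_eq_one, show (i - 1) * (i + 1) = i * i - 1 by ring, zpow_sub,
        h1, zpow_one, mul_inv_cancel]
    rcases (Nat.prime_iff_prime_int.1 (by norm_num : Nat.Prime 7)).dvd_mul.1 h2 with h3 | h3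
    · exfalso
      rw [← hy, orderOf_dvd_iff_zpow_eq_one, zpow_sub, hi, zpow_one, mul_inv_eq_one] at h3
      have hmem : u ∈ centralizer (P : Set G) := by
        rw [← hyz, centralizer_zpowers_eq, mem_centralizer_singleton_iff]
        exact mul_inv_eq_iff_eq_mul.1 h3
      have := Subgroup.orderOf_dvd_natCard _ hmem
      rw [huo, hC'] at this
      norm_num at this
    · rw [← hy, orderOf_dvd_iff_zpow_eq_one, zpow_add, hi, zpow_one] at h3
      exact eq_inv_of_mul_eq_one_left h3
  refine three_not_dvd_1512 hna h (P := P) hS hC' hN' hy huo hinv ?_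
  rw [← hv2]
  refine Subgroup.orderOf_dvd_natCard _ (mem_centralizer_singleton_iff.2 ?_)
  rw [hu, ← pow_add, ← pow_add]

end Cfsg.Agent.SmallOrder
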