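import Cfsg.Agent.SmallOrder.Special6232
import Cfsg.Agent.SmallOrder.Exclude1092
import Cfsg.Agent.Fusion.PGroup

/-!
# The orders 1680, 2160 and 3360
-/

set_option autoImplicit false
set_option maxRecDepth 4000
set_option synthInstance.maxSize 5000

namespace Cfsg.Agent.SmallOrder

open Subgroup

universe u

variable {G : Type u} [Group G] [Finite G]

/-- A Sylow subgroup inside the normaliser of another one equals it. -/
theorem sylow_eq_of_le_normalizer {p : ℕ} [Fact p.Prime] {P Q : Sylow p G}
    (h : (Q : Subgroup G) ≤ normalizer ((P : Subgroup G) : Set G)) : Q = P := by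
  have h1 : (Q : Subgroup G) ⊓ normalizer ((P : Subgroup G) : Set G) = (Q : Subgroup G) ⊓ P :=
    IsPGroup.inf_normalizer_sylow Q.isPGroup' P
  exact Sylow.ext (Q.is_maximal' P.isPGroup' (inf_eq_left.1 (h1.symm.trans (inf_eq_left.2 h)))).symm

/-- When `C(Q)` has only one Sylow `p`-subgroup `P`, the normaliser of `Q` normalises `P`. -/
theorem normalizer_le_normalizer_of_unique {p : ℕ} [Fact p.Prime] {Q : Subgroup G} {P : Sylow p G}
    (hP : (P : Subgroup G) ≤ centralizer (Q : Set G))
    (h1 : Nat.card (Sylow p (centralizer (Q : Set G))) = 1) :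
    normalizer (Q : Set G) ≤ normalizer ((P : Subgroup G) : Set G) := by
  intro g hg
  have hgP : ((g • P : Sylow p G) : Subgroup G) ≤ centralizer (Q : Set G) := by
    rw [Sylow.coe_subgroup_smul]
    rintro _ ⟨x, hx, rfl⟩
    refine mem_centralizer_iff.2 fun q hq => ?_
    have h2 := mem_centralizer_iff.1 (hP hx) _ ((mem_normalizer_iff''.1 hg q).1 hq)
    show q * (g * x * g⁻¹) = g * x * g⁻¹ * q
    calc q * (g * x * g⁻¹) = g * (g⁻¹ * q * g * x) * g⁻¹ := by group
      _ = g * (x * (g⁻¹ * q * g)) * g⁻¹ := by rw [h2]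
      _ = g * x * g⁻¹ * q := by group
  have : Subsingleton (Sylow p (centralizer (Q : Set G))) :=
    (Nat.card_eq_one_iff_unique.1 h1).1
  exact Sylow.smul_eq_iff_mem_normalizer.1
    (Sylow.subtype_injective (Subsingleton.elim ((g • P).subtype hgP) (P.subtype hP)))

/-- The number of Sylow subgroups of a subgroup and the normaliser in it. -/
theorem card_sylow_subtype_mul {p : ℕ} [Fact p.Prime] {H : Subgroup G} {P : Sylow p G}
    (hP : (P : Subgroup G) ≤ H) :
    Nat.card (Sylow p H) * Nat.card ↥(normalizer ((P : Subgroup G) : Set G) ⊓ H) = Nat.card H := by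
  have h1 := card_sylow_mul_card_normalizer (P.subtype hP)
  have h2 : normalizer (((P.subtype hP : Sylow p H) : Subgroup H) : Set H) =
      (normalizer ((P : Subgroup G) : Set G) ⊓ H).subgroupOf H := by
    show normalizer (((P : Subgroup G).subgroupOf H : Subgroup H) : Set H) = _
    rw [← subgroupOf_normalizer_eq hP, inf_subgroupOf_right]
  rwa [h2, Nat.card_congr (subgroupOfEquivOfLe inf_le_right).toEquiv] at h1

open scoped Classical in
/-- Elements of order divisible by `p`, for Sylow subgroups of order `p`. -/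
theorem mul_le_card_dvd_orderOf {p c : ℕ} [hp : Fact p.Prime] (hc : ¬ p ∣ c)
    (hP : ∀ P : Sylow p G, Nat.card (P : Subgroup G) = p)
    (hC : ∀ P : Sylow p G, Nat.card (centralizer ((P : Subgroup G) : Set G)) = p * c) :
    Nat.card (Sylow p G) * ((p - 1) * c) ≤ Nat.card {g : G // p ∣ orderOf g} := by
  have hK : ∀ P : Sylow p G, ∃ K : Subgroup G, K ≤ centralizer ((P : Subgroup G) : Set G) ∧
      Nat.card K = c := by
    intro P
    set C := centralizer ((P : Subgroup G) : Set G) with hCdef
    have : IsCyclic (P : Subgroup G) := isCyclic_of_prime_card (hP P)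
    have hPC : (P : Subgroup G) ≤ C := le_centralizer _
    have hn : ((P : Subgroup G).subgroupOf C).Normal := ⟨fun x hx g => by
      show (g : G) * x * (g : G)⁻¹ ∈ (P : Subgroup G)
      rw [← mem_centralizer_iff.1 g.2 x hx, mul_inv_cancel_right]
      exact hx⟩
    have hcard : Nat.card ((P : Subgroup G).subgroupOf C) = p := by
      rw [Nat.card_congr (subgroupOfEquivOfLe hPC).toEquiv, hP]
    have hidx : ((P : Subgroup G).subgroupOf C).index = c := by
      have := ((P : Subgroup G).subgroupOf C).card_mul_index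
      rw [hcard, hC] at this
      exact Nat.eq_of_mul_eq_mul_left hp.out.pos this
    obtain ⟨K, hK⟩ := Subgroup.exists_right_complement'_of_coprime
      (N := (P : Subgroup G).subgroupOf C)
      (by rw [hcard, hidx]; exact hp.out.coprime_iff_not_dvd.2 hc)
    refine ⟨K.map C.subtype, map_subtype_le _, ?_⟩
    have := hK.card_mul
    rw [hcard, hC] at this
    rw [card_map_of_injective C.subtype_injective]
    exact Nat.eq_of_mul_eq_mul_left hp.out.pos this
  choose K hKC hKc using hK
  have hcomm : ∀ (P : Sylow p G) (x : (P : Subgroup G)) (k : K P), Commute (x : G) (k : G) :=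
    fun P x k => mem_centralizer_iff.1 (hKC P k.2) x x.2
  have hord : ∀ (P : Sylow p G) (x : (P : Subgroup G)), x ≠ 1 → orderOf (x : G) = p :=
    fun P x hx => ((Nat.dvd_prime hp.out).1
      ((Subgroup.orderOf_dvd_natCard _ x.2).trans (hP P).dvd)).resolve_left
        fun h => hx (Subtype.ext (orderOf_eq_one_iff.1 h))
  have hpow : ∀ (P : Sylow p G) (x : (P : Subgroup G)) (k : K P),
      ((x : G) * k) ^ c = (x : G) ^ c := fun P x k => by
    have hk : (k : G) ^ c = 1 :=
      orderOf_dvd_iff_pow_eq_one.1 (hKc P ▸ Subgroup.orderOf_dvd_natCard _ k.2)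
    rw [(hcomm P x k).mul_pow, hk, mul_one]
  have hne : ∀ (P : Sylow p G) (x : (P : Subgroup G)), x ≠ 1 → (x : G) ^ c ≠ 1 := fun P x hx h =>
    hc ((hord P x hx).symm.dvd.trans (orderOf_dvd_of_pow_eq_one h))
  let F : (Σ P : Sylow p G, {x : (P : Subgroup G) // x ≠ 1} × K P) → {g : G // p ∣ orderOf g} :=
    fun z => ⟨(z.2.1.1 : G) * z.2.2, by
      by_contra hnd
      have h1 : ((z.2.1.1 : G) * z.2.2) ^ c ≠ 1 := by
        rw [hpow]; exact hne _ _ z.2.1.2
      have h2 : orderOf (((z.2.1.1 : G) * z.2.2) ^ c) = p := by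
        refine ((Nat.dvd_prime hp.out).1 ?_).resolve_left fun h => h1 (orderOf_eq_one_iff.1 h)
        rw [hpow]
        exact (orderOf_pow_dvd c).trans (hord _ _ z.2.1.2).dvd
      exact hnd (h2.symm.dvd.trans (orderOf_pow_dvd c))⟩
  have hF : Function.Injective F := by
    rintro ⟨P, x, k⟩ ⟨Q, y, l⟩ h
    have h0 : (x.1 : G) * k = (y.1 : G) * l := congrArg Subtype.val h
    have h1 : (x.1 : G) ^ c = (y.1 : G) ^ c := by rw [← hpow P x.1 k, ← hpow Q y.1 l, h0]
    have hgen : ∀ (R : Sylow p G) (w : (R : Subgroup G)), w ≠ 1 →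
        zpowers ((w : G) ^ c) = (R : Subgroup G) := fun R w hw =>
      eq_of_le_of_card_ge (zpowers_le.2 (pow_mem w.2 c)) (by
        rw [hP, Nat.card_zpowers]
        refine le_of_eq ?_
        rw [orderOf_pow, hord R w hw, Nat.Coprime.gcd_eq_one (hp.out.coprime_iff_not_dvd.2 hc),
          Nat.div_one])
    obtain rfl : P = Q := Sylow.ext (by rw [← hgen P x.1 x.2, ← hgen Q y.1 y.2, h1])
    have hxy : (x.1 : G) = y.1 := by
      have h2 : ((x.1 : G) * (y.1 : G)⁻¹) ^ c = 1 := by
        have hcm : Commute (x.1 : G) (y.1 : G)⁻¹ := by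
          have : IsCyclic (P : Subgroup G) := isCyclic_of_prime_card (hP P)
          exact (mem_centralizer_iff.1 ((P : Subgroup G).le_centralizer (inv_mem y.1.2)) _ x.1.2)
        rw [hcm.mul_pow, inv_pow, h1, mul_inv_cancel]
      by_contra hxy
      refine hne P (x.1 * y.1⁻¹) (fun e => hxy ?_) h2
      rw [mul_inv_eq_one] at e
      rw [e]
    obtain rfl : x = y := Subtype.ext (Subtype.ext hxy)
    obtain rfl : k = l := Subtype.ext (mul_left_cancel h0)
    rfl
  have := Fintype.ofFinite (Sylow p G)
  refine le_of_eq_of_le ?_ (Nat.card_le_card_of_injective F hF)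
  have hsum : ∀ P : Sylow p G, Nat.card ({x : (P : Subgroup G) // x ≠ 1} × K P) = (p - 1) * c := by
    intro P
    have := Fintype.ofFinite (P : Subgroup G)
    rw [Nat.card_prod, hKc, Nat.card_eq_fintype_card, Fintype.card_subtype_compl,
      Fintype.card_subtype_eq, ← Nat.card_eq_fintype_card, hP]
  rw [Nat.card_sigma, Finset.sum_congr rfl (fun P _ => hsum P), Finset.sum_const,
    Finset.card_univ, smul_eq_mul, Nat.card_eq_fintype_card (α := Sylow p G)]

variable [IsSimpleGroup G]

/-- An element of order three centralising a Sylow five-subgroup, as a Sylow three-subgroup. -/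
theorem exists_three_of_centralizer {m : ℕ} [Fact (Nat.Prime 3)] (hG : Nat.card G = 3 * m)
    (hm : ¬ 3 ∣ m) {P : Subgroup G} (h : 3 ∣ Nat.card (centralizer (P : Set G))) :
    ∃ Q : Sylow 3 G, P ≤ centralizer ((Q : Subgroup G) : Set G) ∧
      (Q : Subgroup G) ≤ centralizer (P : Set G) := by
  obtain ⟨u, hu⟩ := exists_prime_orderOf_dvd_card' (G := centralizer (P : Set G)) 3 h
  obtain ⟨Q, hQ⟩ := exists_sylow_eq_zpowers hG hm (u := (u : G)) (by rw [Subgroup.orderOf_coe, hu])
  have hQC : (Q : Subgroup G) ≤ centralizer (P : Set G) := hQ ▸ zpowers_le.2 u.2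
  exact ⟨Q, le_centralizer_iff.1 hQC, hQC⟩

theorem not_card_1680 (hna : ¬ IsMulCommutative G) : Nat.card G ≠ 1680 := by
  intro h
  classical
  have : Fact (Nat.Prime 7) := ⟨by norm_num⟩
  have : Fact (Nat.Prime 5) := ⟨by norm_num⟩
  have : Fact (Nat.Prime 3) := ⟨Nat.prime_three⟩
  have : Fact (Nat.Prime 2) := ⟨Nat.prime_two⟩
  obtain ⟨P7⟩ : Nonempty (Sylow 7 G) := Sylow.nonempty
  obtain ⟨x, hx, -, hC7, hN7⟩ := of_survivorsIn hna h (by norm_num) (by norm_num) (by norm_num)
    (by norm_num) (S := [(17, 2)]) (by decide +kernel) P7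
  rw [List.mem_singleton.1 hx] at hC7 hN7
  dsimp only at hC7 hN7
  norm_num1 at hC7 hN7
  have hsmall : ∀ u : G, orderOf u = 2 → Nat.card (centralizer ({u} : Set G)) ≤ 43 := by
    intro u hu
    have h1 := centralizer_involution_sq_le (P := (P7 : Subgroup G)) (by norm_num : 7 ≠ 2) (n := 120)
      ((card_sylow_eq_pow (a := 1) (m := 240) (by rw [h]; norm_num) (by norm_num) P7).trans
        (pow_one 7)) hC7 (by rw [hN7]) (by rw [h]) hu
    nlinarith
  obtain ⟨P⟩ : Nonempty (Sylow 5 G) := Sylow.nonempty
  have hPc := (card_sylow_eq_pow (a := 1) (m := 336) (by rw [h]; norm_num) (by norm_num) P).trans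
    (pow_one 5)
  obtain ⟨y, hy, -, hC, hN⟩ := of_survivorsIn hna h (by norm_num) (by norm_num) (by norm_num)
    (by norm_num) (S := [(4, 4), (11, 2)]) (by decide +kernel) P
  simp only [List.mem_cons, List.not_mem_nil, or_false] at hy
  set N := normalizer ((P : Subgroup G) : Set G) with hNdef
  set C := centralizer ((P : Subgroup G) : Set G) with hCdef
  rcases hy with rfl | rfl
  · -- an involution with a large centraliser
    dsimp only at hC hN
    norm_num1 at hC hN
    obtain ⟨S⟩ : Nonempty (Sylow 2 N) := Sylow.nonempty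
    have hS := card_sylow_eq_pow (a := 4) (m := 5) (by rw [hN]; norm_num) (by norm_num) S
    set S' := (S : Subgroup N).map N.subtype with hS'
    have hS'c : Nat.card S' = 16 := by
      rw [hS', card_map_of_injective N.subtype_injective, hS]; norm_num
    have hCN : C ≤ N := centralizer_le_normalizer _
    have : (C.subgroupOf N).Normal := by
      rw [hCdef, hNdef, ← normalizerMonoidHom_ker]
      infer_instance
    have hne : (C.subgroupOf N).subgroupOf (S : Subgroup N) ≠ ⊥ := by
      intro hb
      have h1 : ((C.subgroupOf N).subgroupOf (S : Subgroup N)).index ∣ (C.subgroupOf N).index :=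
        relIndex_dvd_index_of_normal _ _
      rw [hb, index_bot, hS] at h1
      have h2 := (C.subgroupOf N).card_mul_index
      rw [Nat.card_congr (subgroupOfEquivOfLe hCN).toEquiv, hC, hN] at h2
      rw [show (C.subgroupOf N).index = 4 by omega] at h1
      norm_num at h1
    obtain ⟨Z, hZC, hZ, -, hZc⟩ := Fusion.exists_central_card_prime S.isPGroup'
      ((C.subgroupOf N).subgroupOf (S : Subgroup N)) hne
    obtain ⟨z, hz⟩ := exists_prime_orderOf_dvd_card' (G := Z) 2 hZc.symm.dvd
    set u : G := (((z : (S : Subgroup N)) : N) : G) with hu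
    have huo : orderOf u = 2 := by
      rw [hu, Subgroup.orderOf_coe, Subgroup.orderOf_coe, Subgroup.orderOf_coe, hz]
    have huS : S' ≤ centralizer ({u} : Set G) := by
      rintro _ ⟨s, hs, rfl⟩
      refine mem_centralizer_singleton_iff.2 ?_
      exact congrArg (fun w : (S : Subgroup N) => ((w : N) : G)) (mem_center_iff.1 (hZ z.2) ⟨s, hs⟩)
    have huP : (P : Subgroup G) ≤ centralizer ({u} : Set G) := fun a ha =>
      mem_centralizer_singleton_iff.2 (mem_centralizer_iff.1 (hZC z.2) a ha)
    have h80 : 80 ∣ Nat.card (centralizer ({u} : Set G)) :=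
      Nat.Coprime.mul_dvd_of_dvd_of_dvd (show Nat.Coprime 16 5 by norm_num)
        (hS'c.symm.dvd.trans (card_dvd_of_le huS)) (hPc.symm.dvd.trans (card_dvd_of_le huP))
    have := Nat.le_of_dvd Nat.card_pos h80
    have := hsmall u huo
    omega
  · -- a Sylow three-subgroup centralised by `P`
    dsimp only at hC hN
    norm_num1 at hC hN
    obtain ⟨Q, hPQ, hQP⟩ := exists_three_of_centralizer (m := 560) (by rw [h]) (by norm_num)
      (P := (P : Subgroup G)) (by rw [hC]; norm_num)
    have hQc := (card_sylow_eq_pow (a := 1) (m := 560) (by rw [h]; norm_num) (by norm_num) Q).trans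
      (pow_one 3)
    obtain ⟨z, hz, -, hCQ, hNQ⟩ := of_survivorsIn hna h (by norm_num) (by norm_num) (by norm_num)
      (by norm_num) (S := [(9, 2), (13, 2), (23, 2), (93, 2)]) (by decide +kernel) Q
    simp only [List.mem_cons, List.not_mem_nil, or_false] at hz
    have h5 := card_dvd_of_le hPQ
    rw [hPc, hCQ] at h5
    obtain rfl : z = (9, 2) := by
      rcases hz with rfl | rfl | rfl | rfl <;> first | rfl | norm_num at h5
    dsimp only at hCQ hNQ
    norm_num1 at hCQ hNQ
    have h15 : 15 ∣ Nat.card ↥(normalizer ((P : Subgroup G) : Set G) ⊓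
        centralizer ((Q : Subgroup G) : Set G)) := by
      refine Nat.Coprime.mul_dvd_of_dvd_of_dvd (show Nat.Coprime 3 5 by norm_num) ?_ ?_
      · have : IsCyclic (Q : Subgroup G) := isCyclic_of_prime_card hQc
        exact hQc.symm.dvd.trans (card_dvd_of_le (le_inf (hQP.trans (centralizer_le_normalizer _))
          (Q : Subgroup G).le_centralizer))
      · exact hPc.symm.dvd.trans (card_dvd_of_le (le_inf le_normalizer hPQ))
    have h6 := card_sylow_subtype_mul hPQ
    have hmod := card_sylow_mod (G := centralizer ((Q : Subgroup G) : Set G)) 5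
    rw [hCQ] at h6
    obtain ⟨a, ha⟩ := h15
    rw [ha] at h6
    have hn1 : Nat.card (Sylow 5 (centralizer ((Q : Subgroup G) : Set G))) = 1 := by
      have h7 : Nat.card (Sylow 5 (centralizer ((Q : Subgroup G) : Set G))) * a = 2 := by linarith
      have := Nat.le_of_dvd (by norm_num) (Dvd.intro _ h7)
      omega
    have := card_dvd_of_le (normalizer_le_normalizer_of_unique hPQ hn1)
    rw [← hNdef, hNQ, hN] at this
    norm_num at this

theorem not_card_3360 (hna : ¬ IsMulCommutative G) : Nat.card G ≠ 3360 := by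
  intro h
  classical
  have : Fact (Nat.Prime 7) := ⟨by norm_num⟩
  have : Fact (Nat.Prime 5) := ⟨by norm_num⟩
  have : Fact (Nat.Prime 3) := ⟨Nat.prime_three⟩
  have hc3 := fun P : Sylow 3 G =>
    (card_sylow_eq_pow (a := 1) (m := 1120) (by rw [h]; norm_num) (by norm_num) P).trans (pow_one 3)
  have hc5 := fun P : Sylow 5 G =>
    (card_sylow_eq_pow (a := 1) (m := 672) (by rw [h]; norm_num) (by norm_num) P).trans (pow_one 5)
  have hc7 := fun P : Sylow 7 G =>
    (card_sylow_eq_pow (a := 1) (m := 480) (by rw [h]; norm_num) (by norm_num) P).trans (pow_one 7)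
  have h7 : ∀ P : Sylow 7 G, Nat.card (centralizer ((P : Subgroup G) : Set G)) = 7 * 2 ∧
      Nat.card (Sylow 7 G) = 120 := by
    intro P
    obtain ⟨x, hx, hn, hC, -⟩ := of_survivorsIn hna h (by norm_num) (by norm_num) (by norm_num)
      (by norm_num) (S := [(17, 2)]) (by decide +kernel) P
    rw [List.mem_singleton.1 hx] at hn hC
    exact ⟨hC, hn⟩
  have h3 : ∀ P : Sylow 3 G, ∃ z ∈ [(9, 2), (13, 2), (23, 2), (37, 2), (93, 2)],
      Nat.card (Sylow 3 G) = 1 + 3 * z.1 ∧
      Nat.card (centralizer ((P : Subgroup G) : Set G)) = 3 * (3360 / 3 / (1 + 3 * z.1) / z.2) ∧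
      Nat.card (normalizer ((P : Subgroup G) : Set G)) = 3 * (3360 / 3 / (1 + 3 * z.1)) :=
    fun P => of_survivorsIn hna h (by norm_num) (by norm_num) (by norm_num)
      (by norm_num) (by decide +kernel) P
  obtain ⟨P⟩ : Nonempty (Sylow 5 G) := Sylow.nonempty
  obtain ⟨y, hy, hn, hC, hN⟩ := of_survivorsIn hna h (by norm_num) (by norm_num) (by norm_num)
    (by norm_num) (S := [(11, 4), (67, 2)]) (by decide +kernel) P
  simp only [List.mem_cons, List.not_mem_nil, or_false] at hy
  rcases hy with rfl | rfl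
  · dsimp only at hC hN
    norm_num1 at hC hN
    obtain ⟨Q, hPQ, hQP⟩ := exists_three_of_centralizer (m := 1120) (by rw [h]) (by norm_num)
      (P := (P : Subgroup G)) (by rw [hC]; norm_num)
    obtain ⟨z, hz, -, hCQ, hNQ⟩ := h3 Q
    have h5 := card_dvd_of_le hPQ
    rw [hc5, hCQ] at h5
    simp only [List.mem_cons, List.not_mem_nil, or_false] at hz
    have hz' : z = (9, 2) ∨ z = (37, 2) := by
      rcases hz with rfl | rfl | rfl | rfl | rfl <;> first | (left; rfl) | (right; rfl) | (dsimp only at h5; norm_num at h5)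
    rcases hz' with rfl | rfl
    · dsimp only at hCQ hNQ
      norm_num1 at hCQ hNQ
      have h15 : 15 ∣ Nat.card ↥(normalizer ((P : Subgroup G) : Set G) ⊓
          centralizer ((Q : Subgroup G) : Set G)) := by
        refine Nat.Coprime.mul_dvd_of_dvd_of_dvd (show Nat.Coprime 3 5 by norm_num) ?_ ?_
        · have : IsCyclic (Q : Subgroup G) := isCyclic_of_prime_card (hc3 Q)
          exact (hc3 Q).symm.dvd.trans (card_dvd_of_le (le_inf (hQP.trans (centralizer_le_normalizer _))
            (Q : Subgroup G).le_centralizer))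
        · exact (hc5 P).symm.dvd.trans (card_dvd_of_le (le_inf le_normalizer hPQ))
      have h6 := card_sylow_subtype_mul hPQ
      have hmod := card_sylow_mod (G := centralizer ((Q : Subgroup G) : Set G)) 5
      rw [hCQ] at h6
      obtain ⟨a, ha⟩ := h15
      rw [ha] at h6
      have hn1 : Nat.card (Sylow 5 (centralizer ((Q : Subgroup G) : Set G))) = 1 := by
        have h8 : Nat.card (Sylow 5 (centralizer ((Q : Subgroup G) : Set G))) * a = 4 := by linarith
        have := Nat.le_of_dvd (by norm_num) (Dvd.intro _ h8)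
        omega
      have := card_dvd_of_le (normalizer_le_normalizer_of_unique hPQ hn1)
      rw [hNQ, hN] at this
      norm_num at this
    · dsimp only at hCQ hNQ
      norm_num1 at hCQ hNQ
      have hn1 : Nat.card (Sylow 3 (centralizer ((P : Subgroup G) : Set G))) = 1 := by
        have h8 := card_sylow_dvd (G := centralizer ((P : Subgroup G) : Set G)) (p := 3) (a := 1)
          (m := 5) (by rw [hC]; norm_num) (by norm_num)
        have hmod := card_sylow_mod (G := centralizer ((P : Subgroup G) : Set G)) 3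
        have := Nat.le_of_dvd (by norm_num) h8
        rcases (Nat.dvd_prime (by norm_num : Nat.Prime 5)).1 h8 with e | e <;> omega
      have := card_dvd_of_le (normalizer_le_normalizer_of_unique hQP hn1)
      rw [hNQ, hN] at this
      norm_num at this
  · -- too many elements
    dsimp only at hn hC hN
    norm_num at hn
    have h5 : ∀ P : Sylow 5 G, Nat.card (centralizer ((P : Subgroup G) : Set G)) = 5 * 1 := by
      intro P'
      obtain ⟨y, hy, hn', hC', -⟩ := of_survivorsIn hna h (by norm_num) (by norm_num) (by norm_num)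
        (by norm_num) (S := [(11, 4), (67, 2)]) (by decide +kernel) P'
      simp only [List.mem_cons, List.not_mem_nil, or_false] at hy
      rcases hy with rfl | rfl
      · omega
      · rw [hC']
        norm_num
    -- no element of order three commutes with one of order five or seven
    have hex : ∀ (g : G) (q r : ℕ) [Fact q.Prime], Nat.Prime r → q ∣ orderOf g → r ∣ orderOf g →
        q ≠ r → ∀ m, Nat.card G = q * m → ¬ q ∣ m →
          ∃ P : Sylow q G, r ∣ Nat.card (centralizer ((P : Subgroup G) : Set G)) := by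
      intro g q r hqf hr hq hrg hne m hG hm
      obtain ⟨Q, hQ⟩ := exists_sylow_eq_zpowers hG hm (u := g ^ (orderOf g / q))
        (orderOf_pow_orderOf_div (orderOf_pos g).ne' hq)
      refine ⟨Q, ?_⟩
      have hmem : g ∈ centralizer ((Q : Subgroup G) : Set G) := by
        rw [hQ, centralizer_zpowers_eq, mem_centralizer_singleton_iff]
        exact Commute.self_pow g _
      exact hrg.trans (Subgroup.orderOf_dvd_natCard _ hmem)
    have h37 : ∀ g : G, ¬ (3 ∣ orderOf g ∧ 7 ∣ orderOf g) := by
      rintro g ⟨a, b⟩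
      obtain ⟨Q, hQ⟩ := hex g 7 3 Nat.prime_three b a (by norm_num) 480 (by rw [h]) (by norm_num)
      rw [(h7 Q).1] at hQ
      norm_num at hQ
    have h57 : ∀ g : G, ¬ (5 ∣ orderOf g ∧ 7 ∣ orderOf g) := by
      rintro g ⟨a, b⟩
      obtain ⟨Q, hQ⟩ := hex g 7 5 (by norm_num) b a (by norm_num) 480 (by rw [h]) (by norm_num)
      rw [(h7 Q).1] at hQ
      norm_num at hQ
    have h35 : ∀ g : G, ¬ (3 ∣ orderOf g ∧ 5 ∣ orderOf g) := by
      rintro g ⟨a, b⟩
      obtain ⟨Q, hQ⟩ := hex g 5 3 Nat.prime_three b a (by norm_num) 672 (by rw [h]) (by norm_num)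
      rw [h5 Q] at hQ
      norm_num at hQ
    obtain ⟨Q⟩ : Nonempty (Sylow 3 G) := Sylow.nonempty
    obtain ⟨z, hz, hn3, -, -⟩ := h3 Q
    have hz' : z = (23, 2) ∨ z = (93, 2) := by
      have h5' : ∀ r ∈ [5, 7], r ∣ Nat.card (centralizer ((Q : Subgroup G) : Set G)) → False := by
        intro r hr hd
        have : Fact r.Prime := ⟨by simp at hr; rcases hr with rfl | rfl <;> norm_num⟩
        obtain ⟨u, hu⟩ := exists_prime_orderOf_dvd_card'
          (G := centralizer ((Q : Subgroup G) : Set G)) r hd
        obtain ⟨w, hw, hwQ⟩ := exists_orderOf_zpowers Q (hc3 Q)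
        have hcomm : Commute w (u : G) :=
          mem_centralizer_iff.1 u.2 w (hwQ ▸ mem_zpowers w)
        have ho : orderOf (w * (u : G)) = 3 * r := by
          rw [hcomm.orderOf_mul_eq_mul_orderOf_of_coprime (by
            rw [hw, Subgroup.orderOf_coe, hu]
            simp at hr
            rcases hr with rfl | rfl <;> norm_num), hw, Subgroup.orderOf_coe, hu]
        simp at hr
        rcases hr with rfl | rfl
        · exact h35 (w * (u : G)) ⟨ho ▸ dvd_mul_right 3 5, ho ▸ dvd_mul_left 5 3⟩
        · exact h37 (w * (u : G)) ⟨ho ▸ dvd_mul_right 3 7, ho ▸ dvd_mul_left 7 3⟩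
      obtain ⟨z', hz2, hn3', hC3, -⟩ := h3 Q
      simp only [List.mem_cons, List.not_mem_nil, or_false] at hz hz2
      have he : z' = z := by
        rcases hz with rfl | rfl | rfl | rfl | rfl <;>
          rcases hz2 with rfl | rfl | rfl | rfl | rfl <;>
            first | rfl | (dsimp only at hn3 hn3'; omega)
      subst he
      rcases hz with rfl | rfl | rfl | rfl | rfl
      · exact absurd (h5' 5 (by simp) (hC3 ▸ by norm_num)) id
      · exact absurd (h5' 7 (by simp) (hC3 ▸ by norm_num)) id
      · simp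
      · exact absurd (h5' 5 (by simp) (hC3 ▸ by norm_num)) id
      · simp
    have e7 : 1440 ≤ Nat.card {g : G // 7 ∣ orderOf g} := by
      obtain ⟨P'⟩ : Nonempty (Sylow 7 G) := Sylow.nonempty
      have := mul_le_card_dvd_orderOf (c := 2) (by norm_num : ¬ 7 ∣ 2) hc7 fun R => (h7 R).1
      rw [(h7 P').2] at this
      omega
    have e5 : 1344 ≤ Nat.card {g : G // 5 ∣ orderOf g} := by
      have := mul_le_card_dvd_orderOf (c := 1) (by norm_num : ¬ 5 ∣ 1) hc5 h5
      rw [hn] at this
      omega
    have e3 : 1120 ≤ Nat.card {g : G // 3 ∣ orderOf g} := by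
      rcases hz' with rfl | rfl
      · have := mul_le_card_dvd_orderOf (p := 3) (c := 8) (by norm_num) hc3 (fun R => by
          obtain ⟨w, hw, hn', hC', -⟩ := h3 R
          simp only [List.mem_cons, List.not_mem_nil, or_false] at hw
          dsimp only at hn3
          rcases hw with rfl | rfl | rfl | rfl | rfl <;> dsimp only at hn' <;>
            first | omega | (rw [hC']; done) | (rw [hC']; norm_num))
        rw [hn3] at this
        omega
      · have := mul_le_card_dvd_orderOf (p := 3) (c := 2) (by norm_num) hc3 (fun R => by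
          obtain ⟨w, hw, hn', hC', -⟩ := h3 R
          simp only [List.mem_cons, List.not_mem_nil, or_false] at hw
          dsimp only at hn3
          rcases hw with rfl | rfl | rfl | rfl | rfl <;> dsimp only at hn' <;>
            first | omega | (rw [hC']; done) | (rw [hC']; norm_num))
        rw [hn3] at this
        omega
    have := Fintype.ofFinite G
    simp only [Nat.card_eq_fintype_card, Fintype.card_subtype] at e3 e5 e7
    have hd : ∀ (q r : ℕ), (∀ g : G, ¬ (q ∣ orderOf g ∧ r ∣ orderOf g)) →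
        Disjoint (Finset.univ.filter fun g : G => q ∣ orderOf g)
          (Finset.univ.filter fun g : G => r ∣ orderOf g) := fun q r hqr =>
      Finset.disjoint_filter.2 fun g _ a b => hqr g ⟨a, b⟩
    have hle := Finset.card_le_univ (((Finset.univ.filter fun g : G => 3 ∣ orderOf g) ∪
      (Finset.univ.filter fun g : G => 5 ∣ orderOf g)) ∪
      (Finset.univ.filter fun g : G => 7 ∣ orderOf g))
    rw [Finset.card_union_of_disjoint (Finset.disjoint_union_left.2 ⟨hd 3 7 h37, hd 5 7 h57⟩),
      Finset.card_union_of_disjoint (hd 3 5 h35), ← Nat.card_eq_fintype_card, h] at hle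
    omega

theorem not_card_2160 (hna : ¬ IsMulCommutative G) : Nat.card G ≠ 2160 := by
  intro h
  classical
  have := Fintype.ofFinite G
  have : Fact (Nat.Prime 5) := ⟨by norm_num⟩
  have : Fact (Nat.Prime 2) := ⟨Nat.prime_two⟩
  obtain ⟨P⟩ : Nonempty (Sylow 5 G) := Sylow.nonempty
  have hPc := (card_sylow_eq_pow (a := 1) (m := 432) (by rw [h]; norm_num) (by norm_num) P).trans
    (pow_one 5)
  have hsc := BlockThms.sylow_self_centralizing (G := G) 2 3 5 4 3 Nat.prime_two Nat.prime_three
    (by norm_num) (by norm_num) (by rw [h]; norm_num) P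
  have hC : Nat.card (centralizer ((P : Subgroup G) : Set G)) = 5 := by
    rw [show centralizer ((P : Subgroup G) : Set G) = (P : Subgroup G) from hsc, hPc]
  obtain ⟨x, hx, -, hCx, hN⟩ := of_survivorsIn hna h (by norm_num) (by norm_num) (by norm_num)
    (by norm_num) (S := [(7, 4), (43, 2)]) (by decide +kernel) P
  simp only [List.mem_cons, List.not_mem_nil, or_false] at hx
  rcases hx with rfl | rfl
  · dsimp only at hCx
    rw [hC] at hCx
    norm_num at hCx
  dsimp only at hN
  norm_num1 at hN
  obtain ⟨T⟩ : Nonempty (Sylow 2 G) := Sylow.nonempty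
  obtain ⟨t, -, ht, htc⟩ := exists_central_involution_sylow (G := G) (by rw [h]; norm_num) T
  have hn : Nat.card G = 2 * 5 * 216 := by rw [h]
  obtain ⟨χ, D, A, k, hχ, hD, hD1, hd1, hd2, hAD, hA, hA1, he, -, hk⟩ :=
    involution_pairs_bound (P := (P : Subgroup G)) (by norm_num : 5 ≠ 2) hPc hC (by rw [hN]) hn ht
  set c := Nat.card (centralizer ({t} : Set G)) with hc
  have h16 : 16 ∣ c := by
    have h1 := card_dvd_of_le htc
    rw [card_sylow_eq_pow (a := 4) (m := 135) (by rw [h]; norm_num) (by norm_num) T] at h1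
    exact h1
  have hle := centralizer_involution_sq_le (P := (P : Subgroup G)) (by norm_num : 5 ≠ 2) hPc hC
    (by rw [hN]) hn ht
  have hne : A ≠ D := by
    intro e
    obtain ⟨-, -, hker⟩ := degree_facts hna χ hχ
    rw [hker t (hAD e), orderOf_one] at ht
    omega
  rw [h] at hd1 hd2
  have hc' : c = 16 ∨ c = 48 := by
    have h1 : c ∣ 2160 := h ▸ card_subgroup_dvd_card _
    have : c ≤ 58 := by rw [← hc] at hle; nlinarith
    obtain ⟨a, ha⟩ := h16
    have hc0 : 0 < c := Nat.card_pos
    have : a ≤ 3 := by omega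
    interval_cases a
    · omega
    · omega
    · rw [ha] at h1; norm_num at h1
    · omega
  have hk0 : k = c ^ 2 := by
    refine hk.resolve_left fun e => ?_
    rw [e, Nat.cast_zero, zero_mul] at he
    have h2 : (A - D) ^ 2 = 0 := by push_cast at he; linarith
    rw [sq_eq_zero_iff, sub_eq_zero] at h2
    exact hne h2
  rw [hk0] at he
  push_cast at he
  -- consecutive divisors
  have key : ∀ d ∈ Nat.divisors 2160, ∀ s ∈ [(1 : ℤ), -1], (s * d + 1).natAbs ∣ 2160 →
      ∀ b ∈ [(256 : ℤ), 2304], (b * (s * d * (s * d + 1))) % 432 = 0 →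
      ∀ r < 2 * d + 1, 432 * (((r : ℤ) - d) - s * d) ^ 2 = b * (s * d * (s * d + 1)) →
        (r : ℤ) - d = s * d ∨ (s * d + 1).natAbs < (((r : ℤ) - d) + 1).natAbs := by
    decide +kernel
  obtain ⟨s, hs, hsD⟩ : ∃ s ∈ [(1 : ℤ), -1], D = s * D.natAbs := by
    rcases Int.natAbs_eq D with e | e
    · exact ⟨1, by simp, by simpa using e⟩
    · exact ⟨-1, by simp, by simpa using e⟩
  obtain ⟨r, hr, hrA⟩ : ∃ r < 2 * D.natAbs + 1, A = (r : ℤ) - D.natAbs :=
    ⟨(A + D.natAbs).toNat, by omega, by omega⟩
  have hb : ((c : ℤ) ^ 2) ∈ [(256 : ℤ), 2304] := by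
    rcases hc' with e | e <;> rw [e] <;> norm_num
  have hmem : D.natAbs ∈ Nat.divisors 2160 := Nat.mem_divisors.2 ⟨hd1, by norm_num⟩
  have h2 := key _ hmem s hs (by rw [← hsD]; exact hd2) _ hb (by
    rw [← hsD, ← he]
    exact Int.emod_eq_zero_of_dvd (Dvd.intro _ rfl)) r hr (by rw [← hsD, ← hrA, ← he])
  rw [← hsD, ← hrA] at h2
  rcases h2 with h2 | h2
  · exact hne h2
  · omega

end Cfsg.Agent.SmallOrder
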