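import Cfsg.Agent.SmallOrder.LocalTest
import Cfsg.Agent.SmallOrder.Local

/-!
# The orders 1800, 2100, 2400, 2700 and 3600
-/

set_option autoImplicit false
set_option maxRecDepth 4000
set_option synthInstance.maxSize 5000

namespace Cfsg.Agent.SmallOrder

open Subgroup

universe u

/-- A normal complement of order six or twelve makes three divide the order of the normaliser of a
Sylow five-subgroup. -/
theorem three_dvd_normalizer {H : Type*} [Group H] [Finite H] [Fact (Nat.Prime 5)] {K : Subgroup H}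
    [K.Normal] (hK : Nat.card K = 6 ∨ Nat.card K = 12) (hidx : K.index = 25)
    (hn5 : Nat.card H = 25 * Nat.card K) (P : Sylow 5 H) :
    3 ∣ Nat.card (normalizer ((P : Subgroup H) : Set H)) := by
  classical
  have : Fact (Nat.Prime 3) := ⟨Nat.prime_three⟩
  obtain ⟨Q⟩ : Nonempty (Sylow 3 K) := Sylow.nonempty
  have hQ : Nat.card (Q : Subgroup K) = 3 := by
    rcases hK with h | h
    · exact (card_sylow_eq_pow (a := 1) (m := 2) (by rw [h]; norm_num) (by norm_num) Q).trans
        (pow_one 3)
    · exact (card_sylow_eq_pow (a := 1) (m := 4) (by rw [h]; norm_num) (by norm_num) Q).trans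
        (pow_one 3)
  set W := (Q : Subgroup K).map K.subtype with hW
  have hWc : Nat.card W = 3 := by
    rw [hW, ← Nat.card_congr ((Q : Subgroup K).equivMapOfInjective _ K.subtype_injective).toEquiv,
      hQ]
  set N := normalizer (W : Set H) with hN
  have h25N : 25 ∣ Nat.card N := by
    have h1 : N ⊔ K = ⊤ := Sylow.normalizer_sup_eq_top Q
    have h2 : K.relIndex (N ⊔ K) = K.relIndex N := relIndex_sup_right N K
    rw [h1, relIndex_top_right, hidx] at h2
    exact h2 ▸ relIndex_dvd_card (H := K) (K := N)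
  have : IsCyclic W := isCyclic_of_prime_card hWc
  have hker : Nat.card (W.normalizerMonoidHom).range ∣ 2 := by
    have h1 := card_subgroup_dvd_card (W.normalizerMonoidHom).range
    rwa [IsCyclic.card_mulAut W, hWc, Nat.totient_prime Nat.prime_three] at h1
  have h25C : 25 ∣ Nat.card (centralizer (W : Set H)) := by
    have h1 := (W.normalizerMonoidHom).ker.card_mul_index
    rw [index_ker, normalizerMonoidHom_ker,
      Nat.card_congr (subgroupOfEquivOfLe (centralizer_le_normalizer _)).toEquiv] at h1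
    refine (Nat.Coprime.dvd_of_dvd_mul_right ?_ (h1.symm ▸ h25N))
    exact Nat.Coprime.of_dvd_right hker (by norm_num)
  obtain ⟨R⟩ : Nonempty (Sylow 5 (centralizer (W : Set H))) := Sylow.nonempty
  set R' := (R : Subgroup _).map (centralizer (W : Set H)).subtype with hR'
  have hR5 : IsPGroup 5 R' := R.isPGroup'.map _
  obtain ⟨P', hP'⟩ := hR5.exists_le_sylow
  have hPc : Nat.card (P' : Subgroup H) = 5 ^ 2 := by
    refine card_sylow_eq_pow (m := Nat.card K) (by rw [hn5]; norm_num) ?_ P'
    rcases hK with h | h <;> rw [h] <;> norm_num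
  have hRc : 25 ∣ Nat.card R' := by
    rw [hR', card_map_of_injective (subtype_injective _)]
    refine Sylow.pow_dvd_card_of_pow_dvd_card R (n := 2) ?_
    simpa using h25C
  have heq : R' = (P' : Subgroup H) :=
    eq_of_le_of_card_ge hP' (by rw [hPc]; exact Nat.le_of_dvd Nat.card_pos hRc)
  have hWP : W ≤ normalizer ((P' : Subgroup H) : Set H) := by
    refine le_trans ?_ (centralizer_le_normalizer _)
    rw [le_centralizer_iff, ← heq, hR']
    exact map_subtype_le _
  have h3 := card_dvd_of_le hWP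
  rw [hWc] at h3
  have e1 := card_sylow_mul_card_normalizer P
  have e2 := card_sylow_mul_card_normalizer P'
  have e3 := Nat.eq_of_mul_eq_mul_left Nat.card_pos (e1.trans e2.symm)
  rwa [e3]

/-- A group of order `25 * k` with six Sylow five-subgroups, each central in its normaliser. -/
theorem false_of_six {H : Type*} [Group H] [Finite H] [Fact (Nat.Prime 5)] {k : ℕ}
    (hk : k = 6 ∨ k = 12) (hH : Nat.card H = 25 * k) (P : Sylow 5 H)
    (h6 : Nat.card (Sylow 5 H) = 6)
    (hC : normalizer ((P : Subgroup H) : Set H) ≤ centralizer ((P : Subgroup H) : Set H)) :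
    False := by
  have hc := MonoidHom.ker_transferSylow_isComplement' P hC
  set K := (MonoidHom.transferSylow P hC).ker with hK
  have hPc : Nat.card (P : Subgroup H) = 5 ^ 2 :=
    card_sylow_eq_pow (m := k) (by rw [hH]; norm_num) (by rcases hk with rfl | rfl <;> norm_num) P
  have h1 := hc.card_mul
  rw [hPc, hH] at h1
  have hKc : Nat.card K = k := by linarith
  have h2 := K.card_mul_index
  rw [hKc, hH] at h2
  have hidx : K.index = 25 := by
    rcases hk with rfl | rfl <;> omega
  have h3 := three_dvd_normalizer (hKc ▸ hk) hidx (hKc ▸ hH) P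
  have h4 := card_sylow_mul_card_normalizer P
  rw [h6, hH] at h4
  rcases hk with rfl | rfl <;> omega

variable {G : Type u} [Group G] [Finite G] [IsSimpleGroup G]

/-- A proper subgroup containing two Sylow five-subgroups. -/
theorem local_five (hna : ¬ IsMulCommutative G) [Fact (Nat.Prime 5)] {m : ℕ}
    (hm : m = 72 ∨ m = 84 ∨ m = 96 ∨ m = 108 ∨ m = 144) (hG : Nat.card G = 5 ^ 2 * m)
    {H : Subgroup G} (hH : H ≠ ⊤) {P Q : Sylow 5 G} (hP : (P : Subgroup G) ≤ H)
    (hQ : (Q : Subgroup G) ≤ H) (hne : P ≠ Q) :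
    Nat.card (Sylow 5 H) = 6 ∧
      (Nat.card H = 25 * 6 ∨ (Nat.card H = 25 * 12 ∧ m = 144)) := by
  have hm' : ¬ 5 ∣ m := by rcases hm with rfl | rfl | rfl | rfl | rfl <;> norm_num
  have hPc := card_sylow_eq_pow hG hm' P
  obtain ⟨k, hk⟩ := hPc ▸ card_dvd_of_le hP
  have hmul := H.card_mul_index
  rw [hk, hG, mul_assoc] at hmul
  have hkm' := Nat.eq_of_mul_eq_mul_left (by norm_num : 0 < 5 ^ 2) hmul
  have hkm : k ∣ m := Dvd.intro _ hkm'
  have hm0 : 0 < m := by rcases hm with rfl | rfl | rfl | rfl | rfl <;> norm_num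
  have hk0 : 0 < k := Nat.pos_of_dvd_of_pos hkm hm0
  have hd := card_sylow_dvd hk (fun e => hm' (e.trans hkm))
  have hi : H.index = m / k := by rw [← hkm', Nat.mul_div_cancel_left _ hk0]
  have h2 := Nat.mod_eq_zero_of_dvd (two_mul_card_dvd hna H hH)
  rw [hi, hG] at h2
  have h1 := one_lt_card_sylow_of_ne hP hQ hne
  have key : ∀ m ∈ [72, 84, 96, 108, 144], ∀ k < m + 1, k ∣ m → ∀ r < k + 1, r ∣ k → r % 5 = 1 →
      1 < r → (m / k).factorial % (2 * (5 ^ 2 * m)) = 0 →
        r = 6 ∧ (k = 6 ∨ (k = 12 ∧ m = 144)) := by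
    decide +kernel
  obtain ⟨hr, hk'⟩ := key m (by simpa using hm) k
    (by have := Nat.le_of_dvd hm0 hkm; omega) hkm _ (by have := Nat.le_of_dvd hk0 hd; omega) hd
    (card_sylow_mod 5) h1 h2
  refine ⟨hr, ?_⟩
  rcases hk' with rfl | ⟨rfl, h⟩
  · exact Or.inl (by rw [hk]; norm_num)
  · exact Or.inr ⟨by rw [hk]; norm_num, h⟩

theorem not_card_five_sq (hna : ¬ IsMulCommutative G) {m : ℕ}
    (hm : m = 72 ∨ m = 84 ∨ m = 96 ∨ m = 108 ∨ m = 144) : Nat.card G ≠ 5 ^ 2 * m := by
  intro hG
  classical
  have : Fact (Nat.Prime 5) := ⟨by norm_num⟩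
  have : Fact (Nat.Prime 2) := ⟨Nat.prime_two⟩
  have hm' : ¬ 5 ∣ m := by rcases hm with rfl | rfl | rfl | rfl | rfl <;> norm_num
  obtain ⟨g1, g2, g3, g4⟩ := sylow_data hG two_ne_zero hm' hna
  obtain ⟨d, hd⟩ : ∃ d, Nat.card (Sylow 5 G) = d := ⟨_, rfl⟩
  rw [hd] at g1 g2 g3 g4
  rw [hG] at g4
  have hm0 : 0 < m := by rcases hm with rfl | rfl | rfl | rfl | rfl <;> norm_num
  have key : ∀ m ∈ [72, 84, 96, 108, 144], ∀ d < m + 1, d ∣ m → d % 5 = 1 → d ≠ 1 →
      (d ≤ 16 → d.factorial % (2 * (5 ^ 2 * m)) = 0) →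
        d % 25 ≠ 1 ∧ (m = 144 → d = 16 ∨ d = 36) := by
    decide +kernel
  obtain ⟨hd25, hd144⟩ := key m (by simpa using hm) d (by have := Nat.le_of_dvd hm0 g1; omega) g1
    g2 g3 (fun _ => Nat.mod_eq_zero_of_dvd g4)
  have hPc := fun P : Sylow 5 G => card_sylow_eq_pow hG hm' P
  obtain ⟨P, Q, hne, hR, -, -⟩ := exists_inter_of_not_modEq_sq (a := 1) hPc (by
    rw [hd, Nat.ModEq]
    norm_num
    exact hd25)
  set R := (P : Subgroup G) ⊓ Q with hRdef
  rw [pow_one] at hR
  set H := centralizer (R : Set G) with hH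
  have hPH : (P : Subgroup G) ≤ H := le_centralizer_of_le_abelian (hPc P) inf_le_left
  have hQH : (Q : Subgroup G) ≤ H := le_centralizer_of_le_abelian (hPc Q) inf_le_right
  have hRn : normalizer (R : Set G) ≠ ⊤ := by
    refine normalizer_sub_ne_top (fun e => ?_) (fun e => ?_)
    · rw [e, card_bot] at hR; norm_num at hR
    · rw [e, card_top, hG] at hR; omega
  have hHn : H ≤ normalizer (R : Set G) := centralizer_le_normalizer _
  obtain ⟨h6, hHc⟩ := local_five hna hm hG (ne_top_of_le_ne_top hRn hHn) hPH hQH hne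
  set M := normalizer ((P : Subgroup G) : Set G) ⊓ H with hM
  let P' : Sylow 5 H := P.subtype hPH
  have hNP' : normalizer ((P' : Subgroup H) : Set H) = M.subgroupOf H := by
    show normalizer (((P : Subgroup G).subgroupOf H : Subgroup H) : Set H) = _
    rw [← subgroupOf_normalizer_eq hPH, hM, inf_subgroupOf_right]
  have hMc : 6 * Nat.card M = Nat.card H := by
    have h1 := card_sylow_mul_card_normalizer P'
    rwa [h6, hNP', Nat.card_congr (subgroupOfEquivOfLe inf_le_right).toEquiv] at h1
  have habel := IsPGroup.isMulCommutative_of_card_eq_prime_sq (hPc P)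
  have hPM : (P : Subgroup G) ≤ M := le_inf le_normalizer hPH
  -- if `M` centralises `P`, the transfer gives a contradiction
  have hfalse : M ≤ centralizer ((P : Subgroup G) : Set G) → False := by
    intro hMC
    refine false_of_six (H := H) (k := Nat.card H / 25) ?_ ?_ P' h6 ?_
    · rcases hHc with h | ⟨h, -⟩ <;> rw [h] <;> norm_num
    · rcases hHc with h | ⟨h, -⟩ <;> rw [h]
    · rw [hNP']
      intro x hx
      refine mem_centralizer_iff.2 fun y hy => Subtype.ext ?_
      exact mem_centralizer_iff.1 (hMC hx) y hy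
  rcases hHc with hHc | ⟨hHc, rfl⟩
  · refine hfalse ?_
    have : (P : Subgroup G) = M := eq_of_le_of_card_ge hPM (by rw [hPc]; omega)
    rw [← this]
    exact (P : Subgroup G).le_centralizer
  have hM50 : Nat.card M = 50 := by omega
  have hNc := card_sylow_mul_card_normalizer P
  rw [hd, hG] at hNc
  have h50 := card_dvd_of_le (inf_le_left : M ≤ normalizer ((P : Subgroup G) : Set G))
  rw [hM50] at h50
  have hN100 : Nat.card (normalizer ((P : Subgroup G) : Set G)) = 100 := by
    rcases hd144 rfl with e | e <;> rw [e] at hNc <;> omega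
  obtain ⟨u', hu'⟩ := exists_prime_orderOf_dvd_card' (G := M) 2 (by rw [hM50]; norm_num)
  set u : G := (u' : G) with hu
  have huo : orderOf u = 2 := by rw [hu, Subgroup.orderOf_coe, hu']
  have huP : u ∉ (P : Subgroup G) := fun h => by
    have := Subgroup.orderOf_dvd_natCard _ h
    rw [huo, hPc] at this
    norm_num at this
  by_cases huC : u ∈ centralizer ((P : Subgroup G) : Set G)
  · refine hfalse ?_
    have hle : (P : Subgroup G) ⊔ zpowers u ≤ M := sup_le hPM (zpowers_le.2 u'.2)
    have heq : (P : Subgroup G) ⊔ zpowers u = M := by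
      refine eq_of_le_of_card_ge hle ?_
      rw [hM50]
      refine Nat.le_of_dvd Nat.card_pos ?_
      exact Nat.Coprime.mul_dvd_of_dvd_of_dvd (show Nat.Coprime 25 2 by norm_num)
        ((hPc P).symm.dvd.trans (card_dvd_of_le le_sup_left))
        ((huo.symm.dvd).trans (Subgroup.orderOf_dvd_natCard _ (mem_sup_right (mem_zpowers u))))
    rw [← heq]
    exact sup_le (P : Subgroup G).le_centralizer (zpowers_le.2 huC)
  -- the centraliser of `M` in `P` is `R`
  have hRF : R = (P : Subgroup G) ⊓ centralizer ({u} : Set G) := by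
    refine eq_of_le_of_card_ge (le_inf inf_le_left fun r hr => ?_) ?_
    · exact mem_centralizer_singleton_iff.2 (mem_centralizer_iff.1 u'.2.2 r hr)
    · rw [hR]
      obtain ⟨i, hi, hie⟩ := (Nat.dvd_prime_pow (by norm_num : Nat.Prime 5)).1
        ((card_dvd_of_le (inf_le_left : (P : Subgroup G) ⊓ centralizer ({u} : Set G) ≤ P)).trans
          (hPc P).dvd)
      rw [hie]
      have : i ≠ 2 := by
        rintro rfl
        refine huC (mem_centralizer_iff.2 fun x hx => ?_)
        have hall : (P : Subgroup G) ⊓ centralizer ({u} : Set G) = P :=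
          eq_of_le_of_card_ge inf_le_left (by rw [hie, hPc])
        exact mem_centralizer_singleton_iff.1 ((hall.ge hx).2)
      exact (Nat.pow_le_pow_right (by norm_num) (show i ≤ 1 by omega)).trans (by norm_num)
  have hRM : R = (P : Subgroup G) ⊓ centralizer (M : Set G) := by
    refine le_antisymm (le_inf inf_le_left fun r hr => mem_centralizer_iff.2 fun y hy =>
      (mem_centralizer_iff.1 hy.2 r hr).symm) ?_
    rw [hRF]
    exact inf_le_inf_left _ (centralizer_le (Set.singleton_subset_iff.2 u'.2))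
  have hNM : normalizer ((P : Subgroup G) : Set G) ≤ normalizer (M : Set G) := by
    refine (normal_subgroupOf_iff_le_normalizer (inf_le_left : M ≤ _)).1 (normal_of_index_eq_two ?_)
    have h1 := (M.subgroupOf (normalizer ((P : Subgroup G) : Set G))).card_mul_index
    rw [Nat.card_congr (subgroupOfEquivOfLe inf_le_left).toEquiv, hN100, hM50] at h1
    change (M.subgroupOf (normalizer ((P : Subgroup G) : Set G))).index = 2
    omega
  have hconj : ∀ g ∈ normalizer ((P : Subgroup G) : Set G), ∀ r ∈ R, g * r * g⁻¹ ∈ R := by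
    intro g hg r hr
    rw [hRM] at hr ⊢
    refine ⟨(mem_normalizer_iff.1 hg r).1 hr.1, mem_centralizer_iff.2 fun y hy => ?_⟩
    have h1 := (mem_normalizer_iff''.1 (hNM hg) y).1 hy
    have h2 := mem_centralizer_iff.1 hr.2 _ h1
    calc y * (g * r * g⁻¹) = g * (g⁻¹ * y * g * r) * g⁻¹ := by group
      _ = g * (r * (g⁻¹ * y * g)) * g⁻¹ := by rw [h2]
      _ = g * r * g⁻¹ * y := by group
  have hNR : normalizer ((P : Subgroup G) : Set G) ≤ normalizer (R : Set G) := fun g hg =>
    mem_normalizer_iff.2 fun x => ⟨hconj g hg x, fun hx => by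
      have := hconj g⁻¹ (inv_mem hg) _ hx
      simpa [mul_assoc] using this⟩
  obtain ⟨-, hNRc⟩ := local_five hna hm hG hRn (hPH.trans hHn) (hQH.trans hHn) hne
  have hNH : H = normalizer (R : Set G) := eq_of_le_of_card_ge hHn (by
    rcases hNRc with h | ⟨h, -⟩
    · have := card_dvd_of_le hHn
      rw [hHc, h] at this
      norm_num at this
    · rw [hHc, h])
  have : M = normalizer ((P : Subgroup G) : Set G) := inf_eq_left.2 (hNH ▸ hNR)
  rw [this, hN100] at hM50
  norm_num at hM50

end Cfsg.Agent.SmallOrder
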