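import Cfsg.Agent.SmallOrder.Table3640
import Cfsg.Agent.SmallOrder.FiveSq
import Cfsg.Agent.SmallOrder.Exclude3640
import Cfsg.Agent.SmallOrder.Exclude1512
import Cfsg.Agent.S0496
import Cfsg.Agent.S0983

/-!
# The orders of the simple groups of order below 6000
-/

set_option autoImplicit false

namespace Cfsg.Agent.SmallOrder

/-- A non-abelian simple group of order below 6000 has one of eleven orders. -/
theorem card_of_lt_6000 {G : Type*} [Group G] [Finite G] [IsSimpleGroup G]
    (hna : ¬ IsMulCommutative G) (h : Nat.card G < 6000) :
    Nat.card G ∈ [60, 168, 360, 504, 660, 1092, 2448, 2520, 3420, 4080, 5616] := by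
  rcases le_or_gt (Nat.card G) 1092 with h1 | h1
  · rcases S0496.result hna h1 with e | e | e | e | e | e <;> simp [e]
  rcases le_or_gt (Nat.card G) 3640 with h2 | h2
  · have hs := Table3640.cases hna h1 h2
    simp only [Table3640.special, List.mem_cons, List.not_mem_nil, or_false] at hs
    rcases hs with e | e | e | e | e | e | e | e | e | e | e | e
    · exact absurd e (not_card_1512 hna)
    · exact absurd e (not_card_1680 hna)
    · exact absurd (e.trans (by norm_num)) (not_card_five_sq hna (m := 72) (by norm_num))
    · exact absurd (e.trans (by norm_num)) (not_card_five_sq hna (m := 84) (by norm_num))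
    · exact absurd e (not_card_2160 hna)
    · exact absurd (e.trans (by norm_num)) (not_card_five_sq hna (m := 96) (by norm_num))
    · simp [e]
    · simp [e]
    · exact absurd (e.trans (by norm_num)) (not_card_five_sq hna (m := 108) (by norm_num))
    · exact absurd e (not_card_3360 hna)
    · simp [e]
    · exact absurd (e.trans (by norm_num)) (not_card_five_sq hna (m := 144) (by norm_num))
  rcases S0983.result hna h2 (by omega) with e | e | e | e
  · simp [e]
  · simp [e]
  · omega
  · omega

end Cfsg.Agent.SmallOrder
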