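import Cfsg.Agent.SmallOrder.Classes168
import Cfsg.Agent.S1012
import Mathlib.GroupTheory.SpecificGroups.KleinFour

/-!
# Four-groups and maximal subgroups of a simple group of order 168
-/

set_option autoImplicit false

namespace Cfsg.Agent.SmallOrder

open Subgroup

variable {G : Type*} [Group G] [Finite G]

/-- The two four-groups of the dihedral group of order eight. -/
def dihKlein (e : Bool) : Subgroup (DihedralGroup 4) where
  carrier := {d | d = DihedralGroup.r 0 ∨ d = DihedralGroup.r 2 ∨
    d = DihedralGroup.sr (if e then 1 else 0) ∨ d = DihedralGroup.sr (if e then 3 else 2)}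
  one_mem' := by left; rfl
  mul_mem' := by cases e <;> (simp only [Set.mem_ofPred_eq]; decide +revert)
  inv_mem' := by cases e <;> (simp only [Set.mem_ofPred_eq]; decide +revert)

theorem mem_dihKlein (e : Bool) (d : DihedralGroup 4) : d ∈ dihKlein e ↔
    (d = DihedralGroup.r 0 ∨ d = DihedralGroup.r 2 ∨
    d = DihedralGroup.sr (if e then 1 else 0) ∨ d = DihedralGroup.sr (if e then 3 else 2)) :=
  Iff.rfl

theorem isKleinFour_dihKlein (e : Bool) : IsKleinFour (dihKlein e) := by
  have key : (dihKlein e : Set (DihedralGroup 4)) = (({DihedralGroup.r 0, DihedralGroup.r 2,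
      DihedralGroup.sr (if e then 1 else 0), DihedralGroup.sr (if e then 3 else 2)} :
      Finset (DihedralGroup 4)) : Set (DihedralGroup 4)) := by
    ext d; simp [mem_dihKlein]
  refine SmallOrder.isKleinFour_of_not_cyclic ?_ ?_
  · show Nat.card ((dihKlein e : Set (DihedralGroup 4))) = 4
    rw [key, Nat.card_coe_set_eq, Set.ncard_coe_finset]
    cases e <;> decide
  · intro hc
    obtain ⟨⟨g, hg⟩, hgen⟩ := hc.exists_generator
    have hsq : ∀ d : DihedralGroup 4, d ∈ dihKlein e → d * d = 1 := by
      cases e <;> (simp only [mem_dihKlein]; decide)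
    have hc4 : Nat.card (dihKlein e) = 4 := by
      show Nat.card ((dihKlein e : Set (DihedralGroup 4))) = 4
      rw [key, Nat.card_coe_set_eq, Set.ncard_coe_finset]
      cases e <;> decide
    have h1 := orderOf_eq_card_of_forall_mem_zpowers hgen
    have h2 := orderOf_dvd_of_pow_eq_one (show (⟨g, hg⟩ : dihKlein e) ^ 2 = 1 by
      rw [sq]; exact Subtype.ext (hsq g hg))
    rw [h1, hc4] at h2
    norm_num at h2

theorem dihKlein_ne : dihKlein true ≠ dihKlein false := fun h =>
  absurd ((mem_dihKlein false _).1 (h ▸ (mem_dihKlein true (DihedralGroup.sr 1)).2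
    (Or.inr (Or.inr (Or.inl rfl))))) (by decide)

theorem eq_dihKlein (W : Subgroup (DihedralGroup 4)) (hW : IsKleinFour W) :
    W = dihKlein true ∨ W = dihKlein false := by
  have hsq : ∀ d ∈ W, d * d = 1 := fun d hd =>
    congrArg Subtype.val (IsKleinFour.mul_self (⟨d, hd⟩ : W))
  have hcomm : ∀ a ∈ W, ∀ b ∈ W, a * b = b * a := fun a ha b hb =>
    congrArg Subtype.val (mul_comm_of_exponent_two hW.exponent_two (⟨a, ha⟩ : W) ⟨b, hb⟩)
  obtain ⟨i, hi⟩ : ∃ i, DihedralGroup.sr i ∈ W := by
    by_contra! hno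
    have hle : ∀ d ∈ W, d = DihedralGroup.r 0 ∨ d = DihedralGroup.r 2 := by
      intro d hd
      have h1 := hsq d hd
      rcases d with i | i
      · clear hd; revert h1; revert i; decide
      · exact absurd hd (hno i)
    have h4 : (W : Set (DihedralGroup 4)) ⊆ {DihedralGroup.r 0, DihedralGroup.r 2} :=
      fun d hd => hle d hd
    have := Set.ncard_le_ncard h4
    rw [← Nat.card_coe_set_eq] at this
    have h5 : ({DihedralGroup.r 0, DihedralGroup.r 2} : Set (DihedralGroup 4)).ncard ≤ 2 :=
      (Set.ncard_insert_le _ _).trans (by rw [Set.ncard_singleton])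
    have h6 : Nat.card (W : Set (DihedralGroup 4)) = 4 := hW.card_four
    omega
  have key : ∀ i : ZMod 4, ∀ d : DihedralGroup 4, d * d = 1 →
      d * DihedralGroup.sr i = DihedralGroup.sr i * d → d ∈ dihKlein (decide (i = 1 ∨ i = 3)) := by
    simp only [mem_dihKlein]
    decide
  have heq : W = dihKlein (decide (i = 1 ∨ i = 3)) :=
    eq_of_le_of_card_ge (fun d hd => key i d (hsq d hd) (hcomm d hd _ hi))
      (by rw [(isKleinFour_dihKlein _).card_four, hW.card_four])
  by_cases he : decide (i = 1 ∨ i = 3) = true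
  · exact Or.inl (by rw [heq, he])
  · exact Or.inr (by rw [heq, Bool.eq_false_iff.2 he])

theorem isKleinFour_of_equiv {A B : Type*} [Group A] [Group B] (e : A ≃* B) (h : IsKleinFour A) :
    IsKleinFour B :=
  ⟨(Nat.card_congr e.toEquiv).symm.trans h.card_four,
    (Monoid.exponent_eq_of_mulEquiv e).symm.trans h.exponent_two⟩

/-- The double transpositions. -/
def s4Elems : List (Equiv.Perm (Fin 4)) :=
  [1, Equiv.swap 0 1 * Equiv.swap 2 3, Equiv.swap 0 2 * Equiv.swap 1 3,
    Equiv.swap 0 3 * Equiv.swap 1 2]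

/-- The four-group inside the symmetric group on four letters. -/
def s4Klein : Subgroup (Equiv.Perm (Fin 4)) where
  carrier := {σ | σ ∈ s4Elems}
  one_mem' := by simp [s4Elems]
  mul_mem' := fun {a b} ha hb =>
    (show ∀ a ∈ s4Elems, ∀ b ∈ s4Elems, a * b ∈ s4Elems by decide +kernel) a ha b hb
  inv_mem' := fun {a} ha => (show ∀ a ∈ s4Elems, a⁻¹ ∈ s4Elems by decide +kernel) a ha

theorem s4Klein_normal : s4Klein.Normal := ⟨fun n hn g =>
  (show ∀ n ∈ s4Elems, ∀ g : Equiv.Perm (Fin 4), g * n * g⁻¹ ∈ s4Elems by decide +kernel) n hn g⟩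

theorem isKleinFour_s4Klein : IsKleinFour s4Klein := by
  have hc : Nat.card s4Klein = 4 := by
    show Nat.card {σ : Equiv.Perm (Fin 4) // σ ∈ s4Elems} = 4
    rw [Nat.card_eq_fintype_card]
    decide +kernel
  refine SmallOrder.isKleinFour_of_not_cyclic hc fun hcy => ?_
  obtain ⟨g, hg⟩ := hcy.exists_ofOrder_eq_natCard
  rw [hc] at hg
  have h2 := orderOf_dvd_of_pow_eq_one (show g ^ 2 = 1 by
    rw [sq]
    exact Subtype.ext ((show ∀ a ∈ s4Elems, a * a = 1 by decide +kernel) g g.2))
  rw [hg] at h2
  norm_num at h2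

namespace Order168

variable [IsSimpleGroup G] (h : Nat.card G = 168)
include h

omit h [IsSimpleGroup G] in
theorem klein_subgroupOf {U K : Subgroup G} (hUK : U ≤ K) :
    IsKleinFour (U.subgroupOf K) ↔ IsKleinFour U :=
  ⟨isKleinFour_of_equiv (subgroupOfEquivOfLe hUK),
    isKleinFour_of_equiv (subgroupOfEquivOfLe hUK).symm⟩

theorem card_klein_le (T : Sylow 2 G) :
    Nat.card {U : Subgroup G // U ≤ (T : Subgroup G) ∧ IsKleinFour U} = 2 := by
  obtain ⟨e⟩ := dihedral h T
  set f : DihedralGroup 4 →* G := (T : Subgroup G).subtype.comp e.symm.toMonoidHom with hf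
  have hinj : Function.Injective f := Subtype.val_injective.comp e.symm.injective
  have hrange : f.range = (T : Subgroup G) := by
    ext x
    refine ⟨fun ⟨d, hd⟩ => hd ▸ (e.symm d).2, fun hx => ⟨e ⟨x, hx⟩, ?_⟩⟩
    simp [hf]
  have hall : ∀ U : Subgroup G, (U ≤ (T : Subgroup G) ∧ IsKleinFour U) ↔
      (U = (dihKlein true).map f ∨ U = (dihKlein false).map f) := by
    intro U
    constructor
    · rintro ⟨hle, hU⟩
      have hmap : (U.comap f).map f = U := map_comap_eq_self (hrange ▸ hle)
      have hK : IsKleinFour (U.comap f) := by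
        refine isKleinFour_of_equiv ((U.comap f).equivMapOfInjective f hinj).symm ?_
        rw [hmap]
        exact hU
      rcases eq_dihKlein _ hK with e1 | e1
      · exact Or.inl (by rw [← hmap, e1])
      · exact Or.inr (by rw [← hmap, e1])
    · rintro (rfl | rfl) <;>
        exact ⟨hrange ▸ Subgroup.map_le_range f _,
          isKleinFour_of_equiv (Subgroup.equivMapOfInjective _ f hinj) (isKleinFour_dihKlein _)⟩
  rw [Nat.card_eq_two_iff]
  refine ⟨⟨_, (hall _).2 (Or.inl rfl)⟩, ⟨_, (hall _).2 (Or.inr rfl)⟩, fun e1 => ?_, ?_⟩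
  · exact dihKlein_ne (map_injective hinj (congrArg Subtype.val e1))
  · refine Set.eq_univ_of_forall fun U => ?_
    rcases (hall U.1).1 U.2 with e1 | e1
    · exact Or.inl (Subtype.ext e1)
    · exact Or.inr (Subtype.ext e1)

theorem normal_in_sylow {T : Sylow 2 G} {U : Subgroup G} (hUT : U ≤ (T : Subgroup G))
    (hU : IsKleinFour U) : (T : Subgroup G) ≤ normalizer (U : Set G) := by
  rw [← normal_subgroupOf_iff_le_normalizer hUT]
  refine normal_of_index_eq_two ?_
  have := (U.subgroupOf (T : Subgroup G)).card_mul_index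
  rw [Nat.card_congr (subgroupOfEquivOfLe hUT).toEquiv, hU.card_four, card_sylow_two_eq h] at this
  omega

theorem exists_sylow_klein {U : Subgroup G} (hU : IsKleinFour U) :
    ∃ T : Sylow 2 G, U ≤ (T : Subgroup G) :=
  (IsPGroup.of_card (n := 2) (by rw [hU.card_four]; norm_num) : IsPGroup 2 U).exists_le_sylow

theorem not_conj_klein {T : Sylow 2 G} {U W : Subgroup G} (hU : U ≤ (T : Subgroup G))
    (hW : W ≤ (T : Subgroup G)) (hUK : IsKleinFour U) (hWK : IsKleinFour W) (hne : U ≠ W) (g : G) :
    U.map (MulAut.conj g).toMonoidHom ≠ W := by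
  intro hg
  have : Fact (Nat.Prime 2) := ⟨Nat.prime_two⟩
  set N := normalizer (W : Set G) with hN
  have h1 : (T : Subgroup G) ≤ N := normal_in_sylow h hW hWK
  have h2 : ((g • T : Sylow 2 G) : Subgroup G) ≤ N := by
    intro x hx
    rw [Sylow.coe_subgroup_smul] at hx
    obtain ⟨t, ht, rfl⟩ := hx
    rw [hN, ← hg]
    exact le_normalizer_map _ ⟨t, normal_in_sylow h hU hUK ht, rfl⟩
  obtain ⟨n, hn⟩ := MulAction.exists_smul_eq N ((g • T).subtype h2) (T.subtype h1)
  have hT : ((n : G) * g) • T = T := by
    rw [mul_smul]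
    refine Sylow.subtype_injective (hP := ?_) (hQ := h1) ?_
    · intro x hx
      rw [Sylow.coe_subgroup_smul] at hx
      obtain ⟨t, ht, rfl⟩ := hx
      exact N.mul_mem (N.mul_mem n.2 (h2 ht)) (N.inv_mem n.2)
    · exact (Sylow.smul_subtype h2 n).symm.trans hn
  have hng : (n : G) * g ∈ (T : Subgroup G) := by
    rw [← (sylow_two h).2 T]
    exact Sylow.smul_eq_iff_mem_normalizer.1 hT
  have hgU : (n : G) * g ∈ normalizer (U : Set G) := normal_in_sylow h hU hUK hng
  refine hne (eq_of_le_of_card_ge (fun u hu => ?_) (by rw [hUK.card_four, hWK.card_four]))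
  have hu' : ((n : G) * g)⁻¹ * u * ((n : G) * g) ∈ U := (mem_normalizer_iff''.1 hgU u).1 hu
  have h3 : g * (((n : G) * g)⁻¹ * u * ((n : G) * g)) * g⁻¹ ∈ W := hg ▸ ⟨_, hu', rfl⟩
  have h4 := (mem_normalizer_iff.1 n.2 _).1 h3
  simpa [mul_assoc] using h4

theorem card_normalizer_klein {U : Subgroup G} (hU : IsKleinFour U) :
    Nat.card (normalizer (U : Set G)) = 24 := by
  have : Fact (Nat.Prime 2) := ⟨Nat.prime_two⟩
  have hUc : IsMulCommutative U := ⟨⟨fun a b => mul_comm_of_exponent_two hU.exponent_two a b⟩⟩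
  have hUC : U ≤ centralizer (U : Set G) := U.le_centralizer
  have hinv : ∀ u ∈ U, u ≠ 1 → orderOf u = 2 := fun u hu hu1 =>
    orderOf_eq_prime (by rw [sq]; exact congrArg Subtype.val (IsKleinFour.mul_self (⟨u, hu⟩ : U))) hu1
  obtain ⟨⟨u, hu⟩, hu1⟩ : ∃ x : U, x ≠ 1 := by
    have : Nontrivial U := Finite.one_lt_card_iff_nontrivial.1 (by rw [hU.card_four]; norm_num)
    exact exists_ne 1
  have hu1' : u ≠ 1 := fun e => hu1 (Subtype.ext e)
  obtain ⟨T, hCu, huT⟩ := centralizer_two h (hinv u hu hu1')
  have hUT : U ≤ (T : Subgroup G) := hCu ▸ hUC.trans (centralizer_le (Set.singleton_subset_iff.2 hu))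
  -- `U` is its own centraliser
  have hCle : centralizer (U : Set G) ≤ (T : Subgroup G) :=
    hCu ▸ centralizer_le (Set.singleton_subset_iff.2 hu)
  have hcen : ¬ (T : Subgroup G) ≤ centralizer (U : Set G) := by
    intro hle
    apply sylow_two_not_comm h T
    set U' := U.subgroupOf (T : Subgroup G) with hU'
    have hU'c : Nat.card U' = 4 := by
      rw [hU', Nat.card_congr (subgroupOfEquivOfLe hUT).toEquiv, hU.card_four]
    have hle' : U' ≤ center (T : Subgroup G) := fun x hx => mem_center_iff.2 fun t =>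
      Subtype.ext (mem_centralizer_iff.1 (hle t.2) x hx).symm
    have h1 := card_dvd_of_le hle'
    rw [hU'c] at h1
    have h2 := (center (T : Subgroup G)).card_mul_index
    rw [card_sylow_two_eq h] at h2
    have hi : (center (T : Subgroup G)).index ∣ 2 := by
      obtain ⟨c, hc⟩ := h1
      rw [hc] at h2
      exact Dvd.intro_left c (Nat.eq_of_mul_eq_mul_left (by norm_num : 0 < 4) (by rw [← mul_assoc, h2]))
    have : IsCyclic ((T : Subgroup G) ⧸ center (T : Subgroup G)) := by
      rcases (Nat.dvd_prime Nat.prime_two).1 hi with e | e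
      · have : Subsingleton ((T : Subgroup G) ⧸ center (T : Subgroup G)) :=
          (Nat.card_eq_one_iff_unique.1 e).1
        infer_instance
      · exact isCyclic_of_prime_card (p := 2) e
    exact ⟨⟨commutative_of_cyclic_center_quotient
      (QuotientGroup.mk' (center (T : Subgroup G))) (QuotientGroup.ker_mk' _).le⟩⟩
  have hC4 : Nat.card (centralizer (U : Set G)) = 4 := by
    have h1 := card_dvd_of_le hUC
    have h2 := card_dvd_of_le hCle
    rw [hU.card_four] at h1
    rw [card_sylow_two_eq h] at h2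
    have h3 := Nat.le_of_dvd (by norm_num) h2
    have h4 : Nat.card (centralizer (U : Set G)) ≠ 8 := fun e =>
      hcen (eq_of_le_of_card_ge hCle (by rw [card_sylow_two_eq h, e])).ge
    interval_cases Nat.card (centralizer (U : Set G)) <;> omega
  -- some involution of `U` is centralised by another Sylow subgroup
  obtain ⟨v, hv, hv1, hvT⟩ : ∃ v ∈ U, v ≠ 1 ∧ centralizer ({v} : Set G) ≠ (T : Subgroup G) := by
    by_contra! hall
    apply hcen
    intro t ht
    rw [mem_centralizer_iff]
    intro v hv
    by_cases hv1 : v = 1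
    · subst hv1; rw [one_mul, mul_one]
    · exact (mem_centralizer_singleton_iff.1 (hall v hv hv1 ▸ ht : t ∈ centralizer ({v} : Set G))).symm
  obtain ⟨T', hCv, hvT'⟩ := centralizer_two h (hinv v hv hv1)
  have hUT' : U ≤ (T' : Subgroup G) := hCv ▸ hUC.trans (centralizer_le (Set.singleton_subset_iff.2 hv))
  have hTN := normal_in_sylow h hUT hU
  have hT'N := normal_in_sylow h hUT' hU
  set N := normalizer (U : Set G) with hN
  have hd8 : 8 ∣ Nat.card N := card_sylow_two_eq h T ▸ card_dvd_of_le hTN
  have hgt : Nat.card N ≠ 8 := fun e => hvT (by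
    rw [hCv, eq_of_le_of_card_ge hTN (by rw [card_sylow_two_eq h, e]),
      eq_of_le_of_card_ge hT'N (by rw [card_sylow_two_eq h, e])])
  obtain ⟨e, he, hNc, -⟩ := exists_normalizer_index U
  rw [hC4] at hNc
  -- automorphisms of a four-group
  have he6 : e ∣ 6 := he.trans (by
    classical
    let f' : MulAut U →* Equiv.Perm {x : U // x ≠ 1} :=
      { toFun := fun σ => σ.toEquiv.subtypeEquiv fun x => by simp
        map_one' := Equiv.ext fun x => Subtype.ext rfl
        map_mul' := fun σ τ => Equiv.ext fun x => Subtype.ext rfl }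
    have hf' : Function.Injective f' := fun σ τ hh => MulEquiv.ext fun x => by
      by_cases hx : x = 1
      · simp [hx]
      · exact congrArg Subtype.val (Equiv.congr_fun hh ⟨x, hx⟩)
    have h1 := card_dvd_of_injective f' hf'
    have := Fintype.ofFinite U
    rw [Nat.card_perm, Nat.card_eq_fintype_card (α := {x : U // x ≠ 1}), Fintype.card_subtype_compl,
      Fintype.card_subtype_eq, ← Nat.card_eq_fintype_card, hU.card_four] at h1
    exact h1)
  rw [hNc] at hd8 hgt
  have := Nat.le_of_dvd (by norm_num) he6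
  show Nat.card N = 24
  rw [hN, hNc]
  interval_cases e <;> omega

theorem equiv_s4 {H : Subgroup G} (hH : Nat.card H = 24) : Nonempty (H ≃* Equiv.Perm (Fin 4)) :=
  S1012.result hH fun g hg => by
    have := orderOf_five_cases h (g : G)
    rw [Subgroup.orderOf_coe, hg] at this
    omega

/-- A four-group normal in a subgroup of order 24 is the only one. -/
theorem klein_unique {U W : Subgroup G} (hU : IsKleinFour U) (hW : IsKleinFour W)
    (hN : normalizer (U : Set G) = normalizer (W : Set G)) : U = W := by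
  have : Fact (Nat.Prime 2) := ⟨Nat.prime_two⟩
  by_contra hne
  set N := normalizer (U : Set G) with hNdef
  have hUN : U ≤ N := le_normalizer
  have hWN : W ≤ N := hN ▸ le_normalizer
  have : (U.subgroupOf N).Normal := normal_in_normalizer
  have : (W.subgroupOf N).Normal := by rw [hN]; exact normal_in_normalizer
  obtain ⟨T, hUT⟩ := exists_sylow_klein h hU
  have hTN : (T : Subgroup G) ≤ N := normal_in_sylow h hUT hU
  have hWp : IsPGroup 2 (W.subgroupOf N) := IsPGroup.of_card (n := 2)
    (by rw [Nat.card_congr (subgroupOfEquivOfLe hWN).toEquiv, hW.card_four]; norm_num)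
  have hWT : W ≤ (T : Subgroup G) := fun w hw =>
    hWp.le_sylow_of_normal (T.subtype hTN) (show (⟨w, hWN hw⟩ : N) ∈ W.subgroupOf N from hw)
  have hlt : U < U ⊔ W := lt_of_le_of_ne le_sup_left fun e => hne
    (eq_of_le_of_card_ge (e.symm ▸ le_sup_right : W ≤ U) (by rw [hU.card_four, hW.card_four])).symm
  have hsupT : U ⊔ W = (T : Subgroup G) := by
    refine eq_of_le_of_card_ge (sup_le hUT hWT) ?_
    have h1 := card_dvd_of_le (le_sup_left : U ≤ U ⊔ W)
    have h2 := card_dvd_of_le (sup_le hUT hWT : U ⊔ W ≤ (T : Subgroup G))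
    rw [hU.card_four] at h1
    rw [card_sylow_two_eq h] at h2 ⊢
    have h3 := Nat.le_of_dvd (by norm_num) h2
    have h4 : Nat.card ↥(U ⊔ W) ≠ 4 := fun e4 =>
      hlt.ne (eq_of_le_of_card_ge hlt.le (by rw [e4, hU.card_four]))
    interval_cases Nat.card ↥(U ⊔ W) <;> omega
  -- the Sylow subgroup would be normal
  have hnorm : N ≤ normalizer ((T : Subgroup G) : Set G) := by
    rw [← hsupT]
    intro n hn
    refine mem_normalizer_iff.2 fun x => ?_
    have hmap : (U ⊔ W).map (MulAut.conj n).toMonoidHom = U ⊔ W := by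
      rw [Subgroup.map_sup]
      congr 1
      · exact eq_of_le_of_card_ge (fun y ⟨z, hz, hzy⟩ => hzy ▸ (mem_normalizer_iff.1 hn z).1 hz)
          (by rw [← Nat.card_congr (U.equivMapOfInjective _ (MulAut.conj n).injective).toEquiv])
      · exact eq_of_le_of_card_ge
          (fun y ⟨z, hz, hzy⟩ => hzy ▸ (mem_normalizer_iff.1 (hN ▸ hn) z).1 hz)
          (by rw [← Nat.card_congr (W.equivMapOfInjective _ (MulAut.conj n).injective).toEquiv])
    exact ⟨fun hx => hmap.le ⟨x, hx, rfl⟩, fun hx => by
      obtain ⟨z, hz, hzx⟩ := hmap.ge hx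
      exact (MulAut.conj n).injective hzx ▸ hz⟩
  rw [(sylow_two h).2 T] at hnorm
  have h5 := card_le_of_le hnorm
  rw [card_sylow_two_eq h, hNdef, card_normalizer_klein h hU] at h5
  omega

theorem exists_klein (T : Sylow 2 G) : ∃ U : Subgroup G, U ≤ (T : Subgroup G) ∧ IsKleinFour U := by
  have h1 := card_klein_le h T
  have : Nonempty {U : Subgroup G // U ≤ (T : Subgroup G) ∧ IsKleinFour U} := by
    by_contra hh
    rw [not_nonempty_iff] at hh
    rw [Nat.card_of_isEmpty] at h1
    omega
  obtain ⟨U, hU⟩ := this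
  exact ⟨U, hU⟩

theorem card_le_twentyFour {M : Subgroup G} (hM : M ≠ ⊤) : Nat.card M ≤ 24 := by
  have h1 := M.card_mul_index
  have h2 := two_mul_card_dvd (not_comm h) M hM
  rw [h] at h1 h2
  rcases Nat.lt_or_ge M.index 7 with hlt | hge
  · interval_cases M.index <;> first | omega | (norm_num [Nat.factorial] at h2)
  · nlinarith

theorem isCoatom_of_card {N : Subgroup G} (hlow : 21 ≤ Nat.card N) (hne : N ≠ ⊤) : IsCoatom N := by
  refine ⟨hne, fun M hlt => ?_⟩
  by_contra hM
  have h1 := card_le_twentyFour h hM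
  have h2 := card_dvd_of_le hlt.le
  have h3 : Nat.card N < Nat.card M := by
    by_contra! hle
    exact hlt.ne (eq_of_le_of_card_ge hlt.le hle)
  obtain ⟨c, hc⟩ := h2
  rcases Nat.lt_or_ge c 2 with h4 | h4
  · interval_cases c <;> omega
  · nlinarith

theorem normalizer_klein_ne_top {U : Subgroup G} (hU : IsKleinFour U) :
    normalizer (U : Set G) ≠ ⊤ := fun e => by
  have := card_normalizer_klein h hU
  rw [e, card_top, h] at this
  omega

/-- The maximal subgroups. -/
theorem coatom_cases {M : Subgroup G} (hM : IsCoatom M) :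
    (Nat.card M = 21 ∧ ¬ IsMulCommutative M ∧ ∃ P : Sylow 7 G,
      M = normalizer ((P : Subgroup G) : Set G)) ∨
    ∃ U : Subgroup G, IsKleinFour U ∧ M = normalizer (U : Set G) := by
  have h2' : Fact (Nat.Prime 2) := ⟨Nat.prime_two⟩
  have h3' : Fact (Nat.Prime 3) := ⟨by norm_num⟩
  have h7' : Fact (Nat.Prime 7) := ⟨by norm_num⟩
  have hle24 := card_le_twentyFour h hM.1
  have hdvd : Nat.card M ∣ 168 := h ▸ M.card_subgroup_dvd_card
  have hmax : ∀ N : Subgroup G, M ≤ N → N ≠ ⊤ → M = N := fun N hle hN => by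
    by_contra hne
    exact hN (hM.2 N (lt_of_le_of_ne hle hne))
  by_cases h7 : 7 ∣ Nat.card M
  · left
    obtain ⟨k, hk⟩ := h7
    have hk' : ¬ 7 ∣ k := fun hd => by
      obtain ⟨j, rfl⟩ := hd
      have : 0 < Nat.card M := Nat.card_pos
      omega
    have hk1 : Nat.card M = 7 ^ 1 * k := by rw [pow_one, hk]
    have hd := card_sylow_dvd hk1 hk'
    have hm := card_sylow_mod (G := M) 7
    obtain ⟨S⟩ : Nonempty (Sylow 7 M) := Sylow.nonempty
    have hk3 : k ≤ 3 := by omega
    have hn1 : Nat.card (Sylow 7 M) = 1 := by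
      have hpos : 0 < k := Nat.pos_of_ne_zero fun e => hk' (e ▸ dvd_zero 7)
      have := Nat.le_of_dvd hpos hd
      omega
    have : Subsingleton (Sylow 7 M) := (Nat.card_eq_one_iff_unique.1 hn1).1
    have hSn : (S : Subgroup M).Normal := Sylow.normal_of_subsingleton S
    have hS7 : Nat.card (S : Subgroup M) = 7 := by rw [card_sylow_eq_pow hk1 hk' S, pow_one]
    obtain ⟨x, hx⟩ := exists_prime_orderOf_dvd_card' (G := (S : Subgroup M)) 7 (by rw [hS7])
    obtain ⟨P, hP⟩ := exists_sylow_zpowers (fun P => ((sylow_seven h).2 P).1)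
      (x := ((x : M) : G)) (by rw [Subgroup.orderOf_coe, Subgroup.orderOf_coe, hx])
    have hMP : M ≤ normalizer ((P : Subgroup G) : Set G) := by
      have hPS : (P : Subgroup G) = (S : Subgroup M).map M.subtype := by
        refine eq_of_le_of_card_ge ?_ ?_
        · rw [hP, zpowers_le]; exact ⟨x, x.2, rfl⟩
        · rw [((sylow_seven h).2 P).1,
            ← Nat.card_congr ((S : Subgroup M).equivMapOfInjective _ M.subtype_injective).toEquiv, hS7]
      intro m hm
      rw [hPS, mem_normalizer_iff]
      intro y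
      constructor
      · rintro ⟨s, hs, rfl⟩
        exact ⟨_, hSn.conj_mem s hs ⟨m, hm⟩, rfl⟩
      · rintro ⟨s, hs, hsy⟩
        refine ⟨_, hSn.conj_mem s hs ⟨m, hm⟩⁻¹, ?_⟩
        show m⁻¹ * (s : G) * m⁻¹⁻¹ = y
        rw [show (s : G) = m * y * m⁻¹ from hsy]
        simp [mul_assoc]
    have hne : normalizer ((P : Subgroup G) : Set G) ≠ ⊤ :=
      normalizer_ne_top (not_comm h) (by rw [h]; norm_num) P
    have hMN := hmax _ hMP hne
    have h21 : Nat.card M = 21 := by rw [hMN]; exact ((sylow_seven h).2 P).2.1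
    refine ⟨h21, fun hc => ?_, P, hMN⟩
    have hle : M ≤ centralizer ((P : Subgroup G) : Set G) := fun m hm =>
      mem_centralizer_iff.2 fun a ha => congrArg Subtype.val
        (hc.is_comm.comm (⟨a, hMN ▸ le_normalizer ha⟩ : M) ⟨m, hm⟩)
    have := card_le_of_le hle
    rw [h21, ((sylow_seven h).2 P).2.2] at this
    omega
  right
  by_cases h3 : 3 ∣ Nat.card M
  · obtain ⟨x, hx⟩ := exists_prime_orderOf_dvd_card' (G := M) 3 h3
    obtain ⟨k, hk⟩ := h3
    have hk8 : k ∣ 56 := by
      rw [hk, show 168 = 3 * 56 from rfl] at hdvd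
      exact Nat.dvd_of_mul_dvd_mul_left (by norm_num) hdvd
    have hk' : ¬ 3 ∣ k := fun hd => by norm_num at hd ⊢; have := hd.trans hk8; norm_num at this
    have hk1 : Nat.card M = 3 ^ 1 * k := by rw [pow_one, hk]
    have hd := card_sylow_dvd hk1 hk'
    have hm := card_sylow_mod (G := M) 3
    obtain ⟨n, hn⟩ : ∃ n, Nat.card (Sylow 3 M) = n := ⟨_, rfl⟩
    rw [hn] at hd hm
    obtain ⟨P, hP⟩ := exists_sylow_zpowers (fun P => ((sylow_three h).2 P).1)
      (x := (x : G)) (by rw [Subgroup.orderOf_coe, hx])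
    have hN6 := ((sylow_three h).2 P).2.1
    by_cases hn1 : n = 1
    · exfalso
      have : Subsingleton (Sylow 3 M) := (Nat.card_eq_one_iff_unique.1 (hn.trans hn1)).1
      have hPM : (P : Subgroup G) ≤ M := hP ▸ zpowers_le.2 x.2
      have hSn : ((P.subtype hPM : Sylow 3 M) : Subgroup M).Normal :=
        Sylow.normal_of_subsingleton _
      rw [Sylow.coe_subtype, normal_subgroupOf_iff_le_normalizer hPM] at hSn
      have hMN := hmax _ hSn (normalizer_ne_top (not_comm h) (by rw [h]; norm_num) P)
      -- `N(P)` lies in a larger proper subgroup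
      obtain ⟨T⟩ : Nonempty (Sylow 2 G) := Sylow.nonempty
      obtain ⟨U, -, hU⟩ := exists_klein h T
      set H := normalizer (U : Set G) with hH
      have hH24 := card_normalizer_klein h hU
      obtain ⟨y, hy⟩ := exists_prime_orderOf_dvd_card' (G := H) 3 (by rw [hH24]; norm_num)
      obtain ⟨Q, hQ⟩ := exists_sylow_zpowers (fun P => ((sylow_three h).2 P).1)
        (x := (y : G)) (by rw [Subgroup.orderOf_coe, hy])
      have hQH : (Q : Subgroup G) ≤ H := hQ ▸ zpowers_le.2 y.2
      have hn4 : Nat.card (Sylow 3 H) ∣ 8 := card_sylow_dvd (a := 1) (by rw [hH24]; norm_num) (by norm_num)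
      have hn4' : Nat.card (Sylow 3 H) ≤ 4 := by
        have hm' := card_sylow_mod (G := H) 3
        have := Nat.le_of_dvd (by norm_num) hn4
        obtain ⟨j, hj⟩ : ∃ j, Nat.card (Sylow 3 H) = j := ⟨_, rfl⟩
        rw [hj] at hm' hn4 this ⊢
        interval_cases j <;> omega
      have hm2 := card_sylow_mul_card_normalizer (Q.subtype hQH)
      rw [hH24, Sylow.coe_subtype, ← subgroupOf_normalizer_eq hQH, ← inf_subgroupOf_right,
        Nat.card_congr (subgroupOfEquivOfLe inf_le_right).toEquiv] at hm2
      have hQN : normalizer ((Q : Subgroup G) : Set G) ≤ H := by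
        set R := normalizer ((Q : Subgroup G) : Set G) ⊓ H with hR
        have h6 : 6 ≤ Nat.card R := by nlinarith [hm2, hn4']
        exact (eq_of_le_of_card_ge (inf_le_left : R ≤ _)
          (by rw [((sylow_three h).2 Q).2.1]; exact h6)).ge.trans inf_le_right
      obtain ⟨g, hg⟩ := MulAction.exists_smul_eq G Q P
      have hmap : (normalizer ((Q : Subgroup G) : Set G)).map (MulAut.conj g).toMonoidHom ≤
          H.map (MulAut.conj g).toMonoidHom := map_mono hQN
      rw [map_equiv_normalizer_eq, show (Q : Subgroup G).map (MulAut.conj g).toMonoidHom =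
        (P : Subgroup G) by rw [← hg]; rfl, ← hMN] at hmap
      have hHg : Nat.card (H.map (MulAut.conj g).toMonoidHom) = 24 :=
        (Nat.card_congr (H.equivMapOfInjective _ (MulAut.conj g).injective).toEquiv).symm.trans hH24
      have hMH := hmax _ hmap fun e => by rw [e, card_top, h] at hHg; omega
      rw [← hMH, hMN, hN6] at hHg
      omega
    -- four Sylow 3-subgroups
    have hk12 : k = 4 ∨ k = 8 := by
      have hk8' : k ≤ 8 := by omega
      have hk0 : 0 < k := Nat.pos_of_ne_zero fun e => hk' (e ▸ dvd_zero 3)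
      have hnk := Nat.le_of_dvd hk0 hd
      have hn8 : n ≤ 8 := hnk.trans hk8'
      interval_cases n <;> interval_cases k <;> omega
    rcases hk12 with hk4 | hk4
    · -- order twelve
      have hM12 : Nat.card M = 12 := by omega
      obtain ⟨S⟩ : Nonempty (Sylow 2 M) := Sylow.nonempty
      have hS : Nat.card (S : Subgroup M) = 4 := by
        rw [card_sylow_eq_pow (a := 2) (m := 3) (by rw [hM12]; norm_num) (by norm_num) S]; rfl
      have hn4 : n = 4 := by
        rw [hk4] at hd
        have := Nat.le_of_dvd (by norm_num) hd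
        interval_cases n <;> omega
      -- the rest of `M` is the Sylow 2-subgroup
      classical
      have := Fintype.ofFinite M
      have hcount : Nat.card {g : M // orderOf g = 3} = 8 := by
        rw [card_orderOf_eq_mul (fun P => by rw [card_sylow_eq_pow hk1 hk' P, pow_one]), hn, hn4]
      have hSub : ∀ S' : Sylow 2 M, ∀ g : M, g ∈ (S' : Subgroup M) ↔ orderOf g ≠ 3 := by
        intro S' g
        have hS' : Nat.card (S' : Subgroup M) = 4 := (Nat.card_congr (Sylow.equiv S' S).toEquiv).trans hS
        have hsub : Finset.univ.filter (fun g : M => g ∈ (S' : Subgroup M)) ⊆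
            Finset.univ.filter (fun g : M => ¬ orderOf g = 3) := by
          intro g hg
          simp only [Finset.mem_filter, Finset.mem_univ, true_and] at hg ⊢
          intro e
          have := Subgroup.orderOf_dvd_natCard _ hg
          rw [e, hS'] at this
          norm_num at this
        have hc1 : (Finset.univ.filter (fun g : M => g ∈ (S' : Subgroup M))).card = 4 := by
          rw [← Fintype.card_subtype, ← Nat.card_eq_fintype_card]
          exact hS'
        have hc2 : (Finset.univ.filter (fun g : M => ¬ orderOf g = 3)).card = 4 := by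
          rw [← Fintype.card_subtype, Fintype.card_subtype_compl, ← Nat.card_eq_fintype_card,
            ← Nat.card_eq_fintype_card, hcount, hM12]
        have heq := Finset.eq_of_subset_of_card_le hsub (by rw [hc1, hc2])
        simpa using Finset.ext_iff.1 heq g
      have : Subsingleton (Sylow 2 M) :=
        ⟨fun A B => Sylow.ext (SetLike.ext fun g => (hSub A g).trans (hSub B g).symm)⟩
      have hSn : (S : Subgroup M).Normal := Sylow.normal_of_subsingleton S
      set V := (S : Subgroup M).map M.subtype with hV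
      have hVc : Nat.card V = 4 := by
        rw [hV, ← Nat.card_congr ((S : Subgroup M).equivMapOfInjective _ M.subtype_injective).toEquiv, hS]
      have hVM : V ≤ M := map_subtype_le _
      have hMV : M ≤ normalizer (V : Set G) := by
        rw [← normal_subgroupOf_iff_le_normalizer hVM, hV, ← comap_subtype,
          comap_map_eq_self_of_injective M.subtype_injective]
        exact hSn
      have hVK : IsKleinFour V := isKleinFour_of_not_cyclic hVc fun hcy => by
        obtain ⟨v, hv⟩ := hcy.exists_ofOrder_eq_natCard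
        rw [hVc, ← Subgroup.orderOf_coe] at hv
        have hzv : zpowers (v : G) = V :=
          eq_of_le_of_card_ge (zpowers_le.2 v.2) (by rw [hVc, Nat.card_zpowers, hv])
        obtain ⟨e, he, hNc, -⟩ := exists_normalizer_index V
        have hC : Nat.card (centralizer (V : Set G)) = 4 := by
          rw [← hzv, zpowers_eq_closure, centralizer_closure, centralizer_four h hv]
        rw [IsCyclic.card_mulAut, hVc] at he
        rw [hC] at hNc
        have he2 := Nat.le_of_dvd (by decide) he
        rw [show Nat.totient 4 = 2 by decide] at he2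
        have := card_le_of_le hMV
        rw [hNc, hM12] at this
        omega
      exact ⟨V, hVK, hmax _ hMV (normalizer_klein_ne_top h hVK)⟩
    · -- order twenty-four
      have hM24 : Nat.card M = 24 := by omega
      obtain ⟨e⟩ := equiv_s4 h hM24
      set V := s4Klein.map (M.subtype.comp e.symm.toMonoidHom) with hV
      have hinj : Function.Injective (M.subtype.comp e.symm.toMonoidHom) :=
        Subtype.val_injective.comp e.symm.injective
      have hVK : IsKleinFour V :=
        isKleinFour_of_equiv (Subgroup.equivMapOfInjective _ _ hinj) isKleinFour_s4Klein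
      have hMV : M ≤ normalizer (V : Set G) := by
        intro m hm
        have he : (M.subtype.comp e.symm.toMonoidHom) (e ⟨m, hm⟩) = m := by simp
        rw [hV, ← he]
        exact le_normalizer_map _
          ⟨e ⟨m, hm⟩, (normalizer_eq_top_iff.2 s4Klein_normal).symm ▸ mem_top _, rfl⟩
      exact ⟨V, hVK, hmax _ hMV (normalizer_klein_ne_top h hVK)⟩
  · -- a 2-group
    exfalso
    have hk : Nat.card M ∣ 2 ^ 3 := by
      have hd : Nat.card M ∣ 2 ^ 3 * (3 * 7) := hdvd.trans (by norm_num)
      refine Nat.Coprime.dvd_of_dvd_mul_right ?_ hd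
      rw [Nat.coprime_mul_iff_right]
      exact ⟨((Nat.Prime.coprime_iff_not_dvd (by norm_num)).2 h3).symm,
        ((Nat.Prime.coprime_iff_not_dvd (by norm_num)).2 h7).symm⟩
    obtain ⟨i, -, hi⟩ := (Nat.dvd_prime_pow Nat.prime_two).1 hk
    obtain ⟨T, hT⟩ := (IsPGroup.of_card hi : IsPGroup 2 M).exists_le_sylow
    obtain ⟨U, hUT, hU⟩ := exists_klein h T
    have hMN := hmax _ (hT.trans (normal_in_sylow h hUT hU)) (normalizer_klein_ne_top h hU)
    have := card_le_of_le hT
    rw [hMN, card_normalizer_klein h hU, card_sylow_two_eq h] at this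
    omega

end Order168

end Cfsg.Agent.SmallOrder
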