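import Cfsg.Agent.SmallOrder.Two
import Cfsg.Agent.Char.Perm

/-!
# The simple groups of order 168
-/

set_option autoImplicit false

namespace Cfsg.Agent.SmallOrder

open Subgroup

variable {G : Type*} [Group G] [Finite G]

/-- An element of order `p` generates a Sylow subgroup when these have order `p`. -/
theorem exists_sylow_zpowers {p : ℕ} [hp : Fact p.Prime]
    (hP : ∀ P : Sylow p G, Nat.card (P : Subgroup G) = p) {x : G} (hx : orderOf x = p) :
    ∃ P : Sylow p G, (P : Subgroup G) = zpowers x := by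
  obtain ⟨P, hle⟩ := (IsPGroup.of_card (n := 1) (by rw [Nat.card_zpowers, hx, pow_one]) :
    IsPGroup p (zpowers x)).exists_le_sylow
  exact ⟨P, (eq_of_le_of_card_ge hle (by rw [hP, Nat.card_zpowers, hx])).symm⟩

theorem centralizer_eq_of_card {p : ℕ} [hp : Fact p.Prime]
    (hP : ∀ P : Sylow p G, Nat.card (P : Subgroup G) = p)
    (hC : ∀ P : Sylow p G, Nat.card (centralizer ((P : Subgroup G) : Set G)) = p)
    {x : G} (hx : orderOf x = p) : centralizer ({x} : Set G) = zpowers x := by
  obtain ⟨P, hPx⟩ := exists_sylow_zpowers hP hx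
  have h1 := hC P
  rw [hPx, zpowers_eq_closure, centralizer_closure] at h1
  refine (eq_of_le_of_card_ge ?_ (by rw [h1, Nat.card_zpowers, hx])).symm
  rw [zpowers_le, mem_centralizer_singleton_iff]

theorem orderOf_eq_of_dvd {p : ℕ} [hp : Fact p.Prime]
    (hC : ∀ x : G, orderOf x = p → centralizer ({x} : Set G) = zpowers x)
    {g : G} (h : p ∣ orderOf g) : orderOf g = p := by
  obtain ⟨k, hk⟩ := h
  have hg := orderOf_pos g
  have hk0 : k ≠ 0 := by rintro rfl; omega
  have ho : orderOf (g ^ k) = p := by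
    rw [orderOf_pow' _ hk0, hk, Nat.gcd_eq_right (dvd_mul_left k p),
      Nat.mul_div_cancel _ (by omega)]
  have hmem : g ∈ zpowers (g ^ k) := by
    rw [← hC _ ho, mem_centralizer_singleton_iff]
    exact ((Commute.refl g).pow_right k).eq
  refine ((Nat.dvd_prime hp.out).1 ?_).resolve_left fun e => hp.out.ne_one ?_
  · exact (Subgroup.orderOf_dvd_natCard _ hmem).trans (by rw [Nat.card_zpowers, ho])
  · rw [e] at hk
    exact Nat.eq_one_of_mul_eq_one_right hk.symm

/-- A nonabelian group of order eight with an involution outside its centre is dihedral. -/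
theorem nonempty_mulEquiv_dihedral {H : Type*} [Group H] [Finite H] (hH : Nat.card H = 8)
    (hnc : ¬ IsMulCommutative H) (hs : ∃ s : H, orderOf s = 2 ∧ s ∉ center H) :
    Nonempty (H ≃* DihedralGroup 4) := by
  classical
  obtain ⟨s, hs2, hsc⟩ := hs
  obtain ⟨a, ha⟩ : ∃ a : H, orderOf a = 4 := by
    by_contra! hno
    apply hnc
    have hsq : ∀ x : H, x ^ 2 = 1 := fun x => by
      have hd : orderOf x ∣ 2 ^ 3 := (orderOf_dvd_natCard x).trans (by rw [hH]; norm_num)
      obtain ⟨i, hi, hix⟩ := (Nat.dvd_prime_pow Nat.prime_two).1 hd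
      have h4 := hno x
      rw [← orderOf_dvd_iff_pow_eq_one, hix]
      interval_cases i
      · norm_num
      · norm_num
      · rw [hix] at h4; norm_num at h4
      · exfalso
        have hx8 : orderOf x = Nat.card H := by rw [hix, hH]; norm_num
        have := isCyclic_of_orderOf_eq_card x hx8
        exact hnc inferInstance
    exact ⟨⟨fun u v => by
      have e : ∀ w : H, w⁻¹ = w := fun w => inv_eq_of_mul_eq_one_right (by rw [← sq]; exact hsq w)
      rw [← e (u * v), mul_inv_rev, e u, e v]⟩⟩
  have hidx : (zpowers a).index = 2 := by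
    have := (zpowers a).card_mul_index
    rw [Nat.card_zpowers, ha, hH] at this
    omega
  have hAn : (zpowers a).Normal := normal_of_index_eq_two hidx
  have haI : ∀ x ∈ zpowers a, x = 1 ∨ x = a ∨ x = a ^ 2 ∨ x = a ^ 3 := by
    intro x hx
    obtain ⟨k, hk, hkx⟩ : ∃ k, k < 4 ∧ a ^ k = x := by
      rw [mem_zpowers_iff_mem_range_orderOf, ha] at hx
      obtain ⟨k, hk, hkx⟩ := Finset.mem_image.1 hx
      exact ⟨k, Finset.mem_range.1 hk, hkx⟩
    subst hkx
    interval_cases k <;> simp
  have ha4 : a ^ 4 = 1 := ha ▸ pow_orderOf_eq_one a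
  have hord : ∀ k, k < 4 → a ^ k = 1 → k = 0 := fun k hk e => by
    have := orderOf_dvd_of_pow_eq_one e
    rw [ha] at this
    rcases Nat.eq_zero_or_pos k with h | h
    · exact h
    · have := Nat.le_of_dvd h this; omega
  have hss : s * s = 1 := by rw [← sq, ← hs2, pow_orderOf_eq_one]
  have hsinv : s⁻¹ = s := inv_eq_of_mul_eq_one_right hss
  have hconj := fun x => hAn.conj_mem a (mem_zpowers a) x
  have hca : ∀ x, orderOf (x * a * x⁻¹) = 4 := fun x => by
    rw [show x * a * x⁻¹ = MulAut.conj x a by simp, MulEquiv.orderOf_eq, ha]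
  have hcases : ∀ x : H, x * a * x⁻¹ = a ∨ x * a * x⁻¹ = a ^ 3 := by
    intro x
    have h4 := hca x
    rcases haI _ (hconj x) with e | e | e | e
    · rw [e, orderOf_one] at h4; omega
    · exact Or.inl e
    · rw [e, orderOf_pow, ha] at h4; norm_num at h4
    · exact Or.inr e
  have hnot : s ∉ zpowers a := by
    intro hmem
    apply hsc
    have h2 : s = a ^ 2 := by
      rcases haI _ hmem with e | e | e | e
      · rw [e, orderOf_one] at hs2; omega
      · rw [e, ha] at hs2; omega
      · exact e
      · rw [e, orderOf_pow, ha] at hs2; norm_num at hs2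
    rw [mem_center_iff]
    intro x
    rw [h2]
    refine mul_inv_eq_iff_eq_mul.1 ?_
    rw [← conj_pow]
    rcases hcases x with e | e <;> rw [e]
    rw [← pow_mul, show 3 * 2 = 4 + 2 by rfl, pow_add, ha4, one_mul]
  have hsas : s * a * s = a ^ 3 := by
    rcases hcases s with e | e
    · exfalso
      apply hnc
      have hc : Commute s a := mul_inv_eq_iff_eq_mul.1 e
      have hgen : ∀ x : H, x ∈ zpowers a ∨ s * x ∈ zpowers a := fun x => by
        by_cases hx : x ∈ zpowers a
        · exact Or.inl hx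
        · exact Or.inr ((mul_mem_iff_of_index_two hidx).2 (iff_of_false hnot hx))
      have hcom : ∀ x, Commute x a ∧ Commute x s := by
        intro x
        rcases hgen x with hx | hx
        · obtain ⟨k, rfl⟩ := mem_zpowers_iff.1 hx
          exact ⟨(Commute.refl a).zpow_left k, hc.symm.zpow_left k⟩
        · obtain ⟨k, hk⟩ := mem_zpowers_iff.1 hx
          have : x = s * a ^ k := by rw [hk, ← mul_assoc, hss, one_mul]
          rw [this]
          exact ⟨hc.mul_left ((Commute.refl a).zpow_left k),
            (Commute.refl s).mul_left (hc.symm.zpow_left k)⟩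
      refine ⟨⟨fun u v => ?_⟩⟩
      rcases hgen v with hv | hv
      · obtain ⟨k, rfl⟩ := mem_zpowers_iff.1 hv
        exact ((hcom u).1.zpow_right k).eq
      · obtain ⟨k, hk⟩ := mem_zpowers_iff.1 hv
        have : v = s * a ^ k := by rw [hk, ← mul_assoc, hss, one_mul]
        rw [this]
        exact ((hcom u).2.mul_right ((hcom u).1.zpow_right k)).eq
    · rwa [hsinv] at e
  have hrel : ∀ k : ℕ, a ^ k * s = s * a ^ (3 * k) := by
    intro k
    have h1 : ∀ k : ℕ, (s * a * s) ^ k = s * a ^ k * s := fun k => by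
      have := conj_pow (a := s) (b := a) (i := k)
      rwa [hsinv] at this
    rw [pow_mul, ← hsas, h1, ← mul_assoc, ← mul_assoc, hss, one_mul]
  have hmod : ∀ i j : ℕ, i % 4 = j % 4 → a ^ i = a ^ j := fun i j e =>
    (pow_eq_pow_iff_modEq.2 (by rw [ha]; exact e))
  let f : DihedralGroup 4 → H := fun d => match d with
    | DihedralGroup.r i => a ^ i.val
    | DihedralGroup.sr i => s * a ^ i.val
  have hmul : ∀ x y, f (x * y) = f x * f y := by
    rintro (i | i) (j | j)
    · show a ^ (i + j).val = a ^ i.val * a ^ j.val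
      rw [← pow_add]
      apply hmod
      rw [ZMod.val_add]; omega
    · show s * a ^ (j - i).val = a ^ i.val * (s * a ^ j.val)
      rw [← mul_assoc, hrel, mul_assoc, ← pow_add]
      congr 1
      apply hmod
      revert i j; decide
    · show s * a ^ (i + j).val = s * a ^ i.val * a ^ j.val
      rw [mul_assoc, ← pow_add]
      congr 1
      apply hmod
      rw [ZMod.val_add]; omega
    · show a ^ (j - i).val = s * a ^ i.val * (s * a ^ j.val)
      rw [mul_assoc, ← mul_assoc (a ^ i.val) s, hrel, mul_assoc, ← pow_add, ← mul_assoc, hss,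
        one_mul]
      apply hmod
      revert i j; decide
  let F : DihedralGroup 4 →* H := MonoidHom.mk' f hmul
  have hinj : Function.Injective F := by
    rw [injective_iff_map_eq_one]
    rintro (i | i) hi
    · change a ^ i.val = 1 at hi
      rw [DihedralGroup.one_def]
      exact congrArg _ ((ZMod.val_eq_zero i).1 (hord _ (ZMod.val_lt i) hi))
    · change s * a ^ i.val = 1 at hi
      refine absurd ?_ hnot
      rw [show s = (a ^ i.val)⁻¹ from eq_inv_of_mul_eq_one_left hi]
      exact inv_mem (pow_mem (mem_zpowers a) _)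
  exact ⟨(MulEquiv.ofBijective F ((Nat.bijective_iff_injective_and_card F).2
    ⟨hinj, by rw [hH, DihedralGroup.nat_card]⟩)).symm⟩

namespace Order168

variable [IsSimpleGroup G] (h : Nat.card G = 168)
include h

theorem not_comm : ¬ IsMulCommutative G := not_comm_of_card (by rw [h]; norm_num)

theorem sylow_seven [Fact (Nat.Prime 7)] : Nat.card (Sylow 7 G) = 8 ∧
    ∀ P : Sylow 7 G, Nat.card (P : Subgroup G) = 7 ∧
      Nat.card (normalizer ((P : Subgroup G) : Set G)) = 21 ∧
      Nat.card (centralizer ((P : Subgroup G) : Set G)) = 7 := by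
  obtain ⟨h1, h2, h3, -⟩ := sylow_data (p := 7) (a := 1) (m := 24) (by rw [h]; norm_num)
    one_ne_zero (by norm_num) (not_comm h)
  obtain ⟨n, hn⟩ : ∃ n, Nat.card (Sylow 7 G) = n := ⟨_, rfl⟩
  rw [hn] at h1 h2 h3
  have hn8 : n = 8 := by
    have := Nat.le_of_dvd (by norm_num) h1
    interval_cases n <;> omega
  refine ⟨hn.trans hn8, fun P => ?_⟩
  have hP : Nat.card (P : Subgroup G) = 7 := by
    rw [card_sylow_eq_pow (a := 1) (m := 24) (by rw [h]; norm_num) (by norm_num) P, pow_one]
  have hm := card_sylow_mul_card_normalizer P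
  rw [hn, hn8, h] at hm
  obtain ⟨e, he, hNc, he1⟩ := exists_normalizer_index (P : Subgroup G)
  rw [card_mulAut_of_prime hP] at he
  have hne : e ≠ 1 := fun hh => not_normalizer_le_centralizer (not_comm h)
    (by rw [h]; norm_num) P (he1 hh)
  have h7 : 7 ∣ Nat.card (centralizer ((P : Subgroup G) : Set G)) := by
    conv_lhs => rw [← hP]
    have := isCyclic_of_prime_card hP
    exact card_dvd_of_le (P : Subgroup G).le_centralizer
  obtain ⟨c, hc⟩ : ∃ c, Nat.card (centralizer ((P : Subgroup G) : Set G)) = c := ⟨_, rfl⟩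
  rw [hc] at hNc h7
  obtain ⟨d, rfl⟩ := h7
  refine ⟨hP, by omega, ?_⟩
  rw [hNc] at hm
  rw [hc]
  have he6 := Nat.le_of_dvd (by norm_num) he
  interval_cases e <;> omega

theorem centralizer_seven [Fact (Nat.Prime 7)] {x : G} (hx : orderOf x = 7) :
    centralizer ({x} : Set G) = zpowers x :=
  centralizer_eq_of_card (fun P => ((sylow_seven h).2 P).1) (fun P => ((sylow_seven h).2 P).2.2) hx

theorem sylow_three [Fact (Nat.Prime 3)] : Nat.card (Sylow 3 G) = 28 ∧
    ∀ P : Sylow 3 G, Nat.card (P : Subgroup G) = 3 ∧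
      Nat.card (normalizer ((P : Subgroup G) : Set G)) = 6 ∧
      Nat.card (centralizer ((P : Subgroup G) : Set G)) = 3 := by
  have hna := not_comm h
  obtain ⟨h1, h2, h3, h4⟩ := sylow_data (p := 3) (a := 1) (m := 56) (by rw [h]; norm_num)
    one_ne_zero (by norm_num) hna
  obtain ⟨n, hn⟩ : ∃ n, Nat.card (Sylow 3 G) = n := ⟨_, rfl⟩
  rw [hn] at h1 h2 h3 h4
  rw [h] at h4
  have hP : ∀ P : Sylow 3 G, Nat.card (P : Subgroup G) = 3 := fun P => by
    rw [card_sylow_eq_pow (a := 1) (m := 56) (by rw [h]; norm_num) (by norm_num) P, pow_one]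
  have hNC : ∀ P : Sylow 3 G, Nat.card (normalizer ((P : Subgroup G) : Set G)) =
      Nat.card (centralizer ((P : Subgroup G) : Set G)) * 2 := fun P => by
    obtain ⟨e, he, hNc, he1⟩ := exists_normalizer_index (P : Subgroup G)
    rw [card_mulAut_of_prime (hP P)] at he
    have hne : e ≠ 1 := fun hh => not_normalizer_le_centralizer hna (by rw [h]; norm_num) P (he1 hh)
    rw [hNc, ((Nat.dvd_prime Nat.prime_two).1 he).resolve_left hne]
  have hn28 : n = 28 := by
    have h' : n = 7 ∨ n = 28 := by
      have := Nat.le_of_dvd (by norm_num) h1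
      interval_cases n <;> first | omega | (norm_num [Nat.factorial] at h4)
    refine h'.resolve_left fun h7 => ?_
    obtain ⟨P⟩ : Nonempty (Sylow 3 G) := Sylow.nonempty
    obtain ⟨x, hx⟩ := exists_prime_orderOf_dvd_card' (G := (P : Subgroup G)) 3 (by rw [hP])
    rw [← Subgroup.orderOf_coe] at hx
    have hxP : zpowers (x : G) = (P : Subgroup G) :=
      eq_of_le_of_card_ge (zpowers_le.2 x.2) (by rw [hP, Nat.card_zpowers, hx])
    set H := normalizer ((P : Subgroup G) : Set G) with hH
    have hidx : H.index = 7 := P.card_eq_index_normalizer.symm.trans (hn.trans h7)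
    have hm := card_sylow_mul_card_normalizer P
    rw [hn, h7, h, hNC P] at hm
    obtain ⟨k, hk0, hkle, -, hfix, -, h2C⟩ :=
      centralizer_bound hna H (normalizer_ne_top hna (by rw [h]; norm_num) P) hx
    rw [hidx] at hkle hfix h2C
    -- exactly one coset is fixed
    have hfix1 : Nat.card (MulAction.fixedBy (G ⧸ H) (x : G)) = 1 := by
      rw [Nat.card_eq_one_iff_unique]
      refine ⟨⟨fun a b => Subtype.ext ?_⟩, ⟨⟨((1 : G) : G ⧸ H), ?_⟩⟩⟩
      · have key : ∀ c : MulAction.fixedBy (G ⧸ H) (x : G), (c : G ⧸ H) = ((1 : G) : G ⧸ H) := by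
          rintro ⟨c, hc⟩
          obtain ⟨c, rfl⟩ := QuotientGroup.mk_surjective c
          rw [MulAction.mem_fixedBy, MulAction.Quotient.smul_mk, smul_eq_mul, QuotientGroup.eq] at hc
          have hmem : c⁻¹ * x * c ∈ H := by
            have := H.inv_mem hc
            simpa [mul_assoc] using this
          have ho : orderOf (c⁻¹ * (x : G) * c) = 3 := by
            rw [show c⁻¹ * (x : G) * c = MulAut.conj c⁻¹ (x : G) by simp, MulEquiv.orderOf_eq, hx]
          have hp' : IsPGroup 3 (zpowers (c⁻¹ * (x : G) * c)) :=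
            IsPGroup.of_card (n := 1) (by rw [Nat.card_zpowers, ho, pow_one])
          have hz : zpowers (c⁻¹ * (x : G) * c) = (P : Subgroup G) := by
            refine eq_of_le_of_card_ge ?_ (by rw [hP, Nat.card_zpowers, ho])
            intro y hy
            have h1 : y ∈ zpowers (c⁻¹ * (x : G) * c) ⊓ H := ⟨hy, zpowers_le.2 hmem hy⟩
            rw [hH] at h1
            erw [hp'.inf_normalizer_sylow P] at h1
            exact h1.2
          refine QuotientGroup.eq.2 ?_
          rw [mul_one]
          refine H.inv_mem ?_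
          -- `c` normalises `P`
          have hmap : (P : Subgroup G).map (MulAut.conj c⁻¹).toMonoidHom = P := by
            calc (P : Subgroup G).map (MulAut.conj c⁻¹).toMonoidHom
                = (zpowers (x : G)).map (MulAut.conj c⁻¹).toMonoidHom := by rw [hxP]
              _ = zpowers (c⁻¹ * (x : G) * c) := by rw [MonoidHom.map_zpowers]; simp
              _ = _ := hz
          refine mem_normalizer_iff.2 fun y => ?_
          constructor
          · intro hy
            obtain ⟨w, hw, hwy⟩ := hmap.ge hy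
            have : c * y * c⁻¹ = w := by
              rw [← hwy]; simp [mul_assoc]
            rw [this]; exact hw
          · intro hy
            have h2 := hmap.le ⟨_, hy, rfl⟩
            simpa [mul_assoc] using h2
        rw [key a, key b]
      · rw [MulAction.mem_fixedBy, MulAction.Quotient.smul_mk, smul_eq_mul, QuotientGroup.eq]
        simpa using H.inv_mem (le_normalizer x.2)
    rw [hfix1] at hfix
    obtain rfl : k = 2 := by omega
    have h2C' := h2C (by omega)
    rw [← centralizer_closure, ← zpowers_eq_closure, hxP,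
      show Nat.card (centralizer ((P : Subgroup G) : Set G)) = 12 by omega] at h2C'
    norm_num [Nat.factorial] at h2C'
  refine ⟨hn.trans hn28, fun P => ?_⟩
  have hm := card_sylow_mul_card_normalizer P
  rw [hn, hn28, h, hNC P] at hm
  exact ⟨hP P, by rw [hNC P]; omega, by omega⟩

theorem centralizer_three [Fact (Nat.Prime 3)] {x : G} (hx : orderOf x = 3) :
    centralizer ({x} : Set G) = zpowers x :=
  centralizer_eq_of_card (fun P => ((sylow_three h).2 P).1) (fun P => ((sylow_three h).2 P).2.2) hx

theorem orderOf_cases (g : G) : orderOf g = 3 ∨ orderOf g = 7 ∨ orderOf g ∣ 2 ^ 3 := by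
  have : Fact (Nat.Prime 3) := ⟨by norm_num⟩
  have : Fact (Nat.Prime 7) := ⟨by norm_num⟩
  by_cases h3 : 3 ∣ orderOf g
  · exact Or.inl (orderOf_eq_of_dvd (fun x hx => centralizer_three h hx) h3)
  by_cases h7 : 7 ∣ orderOf g
  · exact Or.inr (Or.inl (orderOf_eq_of_dvd (fun x hx => centralizer_seven h hx) h7))
  refine Or.inr (Or.inr ?_)
  have hd : orderOf g ∣ 2 ^ 3 * 21 := (orderOf_dvd_natCard g).trans (by rw [h]; norm_num)
  refine Nat.Coprime.dvd_of_dvd_mul_right ?_ hd
  rw [show (21 : ℕ) = 3 * 7 by rfl, Nat.coprime_mul_iff_right]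
  exact ⟨((Nat.Prime.coprime_iff_not_dvd (by norm_num)).2 h3).symm,
    ((Nat.Prime.coprime_iff_not_dvd (by norm_num)).2 h7).symm⟩

theorem card_three : Nat.card {g : G // orderOf g = 3} = 56 := by
  have : Fact (Nat.Prime 3) := ⟨by norm_num⟩
  rw [card_orderOf_eq_mul (fun P => ((sylow_three h).2 P).1), (sylow_three h).1]

theorem card_seven : Nat.card {g : G // orderOf g = 7} = 48 := by
  have : Fact (Nat.Prime 7) := ⟨by norm_num⟩
  rw [card_orderOf_eq_mul (fun P => ((sylow_seven h).2 P).1), (sylow_seven h).1]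

/-- The nontrivial 2-elements. -/
theorem card_two_elements : Nat.card {g : G // g ≠ 1 ∧ orderOf g ∣ 2 ^ 3} = 63 := by
  classical
  have := Fintype.ofFinite G
  have h3 := card_three h
  have h7 := card_seven h
  have h168 := h
  simp only [Nat.card_eq_fintype_card, Fintype.card_subtype] at h3 h7 h168 ⊢
  have hcover : (Finset.univ : Finset G) = ((Finset.univ.filter (fun g : G => orderOf g = 3)) ∪
      (Finset.univ.filter (fun g : G => orderOf g = 7))) ∪
      ((Finset.univ.filter (fun g : G => g ≠ 1 ∧ orderOf g ∣ 2 ^ 3)) ∪ {1}) := by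
    ext g
    simp only [Finset.mem_univ, Finset.mem_union, Finset.mem_filter, true_and, Finset.mem_singleton,
      true_iff]
    rcases orderOf_cases h g with e | e | e <;> tauto
  have hc := congrArg Finset.card hcover
  rw [Finset.card_univ, Finset.card_union_of_disjoint, Finset.card_union_of_disjoint,
    Finset.card_union_of_disjoint, Finset.card_singleton, h3, h7] at hc
  · omega
  all_goals rw [Finset.disjoint_left]; intro g
  · simp only [Finset.mem_filter, Finset.mem_univ, true_and, Finset.mem_singleton]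
    exact fun hg => hg.1
  · simp only [Finset.mem_filter, Finset.mem_univ, true_and]
    omega
  · simp only [Finset.mem_union, Finset.mem_filter, Finset.mem_univ, true_and, Finset.mem_singleton]
    rintro (e | e) (⟨-, hd⟩ | rfl)
    · rw [e] at hd; norm_num at hd
    · rw [orderOf_one] at e; omega
    · rw [e] at hd; norm_num at hd
    · rw [orderOf_one] at e; omega

omit [IsSimpleGroup G] in
theorem card_sylow_two_eq (T : Sylow 2 G) : Nat.card (T : Subgroup G) = 8 := by
  have : Fact (Nat.Prime 2) := ⟨Nat.prime_two⟩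
  rw [card_sylow_eq_pow (a := 3) (m := 21) (by rw [h]; norm_num) (by norm_num) T]
  rfl

omit h [IsSimpleGroup G] in
theorem card_sigma_sylow_two (h : Nat.card G = 168) :
    Nat.card (Σ T : Sylow 2 G, {x : (T : Subgroup G) // x ≠ 1}) = Nat.card (Sylow 2 G) * 7 := by
  classical
  have := Fintype.ofFinite (Sylow 2 G)
  rw [Nat.card_sigma, Finset.sum_congr rfl (g := fun _ => 7) fun T _ => ?_, Finset.sum_const,
    Finset.card_univ, smul_eq_mul, Nat.card_eq_fintype_card (α := Sylow 2 G)]
  have := Fintype.ofFinite (T : Subgroup G)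
  rw [Nat.card_eq_fintype_card, Fintype.card_subtype_compl, Fintype.card_subtype_eq,
    ← Nat.card_eq_fintype_card, card_sylow_two_eq h]

/-- The map from pairs `(T, x)` to the nontrivial 2-elements. -/
noncomputable def toTwoElt (s : Σ T : Sylow 2 G, {x : (T : Subgroup G) // x ≠ 1}) :
    {g : G // g ≠ 1 ∧ orderOf g ∣ 2 ^ 3} :=
  ⟨s.2.1, fun e => s.2.2 (Subtype.ext e), (Subgroup.orderOf_dvd_natCard _ s.2.1.2).trans
    (card_sylow_two_eq h s.1).dvd⟩

omit [IsSimpleGroup G] in
theorem toTwoElt_surjective : Function.Surjective (toTwoElt h) := by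
  have : Fact (Nat.Prime 2) := ⟨Nat.prime_two⟩
  rintro ⟨g, hg1, hgd⟩
  obtain ⟨i, -, hi⟩ := (Nat.dvd_prime_pow Nat.prime_two).1 hgd
  obtain ⟨T, hT⟩ := (IsPGroup.of_card (n := i) (by rw [Nat.card_zpowers, hi]) :
    IsPGroup 2 (zpowers g)).exists_le_sylow
  exact ⟨⟨T, ⟨⟨g, hT (mem_zpowers g)⟩, fun e => hg1 (congrArg Subtype.val e)⟩⟩, rfl⟩

theorem sylow_two : Nat.card (Sylow 2 G) = 21 ∧
    ∀ T : Sylow 2 G, normalizer ((T : Subgroup G) : Set G) = T := by
  have : Fact (Nat.Prime 2) := ⟨Nat.prime_two⟩
  obtain ⟨h1, h2, h3, h4⟩ := sylow_data (p := 2) (a := 3) (m := 21) (by rw [h]; norm_num)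
    (by norm_num) (by norm_num) (not_comm h)
  have h63 := Nat.card_le_card_of_surjective _ (toTwoElt_surjective h)
  rw [card_two_elements h, card_sigma_sylow_two h] at h63
  obtain ⟨n, hn⟩ : ∃ n, Nat.card (Sylow 2 G) = n := ⟨_, rfl⟩
  rw [hn] at h1 h2 h3 h4 h63
  have hn21 : n = 21 := by
    have hle := Nat.le_of_dvd (by norm_num) h1
    interval_cases n <;> omega
  refine ⟨hn.trans hn21, fun T => ?_⟩
  have hm := card_sylow_mul_card_normalizer T
  rw [hn, hn21, h] at hm
  exact (eq_of_le_of_card_ge le_normalizer (by rw [card_sylow_two_eq h]; omega)).symm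

theorem sylow_two_not_comm (T : Sylow 2 G) : ¬ IsMulCommutative (T : Subgroup G) := fun hc => by
  have : Fact (Nat.Prime 2) := ⟨Nat.prime_two⟩
  refine not_normalizer_le_centralizer (not_comm h) (by rw [h]; norm_num) T ?_
  rw [(sylow_two h).2 T]
  exact fun a ha => mem_centralizer_iff.2 fun b hb =>
    (congrArg Subtype.val (hc.is_comm.comm ⟨a, ha⟩ ⟨b, hb⟩)).symm

theorem isPGroup_centralizer {z : G} (hz1 : z ≠ 1) (hzd : orderOf z ∣ 2 ^ 3) :
    IsPGroup 2 (centralizer ({z} : Set G)) := by
  have h3' : Fact (Nat.Prime 3) := ⟨by norm_num⟩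
  have h7' : Fact (Nat.Prime 7) := ⟨by norm_num⟩
  intro g
  rcases orderOf_cases h g.1 with e | e | e
  · exfalso
    have hm : z ∈ zpowers (g : G) := by
      rw [← centralizer_three h e, mem_centralizer_singleton_iff]
      exact (mem_centralizer_singleton_iff.1 g.2).symm
    have hd := Subgroup.orderOf_dvd_natCard _ hm
    rw [Nat.card_zpowers, e] at hd
    have := Nat.dvd_gcd hd hzd
    norm_num at this
    exact hz1 (orderOf_eq_one_iff.1 (by simpa using this))
  · exfalso
    have hm : z ∈ zpowers (g : G) := by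
      rw [← centralizer_seven h e, mem_centralizer_singleton_iff]
      exact (mem_centralizer_singleton_iff.1 g.2).symm
    have hd := Subgroup.orderOf_dvd_natCard _ hm
    rw [Nat.card_zpowers, e] at hd
    have := Nat.dvd_gcd hd hzd
    norm_num at this
    exact hz1 (orderOf_eq_one_iff.1 (by simpa using this))
  · exact ⟨3, orderOf_dvd_iff_pow_eq_one.1 (Subgroup.orderOf_coe g ▸ e)⟩

omit h [IsSimpleGroup G] in
theorem exists_sylow_centralizer {z : G} (hz : IsPGroup 2 (centralizer ({z} : Set G))) :
    ∃ T : Sylow 2 G, centralizer ({z} : Set G) ≤ T ∧ z ∈ (T : Subgroup G) := by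
  obtain ⟨T, hT⟩ := hz.exists_le_sylow
  exact ⟨T, hT, hT (mem_centralizer_singleton_iff.2 rfl)⟩

theorem centralizer_of_center {T : Sylow 2 G} {z : G} (hz : z ∈ (T : Subgroup G)) (hz1 : z ≠ 1)
    (hc : ∀ t ∈ (T : Subgroup G), t * z = z * t) : centralizer ({z} : Set G) = T := by
  have hle : (T : Subgroup G) ≤ centralizer ({z} : Set G) := fun t ht =>
    mem_centralizer_singleton_iff.2 (hc t ht)
  exact T.is_maximal' (isPGroup_centralizer h hz1
    ((Subgroup.orderOf_dvd_natCard _ hz).trans (card_sylow_two_eq h T).dvd)) hle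

theorem exists_central_involution (T : Sylow 2 G) :
    ∃ z ∈ (T : Subgroup G), orderOf z = 2 ∧ ∀ t ∈ (T : Subgroup G), t * z = z * t := by
  have : Fact (Nat.Prime 2) := ⟨Nat.prime_two⟩
  have : Nontrivial (T : Subgroup G) := by
    rw [← Finite.one_lt_card_iff_nontrivial, card_sylow_two_eq h]; norm_num
  have hne := T.isPGroup'.center_nontrivial
  obtain ⟨k, hk⟩ := (T.isPGroup'.to_subgroup (center (T : Subgroup G))).exists_card_eq
  have h2 : 2 ∣ Nat.card (center (T : Subgroup G)) := by
    rw [hk]
    refine dvd_pow_self 2 ?_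
    rintro rfl
    rw [pow_zero] at hk
    exact (Finite.one_lt_card_iff_nontrivial.2 hne).ne' hk
  obtain ⟨z, hz⟩ := exists_prime_orderOf_dvd_card' 2 h2
  exact ⟨(z : (T : Subgroup G)), (z : (T : Subgroup G)).2, by
    rw [Subgroup.orderOf_coe, Subgroup.orderOf_coe, hz],
    fun t ht => congrArg Subtype.val (mem_center_iff.1 z.2 ⟨t, ht⟩)⟩

theorem exists_noncentral_involution (T : Sylow 2 G) :
    ∃ s : (T : Subgroup G), orderOf s = 2 ∧ s ∉ center (T : Subgroup G) := by
  have : Fact (Nat.Prime 2) := ⟨Nat.prime_two⟩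
  by_contra! hall
  -- then the Sylow subgroups meet trivially
  have hall' : ∀ S : Sylow 2 G, ∀ u ∈ (S : Subgroup G), orderOf u = 2 →
      ∀ t ∈ (S : Subgroup G), t * u = u * t := by
    intro S u hu hu2 t ht
    obtain ⟨g, rfl⟩ := MulAction.exists_smul_eq G T S
    rw [Sylow.coe_subgroup_smul, mem_pointwise_smul_iff_inv_smul_mem] at hu ht
    have h1 := mem_center_iff.1 (hall ⟨_, hu⟩ (by
      rw [← Subgroup.orderOf_coe]
      simpa [MulAut.smul_def] using ((MulAut.conj g)⁻¹.orderOf_eq u).trans hu2)) ⟨_, ht⟩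
    have h2 := congrArg Subtype.val h1
    simp only [MulMemClass.mk_mul_mk, ← smul_mul'] at h2
    exact smul_left_cancel _ h2
  have hinj : Function.Injective (toTwoElt h) := by
    rintro ⟨S, x, hx⟩ ⟨S', y, hy⟩ hxy
    have hxy' : (x : G) = y := congrArg Subtype.val hxy
    obtain ⟨i, -, hi⟩ := (Nat.dvd_prime_pow Nat.prime_two).1 (toTwoElt h ⟨S, x, hx⟩).2.2
    have hi' : orderOf (x : G) = 2 ^ i := hi
    have hi0 : i ≠ 0 := by
      rintro rfl
      exact hx (Subtype.ext (orderOf_eq_one_iff.1 hi'))
    set u := (x : G) ^ (orderOf (x : G) / 2) with hu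
    have hu2 : orderOf u = 2 :=
      orderOf_pow_orderOf_div (orderOf_pos _).ne' (hi' ▸ dvd_pow_self 2 hi0)
    have hu1 : u ≠ 1 := fun e => by rw [e, orderOf_one] at hu2; omega
    have hS : u ∈ (S : Subgroup G) := pow_mem x.2 _
    have hS' : u ∈ (S' : Subgroup G) := pow_mem (hxy' ▸ y.2) _
    have hSS : S = S' := Sylow.ext (by
      rw [← centralizer_of_center h hS hu1 (hall' S u hS hu2),
        centralizer_of_center h hS' hu1 (hall' S' u hS' hu2)])
    subst hSS
    obtain rfl : x = y := Subtype.ext hxy'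
    rfl
  have := Nat.card_le_card_of_injective _ hinj
  rw [card_sigma_sylow_two h, card_two_elements h, (sylow_two h).1] at this
  omega

theorem dihedral (T : Sylow 2 G) : Nonempty ((T : Subgroup G) ≃* DihedralGroup 4) :=
  nonempty_mulEquiv_dihedral (card_sylow_two_eq h T) (sylow_two_not_comm h T)
    (exists_noncentral_involution h T)

end Order168

end Cfsg.Agent.SmallOrder
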