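import Cfsg.Agent.SmallOrder.Order168
import Cfsg.Agent.Invol.Count

/-!
# Conjugacy classes of a simple group of order 168
-/

set_option autoImplicit false

namespace Cfsg.Agent.SmallOrder

open Subgroup

variable {G : Type*} [Group G] [Finite G]

theorem isConj_of_class_card {x : G} {n : ℕ} (hx : orderOf x = n)
    (hc : Nat.card {g : G // orderOf g = n} ≤ Nat.card {y : G // IsConj x y}) {y : G}
    (hy : orderOf y = n) : IsConj x y := by
  have hinc : ∀ z, IsConj x z → orderOf z = n := fun z hz => by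
    obtain ⟨g, rfl⟩ := isConj_iff.1 hz
    rw [show g * x * g⁻¹ = MulAut.conj g x by simp, MulEquiv.orderOf_eq, hx]
  let F : {z : G // IsConj x z} → {g : G // orderOf g = n} := fun z => ⟨z.1, hinc z.1 z.2⟩
  have hF : Function.Injective F := fun a b e => Subtype.ext (congrArg Subtype.val e :)
  obtain ⟨z, hz⟩ := (Nat.bijective_iff_injective_and_card F).2
    ⟨hF, le_antisymm (Nat.card_le_card_of_injective F hF) hc⟩ |>.2 ⟨y, hy⟩
  have hzy : (z : G) = y := congrArg Subtype.val hz
  exact hzy ▸ z.2

namespace Order168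

variable [IsSimpleGroup G] (h : Nat.card G = 168)
include h

theorem class_card {x : G} {c : ℕ} (hc : Nat.card (centralizer ({x} : Set G)) = c) :
    Nat.card {y : G // IsConj x y} * c = 168 := by
  rw [← hc, Invol.card_isConj_mul_card_centralizer, h]

theorem center_sq (T : Sylow 2 G) {t : G} (ht : t ∈ (T : Subgroup G))
    (hc : ∀ s ∈ (T : Subgroup G), s * t = t * s) : t ^ 2 = 1 := by
  obtain ⟨e⟩ := dihedral h T
  have key : ∀ d : DihedralGroup 4, (∀ x, x * d = d * x) → d * d = 1 := by decide
  have h1 : (⟨t, ht⟩ : (T : Subgroup G)) * ⟨t, ht⟩ = 1 := e.injective (by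
    rw [map_mul, map_one]
    refine key _ fun x => ?_
    obtain ⟨⟨s, hs⟩, rfl⟩ := e.surjective x
    rw [← map_mul, ← map_mul]
    exact congrArg e (Subtype.ext (hc s hs)))
  rw [sq]
  exact congrArg Subtype.val h1

theorem centralizer_four {y : G} (hy : orderOf y = 4) :
    Nat.card (centralizer ({y} : Set G)) = 4 := by
  have h2 : Fact (Nat.Prime 2) := ⟨Nat.prime_two⟩
  have hp := isPGroup_centralizer h (z := y) (fun e => by rw [e, orderOf_one] at hy; omega)
    (by rw [hy]; norm_num)
  obtain ⟨T, hT, hyT⟩ := exists_sylow_centralizer hp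
  have h4 : 4 ≤ Nat.card (centralizer ({y} : Set G)) := by
    rw [← hy, ← Nat.card_zpowers]
    exact card_le_of_le (zpowers_le.2 (mem_centralizer_singleton_iff.2 rfl))
  have hd := card_dvd_of_le hT
  rw [card_sylow_two_eq h] at hd
  have hle := Nat.le_of_dvd (by norm_num) hd
  have h8 : Nat.card (centralizer ({y} : Set G)) ≠ 8 := by
    intro e
    have hTC : centralizer ({y} : Set G) = T :=
      eq_of_le_of_card_ge hT (by rw [card_sylow_two_eq h, e])
    have := orderOf_dvd_of_pow_eq_one (center_sq h T hyT fun s hs =>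
      mem_centralizer_singleton_iff.1 (hTC ▸ hs : s ∈ centralizer ({y} : Set G)))
    rw [hy] at this
    norm_num at this
  interval_cases Nat.card (centralizer ({y} : Set G)) <;> omega

theorem exists_four : ∃ y : G, orderOf y = 4 := by
  obtain ⟨T⟩ : Nonempty (Sylow 2 G) := Sylow.nonempty
  obtain ⟨e⟩ := dihedral h T
  refine ⟨e.symm (DihedralGroup.r 1), ?_⟩
  rw [Subgroup.orderOf_coe, MulEquiv.orderOf_eq, DihedralGroup.orderOf_r_one]

theorem card_four : Nat.card {g : G // orderOf g = 2} = 21 ∧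
    Nat.card {g : G // orderOf g = 4} = 42 := by
  classical
  obtain ⟨T⟩ : Nonempty (Sylow 2 G) := Sylow.nonempty
  obtain ⟨z, hz, hz2, hzc⟩ := exists_central_involution h T
  have hz1 : z ≠ 1 := fun e => by rw [e, orderOf_one] at hz2; omega
  have hCz : Nat.card (centralizer ({z} : Set G)) = 8 := by
    rw [centralizer_of_center h hz hz1 hzc, card_sylow_two_eq h]
  obtain ⟨y, hy⟩ := exists_four h
  have c2 := class_card h hCz
  have c4 := class_card h (centralizer_four h hy)
  have le : ∀ (x : G) (n : ℕ), orderOf x = n →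
      Nat.card {w : G // IsConj x w} ≤ Nat.card {g : G // orderOf g = n} := fun x n hx =>
    Nat.card_le_card_of_injective (fun w => ⟨w.1, by
      obtain ⟨g, hg⟩ := isConj_iff.1 w.2
      rw [← hg, show g * x * g⁻¹ = MulAut.conj g x by simp, MulEquiv.orderOf_eq, hx]⟩)
      fun a b e => Subtype.ext (congrArg Subtype.val e :)
  have l2 := le z 2 hz2
  have l4 := le y 4 hy
  have h63 := card_two_elements h
  have := Fintype.ofFinite G
  have hsub : Nat.card {g : G // orderOf g = 2} + Nat.card {g : G // orderOf g = 4} ≤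
      Nat.card {g : G // g ≠ 1 ∧ orderOf g ∣ 2 ^ 3} := by
    simp only [Nat.card_eq_fintype_card, Fintype.card_subtype]
    rw [← Finset.card_union_of_disjoint]
    · refine Finset.card_le_card fun g hg => ?_
      simp only [Finset.mem_union, Finset.mem_filter, Finset.mem_univ, true_and] at hg ⊢
      rcases hg with e | e <;> refine ⟨fun e1 => ?_, by rw [e]; norm_num⟩ <;>
        · rw [e1, orderOf_one] at e; omega
    · exact Finset.disjoint_filter.2 fun g _ e1 e2 => by omega
  omega

theorem no_eight (g : G) : orderOf g ≠ 8 := by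
  intro hg
  have h2 : Fact (Nat.Prime 2) := ⟨Nat.prime_two⟩
  obtain ⟨T, hT⟩ := (IsPGroup.of_card (n := 3) (by rw [Nat.card_zpowers, hg]; norm_num) :
    IsPGroup 2 (zpowers g)).exists_le_sylow
  obtain ⟨e⟩ := dihedral h T
  have : orderOf (e ⟨g, hT (mem_zpowers g)⟩) = 8 := by
    rw [MulEquiv.orderOf_eq, Subgroup.orderOf_mk, hg]
  have key : ∀ d : DihedralGroup 4, d * d * (d * d) = 1 := by decide
  have h4 := orderOf_dvd_of_pow_eq_one (show e ⟨g, hT (mem_zpowers g)⟩ ^ 4 = 1 by
    rw [pow_succ, pow_succ, pow_succ, pow_one, mul_assoc, mul_assoc]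
    simpa [mul_assoc] using key (e ⟨g, hT (mem_zpowers g)⟩))
  rw [this] at h4
  norm_num at h4

theorem orderOf_five_cases (g : G) :
    orderOf g = 1 ∨ orderOf g = 2 ∨ orderOf g = 3 ∨ orderOf g = 4 ∨ orderOf g = 7 := by
  rcases orderOf_cases h g with e | e | e
  · omega
  · omega
  · have := no_eight h g
    have := Nat.le_of_dvd (by norm_num) e
    norm_num at this e
    interval_cases hh : orderOf g <;> omega

theorem isConj_two {s t : G} (hs : orderOf s = 2) (ht : orderOf t = 2) : IsConj s t := by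
  obtain ⟨T⟩ : Nonempty (Sylow 2 G) := Sylow.nonempty
  obtain ⟨z, hz, hz2, hzc⟩ := exists_central_involution h T
  have hz1 : z ≠ 1 := fun e => by rw [e, orderOf_one] at hz2; omega
  have hCz : Nat.card (centralizer ({z} : Set G)) = 8 := by
    rw [centralizer_of_center h hz hz1 hzc, card_sylow_two_eq h]
  have c2 := class_card h hCz
  have hle : Nat.card {g : G // orderOf g = 2} ≤ Nat.card {y : G // IsConj z y} := by
    rw [(card_four h).1]; omega
  exact (isConj_of_class_card hz2 hle hs).symm.trans (isConj_of_class_card hz2 hle ht)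

theorem centralizer_two {s : G} (hs : orderOf s = 2) :
    ∃ T : Sylow 2 G, centralizer ({s} : Set G) = T ∧ s ∈ (T : Subgroup G) := by
  have h2 : Fact (Nat.Prime 2) := ⟨Nat.prime_two⟩
  obtain ⟨T, hT, hsT⟩ := exists_sylow_centralizer
    (isPGroup_centralizer h (z := s) (fun e => by rw [e, orderOf_one] at hs; omega)
      (by rw [hs]; norm_num))
  refine ⟨T, eq_of_le_of_card_ge hT ?_, hsT⟩
  obtain ⟨T₀⟩ : Nonempty (Sylow 2 G) := Sylow.nonempty
  obtain ⟨z, hz, hz2, hzc⟩ := exists_central_involution h T₀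
  have hz1 : z ≠ 1 := fun e => by rw [e, orderOf_one] at hz2; omega
  have hcard := Invol.card_isConj_mul_card_centralizer s
  have hcz := Invol.card_isConj_mul_card_centralizer z
  have hconj := isConj_two h hs hz2
  rw [Nat.card_congr (Equiv.subtypeEquivRight fun y =>
    ⟨fun e => hconj.symm.trans e, fun e => hconj.trans e⟩), ← hcz] at hcard
  rw [Nat.eq_of_mul_eq_mul_left (Nat.pos_of_mul_pos_right (hcz.symm ▸ Nat.card_pos)) hcard,
    centralizer_of_center h hz hz1 hzc, card_sylow_two_eq h, card_sylow_two_eq h]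

theorem isConj_four {s t : G} (hs : orderOf s = 4) (ht : orderOf t = 4) : IsConj s t := by
  have c4 := class_card h (centralizer_four h hs)
  exact isConj_of_class_card hs (by rw [(card_four h).2]; omega) ht

theorem isConj_three {s t : G} (hs : orderOf s = 3) (ht : orderOf t = 3) : IsConj s t := by
  have : Fact (Nat.Prime 3) := ⟨by norm_num⟩
  have c3 := class_card h (c := 3) (x := s) (by rw [centralizer_three h hs, Nat.card_zpowers, hs])
  exact isConj_of_class_card hs (by rw [card_three h]; omega) ht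

theorem class_seven {x : G} (hx : orderOf x = 7) : Nat.card {y : G // IsConj x y} = 24 := by
  have : Fact (Nat.Prime 7) := ⟨by norm_num⟩
  have := class_card h (c := 7) (x := x) (by rw [centralizer_seven h hx, Nat.card_zpowers, hx])
  omega

theorem not_isConj_inv {x : G} (hx : orderOf x = 7) : ¬ IsConj x x⁻¹ := by
  have h7 : Fact (Nat.Prime 7) := ⟨by norm_num⟩
  intro hc
  obtain ⟨g, hg⟩ := isConj_iff.1 hc
  obtain ⟨P, hP⟩ := exists_sylow_zpowers (fun P => ((sylow_seven h).2 P).1) hx
  have hgN : g ∈ normalizer ((P : Subgroup G) : Set G) := by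
    rw [hP, mem_normalizer_iff]
    intro y
    constructor
    · intro hy
      obtain ⟨k, rfl⟩ := mem_zpowers_iff.1 hy
      rw [← conj_zpow, hg]
      exact zpow_mem (inv_mem (mem_zpowers x)) k
    · intro hy
      obtain ⟨k, hk⟩ := mem_zpowers_iff.1 hy
      have : y = g⁻¹ * x ^ k * g := by rw [hk]; simp [mul_assoc]
      have e : g⁻¹ * x * g = x⁻¹ := by
        have e1 : g * x⁻¹ * g⁻¹ = x :=
          calc g * x⁻¹ * g⁻¹ = (g * x * g⁻¹)⁻¹ := by simp [mul_assoc]
            _ = x := by rw [hg, inv_inv]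
        calc g⁻¹ * x * g = g⁻¹ * (g * x⁻¹ * g⁻¹) * g := by rw [e1]
          _ = x⁻¹ := by simp [mul_assoc]
      rw [this, show g⁻¹ * x ^ k * g = (g⁻¹ * x * g) ^ k by
        simpa using (conj_zpow (a := g⁻¹) (b := x) (i := k)).symm, e]
      exact zpow_mem (inv_mem (mem_zpowers x)) k
  have hodd : orderOf g ∣ 21 := ((sylow_seven h).2 P).2.1 ▸ Subgroup.orderOf_dvd_natCard _ hgN
  have hg2 : Commute (g * g) x := by
    refine mul_inv_eq_iff_eq_mul.1 ?_
    calc g * g * x * (g * g)⁻¹ = g * (g * x * g⁻¹) * g⁻¹ := by simp [mul_assoc]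
      _ = g * x⁻¹ * g⁻¹ := by rw [hg]
      _ = (g * x * g⁻¹)⁻¹ := by simp [mul_assoc]
      _ = x := by rw [hg, inv_inv]
  have h22 : (g * g) ^ 11 = g := by
    rw [← sq, ← pow_mul, show 2 * 11 = 21 + 1 from rfl, pow_succ,
      orderOf_dvd_iff_pow_eq_one.1 hodd, one_mul]
  have hc' : Commute g x := h22 ▸ hg2.pow_left 11
  rw [hc'.eq, mul_inv_cancel_right] at hg
  have := orderOf_dvd_of_pow_eq_one (show x ^ 2 = 1 by rw [sq, mul_eq_one_iff_eq_inv, ← hg])
  rw [hx] at this
  norm_num at this

end Order168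

end Cfsg.Agent.SmallOrder
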