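import Cfsg.Agent.SmallOrder.Parity
import Cfsg.Agent.SmallOrder.ExceptionalOrders
import Cfsg.Agent.SmallOrder.SylowFilter
import Cfsg.Agent.SmallOrder.Involution
import Cfsg.Agent.BlockThms.SimpleThreePrimes
import Cfsg.Agent.S1022

/-!
# Excluding orders of simple groups by the principal block at a prime of multiplicity one

`primeTest n p sc` says that for `n = p * m` every candidate for the number of Sylow `p`-subgroups
and the index `e` of the centraliser in the normaliser fails: by the cycle structure, by a cyclic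
Sylow 2-subgroup, by self-centralisation (`sc`), or because the degree relation in the principal
block, together with its values at an involution centralising the Sylow subgroup, has no solution.
-/

set_option autoImplicit false

namespace Cfsg.Agent.SmallOrder

open Subgroup
open scoped ComplexConjugate

/-- Signed degree and signed value at the involution for the characters of sign one. -/
def xPairs (n p : ℕ) (inv : Bool) : List (ℤ × ℤ) :=
  (List.range 81).flatMap fun d =>
    if 2 ≤ d ∧ d * d < n ∧ n / p % d = 0 then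
      ([1, -1] : List ℤ).flatMap fun s =>
        if ((s * d - 1) % (p : ℤ)) = 0 then
          if inv then
            (List.range 21).filterMap fun j =>
              if 1 ≤ j ∧ 4 * (p * j) ≤ 2 * d then some (s * d, s * d - s * (4 * (p * j) : ℕ))
              else none
          else [(s * d, s * d)]
        else []
    else []

/-- The sums of `k` of the pairs. -/
def pairSums (ps : List (ℤ × ℤ)) : ℕ → List (ℤ × ℤ)
  | 0 => [(0, 0)]
  | k + 1 => ((pairSums ps k).flatMap fun s => ps.map fun x => (x.1 + s.1, x.2 + s.2)).eraseDups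

/-- The exceptional characters cannot have this signed degree and value. -/
def yBad (n p : ℕ) (inv : Bool) (S : ℤ × ℤ) : Bool :=
  let Y := 1 + S.1
  let W := 1 + S.2
  decide (Y = 0) || decide (n / p % Y.natAbs ≠ 0) || decide (Y.natAbs = 1) ||
    decide (n ≤ Y.natAbs * Y.natAbs) ||
    (inv && (decide ((Y - W) % 4 ≠ 0) || decide (W = Y) || decide (Y.natAbs < W.natAbs)))

/-- The degree relation has no solution. -/
def blockBad (n p e : ℕ) (inv : Bool) : Bool :=
  (pairSums (xPairs n p inv) (e - 1)).all (yBad n p inv)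

/-- The candidate `e` is impossible. -/
def autBad (n p j e : ℕ) (sc : Bool) : Bool :=
  let r := n / p / (1 + p * j)
  let c := r / e
  decide (e < 2) || decide (r % e ≠ 0) || decide ((p - 1) % e ≠ 0) || (sc && decide (c ≠ 1)) ||
    decide (n % 8 = 4 ∧ e % 4 = 0) ||
    decide (j ≤ 40 ∧ p ^ j * j.factorial % ((if 2 ≤ j then 2 else 1) * (p * c)) ≠ 0) ||
    blockBad n p e (decide (c % 2 = 0))

/-- All candidates are impossible. -/
def primeTest (n p : ℕ) (sc : Bool) : Bool :=
  decide (3 < p ∨ p = 3) && decide (n ≤ 6561 ∧ n % p = 0 ∧ n / p % p ≠ 0) &&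
    (List.range (n / p / p + 1)).all fun j =>
      decide (j = 0) || decide (n / p % (1 + p * j) ≠ 0) ||
        decide (1 + p * j ≤ 12 ∧ (1 + p * j).factorial % (2 * n) ≠ 0) ||
        (List.range p).all fun e => autBad n p j e sc

theorem mem_xPairs {n p d : ℕ} {s t : ℤ} {inv : Bool} (hn : n ≤ 6561) (hp : 3 ≤ p) (hd : 2 ≤ d)
    (hdn : d * d < n) (hdm : d ∣ n / p) (hs : s = 1 ∨ s = -1) (hsd : (s * d - 1) % (p : ℤ) = 0)
    (hf : inv = false → t = s * d)
    (ht : inv = true → ∃ j, 1 ≤ j ∧ 4 * (p * j) ≤ 2 * d ∧ t = s * d - s * (4 * (p * j) : ℕ)) :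
    (s * (d : ℤ), t) ∈ xPairs n p inv := by
  have hd81 : d < 81 := by nlinarith
  simp only [xPairs, List.mem_flatMap, List.mem_range]
  refine ⟨d, hd81, ?_⟩
  rw [if_pos ⟨hd, hdn, Nat.mod_eq_zero_of_dvd hdm⟩, List.mem_flatMap]
  refine ⟨s, by rcases hs with rfl | rfl <;> simp, ?_⟩
  rw [if_pos hsd]
  cases inv with
  | false => rw [if_neg (by simp), hf rfl]; exact List.mem_singleton_self _
  | true =>
    rw [if_pos rfl, List.mem_filterMap]
    obtain ⟨j, h1, h2, h3⟩ := ht rfl
    refine ⟨j, List.mem_range.2 (by nlinarith), ?_⟩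
    rw [if_pos ⟨h1, h2⟩, h3]

theorem mem_pairSums {ps : List (ℤ × ℤ)} {ι : Type*} (S : Finset ι) (f g : ι → ℤ)
    (h : ∀ i ∈ S, (f i, g i) ∈ ps) : (∑ i ∈ S, f i, ∑ i ∈ S, g i) ∈ pairSums ps S.card := by
  classical
  induction S using Finset.induction with
  | empty => simp [pairSums]
  | insert a S ha ih =>
    rw [Finset.sum_insert ha, Finset.sum_insert ha, Finset.card_insert_of_notMem ha, pairSums,
      List.mem_eraseDups, List.mem_flatMap]
    refine ⟨_, ih fun i hi => h i (Finset.mem_insert_of_mem hi), ?_⟩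
    rw [List.mem_map]
    exact ⟨_, h a (Finset.mem_insert_self a S), rfl⟩

universe u

variable {G : Type u} [Group G] [Fintype G]

open Cfsg.Agent.Blocks in
/-- A nontrivial irreducible character of a simple group: degree bounds and the kernel. -/
theorem degree_facts [IsSimpleGroup G] (hna : ¬ IsMulCommutative G) (χ : IrrCharacter G)
    (hχ : (χ : G → ℂ) ≠ fun _ => 1) :
    1 < charDegree (χ : G → ℂ) ∧
      charDegree (χ : G → ℂ) * charDegree (χ : G → ℂ) < Nat.card G ∧
      ∀ g : G, (χ : G → ℂ) g = (χ : G → ℂ) 1 → g = 1 := by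
  classical
  have hc := Char.IsIrr.isCharacter χ.2
  have hd := charDegree_cast hc
  refine ⟨?_, ?_, fun g hg => ?_⟩
  · rcases Nat.lt_trichotomy (charDegree (χ : G → ℂ)) 1 with h | h | h
    · exact absurd (by rw [← hd, Nat.lt_one_iff.1 h, Nat.cast_zero]) (Char.IsIrr.one_ne_zero χ.2)
    · exact absurd (linear_trivial hna χ (by rw [← hd, h, Nat.cast_one])) hχ
    · exact h
  · have h3 := Char.sum_sq_degree (G := G)
    simp only [← charDegree_cast (Char.IsIrr.isCharacter (Subtype.prop _))] at h3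
    have h4 : ∑ ψ : Cfsg.IrrCharacter G, Cfsg.charDegree (ψ : G → ℂ) ^ 2 = Nat.card G := by
      exact_mod_cast h3
    have hne : triv G ≠ χ := fun e => hχ (by rw [← e]; rfl)
    have htd : Cfsg.charDegree ((triv G : Cfsg.IrrCharacter G) : G → ℂ) = 1 :=
      charDegree_eq (by show (1 : ℂ) = _; simp)
    have h5 := Finset.sum_le_sum_of_subset (f := fun ψ : Cfsg.IrrCharacter G =>
      Cfsg.charDegree (ψ : G → ℂ) ^ 2) (Finset.subset_univ ({triv G, χ} : Finset _))
    rw [Finset.sum_pair hne, htd, h4] at h5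
    simp only [sq] at h5
    omega
  · rcases (inferInstance : (Char.kerSubgroup hc).Normal).eq_bot_or_eq_top with h | h
    · exact mem_bot.1 (h ▸ (Char.mem_kerSubgroup hc).2 hg)
    · exfalso
      refine hχ ?_
      by_contra hne
      have h9 := Char.classInner_irr_ne χ.2 (Char.isIrrCharacter_one (G := G)) hne
      simp only [classInner, fun x => (Char.mem_kerSubgroup hc).1 (h ▸ mem_top x),
        map_one, mul_one, Finset.sum_const, Finset.card_univ, nsmul_eq_mul,
        ← Nat.card_eq_fintype_card, ← mul_assoc] at h9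
      rw [inv_mul_cancel₀ Char.card_ne_zero, one_mul] at h9
      exact Char.IsIrr.one_ne_zero χ.2 h9

theorem natAbs_apply_le {χ : G → ℂ} (h : IsCharacter G χ) {g : G} {w : ℤ} {d : ℕ}
    (hd : χ 1 = d) (hw : χ g = w) : w.natAbs ≤ d := by
  obtain ⟨n, ρ, rfl⟩ := h
  have h1 := Char.norm_character_le ρ g
  rw [ρ.char_one] at hd
  rw [hw, show Module.finrank ℂ (Fin n → ℂ) = d by exact_mod_cast hd, Complex.norm_intCast] at h1
  have h2 : ((w.natAbs : ℕ) : ℝ) ≤ (d : ℝ) := by
    rwa [Nat.cast_natAbs, Int.cast_abs]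
  exact_mod_cast h2

open Cfsg.Agent.Blocks in
/-- The degree relation of the principal block passes the test. -/
theorem not_blockBad [IsSimpleGroup G] (hna : ¬ IsMulCommutative G) {p n e : ℕ} [Fact p.Prime]
    (hp : 3 ≤ p) (hG : Nat.card G = n) (hn : n ≤ 6561) {P : Sylow p G}
    (hS : BlockThms.OrderP.Setup P e) (he : 2 ≤ e)
    (inv : Bool) (hinv : inv = true → ∃ h ∈ centralizer (P : Set G), orderOf h = 2) :
    blockBad n p e inv = false := by
  classical
  by_contra hbad
  rw [Bool.not_eq_false, blockBad, List.all_eq_true] at hbad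
  have hpp : p.Prime := Fact.out
  obtain ⟨M, hM⟩ := Blocks.exists_isPModular p hpp
  obtain ⟨X, Y, a, s, hdisj, hXc, hYc, hmem, hs, hX, hY, -, hrel⟩ := hS.principal_structure hM
  obtain ⟨z, hz, hz1, hzo⟩ := hS.exists_gen
  obtain ⟨he1, -⟩ := hS.exists_unitSet hz hzo
  have hdvdp : p ∣ n := by
    rw [← hG, ← hS.card]; exact Subgroup.card_subgroup_dvd_card _
  have hdeg : ∀ χ : Cfsg.IrrCharacter G, χ ∈ Cfsg.principalBlock M G →
      charDegree (χ : G → ℂ) ∣ n / p := by
    intro χ hχ
    have h1 : charDegree (χ : G → ℂ) ∣ p * (n / p) := by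
      rw [Nat.mul_div_cancel' hdvdp, ← hG]
      exact Char.IsIrr.degree_dvd_card χ.2 (charDegree_cast (Char.IsIrr.isCharacter χ.2)).symm
    exact ((hpp.coprime_iff_not_dvd.2 (hS.not_dvd_degree hM hχ)).symm).dvd_of_dvd_mul_left h1
  have htd : charDegree ((triv G : IrrCharacter G) : G → ℂ) = 1 :=
    charDegree_eq (by show (1 : ℂ) = _; simp)
  have htriv : ∀ χ : IrrCharacter G, χ ≠ triv G → (χ : G → ℂ) ≠ fun _ => 1 := fun χ h e =>
    h (Subtype.ext e)
  have hp2 : p ≠ 2 := by omega
  have hele : e ≤ p - 1 := Nat.le_of_dvd (by omega) he1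
  have hdeg1 : ∀ χ : IrrCharacter G, ((charDegree (χ : G → ℂ) : ℕ) : ℂ) = (χ : G → ℂ) 1 :=
    fun χ => charDegree_cast (Char.IsIrr.isCharacter χ.2)
  obtain ⟨h, ⟨hhp, hhC⟩, hh2, hh1⟩ : ∃ h : G, (¬ p ∣ orderOf h ∧ h ∈ centralizer (P : Set G)) ∧
      (inv = true → orderOf h = 2) ∧ (inv = false → h = 1) := by
    cases inv with
    | false => exact ⟨1, ⟨by rw [orderOf_one]; exact hpp.not_dvd_one, one_mem _⟩, by simp, by simp⟩
    | true =>
      obtain ⟨h, hh1, hh2⟩ := hinv rfl
      refine ⟨h, ⟨?_, hh1⟩, fun _ => hh2, by simp⟩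
      rw [hh2]
      exact fun hd => hp2 ((Nat.prime_dvd_prime_iff_eq hpp Nat.prime_two).1 hd)
  have hzh : Commute z h := mem_centralizer_iff.1 hhC z hz
  -- integral values at `h`
  have hint : ∀ χ : IrrCharacter G, ∃ w : ℤ, (χ : G → ℂ) h = w := by
    intro χ
    cases inv with
    | false => exact ⟨(charDegree (χ : G → ℂ) : ℕ), by rw [hh1 rfl, ← hdeg1]; norm_cast⟩
    | true => exact exists_int_apply_involution (Char.IsIrr.isCharacter χ.2) (hh2 rfl)
  choose w hw using hint
  have hfour : inv = true → ∀ χ : IrrCharacter G,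
      (4 : ℤ) ∣ (charDegree (χ : G → ℂ) : ℤ) - w χ := fun hi χ =>
    four_dvd_degree_sub_apply hna (Char.IsIrr.isCharacter χ.2) (hh2 hi) (hdeg1 χ).symm (hw χ)
  -- the pairs for the characters of sign one
  have hpair : ∀ χ ∈ X, χ ≠ triv G →
      (a χ * (charDegree (χ : G → ℂ) : ℤ), a χ * w χ) ∈ xPairs n p inv := by
    intro χ hχ hne
    obtain ⟨ha, hda, haz⟩ := hX χ hχ
    obtain ⟨hd2, hdd, -⟩ := degree_facts hna χ (htriv χ hne)
    refine mem_xPairs hn hp hd2 (hG ▸ hdd) (hdeg χ ((hmem χ).2 (Or.inl hχ))) ha ?_ ?_ ?_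
    · have h3 := Int.ModEq.dvd hda
      refine Int.emod_eq_zero_of_dvd ?_
      rcases ha with e | e <;> rw [e] at h3 ⊢
      · simpa using h3.neg_right
      · rw [show (-1 : ℤ) * (charDegree (χ : G → ℂ) : ℤ) - 1 = (-1) - charDegree (χ : G → ℂ) by ring]
        exact h3
    · intro hi
      rw [show w χ = charDegree (χ : G → ℂ) from by
        have := hw χ; rw [hh1 hi, ← hdeg1] at this; exact_mod_cast this.symm]
    · intro hi
      obtain ⟨v, k, hv, hk, hvk, hkd, -⟩ := S1022.value_data hp2 χ (htriv χ hne) hzh hzo (hh2 hi)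
        (a χ) (haz z hz hz1 h hhC hhp) hda
      have hwv : w χ = v := by
        have := hw χ; rw [hv] at this; exact_mod_cast this.symm
      have h4 := hfour hi χ
      rw [hwv, hvk, show (charDegree (χ : G → ℂ) : ℤ) - (charDegree (χ : G → ℂ) - 2 * (p * k : ℕ))
        = ((2 * (p * k) : ℕ) : ℤ) by push_cast; ring] at h4
      have h5 : 2 ∣ p * k := Nat.dvd_of_mul_dvd_mul_left two_pos
        (show 2 * 2 ∣ 2 * (p * k) by exact_mod_cast h4)
      obtain ⟨j, rfl⟩ := (Nat.prime_two.dvd_mul.1 h5).resolve_left fun hd =>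
        hp2 ((Nat.prime_dvd_prime_iff_eq Nat.prime_two hpp).1 hd).symm
      refine ⟨j, by omega, by nlinarith, ?_⟩
      rw [hwv, hvk]
      push_cast
      ring
  -- a set of `e - 1` such characters and one more
  obtain ⟨R, χ₀, s₀, hRX, hRt, hRc, h0, hs0, h0B, hrel0⟩ : ∃ (R : Finset (IrrCharacter G))
      (χ₀ : IrrCharacter G) (s₀ : ℤ), R ⊆ X ∧ triv G ∉ R ∧ R.card = e - 1 ∧ χ₀ ≠ triv G ∧
        (s₀ = 1 ∨ s₀ = -1) ∧ χ₀ ∈ Cfsg.principalBlock M G ∧ ∀ g : G, ¬ p ∣ orderOf g →
        (1 : ℂ) + (∑ χ ∈ R, (a χ : ℂ) * (χ : G → ℂ) g) + (s₀ : ℂ) * (χ₀ : G → ℂ) g = 0 := by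
    rcases (hmem _).1 (triv_mem_principalBlock hM) with htX | htY
    · obtain ⟨θ, hθ⟩ : Y.Nonempty := Finset.card_pos.1 (hYc ▸ Nat.div_pos hele hS.e_pos)
      have hta : a (triv G) = 1 := by
        obtain ⟨ha, hda, -⟩ := hX _ htX
        rw [htd] at hda
        refine ha.resolve_right fun e1 => ?_
        rw [e1] at hda
        have h3 : (p : ℤ) ≤ 2 := Int.le_of_dvd two_pos (by
          have := (Int.ModEq.dvd hda).neg_right; simpa using this)
        omega
      refine ⟨X.erase (triv G), θ, s, Finset.erase_subset _ _, Finset.notMem_erase _ _,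
        by rw [Finset.card_erase_of_mem htX, hXc],
        fun e1 => Finset.disjoint_left.1 hdisj htX (e1 ▸ hθ), hs, (hmem θ).2 (Or.inr hθ),
        fun g hg => ?_⟩
      have h1 := hrel θ hθ g hg
      rw [← Finset.add_sum_erase _ _ htX, hta] at h1
      simp only [Int.cast_one, one_mul, show ((triv G : IrrCharacter G) : G → ℂ) g = 1 from rfl] at h1
      linear_combination h1
    · have hs1 : s = 1 := by
        refine hs.resolve_right fun e1 => ?_
        have h2 := hY _ htY
        rw [htd, e1] at h2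
        have h4 : (p : ℤ) ∣ (e : ℤ) - 1 := by simpa using Int.ModEq.dvd h2
        have := Int.le_of_dvd (by omega) h4
        omega
      obtain ⟨x, hx⟩ : X.Nonempty := Finset.card_pos.1 (hXc ▸ hS.e_pos)
      have htnX : triv G ∉ X := fun e1 => Finset.disjoint_left.1 hdisj e1 htY
      refine ⟨X.erase x, x, a x, Finset.erase_subset _ _,
        fun e1 => htnX (Finset.mem_of_mem_erase e1), by rw [Finset.card_erase_of_mem hx, hXc],
        fun e1 => htnX (e1 ▸ hx), (hX x hx).1, (hmem x).2 (Or.inl hx), fun g hg => ?_⟩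
      have h1 := hrel _ htY g hg
      rw [← Finset.add_sum_erase _ _ hx, hs1] at h1
      simp only [Int.cast_one, one_mul, show ((triv G : IrrCharacter G) : G → ℂ) g = 1 from rfl] at h1
      linear_combination h1
  have hS0 := mem_pairSums R (fun χ => a χ * (charDegree (χ : G → ℂ) : ℤ)) (fun χ => a χ * w χ)
    fun χ hχ => hpair χ (hRX hχ) fun e1 => hRt (e1 ▸ hχ)
  rw [hRc] at hS0
  have hb := hbad _ hS0
  obtain ⟨hd2, hdd, hker⟩ := degree_facts hna χ₀ (htriv χ₀ h0)
  set d := charDegree (χ₀ : G → ℂ) with hd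
  have e1 : 1 + (∑ χ ∈ R, a χ * (charDegree (χ : G → ℂ) : ℤ)) = -(s₀ * d) := by
    have h1 := hrel0 1 (by rw [orderOf_one]; exact hpp.not_dvd_one)
    simp only [← hdeg1] at h1
    have h2 : 1 + (∑ χ ∈ R, a χ * (charDegree (χ : G → ℂ) : ℤ)) + s₀ * d = 0 := by
      exact_mod_cast h1
    linarith
  have e2 : 1 + (∑ χ ∈ R, a χ * w χ) = -(s₀ * w χ₀) := by
    have h1 := hrel0 h hhp
    simp only [hw] at h1
    have h2 : 1 + (∑ χ ∈ R, a χ * w χ) + s₀ * w χ₀ = 0 := by
      exact_mod_cast h1
    linarith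
  simp only [yBad, e1, e2, Bool.or_eq_true, Bool.and_eq_true, decide_eq_true_eq, Int.natAbs_neg,
    Int.natAbs_mul, Int.natAbs_natCast, neg_eq_zero] at hb
  have hsa : s₀.natAbs = 1 := by rcases hs0 with rfl | rfl <;> rfl
  rw [hsa, one_mul, one_mul] at hb
  rcases hb with (((hb | hb) | hb) | hb) | ⟨hi, hb⟩
  · rcases hs0 with rfl | rfl <;> omega
  · exact hb (Nat.mod_eq_zero_of_dvd (hdeg χ₀ h0B))
  · omega
  · omega
  · rcases hb with (hb | hb) | hb
    · refine hb (Int.emod_eq_zero_of_dvd ?_)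
      rw [show -(s₀ * (d : ℤ)) - -(s₀ * w χ₀) = -(s₀ * ((d : ℤ) - w χ₀)) by ring]
      exact ((hfour hi χ₀).mul_left s₀).neg_right
    · have hwd : w χ₀ = d := by
        rcases hs0 with rfl | rfl <;> omega
      have := hker h (by rw [hw χ₀, hwd, ← hdeg1, ← hd]; norm_cast)
      have h22 := hh2 hi
      rw [this, orderOf_one] at h22
      omega
    · exact absurd hb (not_lt.2 (natAbs_apply_le (Char.IsIrr.isCharacter χ₀.2) (hdeg1 χ₀).symm (hw χ₀)))

omit [Fintype G] in
/-- With a Sylow 2-subgroup of order four, the automizer of `P` has order prime to four. -/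
theorem not_four_dvd_aut [Finite G] [IsSimpleGroup G] (hna : ¬ IsMulCommutative G) {p e : ℕ}
    [Fact p.Prime] {P : Sylow p G} (hS : BlockThms.OrderP.Setup P e)
    (h8 : Nat.card G % 8 = 4) : ¬ 4 ∣ e := by
  classical
  intro he
  have : Fact (Nat.Prime 2) := ⟨Nat.prime_two⟩
  have hcyc : IsCyclic (P : Subgroup G) := isCyclic_of_prime_card hS.card
  have hcard : Nat.card (MonoidHom.range (P : Subgroup G).normalizerMonoidHom) = e := by
    rw [← index_ker, normalizerMonoidHom_ker]
    exact hS.rel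
  have : IsCyclic (MulAut (P : Subgroup G)) := by
    have hp : Nat.card (P : Subgroup G) = p := hS.card
    rw [(IsCyclic.mulAutMulEquiv (P : Subgroup G)).isCyclic, hp]
    exact ZMod.isCyclic_units_prime Fact.out
  obtain ⟨σ, hσ⟩ := IsCyclic.exists_generator
    (α := MonoidHom.range (P : Subgroup G).normalizerMonoidHom)
  have hσo := orderOf_eq_card_of_forall_mem_zpowers hσ
  obtain ⟨g, hg⟩ := MonoidHom.mem_range.1 σ.2
  have h4 : 4 ∣ orderOf (g : G) := by
    refine he.trans ?_
    rw [← hcard, ← hσo, ← Subgroup.orderOf_coe σ, ← hg, Subgroup.orderOf_coe]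
    exact orderOf_map_dvd _ g
  obtain ⟨k, hk⟩ := h4
  have hx : orderOf ((g : G) ^ k) = 4 := by
    have hk0 : k ≠ 0 := by
      rintro rfl
      exact (orderOf_pos (g : G)).ne' (by rw [hk, mul_zero])
    rw [orderOf_pow' _ hk0, hk, Nat.gcd_mul_left_left, Nat.mul_div_cancel _ (Nat.pos_of_ne_zero hk0)]
  have hfac : (Nat.card G).factorization 2 = 2 := by
    have h1 : Nat.card G = 2 ^ 2 * (Nat.card G / 4) := by omega
    rw [h1, Nat.factorization_mul (by norm_num) (by omega), Finsupp.add_apply,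
      Nat.prime_two.factorization_pow, Finsupp.single_eq_same,
      Nat.factorization_eq_zero_of_not_dvd (by omega), add_zero]
  let T : Sylow 2 G := Sylow.ofCard (zpowers ((g : G) ^ k)) (by
    rw [Nat.card_zpowers, hx, hfac]; rfl)
  exact not_isCyclic_sylow hna (minFac_eq_two (Nat.even_iff.2 (by omega))) T
    (by show IsCyclic (zpowers ((g : G) ^ k)); infer_instance)

omit [Fintype G] in
/-- The candidates surviving the test at a prime. -/
theorem prime_candidate [Finite G] [IsSimpleGroup G] (hna : ¬ IsMulCommutative G) {n p : ℕ}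
    {sc : Bool} [hpf : Fact p.Prime] (hG : Nat.card G = n) (hp3 : 3 < p ∨ p = 3) (hn : n ≤ 6561)
    (hnp : n % p = 0) (hm : n / p % p ≠ 0)
    (hsc : sc = true → ∀ P : Sylow p G, centralizer ((P : Subgroup G) : Set G) = (P : Subgroup G))
    (P : Sylow p G) :
    ∃ j e, j < n / p / p + 1 ∧ j ≠ 0 ∧ e < p ∧ n / p % (1 + p * j) = 0 ∧
      (1 + p * j).factorial % (2 * n) = 0 ∧ autBad n p j e sc = false ∧
      Nat.card (Sylow p G) = 1 + p * j ∧
      Nat.card (centralizer ((P : Subgroup G) : Set G)) = p * (n / p / (1 + p * j) / e) ∧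
      Nat.card (normalizer ((P : Subgroup G) : Set G)) = p * (n / p / (1 + p * j)) := by
  classical
  have := Fintype.ofFinite G
  have hp : p.Prime := hpf.out
  set m := n / p with hmdef
  have hnm : n = p ^ 1 * m := by
    rw [pow_one]; exact (Nat.mul_div_cancel' (Nat.dvd_of_mod_eq_zero hnp)).symm
  have hm' : ¬ p ∣ m := fun hd => hm (Nat.mod_eq_zero_of_dvd hd)
  obtain ⟨h1, h2, h3, h4⟩ := sylow_data (hG.trans hnm) one_ne_zero hm' hna
  obtain ⟨d, hd⟩ : ∃ d, Nat.card (Sylow p G) = d := ⟨_, rfl⟩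
  rw [hd] at h1 h2 h3 h4
  have hm0 : 0 < m := Nat.pos_of_ne_zero fun e => hm' (e ▸ dvd_zero p)
  obtain ⟨j, rfl⟩ : ∃ j, d = 1 + p * j := ⟨d / p, by have := Nat.div_add_mod d p; omega⟩
  have hj0 : j ≠ 0 := by rintro rfl; omega
  have hjm : j < m / p + 1 := by
    have := Nat.le_of_dvd hm0 h1
    have : j ≤ m / p := (Nat.le_div_iff_mul_le hp.pos).2 (by rw [mul_comm]; omega)
    omega
  have hPc : Nat.card (P : Subgroup G) = p := by
    rw [card_sylow_eq_pow (hG.trans hnm) hm' P, pow_one]
  obtain ⟨e, he⟩ : ∃ e, (centralizer (P : Set G)).relIndex (normalizer (P : Set G)) = e := ⟨_, rfl⟩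
  have hS : BlockThms.OrderP.Setup P e := ⟨hPc, he⟩
  obtain ⟨x, hx, hx1, hxo⟩ := hS.exists_gen
  obtain ⟨he1, -⟩ := hS.exists_unitSet hx hxo
  obtain ⟨K, hKC, -, -, -, hCK, -⟩ := hS.exists_complement
  have hN := hS.card_normalizer
  rw [hCK] at hN
  have hmul := card_sylow_mul_card_normalizer P
  rw [hd, show normalizer ((P : Subgroup G) : Set G) = normalizer (P : Set G) from rfl, hN, hG,
    hnm, pow_one] at hmul
  have hr : m / (1 + p * j) = e * Nat.card K := by
    have h9 : p * ((1 + p * j) * (e * Nat.card K)) = p * m := by rw [← hmul]; ring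
    rw [← Nat.eq_of_mul_eq_mul_left hp.pos h9, Nat.mul_div_cancel_left _ (by omega)]
  have hep : e < p := by
    have := Nat.le_of_dvd (by have := hp.two_le; omega) he1
    omega
  have he0 := hS.e_pos
  have hp' : p ∣ Nat.card G := hPc ▸ card_subgroup_dvd_card _
  have he2 : 2 ≤ e := by
    by_contra hlt
    refine not_normalizer_le_centralizer hna hp' P (relIndex_eq_one.1 ?_)
    exact he.trans (by omega)
  refine ⟨j, e, hjm, hj0, hep, Nat.mod_eq_zero_of_dvd h1, Nat.mod_eq_zero_of_dvd (hG ▸ h4), ?_, hd,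
    ?_, ?_⟩
  rotate_left
  · rw [show centralizer ((P : Subgroup G) : Set G) = centralizer (P : Set G) from rfl, hCK, hr,
      Nat.mul_div_cancel_left _ he0]
  · rw [show normalizer ((P : Subgroup G) : Set G) = normalizer (P : Set G) from rfl, hN, hr]
    ring
  rw [← Bool.not_eq_true]
  intro hb'
  have hc : m / (1 + p * j) / e = Nat.card K := by rw [hr, Nat.mul_div_cancel_left _ he0]
  simp only [autBad, ← hmdef, hc, Bool.or_eq_true, Bool.and_eq_true, decide_eq_true_eq] at hb'
  rcases hb' with (((((hb' | hb') | hb') | ⟨hsc', hb'⟩) | hb') | hb') | hb'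
  · omega
  · exact hb' (by rw [hr, Nat.mul_mod_right])
  · exact hb' (Nat.mod_eq_zero_of_dvd he1)
  · refine hb' ?_
    have h5 := hCK
    rw [show centralizer (P : Set G) = (P : Subgroup G) from hsc hsc' P, hPc] at h5
    exact Nat.eq_of_mul_eq_mul_left hp.pos (by rw [mul_one]; exact h5.symm)
  · exact not_four_dvd_aut hna hS (hG ▸ hb'.1) (Nat.dvd_of_mod_eq_zero hb'.2)
  · refine hb'.2 (Nat.mod_eq_zero_of_dvd ?_)
    have hgen := hS.zpowers_eq hx hx1
    obtain ⟨k, -, hkle, -, hfix, hdvd, hdvd2⟩ :=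
      centralizer_bound hna _ (normalizer_ne_top hna hp' P) hxo
    have hidx : (normalizer ((P : Subgroup G) : Set G)).index = 1 + p * j :=
      P.card_eq_index_normalizer.symm.trans hd
    rw [hidx] at hkle hfix hdvd hdvd2
    have hle1 := card_fixedBy_le_one P hgen (le_refl (normalizer ((P : Subgroup G) : Set G)))
    have hpos : 0 < Nat.card (MulAction.fixedBy
        (G ⧸ normalizer ((P : Subgroup G) : Set G)) x) := by
      refine Finite.card_pos_iff.2 ⟨⟨((1 : G) : G ⧸ normalizer ((P : Subgroup G) : Set G)), ?_⟩⟩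
      rw [MulAction.mem_fixedBy, MulAction.Quotient.smul_mk, smul_eq_mul, mul_one, QuotientGroup.eq,
        mul_one]
      exact inv_mem (le_normalizer hx)
    have hkj : k = j := by
      have h8 : k * p = p * j := by omega
      rw [mul_comm k p] at h8
      exact Nat.eq_of_mul_eq_mul_left hp.pos h8
    subst hkj
    rw [show 1 + p * k - k * p = 1 by rw [mul_comm k p, Nat.add_sub_cancel],
      Nat.factorial_one, one_mul] at hdvd hdvd2
    have hCx : Nat.card (centralizer ({x} : Set G)) = p * Nat.card K := by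
      rw [hS.centralizer_eq hx hx1, hCK]
    rw [hCx] at hdvd hdvd2
    split_ifs with h2k
    · exact hdvd2 (Or.inr h2k)
    · rw [one_mul]; exact hdvd
  · have hnb := not_blockBad (G := G) hna (p := p) (n := n) (by have := hp.two_le; omega) hG hn hS
      he2 (decide (Nat.card K % 2 = 0)) fun hi => by
        have : Fact (Nat.Prime 2) := ⟨Nat.prime_two⟩
        obtain ⟨t, ht⟩ := exists_prime_orderOf_dvd_card' (G := K) 2
          (Nat.dvd_of_mod_eq_zero (of_decide_eq_true hi))
        exact ⟨t, hKC t.2, by rw [Subgroup.orderOf_coe]; exact ht⟩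
    rw [hnb] at hb'
    exact Bool.false_ne_true hb'

omit [Fintype G] in
/-- No simple group has an order failing the test at a prime. -/
theorem false_of_primeTest [Finite G] [IsSimpleGroup G] (hna : ¬ IsMulCommutative G) {n p : ℕ}
    {sc : Bool} (hp : p.Prime) (hG : Nat.card G = n)
    (hsc : sc = true → ∀ P : Sylow p G, centralizer ((P : Subgroup G) : Set G) = (P : Subgroup G))
    (h : primeTest n p sc = true) : False := by
  have : Fact p.Prime := ⟨hp⟩
  simp only [primeTest, Bool.and_eq_true, decide_eq_true_eq, List.all_eq_true, List.mem_range,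
    Bool.or_eq_true] at h
  obtain ⟨⟨hp3, hn, hnp, hm⟩, hall⟩ := h
  obtain ⟨P⟩ : Nonempty (Sylow p G) := Sylow.nonempty
  obtain ⟨j, e, hjm, hj0, hep, hmod, hfact, hb, -⟩ :=
    prime_candidate hna hG hp3 hn hnp hm hsc P
  rcases hall j hjm with ((h1 | h1) | h1) | h1
  · exact hj0 h1
  · exact h1 hmod
  · exact h1.2 hfact
  · rw [h1 e hep] at hb
    exact Bool.false_ne_true hb.symm

end Cfsg.Agent.SmallOrder
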