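import Cfsg.Agent.SmallOrder.Order504

/-!
All simple groups of order 504 are isomorphic to one permutation group on nine points.
-/

set_option autoImplicit false

namespace Cfsg.Agent.SmallOrder.Order504

open Subgroup

/-- Nine points. -/
abbrev Pt := Option (Option (ZMod 7))

/-- The table for the translation by the basic involution. -/
def tab : ZMod 7 → ZMod 7 := fun j =>
  if j = 1 then 3 else if j = 3 then 1 else if j = 2 then 6 else if j = 6 then 2
    else if j = 4 then 5 else if j = 5 then 4 else 0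

def transFun : Pt → Pt
  | none => none
  | some none => some (some 0)
  | some (some j) => if j = 0 then some none else some (some (tab j))

def swapFun : Pt → Pt
  | none => some none
  | some none => none
  | some (some j) => some (some (-j))

theorem transFun_inv : Function.Involutive transFun := by unfold Function.Involutive; decide

theorem swapFun_inv : Function.Involutive swapFun := by unfold Function.Involutive; decide

def transPerm : Equiv.Perm Pt := transFun_inv.toPerm

def swapPerm : Equiv.Perm Pt := swapFun_inv.toPerm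

def rotPerm : Equiv.Perm Pt := Equiv.optionCongr (Equiv.optionCongr (Equiv.addRight (1 : ZMod 7)))

theorem z7_ne : (0 : ZMod 7) ≠ 1 ∧ (3 : ZMod 7) ≠ 0 ∧ (0 : ZMod 7) ≠ 3 ∧ (5 : ZMod 7) ≠ 0 ∧ (6 : ZMod 7) ≠ 2 := by
  decide

theorem z7_cases : ∀ k : ZMod 7, k = 0 ∨ k = 1 ∨ k = 2 ∨ k = 3 ∨ k = 4 ∨ k = 5 ∨ k = 6 := by decide

theorem z7_cases_ne : ∀ k : ZMod 7, k ≠ 0 → k = 1 ∨ k = 2 ∨ k = 3 ∨ k = 4 ∨ k = 5 ∨ k = 6 := by
  decide

theorem z7_sq : ∀ z : ZMod 7, z * z = 1 → z = 1 ∨ z = 6 := by decide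

theorem z7_arith : (-1 : ZMod 7) + 1 = 0 ∧ (-1 : ZMod 7) + 5 = 4 ∧ (-0 : ZMod 7) = 0 ∧
    (-3 : ZMod 7) = 4 ∧ (-1 : ZMod 7) = 6 := by decide

/-- The model. -/
def model : Subgroup (Equiv.Perm Pt) := closure {rotPerm, transPerm, swapPerm}

variable {G : Type*} [Group G] [Finite G] [IsSimpleGroup G]

omit [IsSimpleGroup G] in
theorem card_trivial_inter_union {p : ℕ} [hp : Fact p.Prime] {q : ℕ}
    (hq : ∀ P : Sylow p G, Nat.card (P : Subgroup G) = q)
    (hC : ∀ (P : Sylow p G) (x : G), x ∈ (P : Subgroup G) → x ≠ 1 →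
      Nat.card (centralizer ({x} : Set G)) = q)
    (hab : ∀ P : Sylow p G, IsMulCommutative (P : Subgroup G)) :
    Nat.card {g : G // g ≠ 1 ∧ ∃ P : Sylow p G, g ∈ (P : Subgroup G)} =
      Nat.card (Sylow p G) * (q - 1) := by
  classical
  have hP : ∀ (P : Sylow p G) (x : G), x ∈ (P : Subgroup G) → x ≠ 1 →
      (P : Subgroup G) = centralizer ({x} : Set G) := fun P x hx hx1 =>
    eq_of_le_of_card_ge (fun y hy => mem_centralizer_singleton_iff.2
      (congrArg Subtype.val ((hab P).is_comm.comm (⟨y, hy⟩ : (P : Subgroup G)) ⟨x, hx⟩)))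
      (by rw [hC P x hx hx1, hq P])
  let m : (Σ P : Sylow p G, {x : ↥(P : Subgroup G) // x ≠ 1}) →
      {g : G // g ≠ 1 ∧ ∃ P : Sylow p G, g ∈ (P : Subgroup G)} := fun a =>
    ⟨((a.2 : ↥(a.1 : Subgroup G)) : G), fun e => a.2.2 (Subtype.ext e), a.1, a.2.1.2⟩
  have hm : Function.Bijective m := by
    constructor
    · rintro ⟨P, ⟨x, hx⟩, hx1⟩ ⟨Q, ⟨y, hy⟩, hy1⟩ e
      have e' : x = y := congrArg Subtype.val e
      subst e'
      have hne : x ≠ 1 := fun e => hx1 (Subtype.ext e)
      have hPQ : P = Q := Sylow.ext ((hP P x hx hne).trans (hP Q x hy hne).symm)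
      subst hPQ
      rfl
    · rintro ⟨g, hg, P, hgP⟩
      exact ⟨⟨P, ⟨g, hgP⟩, fun e => hg (congrArg Subtype.val e)⟩, rfl⟩
  have := Fintype.ofFinite (Sylow p G)
  rw [← Nat.card_congr (Equiv.ofBijective m hm), Nat.card_sigma]
  rw [Finset.sum_congr rfl (fun P _ => ?_), Finset.sum_const, Finset.card_univ, smul_eq_mul,
    ← Nat.card_eq_fintype_card]
  have := Fintype.ofFinite (P : Subgroup G)
  rw [Nat.card_eq_fintype_card, Fintype.card_subtype_compl, Fintype.card_subtype_eq,
    ← Nat.card_eq_fintype_card, hq P]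

/-- The Sylow 2-subgroups. -/
theorem two_data (h : Nat.card G = 504) [Fact (Nat.Prime 2)] :
    Nat.card (Sylow 2 G) = 9 ∧ ∀ S : Sylow 2 G, Nat.card (S : Subgroup G) = 8 ∧
      ∀ x ∈ (S : Subgroup G), x ≠ 1 → orderOf x = 2 ∧ centralizer ({x} : Set G) = S := by
  classical
  have h3 : Fact (Nat.Prime 3) := ⟨Nat.prime_three⟩
  have h7 : Fact (Nat.Prime 7) := ⟨by norm_num⟩
  have hna := not_comm h
  have hS8 : ∀ S : Sylow 2 G, Nat.card (S : Subgroup G) = 8 := fun S => by
    rw [card_sylow_eq_pow (p := 2) (a := 3) (m := 63) (by rw [h]; norm_num) (by norm_num) S]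
    norm_num
  have hP9 : ∀ P : Sylow 3 G, Nat.card (P : Subgroup G) = 9 := fun P => by
    rw [card_sylow_eq_pow (p := 3) (a := 2) (m := 56) (by rw [h]; norm_num) (by norm_num) P]
    norm_num
  have hn3 : Nat.card (Sylow 3 G) = 28 := by
    obtain ⟨hd, hmod, -, -⟩ := sylow_data (G := G) (p := 3) (a := 2) (m := 56)
      (by rw [h]; norm_num) (by norm_num) (by norm_num) hna
    obtain ⟨P⟩ : Nonempty (Sylow 3 G) := Sylow.nonempty
    have hn8 := eight_le_index h _ (normalizer_ne_top hna (by rw [h]; norm_num) P)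
    have hidx : (normalizer ((P : Subgroup G) : Set G)).index = Nat.card (Sylow 3 G) :=
      P.card_eq_index_normalizer.symm
    have key : ∀ d ∈ Nat.divisors 56, d % 3 = 1 → d = 1 ∨ d = 4 ∨ d = 7 ∨ d = 28 := by decide
    rcases key _ (Nat.mem_divisors.2 ⟨hd, by norm_num⟩) hmod with e | e | e | e <;> omega
  have hn7 : Nat.card (Sylow 7 G) = 36 := (seven_data h default).2.2
  have hP7 : ∀ P : Sylow 7 G, Nat.card (P : Subgroup G) = 7 := fun P => (seven_data h P).1
  have hC3 : ∀ (P : Sylow 3 G) (x : G), x ∈ (P : Subgroup G) → x ≠ 1 →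
      Nat.card (centralizer ({x} : Set G)) = 9 := fun P x hx hx1 =>
    card_centralizer_three h hx1 ⟨P, hx⟩
  have hC7 : ∀ (P : Sylow 7 G) (x : G), x ∈ (P : Subgroup G) → x ≠ 1 →
      Nat.card (centralizer ({x} : Set G)) = 7 := fun P x hx hx1 => card_centralizer_seven h (by
    have hd := (P : Subgroup G).orderOf_dvd_natCard hx
    rw [hP7 P] at hd
    exact ((Nat.dvd_prime (by norm_num)).1 hd).resolve_left (fun e => hx1 (orderOf_eq_one_iff.1 e)))
  have hA3 := card_trivial_inter_union hP9 hC3 (fun P =>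
    IsPGroup.isMulCommutative_of_card_eq_prime_sq (p := 3) (by rw [hP9 P]; norm_num))
  have hA7 := card_trivial_inter_union hP7 hC7 (fun P => by
    have := isCyclic_of_prime_card (hP7 P)
    exact IsCyclic.isMulCommutative)
  rw [hn3] at hA3
  rw [hn7] at hA7
  have := Fintype.ofFinite G
  let A3 : Finset G := Finset.univ.filter (fun g => g ≠ 1 ∧ ∃ P : Sylow 3 G, g ∈ (P : Subgroup G))
  let A7 : Finset G := Finset.univ.filter (fun g => g ≠ 1 ∧ ∃ P : Sylow 7 G, g ∈ (P : Subgroup G))
  have hA3c : A3.card = 224 := by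
    rw [Nat.card_eq_fintype_card, Fintype.card_subtype] at hA3; exact hA3
  have hA7c : A7.card = 216 := by
    rw [Nat.card_eq_fintype_card, Fintype.card_subtype] at hA7; exact hA7
  have hsylow : ∀ {p : ℕ} [Fact p.Prime] (g : G) (k : ℕ), orderOf g ∣ p ^ k →
      ∃ P : Sylow p G, g ∈ (P : Subgroup G) := by
    intro p hp g k hg
    obtain ⟨i, -, hi⟩ := (Nat.dvd_prime_pow hp.out).1 hg
    obtain ⟨P, hP⟩ := (IsPGroup.of_card (p := p) (n := i) (by rw [Nat.card_zpowers, hi]) :
      IsPGroup p (zpowers g)).exists_le_sylow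
    exact ⟨P, hP (mem_zpowers g)⟩
  -- elements outside lie in a Sylow 2-subgroup
  have hclass : ∀ g : G, g ≠ 1 → g ∈ A3 ∨ g ∈ A7 ∨ ∃ S : Sylow 2 G, g ∈ (S : Subgroup G) := by
    intro g hg
    have hd : orderOf g ∣ 504 := h ▸ orderOf_dvd_natCard g
    have hC : ∀ k : ℕ, g ∈ centralizer ({g ^ k} : Set G) := fun k =>
      mem_centralizer_singleton_iff.2 ((Commute.refl g).pow_right k).eq
    by_cases h7' : 7 ∣ orderOf g
    · refine Or.inr (Or.inl ?_)
      have ho : orderOf (g ^ (orderOf g / 7)) = 7 := orderOf_pow_orderOf_div (orderOf_pos g).ne' h7'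
      have := (centralizer ({g ^ (orderOf g / 7)} : Set G)).orderOf_dvd_natCard (hC _)
      rw [card_centralizer_seven h ho] at this
      exact Finset.mem_filter.2 ⟨Finset.mem_univ _, hg, hsylow g 1 (by rwa [pow_one])⟩
    by_cases h3' : 3 ∣ orderOf g
    · refine Or.inl ?_
      have ho : orderOf (g ^ (orderOf g / 3)) = 3 := orderOf_pow_orderOf_div (orderOf_pos g).ne' h3'
      have := (centralizer ({g ^ (orderOf g / 3)} : Set G)).orderOf_dvd_natCard (hC _)
      rw [card_centralizer_three h (fun e => by rw [e, orderOf_one] at ho; omega)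
        (hsylow _ 1 (by rw [ho, pow_one]))] at this
      exact Finset.mem_filter.2 ⟨Finset.mem_univ _, hg, hsylow g 2 (by norm_num; exact this)⟩
    refine Or.inr (Or.inr (hsylow g 3 ?_))
    have key : ∀ d ∈ Nat.divisors 504, ¬ 7 ∣ d → ¬ 3 ∣ d → d ∣ 2 ^ 3 := by decide
    exact key _ (Nat.mem_divisors.2 ⟨hd, by norm_num⟩) h7' h3'
  have hdisj : ∀ g : G, g ≠ 1 → (∃ S : Sylow 2 G, g ∈ (S : Subgroup G)) → g ∉ A3 ∧ g ∉ A7 := by
    rintro g hg ⟨S, hS⟩
    have h8 := (S : Subgroup G).orderOf_dvd_natCard hS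
    rw [hS8 S] at h8
    refine ⟨fun hm => ?_, fun hm => ?_⟩
    · obtain ⟨P, hP⟩ := (Finset.mem_filter.1 hm).2.2
      have h9 := (P : Subgroup G).orderOf_dvd_natCard hP
      rw [hP9 P] at h9
      exact hg (orderOf_eq_one_iff.1 (Nat.dvd_one.1 (Nat.dvd_gcd h8 h9)))
    · obtain ⟨P, hP⟩ := (Finset.mem_filter.1 hm).2.2
      have h9 := (P : Subgroup G).orderOf_dvd_natCard hP
      rw [hP7 P] at h9
      exact hg (orderOf_eq_one_iff.1 (Nat.dvd_one.1 (Nat.dvd_gcd h8 h9)))
  have h37 : Disjoint A3 A7 := by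
    rw [Finset.disjoint_left]
    intro g hg hg'
    obtain ⟨-, hne, P, hP⟩ := Finset.mem_filter.1 hg
    obtain ⟨-, -, Q, hQ⟩ := Finset.mem_filter.1 hg'
    have a := (P : Subgroup G).orderOf_dvd_natCard hP
    have b := (Q : Subgroup G).orderOf_dvd_natCard hQ
    rw [hP9 P] at a
    rw [hP7 Q] at b
    exact hne (orderOf_eq_one_iff.1 (Nat.dvd_one.1 (Nat.dvd_gcd a b)))
  let A2 : Finset G := Finset.univ.filter (fun g => g ≠ 1 ∧ ∃ S : Sylow 2 G, g ∈ (S : Subgroup G))
  have hA2c : A2.card = 63 := by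
    have hu : (Finset.univ : Finset G) = insert 1 ((A3 ∪ A7) ∪ A2) := by
      ext g
      simp only [Finset.mem_univ, Finset.mem_insert, Finset.mem_union, true_iff]
      by_cases hg : g = 1
      · exact Or.inl hg
      rcases hclass g hg with e | e | e
      · exact Or.inr (Or.inl (Or.inl e))
      · exact Or.inr (Or.inl (Or.inr e))
      · exact Or.inr (Or.inr (Finset.mem_filter.2 ⟨Finset.mem_univ _, hg, e⟩))
    have hd2 : Disjoint (A3 ∪ A7) A2 := by
      rw [Finset.disjoint_right]
      intro g hg hm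
      obtain ⟨-, hne, hS⟩ := Finset.mem_filter.1 hg
      obtain ⟨a, b⟩ := hdisj g hne hS
      exact (Finset.mem_union.1 hm).elim a b
    have h1 : (1 : G) ∉ (A3 ∪ A7) ∪ A2 := by simp [A3, A7, A2]
    have := congrArg Finset.card hu
    rw [Finset.card_insert_of_notMem h1, Finset.card_union_of_disjoint hd2,
      Finset.card_union_of_disjoint h37, hA3c, hA7c, Finset.card_univ,
      ← Nat.card_eq_fintype_card, h] at this
    omega
  -- involution centralisers
  have hinv : ∀ t : G, orderOf t = 2 → Nat.card (centralizer ({t} : Set G)) = 8 ∧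
      ∀ g : G, g ≠ 1 → (∃ S : Sylow 2 G, g ∈ (S : Subgroup G)) → IsConj t g := by
    intro t ht
    set c := Nat.card (centralizer ({t} : Set G)) with hc
    have hno : ∀ p : ℕ, p.Prime → p ∣ c → p = 2 := by
      intro p hp hpc
      have := Fact.mk hp
      obtain ⟨y, hy⟩ := exists_prime_orderOf_dvd_card' p hpc
      rw [← orderOf_coe] at hy
      have hpG : p ∣ 504 := h ▸ hy ▸ orderOf_dvd_natCard (y : G)
      have hmem : t ∈ centralizer ({(y : G)} : Set G) :=
        mem_centralizer_singleton_iff.2 (mem_centralizer_singleton_iff.1 y.2).symm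
      have hd := (centralizer ({(y : G)} : Set G)).orderOf_dvd_natCard hmem
      rw [ht] at hd
      have hy1 : (y : G) ≠ 1 := fun e => by rw [e, orderOf_one] at hy; exact hp.ne_one hy.symm
      have hple : p ≤ 504 := Nat.le_of_dvd (by norm_num) hpG
      have key : p = 2 ∨ p = 3 ∨ p = 7 := by
        have hmem' : p ∈ Nat.primeFactors 504 := Nat.mem_primeFactors.2 ⟨hp, hpG, by norm_num⟩
        have e : Nat.primeFactors 504 = {2, 3, 7} := by
          rw [show (504 : ℕ) = 2 ^ 3 * (3 ^ 2 * 7) by norm_num, Nat.primeFactors_mul (by norm_num) (by norm_num),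
            Nat.primeFactors_mul (by norm_num) (by norm_num), Nat.primeFactors_prime_pow (by norm_num) Nat.prime_two,
            Nat.primeFactors_prime_pow (by norm_num) Nat.prime_three, (show Nat.Prime 7 by norm_num).primeFactors]
          rfl
        rw [e] at hmem'
        simpa using hmem'
      rcases key with e | e | e
      · exact e
      · subst e
        rw [card_centralizer_three h hy1 (hsylow _ 1 (by rw [hy, pow_one]))] at hd
        norm_num at hd
      · subst e
        rw [card_centralizer_seven h hy] at hd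
        norm_num at hd
    have hcd : c ∣ 8 := by
      have hcG : c ∣ 504 := h ▸ card_subgroup_dvd_card _
      have key : ∀ d ∈ Nat.divisors 504, ¬ 3 ∣ d → ¬ 7 ∣ d → d ∣ 8 := by decide
      exact key _ (Nat.mem_divisors.2 ⟨hcG, by norm_num⟩)
        (fun e => by have := hno 3 Nat.prime_three e; omega)
        (fun e => by have := hno 7 (by norm_num) e; omega)
    -- the class of t
    let K : Finset G := Finset.univ.filter (fun g => IsConj t g)
    have hKc : K.card * c = 504 := by
      have horb : K.card = (centralizer ({t} : Set G)).index := by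
        have e : K.card = Nat.card (MulAction.orbit (ConjAct G) t) := by
          rw [Nat.card_eq_fintype_card, ← Set.toFinset_card]
          refine congrArg Finset.card ?_
          ext g
          simp only [K, Finset.mem_filter, Finset.mem_univ, true_and, Set.mem_toFinset,
            ConjAct.mem_orbit_conjAct]
          exact ⟨IsConj.symm, IsConj.symm⟩
        rw [e, Nat.card_congr (MulAction.orbitEquivQuotientStabilizer (ConjAct G) t),
          ConjAct.stabilizer_eq_centralizer]
        rfl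
      rw [horb, hc, mul_comm, card_mul_index, h]
    have hsub : K ⊆ A2 := by
      intro g hg
      obtain ⟨a, ha⟩ := isConj_iff.1 (Finset.mem_filter.1 hg).2
      have hog : orderOf g = 2 := by
        rw [← ha]
        simpa [ht] using orderOf_injective (MulAut.conj a).toMonoidHom (MulAut.conj a).injective t
      exact Finset.mem_filter.2 ⟨Finset.mem_univ _, fun e => by rw [e, orderOf_one] at hog; omega,
        hsylow g 1 (by rw [hog, pow_one])⟩
    have hle := Finset.card_le_card hsub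
    rw [hA2c] at hle
    have hc8 : c = 8 := by
      have := Nat.le_of_dvd (by norm_num) hcd
      nlinarith
    refine ⟨hc8, fun g hg hS => ?_⟩
    have heq : K = A2 := Finset.eq_of_subset_of_card_le hsub (by rw [hA2c]; rw [hc8] at hKc; omega)
    exact (Finset.mem_filter.1 (heq.symm ▸ Finset.mem_filter.2 ⟨Finset.mem_univ _, hg, hS⟩ : g ∈ K)).2
  have hord : ∀ (S : Sylow 2 G), ∀ x ∈ (S : Subgroup G), x ≠ 1 → orderOf x = 2 := by
    intro S x hx hx1
    obtain ⟨t, ht⟩ := exists_prime_orderOf_dvd_card' 2 (show 2 ∣ Nat.card G by rw [h]; norm_num)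
    obtain ⟨a, ha⟩ := isConj_iff.1 ((hinv t ht).2 x hx1 ⟨S, hx⟩)
    rw [← ha]
    simpa [ht] using orderOf_injective (MulAut.conj a).toMonoidHom (MulAut.conj a).injective t
  have hcomm : ∀ S : Sylow 2 G, IsMulCommutative (S : Subgroup G) := fun S => by
    refine ⟨⟨fun a b => ?_⟩⟩
    have hsq : ∀ y : (S : Subgroup G), y * y = 1 := fun y => by
      rcases eq_or_ne y 1 with rfl | hy
      · exact one_mul 1
      · have h' := pow_orderOf_eq_one y
        rwa [← orderOf_coe, hord S y y.2 (fun e => hy (Subtype.ext e)), sq] at h'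
    have h1 : a * b = (a * b)⁻¹ := eq_inv_of_mul_eq_one_left (hsq _)
    rw [h1, mul_inv_rev, inv_eq_of_mul_eq_one_left (hsq a), inv_eq_of_mul_eq_one_left (hsq b)]
  have hA2 := card_trivial_inter_union hS8
    (fun P x hx hx1 => (hinv x (hord P x hx hx1)).1) hcomm
  rw [Nat.card_eq_fintype_card, Fintype.card_subtype] at hA2
  refine ⟨?_, fun S => ⟨hS8 S, fun x hx hx1 => ⟨hord S x hx hx1, ?_⟩⟩⟩
  · have : A2.card = Nat.card (Sylow 2 G) * 7 := hA2
    omega
  · exact (eq_of_le_of_card_ge (fun y hy => mem_centralizer_singleton_iff.2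
      (congrArg Subtype.val ((hcomm S).is_comm.comm (⟨y, hy⟩ : (S : Subgroup G)) ⟨x, hx⟩)))
      (by rw [(hinv x (hord S x hx hx1)).1, hS8 S])).symm

theorem nonempty_equiv_model (h : Nat.card G = 504) : Nonempty (G ≃* model) := by
  classical
  have h2 : Fact (Nat.Prime 2) := ⟨Nat.prime_two⟩
  have h7 : Fact (Nat.Prime 7) := ⟨by norm_num⟩
  have hna := not_comm h
  obtain ⟨hn2, hdata⟩ := two_data h
  obtain ⟨S⟩ : Nonempty (Sylow 2 G) := Sylow.nonempty
  obtain ⟨hS8, hSx⟩ := hdata S
  have hsq : ∀ x ∈ (S : Subgroup G), x * x = 1 := fun x hx => by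
    rcases eq_or_ne x 1 with rfl | hx1
    · exact one_mul 1
    · rw [← sq, ← (hSx x hx hx1).1, pow_orderOf_eq_one]
  have hcomm : ∀ a ∈ (S : Subgroup G), ∀ b ∈ (S : Subgroup G), a * b = b * a := fun a ha b hb => by
    rcases eq_or_ne b 1 with rfl | hb1
    · simp
    · rw [← (hSx b hb hb1).2, mem_centralizer_singleton_iff] at ha
      exact ha
  set N := normalizer ((S : Subgroup G) : Set G) with hN
  have hNc : Nat.card N = 56 := by
    have := card_sylow_mul_card_normalizer S
    rw [hn2, h, ← hN] at this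
    omega
  obtain ⟨c₀, hc₀⟩ := exists_prime_orderOf_dvd_card' 7 (show 7 ∣ Nat.card N by rw [hNc]; norm_num)
  rw [← orderOf_coe] at hc₀
  -- powers indexed by ZMod 7
  have hpw : ∀ c : G, orderOf c = 7 → ∀ i j : ZMod 7,
      c ^ (i + j).val = c ^ i.val * c ^ j.val := fun c hc i j => by
    rw [← pow_add, ZMod.val_add, ← pow_mod_orderOf c (i.val + j.val), hc]
  have hfree : ∀ c : G, orderOf c = 7 → ∀ s ∈ (S : Subgroup G), c * s * c⁻¹ = s → s = 1 := by
    intro c hc s hs e
    by_contra hs1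
    have : c ∈ (S : Subgroup G) :=
      (hSx s hs hs1).2 ▸ mem_centralizer_singleton_iff.2 (mul_inv_eq_iff_eq_mul.1 e)
    have := (S : Subgroup G).orderOf_dvd_natCard this
    rw [hc, hS8] at this
    norm_num at this
  have hNS : ∀ c ∈ N, ∀ s ∈ (S : Subgroup G), c * s * c⁻¹ ∈ (S : Subgroup G) := fun c hc s hs =>
    (mem_normalizer_iff.1 hc s).1 hs
  obtain ⟨s₀, hs₀, hs₀1⟩ : ∃ s ∈ (S : Subgroup G), s ≠ 1 := by
    by_contra hc
    push Not at hc
    have : (S : Subgroup G) = ⊥ := (Subgroup.eq_bot_iff_forall _).2 hc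
    rw [this, card_bot] at hS8
    omega
  obtain ⟨σ, hσdef⟩ : ∃ σ : G → ZMod 7 → G, ∀ c j, σ c j = c ^ j.val * s₀ * (c ^ j.val)⁻¹ :=
    ⟨_, fun _ _ => rfl⟩
  have hσmem : ∀ c ∈ N, ∀ j, σ c j ∈ (S : Subgroup G) := fun c hc j => (hσdef c j).symm ▸ hNS _ (pow_mem hc _) _ hs₀
  have hσ1 : ∀ c j, σ c j ≠ 1 := fun c j e => hs₀1 (conj_eq_one_iff.1 ((hσdef c j).symm.trans e))
  have hσsh : ∀ c, orderOf c = 7 → ∀ i j, σ c (i + j) = c ^ i.val * σ c j * (c ^ i.val)⁻¹ := by
    intro c hc i j
    simp only [hσdef, hpw c hc, mul_inv_rev]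
    group
  have hσinj : ∀ c ∈ N, orderOf c = 7 → Function.Injective (σ c) := by
    intro c hc ho i j e
    by_contra hne
    have h1 : σ c (i - j) = σ c 0 := by
      have a := hσsh c ho (-j) i
      rw [e, ← hσsh c ho (-j) j, neg_add_cancel, neg_add_eq_sub] at a
      exact a
    have hd : orderOf (c ^ (i - j).val) = 7 := by
      rw [orderOf_pow' c (fun e => hne (sub_eq_zero.1 ((ZMod.val_eq_zero _).1 e))), ho,
        Nat.Coprime.gcd_eq_one ((Nat.Prime.coprime_iff_not_dvd (by norm_num)).2 fun hd =>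
          hne (sub_eq_zero.1 ((ZMod.val_eq_zero _).1 (Nat.eq_zero_of_dvd_of_lt hd (ZMod.val_lt _))))),
        Nat.div_one]
    simp only [hσdef, ZMod.val_zero, pow_zero, one_mul, inv_one, mul_one] at h1
    exact hs₀1 (hfree _ hd s₀ hs₀ h1)
  have hσsurj : ∀ c ∈ N, orderOf c = 7 → ∀ x ∈ (S : Subgroup G), x ≠ 1 → ∃ j, σ c j = x := by
    intro c hc ho x hx hx1
    let m : ZMod 7 → {y : ↥(S : Subgroup G) // y ≠ 1} := fun j =>
      ⟨⟨σ c j, hσmem c hc j⟩, fun e => hσ1 c j (congrArg Subtype.val e)⟩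
    have hm : Function.Bijective m := (Nat.bijective_iff_injective_and_card m).2
      ⟨fun i j e => hσinj c hc ho (congrArg (fun y => ((y.1 : ↥(S : Subgroup G)) : G)) e), by
        have := Fintype.ofFinite (S : Subgroup G)
        rw [Nat.card_zmod, Nat.card_eq_fintype_card, Fintype.card_subtype_compl,
          Fintype.card_subtype_eq, ← Nat.card_eq_fintype_card, hS8]⟩
    obtain ⟨j, hj⟩ := hm.2 ⟨⟨x, hx⟩, fun e => hx1 (congrArg Subtype.val e)⟩
    exact ⟨j, congrArg (fun y => ((y.1 : ↥(S : Subgroup G)) : G)) hj⟩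
  -- normalisation of the generator
  obtain ⟨c, hcN, hc, hrel⟩ : ∃ c ∈ N, orderOf c = 7 ∧ σ c 0 * σ c 1 = σ c 3 := by
    set c := (c₀ : G)
    have hcN : c ∈ N := c₀.2
    have hc := hc₀
    have hne01 : σ c 0 ≠ σ c 1 := fun e => absurd (hσinj c hcN hc e) z7_ne.1
    obtain ⟨k, hk⟩ := hσsurj c hcN hc _ (mul_mem (hσmem c hcN 0) (hσmem c hcN 1)) (fun e => hne01 (by
      rw [← inv_eq_of_mul_eq_one_right e, inv_eq_of_mul_eq_one_left (hsq _ (hσmem c hcN 0))]))
    have sh : ∀ m : ZMod 7, σ c m * σ c (m + 1) = σ c (m + k) := by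
      intro m
      rw [hσsh c hc m k, hk]
      conv_lhs => rw [show σ c m = σ c (m + 0) by rw [add_zero], hσsh c hc m 0, hσsh c hc m 1]
      group
    have inv : ∀ i, σ c i * σ c i = 1 := fun i => hsq _ (hσmem c hcN i)
    have com : ∀ i j, σ c i * σ c j = σ c j * σ c i := fun i j =>
      hcomm _ (hσmem c hcN i) _ (hσmem c hcN j)
    -- a b = d implies d b = a
    have turn : ∀ i j l, σ c i * σ c j = σ c l → σ c l * σ c j = σ c i := fun i j l e => by
      rw [← e, mul_assoc, inv, mul_one]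
    have k7 := z7_cases k
    have n := fun {i j : ZMod 7} (e : σ c i = σ c j) => hσinj c hcN hc e
    rcases k7 with rfl | rfl | rfl | rfl | rfl | rfl | rfl
    · exact absurd (mul_eq_left.1 (sh 0 |>.trans (by rw [add_zero]))) (hσ1 c _)
    · exact absurd (mul_eq_right.1 (sh 0)) (hσ1 c _)
    · exfalso
      have a : σ c 0 * σ c 1 = σ c 2 := sh 0
      have b : σ c 1 * σ c 2 = σ c 3 := sh 1
      have a' := turn _ _ _ a
      rw [com 1 2, a'] at b
      exact absurd (n b) z7_ne.2.2.1
    · exact ⟨c, hcN, hc, sh 0⟩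
    · exfalso
      have a : σ c 3 * σ c 4 = σ c 0 := sh 3
      have b : σ c 4 * σ c 5 = σ c 1 := sh 4
      have d : σ c 0 * σ c 1 = σ c 4 := sh 0
      have h5 : σ c 5 = σ c 0 := by
        have e := turn _ _ _ d
        rw [← e]
        calc σ c 5 = σ c 4 * (σ c 4 * σ c 5) := by rw [← mul_assoc, inv, one_mul]
          _ = σ c 4 * σ c 1 := by rw [b]
      exact absurd (n h5) z7_ne.2.2.2.1
    · refine ⟨c⁻¹, inv_mem hcN, by rw [orderOf_inv, hc], ?_⟩
      have e : ∀ j, σ c⁻¹ j = σ c (-j) := fun j => by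
        have : c⁻¹ ^ j.val = c ^ (-j).val := by
          rw [inv_pow, inv_eq_iff_mul_eq_one, ← hpw c hc, add_neg_cancel, ZMod.val_zero, pow_zero]
        simp only [hσdef, this]
      rw [e, e, e]
      have b : σ c (-1) * σ c 0 = σ c 4 := by
        have := sh (-1)
        rwa [z7_arith.1, z7_arith.2.1] at this
      rw [com, z7_arith.2.2.1, z7_arith.2.2.2.1]
      exact b
    · exfalso
      have a : σ c 0 * σ c 1 = σ c 6 := sh 0
      have b : σ c 1 * σ c 2 = σ c 0 := sh 1
      have b' : σ c 1 * σ c 0 = σ c 2 := by rw [← b, ← mul_assoc, inv, one_mul]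
      rw [com 1 0, a] at b'
      exact absurd (n b') z7_ne.2.2.2.2
  -- the whole table
  have sh : ∀ m : ZMod 7, σ c m * σ c (m + 1) = σ c (m + 3) := by
    intro m
    rw [hσsh c hc m 3, ← hrel]
    conv_lhs => rw [show σ c m = σ c (m + 0) by rw [add_zero], hσsh c hc m 0, hσsh c hc m 1]
    group
  have inv : ∀ i, σ c i * σ c i = 1 := fun i => hsq _ (hσmem c hcN i)
  have com : ∀ i j, σ c i * σ c j = σ c j * σ c i := fun i j =>
    hcomm _ (hσmem c hcN i) _ (hσmem c hcN j)
  have htab : ∀ j : ZMod 7, j ≠ 0 → σ c 0 * σ c j = σ c (tab j) := by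
    have e3 : σ c 0 * σ c 1 = σ c 3 := sh 0
    have e4 : σ c 1 * σ c 2 = σ c 4 := sh 1
    have e5 : σ c 2 * σ c 3 = σ c 5 := sh 2
    have e6 : σ c 3 * σ c 4 = σ c 6 := sh 3
    have cancel : ∀ a b d, σ c a * σ c b = σ c d → σ c a * σ c d = σ c b := fun a b d e => by
      rw [← e, ← mul_assoc, inv, one_mul]
    have e02 : σ c 0 * σ c 2 = σ c 6 := by
      calc σ c 0 * σ c 2 = (σ c 0 * σ c 1) * (σ c 1 * σ c 2) := by
            rw [mul_assoc, ← mul_assoc (σ c 1) (σ c 1), inv, one_mul]
        _ = σ c 6 := by rw [e3, e4, e6]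
    have e04 : σ c 0 * σ c 4 = σ c 5 := by
      calc σ c 0 * σ c 4 = (σ c 0 * σ c 1) * σ c 2 := by rw [← e4, mul_assoc]
        _ = σ c 2 * σ c 3 := by rw [e3, com 3 2]
        _ = σ c 5 := e5
    intro j hj
    have k7 := z7_cases_ne j hj
    rcases k7 with rfl | rfl | rfl | rfl | rfl | rfl
    · exact e3
    · exact e02
    · exact cancel _ _ _ e3
    · exact e04
    · exact cancel _ _ _ e04
    · exact cancel _ _ _ e02
  -- the nine points
  have hS0 : ∀ s ∈ (S : Subgroup G), s • S = S := fun s hs =>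
    Sylow.smul_eq_iff_mem_normalizer.2 (le_normalizer hs)
  have hcS : c • S = S := Sylow.smul_eq_iff_mem_normalizer.2 hcN
  have hreg : ∀ T : Sylow 2 G, T ≠ S → ∀ s ∈ (S : Subgroup G), s • T = T → s = 1 := by
    intro T hT s hs e
    by_contra hs1
    have hm : s ∈ (S : Subgroup G) ⊓ normalizer (T : Set G) :=
      ⟨hs, Sylow.smul_eq_iff_mem_normalizer.1 e⟩
    rw [S.isPGroup'.inf_normalizer_sylow] at hm
    exact hT (Sylow.ext ((hdata T).2 s hm.2 hs1 |>.2.symm.trans (hSx s hs hs1).2))
  have := Fintype.ofFinite (Sylow 2 G)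
  have hreach : ∀ T : Sylow 2 G, T ≠ S → ∀ R : Sylow 2 G, R ≠ S →
      ∃ s ∈ (S : Subgroup G), s • T = R := by
    intro T hT R hR
    let m : ↥(S : Subgroup G) → {R : Sylow 2 G // R ≠ S} := fun x => ⟨(x : G) • T, fun e => hT (by
      have h' := congrArg (fun R => (x : G)⁻¹ • R) e
      simp only [inv_smul_smul] at h'
      rw [h', hS0 _ (inv_mem x.2)])⟩
    have hm : Function.Bijective m := (Nat.bijective_iff_injective_and_card m).2 ⟨fun x y e => by
      have e' : (x : G) • T = (y : G) • T := congrArg Subtype.val e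
      have h' : ((y : G)⁻¹ * (x : G)) • T = T := by rw [mul_smul, e', inv_smul_smul]
      exact Subtype.ext (inv_mul_eq_one.1
        (hreg T hT _ (mul_mem (inv_mem y.2) x.2) h')).symm, by
      rw [hS8, Nat.card_eq_fintype_card, Fintype.card_subtype_compl, Fintype.card_subtype_eq,
        ← Nat.card_eq_fintype_card, hn2]⟩
    obtain ⟨x, hx⟩ := hm.2 ⟨R, hR⟩
    exact ⟨x, x.2, congrArg Subtype.val hx⟩
  have : Nontrivial (Sylow 2 G) :=
    Fintype.one_lt_card_iff_nontrivial.1 (by rw [← Nat.card_eq_fintype_card, hn2]; norm_num)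
  obtain ⟨T, hTS, hcT⟩ : ∃ T : Sylow 2 G, T ≠ S ∧ c • T = T := by
    obtain ⟨R, hR⟩ := exists_ne S
    have hcR : c • R ≠ S := fun e => hR (MulAction.injective c (e.trans hcS.symm))
    obtain ⟨s, hs, hsR⟩ := hreach R hR _ hcR
    let d : ↥(S : Subgroup G) → ↥(S : Subgroup G) := fun a =>
      ⟨c * (a : G) * c⁻¹ * (a : G), mul_mem (hNS c hcN _ a.2) a.2⟩
    have hd : Function.Injective d := by
      intro a b e
      have e' : c * (a : G) * c⁻¹ * (a : G) = c * (b : G) * c⁻¹ * (b : G) := congrArg Subtype.val e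
      have key : c * ((a : G) * (b : G)) * c⁻¹ = (a : G) * (b : G) := by
        have hcb := hNS c hcN _ b.2
        calc c * ((a : G) * (b : G)) * c⁻¹ = (c * (a : G) * c⁻¹ * (a : G)) * ((a : G) * (c * (b : G) * c⁻¹)) := by
              rw [mul_assoc (c * (a : G) * c⁻¹), ← mul_assoc (a : G) (a : G), hsq _ a.2, one_mul]
              group
          _ = (c * (b : G) * c⁻¹ * (b : G)) * ((c * (b : G) * c⁻¹) * (a : G)) := by
              rw [e', hcomm _ a.2 _ hcb]
          _ = (b : G) * ((c * (b : G) * c⁻¹) * (c * (b : G) * c⁻¹)) * (a : G) := by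
              rw [hcomm _ hcb _ b.2]
              group
          _ = (b : G) * (a : G) := by rw [hsq _ hcb, mul_one]
          _ = (a : G) * (b : G) := hcomm _ b.2 _ a.2
      have h1 := hfree c hc _ (mul_mem a.2 b.2) key
      exact Subtype.ext ((eq_inv_of_mul_eq_one_left h1).trans
        (inv_eq_of_mul_eq_one_left (hsq _ b.2)))
    obtain ⟨a, ha⟩ := (Finite.injective_iff_surjective.1 hd) ⟨s, hs⟩
    have ha' : c * (a : G) * c⁻¹ * (a : G) = s := congrArg Subtype.val ha
    refine ⟨(a : G) • R, fun e => hR (MulAction.injective (a : G) (e.trans (hS0 _ a.2).symm)), ?_⟩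
    have hca := hNS c hcN _ a.2
    calc c • (a : G) • R = (c * (a : G) * c⁻¹) • (c • R) := by rw [← mul_smul, ← mul_smul, inv_mul_cancel_right]
      _ = ((c * (a : G) * c⁻¹) * s) • R := by rw [← hsR]; simp only [mul_smul]
      _ = (a : G) • R := by rw [← ha', ← mul_assoc, hsq _ hca, one_mul]
  let lab : Pt → Sylow 2 G := fun
    | none => S
    | some none => T
    | some (some j) => σ c j • T
  have hlab_ne : ∀ j, σ c j • T ≠ S ∧ σ c j • T ≠ T := fun j =>
    ⟨fun e => hTS (MulAction.injective (σ c j) (e.trans (hS0 _ (hσmem c hcN j)).symm)),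
      fun e => hσ1 c j (hreg T hTS _ (hσmem c hcN j) e)⟩
  have hlab : Function.Bijective lab := by
    refine (Nat.bijective_iff_injective_and_card lab).2 ⟨?_, by
      rw [hn2, Nat.card_eq_fintype_card, Fintype.card_option, Fintype.card_option, ZMod.card]⟩
    rintro (_ | _ | i) (_ | _ | j) e <;> simp only [lab] at e
    · rfl
    · exact absurd e.symm hTS
    · exact absurd e.symm (hlab_ne j).1
    · exact absurd e hTS
    · rfl
    · exact absurd e.symm (hlab_ne j).2
    · exact absurd e (hlab_ne i).1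
    · exact absurd e (hlab_ne i).2
    · have h1 : ((σ c j)⁻¹ * σ c i) • T = T := by rw [mul_smul, e, inv_smul_smul]
      have := hreg T hTS _ (mul_mem (inv_mem (hσmem c hcN j)) (hσmem c hcN i)) h1
      rw [hσinj c hcN hc (inv_mul_eq_one.1 this).symm]
  let eqv : Pt ≃ Sylow 2 G := Equiv.ofBijective lab hlab
  let f : G →* Equiv.Perm Pt :=
    (eqv.symm.permCongrHom.toMonoidHom).comp (MulAction.toPermHom G (Sylow 2 G))
  have hfeq : ∀ (g : G) (p : Equiv.Perm Pt), (∀ x, g • lab x = lab (p x)) → f g = p := by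
    intro g p hp
    ext1 x
    show eqv.symm (g • eqv x) = p x
    rw [Equiv.symm_apply_eq]
    exact hp x
  have hcj : ∀ j, c • (σ c j • T) = σ c (j + 1) • T := by
    intro j
    rw [← mul_smul, add_comm, hσsh c hc 1 j, show ((1 : ZMod 7).val) = 1 from rfl, pow_one,
      mul_smul (c * σ c j), inv_smul_eq_iff.2 hcT.symm]
  have hfc : f c = rotPerm := hfeq c rotPerm fun x => by
    rcases x with _ | _ | j
    · exact hcS
    · exact hcT
    · exact hcj j
  have hfs : f (σ c 0) = transPerm := hfeq _ _ fun x => by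
    rcases x with _ | _ | j
    · exact hS0 _ (hσmem c hcN 0)
    · rfl
    · show σ c 0 • (σ c j • T) = lab (transFun (some (some j)))
      simp only [transFun]
      by_cases hj : j = 0
      · rw [if_pos hj, hj, ← mul_smul, inv, one_smul]
      · rw [if_neg hj, ← mul_smul, htab j hj]
  -- the element exchanging the first two points
  have hpt : ∀ R : Sylow 2 G, R ≠ S → R ≠ T → ∃ j, σ c j • T = R := fun R h1 h2' => by
    obtain ⟨s, hs, rfl⟩ := hreach T hTS R h1
    obtain ⟨j, rfl⟩ := hσsurj c hcN hc s hs (fun e => h2' (by rw [e, one_smul]))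
    exact ⟨j, rfl⟩
  have hstab : ∀ g : G, g • S = S → g • T = T → ∃ m : ℕ, g = c ^ m := by
    intro g hgS hgT
    obtain ⟨j, hj⟩ := hpt (g • (σ c 0 • T))
      (fun e => (hlab_ne 0).1 (MulAction.injective g (e.trans hgS.symm)))
      (fun e => (hlab_ne 0).2 (MulAction.injective g (e.trans hgT.symm)))
    refine ⟨j.val, ?_⟩
    set g' := (c ^ j.val)⁻¹ * g with hg'
    have hcpS : ∀ n : ℕ, (c ^ n) • S = S := fun n =>
      Sylow.smul_eq_iff_mem_normalizer.2 (pow_mem hcN n)
    have hcpT : ∀ n : ℕ, (c ^ n) • T = T := fun n => by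
      induction n with
      | zero => simp
      | succ n ih => rw [pow_succ, mul_smul, hcT, ih]
    have hg'S : g' • S = S := by rw [hg', mul_smul, hgS, inv_smul_eq_iff, hcpS]
    have hg'T : g' • T = T := by rw [hg', mul_smul, hgT, inv_smul_eq_iff, hcpT]
    have hσj : σ c j • T = (c ^ j.val) • (σ c 0 • T) := by
      have := hσsh c hc j 0
      rw [add_zero] at this
      rw [this, mul_smul, mul_smul, inv_smul_eq_iff.2 (hcpT j.val).symm]
    have hg'1 : g' • (σ c 0 • T) = σ c 0 • T := by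
      rw [hg', mul_smul, ← hj, hσj, inv_smul_smul]
    have hgN : g' ∈ N := Sylow.smul_eq_iff_mem_normalizer.1 hg'S
    have hconj : g' * σ c 0 * g'⁻¹ = σ c 0 := by
      have h1 : ((σ c 0)⁻¹ * (g' * σ c 0 * g'⁻¹)) • T = T := by
        rw [mul_smul, mul_smul, inv_smul_eq_iff.2 hg'T.symm, mul_smul g', hg'1, inv_smul_smul]
      exact (inv_mul_eq_one.1 (hreg T hTS _ (mul_mem (inv_mem (hσmem c hcN 0))
        (hNS g' hgN _ (hσmem c hcN 0))) h1)).symm
    have hgS' : g' ∈ (S : Subgroup G) :=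
      (hSx _ (hσmem c hcN 0) (hσ1 c 0)).2 ▸ mem_centralizer_singleton_iff.2
        (mul_inv_eq_iff_eq_mul.1 hconj)
    have := hreg T hTS g' hgS' hg'T
    rwa [hg', inv_mul_eq_one, eq_comm] at this
  obtain ⟨u, hu2, huS, huT⟩ : ∃ u : G, u * u = 1 ∧ u • S = T ∧ u • T = S := by
    set s := σ c 0
    have hmove : s • T ≠ T := (hlab_ne 0).2
    obtain ⟨g, hg⟩ := MulAction.exists_smul_eq G T S
    have hgR : g • (s • T) ≠ S := fun e => hmove (MulAction.injective g (e.trans hg.symm))
    obtain ⟨x, hx, hxe⟩ := hreach T hTS _ hgR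
    refine ⟨(x⁻¹ * g) * s * (x⁻¹ * g)⁻¹, ?_, ?_, ?_⟩
    · rw [show ∀ a : G, a * s * a⁻¹ * (a * s * a⁻¹) = a * (s * s) * a⁻¹ from fun a => by group,
        hsq _ (hσmem c hcN 0), mul_one, mul_inv_cancel]
    · have e1 : (x⁻¹ * g) • T = S := by rw [mul_smul, hg, hS0 _ (inv_mem hx)]
      have e2 : (x⁻¹ * g) • (s • T) = T := by rw [mul_smul, ← hxe, inv_smul_smul]
      rw [mul_smul, mul_smul, inv_smul_eq_iff.2 e1.symm, e2]
    · have e1 : (x⁻¹ * g) • T = S := by rw [mul_smul, hg, hS0 _ (inv_mem hx)]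
      have e2 : (x⁻¹ * g) • (s • T) = T := by rw [mul_smul, ← hxe, inv_smul_smul]
      rw [mul_smul, mul_smul, inv_smul_eq_iff.2 e2.symm, ← mul_smul s s, hsq _ (hσmem c hcN 0),
        one_smul, e1]
  have hui : u⁻¹ = u := inv_eq_of_mul_eq_one_left hu2
  have hucS : (u * c * u⁻¹) • S = S := by rw [hui, mul_smul, huS, mul_smul, hcT, huT]
  have hucT : (u * c * u⁻¹) • T = T := by rw [hui, mul_smul, huT, mul_smul, hcS, huS]
  obtain ⟨m, hm⟩ := hstab _ hucS hucT
  have hinvert : u * c * u⁻¹ = c⁻¹ := by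
    have h1 : c ^ (m * m) = c := by
      rw [pow_mul, ← hm, conj_pow, ← hm, hui]
      calc u * (u * c * u) * u = (u * u) * c * (u * u) := by group
        _ = c := by rw [hu2, one_mul, mul_one]
    have h2' : (m : ZMod 7) * m = 1 := by
      have := pow_inj_mod.1 (h1.trans (pow_one c).symm)
      rw [hc] at this
      exact_mod_cast (ZMod.natCast_eq_natCast_iff' (m * m) 1 7).2 this
    have key := z7_sq
    rw [hm, ← pow_mod_orderOf, hc]
    rcases key _ h2' with e | e
    · exfalso
      have h1' : m % 7 = 1 := by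
        have := congrArg ZMod.val e
        rwa [ZMod.val_natCast] at this
      have hcomm' : u * c = c * u := by
        rw [← pow_mod_orderOf, hc, h1', pow_one] at hm
        exact mul_inv_eq_iff_eq_mul.1 hm
      have huC : u ∈ centralizer ({c} : Set G) := mem_centralizer_singleton_iff.2 hcomm'
      have hd := (centralizer ({c} : Set G)).orderOf_dvd_natCard huC
      rw [card_centralizer_seven h hc] at hd
      have hu' : orderOf u = 2 := orderOf_eq_prime (by rw [sq, hu2]) (fun e => hTS (by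
        rw [← huS, e, one_smul]))
      rw [hu'] at hd
      norm_num at hd
    · have h6 : m % 7 = 6 := by
        have := congrArg ZMod.val e
        rwa [ZMod.val_natCast] at this
      rw [h6]
      exact eq_inv_of_mul_eq_one_left (by rw [← pow_succ, show 6 + 1 = orderOf c by rw [hc], pow_orderOf_eq_one])
  obtain ⟨a, ha⟩ := hpt (u • (σ c 0 • T))
    (fun e => (hlab_ne 0).2 (MulAction.injective u (e.trans huT.symm)))
    (fun e => (hlab_ne 0).1 (MulAction.injective u (e.trans huS.symm)))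
  have hcpow : ∀ (i : ℕ) (j : ZMod 7), (c ^ i) • (σ c j • T) = σ c (j + i) • T := by
    intro i
    induction i with
    | zero => simp
    | succ i ih => intro j; rw [pow_succ, mul_smul, hcj, ih, Nat.cast_succ, add_assoc, add_comm 1 (i : ZMod 7)]
  have hcpS : ∀ i : ℕ, (c ^ i) • S = S := fun i =>
    Sylow.smul_eq_iff_mem_normalizer.2 (pow_mem hcN i)
  have hcpT : ∀ i : ℕ, (c ^ i) • T = T := fun i => by
    induction i with
    | zero => simp
    | succ i ih => rw [pow_succ, mul_smul, hcT, ih]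
  set v := c ^ (-a).val * u with hv
  have hfv : f v = swapPerm := hfeq _ _ fun x => by
    rcases x with _ | _ | j
    · show v • S = T
      rw [hv, mul_smul, huS, hcpT]
    · show v • T = S
      rw [hv, mul_smul, huT, hcpS]
    · show v • (σ c j • T) = σ c (-j) • T
      have hj : σ c j • T = (c ^ j.val) • (σ c 0 • T) := by
        rw [hcpow, zero_add, ZMod.natCast_zmod_val]
      have hneg : (c ^ j.val)⁻¹ = c ^ (-j).val := by
        rw [inv_eq_iff_mul_eq_one, ← hpw c hc, add_neg_cancel, ZMod.val_zero, pow_zero]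
      have hu' : u * c ^ j.val = (c ^ j.val)⁻¹ * u := by
        have := congrArg (fun y => y ^ j.val) hinvert
        simp only [conj_pow, inv_pow] at this
        exact mul_inv_eq_iff_eq_mul.1 this
      rw [hv, mul_smul, hj, ← mul_smul u, hu', hneg, mul_smul, ← ha, hcpow, hcpow,
        ZMod.natCast_zmod_val, ZMod.natCast_zmod_val]
      congr 2
      ring
  have hfne : f ≠ 1 := by
    intro e
    have h1 := hfv.symm.trans (DFunLike.congr_fun e v)
    have : swapPerm none = (none : Pt) := by rw [h1]; rfl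
    exact absurd this (by decide)
  have hinj : Function.Injective f := by
    rcases (Subgroup.Normal.eq_bot_or_eq_top (H := f.ker) inferInstance) with e | e
    · exact (MonoidHom.ker_eq_bot_iff f).1 e
    · exact absurd (MonoidHom.ker_eq_top_iff.1 e) hfne
  set H := closure ({c, σ c 0, v} : Set G) with hH
  have hcH : c ∈ H := subset_closure (by simp)
  have hsH : σ c 0 ∈ H := subset_closure (by simp)
  have hvH : v ∈ H := subset_closure (by simp)
  have hSH : (S : Subgroup G) ≤ H := fun x hx => by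
    rcases eq_or_ne x 1 with rfl | hx1
    · exact one_mem _
    obtain ⟨j, rfl⟩ := hσsurj c hcN hc x hx hx1
    have := hσsh c hc j 0
    rw [add_zero] at this
    rw [this]
    exact mul_mem (mul_mem (pow_mem hcH _) hsH) (inv_mem (pow_mem hcH _))
  have htop : H = ⊤ := by
    by_contra hne
    have h8 := eight_le_index h H hne
    have hd8 : 8 ∣ Nat.card H := hS8 ▸ card_dvd_of_le hSH
    have hd7 : 7 ∣ Nat.card H := hc ▸ H.orderOf_dvd_natCard hcH
    have hm := H.card_mul_index
    rw [h] at hm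
    have h56 : Nat.card H = 56 := by
      have hpos : 0 < Nat.card H := Nat.card_pos
      have : 56 ∣ Nat.card H := Nat.Coprime.mul_dvd_of_dvd_of_dvd (by norm_num) hd8 hd7
      obtain ⟨i, hi⟩ := this
      rw [hi] at hm hpos
      have : i ≤ 1 := by nlinarith
      have : i = 1 := by omega
      omega
    have hNH : N ⊓ H = H := by
      refine eq_of_le_of_card_ge inf_le_right ?_
      have hle : (S : Subgroup G) ≤ N ⊓ H := le_inf le_normalizer hSH
      have d8 : 8 ∣ Nat.card ↥(N ⊓ H) := hS8 ▸ card_dvd_of_le hle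
      have d7 : 7 ∣ Nat.card ↥(N ⊓ H) := hc ▸ (N ⊓ H).orderOf_dvd_natCard ⟨hcN, hcH⟩
      rw [h56]
      exact Nat.le_of_dvd Nat.card_pos (Nat.Coprime.mul_dvd_of_dvd_of_dvd (by norm_num) d8 d7)
    have hvN : v ∈ N := by rw [← hNH] at hvH; exact hvH.1
    have := Sylow.smul_eq_iff_mem_normalizer.2 hvN
    rw [hv, mul_smul, huS, hcpT] at this
    exact hTS this
  have hrange : f.range = model := by
    rw [MonoidHom.range_eq_map, ← htop, hH, MonoidHom.map_closure, model, Set.image_insert_eq,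
      Set.image_insert_eq, Set.image_singleton, hfc, hfs, hfv]
  exact ⟨(MonoidHom.ofInjective hinj).trans (MulEquiv.subgroupCongr hrange)⟩

end Cfsg.Agent.SmallOrder.Order504
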