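import Mathlib
import Cfsg.Agent.SmallOrder.Basic
import Cfsg.Agent.Classical.LinearBasic

/-!
# Simple groups with `p + 1` Sylow subgroups of prime order `p` and order `p (p ^ 2 - 1) / 2`

Such a group acts on its Sylow subgroups, identified with `Option (ZMod p)`. The stabilizer of
`none` consists of the maps `i ↦ a i + b` with `a` a square, and a finite check on the possible
elements exchanging `none` and `some 0` determines the group as a set of permutations.
-/

set_option autoImplicit false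

namespace Cfsg.Agent.SmallOrder.RecogPSL

universe u v

variable {p : ℕ}

/-- A candidate for the element exchanging `none` and `some 0`. -/
def cand (m : ℕ) (r ν u b a : ZMod p) : Option (ZMod p) → Option (ZMod p)
  | none => some 0
  | some i =>
    if i = 0 then none
    else
      match (List.range m).find? (fun j => decide (r ^ j = i)) with
      | some j => some (u * a ^ j)
      | none =>
        match (List.range m).find? (fun j => decide (ν * r ^ j = i)) with
        | some j => some (b * a ^ j)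
        | none => some 0

/-- The element of the stabilizer of `none` built from `s` and the translation by `e`. -/
def word (s : Option (ZMod p) → Option (ZMod p)) (e : ZMod p) :
    Option (ZMod p) → Option (ZMod p) := fun z =>
  s ((s ((s z).map (· + e))).map (· + (-((s (some e)).getD 0))))

/-- A map of the affine line with square multiplier. -/
def IsAff (m : ℕ) (W : Option (ZMod p) → Option (ZMod p)) : Prop :=
  W (some 0) ≠ none ∧ W (some 1) ≠ none ∧
    ((W (some 1)).getD 0 - (W (some 0)).getD 0) ^ m = 1 ∧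
    ∀ i : ZMod p, W (some i) =
      some (((W (some 1)).getD 0 - (W (some 0)).getD 0) * i + (W (some 0)).getD 0)

instance [NeZero p] (m : ℕ) (W : Option (ZMod p) → Option (ZMod p)) : Decidable (IsAff m W) := by
  unfold IsAff; infer_instance

/-- The finite check. -/
def Check (p : ℕ) [NeZero p] (m : ℕ) (r ν : ZMod p) : Prop :=
  ∀ t : Bool, ∀ b : ZMod p, b ≠ 0 → ∀ k : ℕ, k < m →
    IsAff m (word (cand m r ν (if t then 1 else ν) b (r ^ k)) 1) →
    IsAff m (word (cand m r ν (if t then 1 else ν) b (r ^ k)) 2) →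
    (-(if t then 1 else ν)) ^ m = 1 ∧ ∀ i : ZMod p, i ≠ 0 →
      ((cand m r ν (if t then 1 else ν) b (r ^ k)) (some i)).getD 0 * i = if t then 1 else ν

set_option synthInstance.maxSize 4000 in
instance (p : ℕ) [NeZero p] (m : ℕ) (r ν : ZMod p) : Decidable (Check p m r ν) := by
  unfold Check; infer_instance

/-- The facts about `r` (a generator of the squares) and `ν` (a nonsquare). -/
def Base (p : ℕ) [NeZero p] (m : ℕ) (r ν : ZMod p) : Prop :=
  ν ≠ 0 ∧ ν ^ m = -1 ∧ r ^ m = 1 ∧ (∀ a : ZMod p, a ^ m = 1 → ∃ k : ℕ, k < m ∧ a = r ^ k) ∧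
    ∀ i : ZMod p, i ≠ 0 → ∃ j : ℕ, j < m ∧ (r ^ j = i ∨ ν * r ^ j = i)

instance (p : ℕ) [NeZero p] (m : ℕ) (r ν : ZMod p) : Decidable (Base p m r ν) := by
  unfold Base; infer_instance

variable [hp : Fact p.Prime]

theorem pow_val_add {G : Type u} [Group G] {x : G} (hx : orderOf x = p) (i j : ZMod p) :
    x ^ (i + j).val = x ^ i.val * x ^ j.val := by
  rw [← pow_add, pow_eq_pow_iff_modEq, hx, ← ZMod.natCast_eq_natCast_iff]
  simp

theorem pow_val_inj {G : Type u} [Group G] {x : G} (hx : orderOf x = p) {i j : ZMod p}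
    (h : x ^ i.val = x ^ j.val) : i = j := by
  rw [pow_eq_pow_iff_modEq, hx, ← ZMod.natCast_eq_natCast_iff] at h
  simpa using h

/-- The permutation representation on `Option (ZMod p)`. -/
theorem exists_rep {G : Type u} [Group G] [Finite G] [IsSimpleGroup G] {m : ℕ} (hm : 2 * m + 1 = p)
    (hG : Nat.card G = p * m * (p + 1)) (hn : Nat.card (Sylow p G) = p + 1) :
    ∃ f : G →* Equiv.Perm (Option (ZMod p)), Function.Injective f ∧
      (∀ σ ∈ f.range, σ none = none →
        ∃ a b : ZMod p, a ^ m = 1 ∧ ∀ i : ZMod p, σ (some i) = some (a * i + b)) ∧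
      (∀ a b : ZMod p, a ^ m = 1 → ∃ σ ∈ f.range, σ none = none ∧
        ∀ i : ZMod p, σ (some i) = some (a * i + b)) ∧
      ∃ σ ∈ f.range, σ none ≠ none := by
  classical
  have hpp : p.Prime := hp.out
  obtain ⟨P⟩ : Nonempty (Sylow p G) := inferInstance
  have hm0 : 0 < m := by have := hpp.two_le; omega
  have hPc : Nat.card (P : Subgroup G) = p := by
    rw [card_sylow_eq_pow (a := 1) (m := m * (p + 1)) (by rw [hG, pow_one]; ring) ?_ P, pow_one]
    intro h
    rcases hpp.dvd_mul.1 h with h | h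
    · have := Nat.le_of_dvd hm0 h
      omega
    · exact hpp.not_dvd_one ((Nat.dvd_add_right (dvd_refl p)).1 h)
  have hcyc := isCyclic_of_prime_card hPc
  obtain ⟨⟨x, hxP⟩, hx'⟩ := IsCyclic.exists_ofOrder_eq_natCard (α := (P : Subgroup G))
  rw [hPc, Subgroup.orderOf_mk] at hx'
  have hzP : Subgroup.zpowers x = (P : Subgroup G) :=
    Subgroup.eq_of_le_of_card_ge (Subgroup.zpowers_le.2 hxP) (by rw [hPc, Nat.card_zpowers, hx'])
  obtain ⟨Q, hQ⟩ : ∃ Q : Sylow p G, Q ≠ P := by
    have : Nontrivial (Sylow p G) := Finite.one_lt_card_iff_nontrivial.1 (by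
      have := hpp.two_le
      omega)
    exact exists_ne P
  have hmove : ∀ R : Sylow p G, R ≠ P → ∀ y ∈ (P : Subgroup G), y • R = R → y = 1 := by
    intro R hR y hy hyR
    have h1 : y ∈ Subgroup.normalizer ((R : Subgroup G) : Set G) :=
      Sylow.smul_eq_iff_mem_normalizer.1 hyR
    have h2 : y ∈ (P : Subgroup G) ⊓ (R : Subgroup G) := (P.isPGroup'.inf_normalizer_sylow R).le ⟨hy, h1⟩
    by_contra hy1
    have h3 : (P : Subgroup G) ≤ (R : Subgroup G) := by
      have hd : orderOf y ∣ p := hPc ▸ (Subgroup.orderOf_dvd_natCard _ hy)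
      have hyo : orderOf y = p := ((Nat.dvd_prime hpp).1 hd).resolve_left fun e =>
        hy1 (orderOf_eq_one_iff.1 e)
      rw [← Subgroup.eq_of_le_of_card_ge (Subgroup.zpowers_le.2 hy)
        (by rw [hPc, Nat.card_zpowers, hyo])]
      exact Subgroup.zpowers_le.2 h2.2
    exact hR (Sylow.ext (P.is_maximal' R.isPGroup' h3))
  have hfixP : ∀ y ∈ (P : Subgroup G), y • P = P := fun y hy =>
    Sylow.smul_eq_iff_mem_normalizer.2 (Subgroup.le_normalizer hy)
  let pt : Option (ZMod p) → Sylow p G := fun o =>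
    o.elim P fun i => (x ^ i.val) • Q
  have hptne : ∀ i : ZMod p, pt (some i) ≠ P := by
    intro i h
    refine hQ ?_
    have h2 : (x ^ i.val)⁻¹ • ((x ^ i.val) • Q) = (x ^ i.val)⁻¹ • P :=
      congrArg (fun R => (x ^ i.val)⁻¹ • R) h
    rwa [inv_smul_smul, hfixP _ (inv_mem (pow_mem hxP _))] at h2
  have hinj : Function.Injective pt := by
    rintro (_ | i) (_ | j) h
    · rfl
    · exact absurd h.symm (hptne j)
    · exact absurd h (hptne i)
    · have h1 : ((x ^ j.val)⁻¹ * x ^ i.val) • Q = Q := by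
        rw [mul_smul]
        exact (congrArg (fun R => (x ^ j.val)⁻¹ • R) h).trans (inv_smul_smul _ _)
      have h2 := hmove Q hQ _ (mul_mem (inv_mem (pow_mem hxP _)) (pow_mem hxP _)) h1
      rw [pow_val_inj hx' (inv_mul_eq_one.1 h2).symm]
  let e : Option (ZMod p) ≃ Sylow p G := Equiv.ofBijective pt
    ((Nat.bijective_iff_injective_and_card pt).2 ⟨hinj, by
      rw [Nat.card_eq_fintype_card, Fintype.card_option, ZMod.card, hn]⟩)
  let f : G →* Equiv.Perm (Option (ZMod p)) :=
    (e.symm.permCongrHom.toMonoidHom).comp (MulAction.toPermHom G (Sylow p G))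
  have hf : ∀ g o, e (f g o) = g • pt o := fun g o => by
    show e (e.symm (g • e o)) = _
    rw [Equiv.apply_symm_apply]
    rfl
  have hfsome : ∀ g o o', g • pt o = pt o' → f g o = o' := fun g o o' h =>
    e.injective ((hf g o).trans h)
  have hfinj : Function.Injective f := by
    rw [← MonoidHom.ker_eq_bot_iff]
    rcases (inferInstance : f.ker.Normal).eq_bot_or_eq_top with h | h
    · exact h
    · exfalso
      have h1 : f x (some 0) = some 0 := by
        rw [MonoidHom.mem_ker.1 (h ▸ Subgroup.mem_top x : x ∈ f.ker)]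
        rfl
      have h2 : x • pt (some 0) = pt (some 0) := by
        rw [← hf, h1]
        rfl
      have h3 := hmove _ (hptne 0) x hxP h2
      rw [h3, orderOf_one] at hx'
      exact hpp.ne_one hx'.symm
  have hone : x ^ (1 : ZMod p).val = x := by
    have : Fact (1 < p) := ⟨hpp.one_lt⟩
    rw [ZMod.val_one, pow_one]
  have hshift : ∀ i : ZMod p, x • pt (some i) = pt (some (1 + i)) := fun i => by
    show x • ((x ^ i.val) • Q) = (x ^ (1 + i).val) • Q
    rw [pow_val_add hx', hone, mul_smul]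
  -- the normalizer of `P`
  have hNc : Nat.card (Subgroup.normalizer ((P : Subgroup G) : Set G)) = p * m := by
    have h := card_sylow_mul_card_normalizer P
    rw [hn, hG, mul_comm (p * m)] at h
    exact Nat.eq_of_mul_eq_mul_left (by omega) h
  have hstab : ∀ n ∈ Subgroup.normalizer ((P : Subgroup G) : Set G),
      ∃ a b : ZMod p, a ^ m = 1 ∧ f n none = none ∧ ∀ i, f n (some i) = some (a * i + b) := by
    intro n hnN
    have hnP : n • P = P := Sylow.smul_eq_iff_mem_normalizer.2 hnN
    have hnx : n * x * n⁻¹ ∈ Subgroup.zpowers x := by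
      rw [hzP]
      exact (Subgroup.mem_normalizer_iff.1 hnN x).1 hxP
    obtain ⟨l, hl⟩ := Subgroup.mem_zpowers_iff.1 hnx
    obtain ⟨a, ha⟩ : ∃ a : ZMod p, n * x * n⁻¹ = x ^ a.val := by
      refine ⟨(l : ZMod p), ?_⟩
      rw [← hl, ← zpow_natCast, zpow_eq_zpow_iff_modEq, hx', ← ZMod.intCast_eq_intCast_iff]
      simp
    have hpow : ∀ k : ℕ, n ^ k * x * (n ^ k)⁻¹ = x ^ (a ^ k).val := by
      intro k
      induction k with
      | zero => simp [hone]
      | succ k ih =>
        rw [pow_succ' n, show n * n ^ k * x * (n * n ^ k)⁻¹ = n * (n ^ k * x * (n ^ k)⁻¹) * n⁻¹ by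
          group, ih, ← conj_pow, ha, ← pow_mul, pow_eq_pow_iff_modEq, hx',
          ← ZMod.natCast_eq_natCast_iff]
        simp [pow_succ']
    have ham : a ^ m = 1 := by
      have h1 := hpow (p * m)
      have h2 : n ^ (p * m) = 1 := by
        have h3 : orderOf n ∣ p * m := hNc ▸ Subgroup.orderOf_dvd_natCard _ hnN
        exact orderOf_dvd_iff_pow_eq_one.1 h3
      rw [h2, one_mul, inv_one, mul_one] at h1
      have h4 := pow_val_inj hx' (hone.trans h1)
      rw [h4, pow_mul, ZMod.pow_card]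
    have hnQ : n • Q ≠ P := fun h => hQ (smul_left_cancel n (h.trans hnP.symm))
    obtain ⟨o, ho⟩ := e.surjective (n • Q)
    rcases o with _ | b
    · exact absurd ho.symm hnQ
    refine ⟨a, b, ham, hfsome _ _ _ hnP, fun i => hfsome _ _ _ ?_⟩
    show n • ((x ^ i.val) • Q) = (x ^ (a * i + b).val) • Q
    have hb : n • Q = (x ^ b.val) • Q := ho.symm
    rw [pow_val_add hx', ← mul_smul, show n * x ^ i.val = n * x ^ i.val * n⁻¹ * n by group,
      mul_smul, hb, ← mul_smul, ← conj_pow, ha, ← pow_mul]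
    congr 2
    rw [pow_eq_pow_iff_modEq, hx', ← ZMod.natCast_eq_natCast_iff]
    simp
  refine ⟨f, hfinj, ?_, ?_, ?_⟩
  · rintro _ ⟨n, rfl⟩ hn0
    have hnN : n ∈ Subgroup.normalizer ((P : Subgroup G) : Set G) := by
      refine Sylow.smul_eq_iff_mem_normalizer.1 ?_
      have := hf n none
      rw [hn0] at this
      exact this.symm
    obtain ⟨a, b, ha, -, h⟩ := hstab n hnN
    exact ⟨a, b, ha, h⟩
  · intro a b ha
    choose A B hA hB hC using hstab
    let S := {c : ZMod p // c ^ m = 1} × ZMod p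
    let φ : Subgroup.normalizer ((P : Subgroup G) : Set G) → S := fun n =>
      (⟨A n n.2, hA n n.2⟩, B n n.2)
    have hφ : Function.Injective φ := by
      intro n₁ n₂ h
      refine Subtype.ext (hfinj (Equiv.ext fun o => ?_))
      rcases o with _ | i
      · rw [hB n₁ n₁.2, hB n₂ n₂.2]
      · rw [hC n₁ n₁.2, hC n₂ n₂.2]
        have h1 : A n₁ n₁.2 = A n₂ n₂.2 := congrArg (fun s : S => (s.1 : ZMod p)) h
        have h2 : B n₁ n₁.2 = B n₂ n₂.2 := congrArg (fun s : S => s.2) h
        rw [h1, h2]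
    have hS : Nat.card S ≤ Nat.card (Subgroup.normalizer ((P : Subgroup G) : Set G)) := by
      rw [hNc, Nat.card_prod, Nat.card_zmod, mul_comm p m]
      refine Nat.mul_le_mul_right _ ?_
      rw [Nat.card_eq_fintype_card, Fintype.card_subtype]
      refine le_trans (Finset.card_le_card (t := (Polynomial.nthRoots m (1 : ZMod p)).toFinset)
        fun c hc => ?_) ((Multiset.toFinset_card_le _).trans (Polynomial.card_nthRoots m 1))
      rw [Multiset.mem_toFinset, Polynomial.mem_nthRoots hm0]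
      exact (Finset.mem_filter.1 hc).2
    have hsurj := ((Nat.bijective_iff_injective_and_card φ).2 ⟨hφ,
      le_antisymm (Nat.card_le_card_of_injective φ hφ) hS⟩).2
    obtain ⟨n, hn'⟩ := hsurj (⟨a, ha⟩, b)
    refine ⟨f n, ⟨n, rfl⟩, hB n n.2, fun i => ?_⟩
    rw [hC n n.2, show A n n.2 = a from congrArg (fun s : S => (s.1 : ZMod p)) hn',
      show B n n.2 = b from congrArg (fun s : S => s.2) hn']
  · obtain ⟨g, hg⟩ := MulAction.exists_smul_eq G P Q
    refine ⟨f g, ⟨g, rfl⟩, fun h => hQ ?_⟩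
    have := hf g none
    rw [h] at this
    exact hg.symm.trans this.symm

/-- The distinguished permutation. -/
theorem exists_w0 {G : Type u} [Group G] (hp2 : p ≠ 2) {m : ℕ} {r ν : ZMod p} (hB : Base p m r ν)
    (hchk : Check p m r ν) {f : G →* Equiv.Perm (Option (ZMod p))}
    (hst : ∀ σ ∈ f.range, σ none = none →
      ∃ a b : ZMod p, a ^ m = 1 ∧ ∀ i : ZMod p, σ (some i) = some (a * i + b))
    (haff : ∀ a b : ZMod p, a ^ m = 1 → ∃ σ ∈ f.range, σ none = none ∧
      ∀ i : ZMod p, σ (some i) = some (a * i + b))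
    (htr : ∃ σ ∈ f.range, σ none ≠ none) :
    ∃ σ ∈ f.range, σ none = some 0 ∧ σ (some 0) = none ∧
      ∀ i : ZMod p, i ≠ 0 → σ (some i) = some (-i⁻¹) := by
  classical
  obtain ⟨hν, hνm, hr, hsq, hrep⟩ := hB
  choose sh hshR hsh0 hsh using fun b : ZMod p => haff 1 b (one_pow m)
  obtain ⟨σ, hσ, hσ0⟩ := htr
  obtain ⟨c, hc⟩ := Option.ne_none_iff_exists'.1 hσ0
  obtain ⟨o, ho⟩ := (sh (-c) * σ).surjective none
  obtain ⟨z, rfl⟩ : ∃ z, o = some z := by
    refine Option.ne_none_iff_exists'.1 ?_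
    rintro rfl
    rw [Equiv.Perm.mul_apply, hc, hsh, one_mul, add_neg_cancel] at ho
    exact Option.some_ne_none _ ho
  set s₀ := sh (-c) * σ * sh z with hs₀
  have hs₀R : s₀ ∈ f.range := mul_mem (mul_mem (hshR _) hσ) (hshR _)
  have hs₀n : s₀ none = some 0 := by
    rw [hs₀, Equiv.Perm.mul_apply, hsh0, Equiv.Perm.mul_apply, hc, hsh, one_mul, add_neg_cancel]
  have hs₀0 : s₀ (some 0) = none := by
    rw [hs₀, Equiv.Perm.mul_apply, hsh, mul_zero, zero_add]
    exact ho
  -- normalize the value at one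
  obtain ⟨u₀, hu₀⟩ : ∃ u₀, s₀ (some 1) = some u₀ := Option.ne_none_iff_exists'.1 fun h =>
    one_ne_zero (Option.some.inj (s₀.injective (h.trans hs₀0.symm)))
  have hu₀0 : u₀ ≠ 0 := fun h =>
    Option.some_ne_none 1 (s₀.injective (by rw [hu₀, h, hs₀n]))
  obtain ⟨t, c₀, hc₀, hc₀u⟩ : ∃ t : Bool, ∃ c₀ : ZMod p, c₀ ^ m = 1 ∧
      c₀ * u₀ = if t then 1 else ν := by
    obtain ⟨j, -, hj | hj⟩ := hrep u₀ hu₀0
    · refine ⟨true, u₀⁻¹, ?_, by simp [hu₀0]⟩
      rw [← hj, inv_pow, ← pow_mul, mul_comm j, pow_mul, hr, one_pow, inv_one]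
    · refine ⟨false, ν * u₀⁻¹, ?_, by simp [hu₀0]⟩
      rw [← hj, mul_inv, ← mul_assoc, mul_inv_cancel₀ hν, one_mul, inv_pow, ← pow_mul,
        mul_comm j, pow_mul, hr, one_pow, inv_one]
  obtain ⟨M, hMR, hM0, hM⟩ := haff c₀ 0 hc₀
  set u : ZMod p := if t then 1 else ν with hu
  set s := M * s₀ with hs
  have hsR : s ∈ f.range := mul_mem hMR hs₀R
  have hsn : s none = some 0 := by rw [hs, Equiv.Perm.mul_apply, hs₀n, hM, mul_zero, zero_add]
  have hs0 : s (some 0) = none := by rw [hs, Equiv.Perm.mul_apply, hs₀0, hM0]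
  have hs1 : s (some 1) = some u := by
    rw [hs, Equiv.Perm.mul_apply, hu₀, hM, add_zero, hc₀u]
  obtain ⟨b, hb⟩ : ∃ b, s (some ν) = some b := Option.ne_none_iff_exists'.1 fun h =>
    hν (Option.some.inj (s.injective (h.trans hs0.symm)))
  have hb0 : b ≠ 0 := fun h => Option.some_ne_none ν (s.injective (by rw [hb, h, hsn]))
  -- conjugation of the multiplier
  obtain ⟨H, hHR, hH0, hH⟩ := haff r 0 hr
  obtain ⟨a, a₀, ha, hax⟩ := hst (s * H * s⁻¹) (mul_mem (mul_mem hsR hHR) (inv_mem hsR)) (by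
    rw [Equiv.Perm.mul_apply, Equiv.Perm.mul_apply, Equiv.Perm.inv_eq_iff_eq.2 hs0.symm, hH,
      mul_zero, zero_add, hs0])
  have ha₀ : a₀ = 0 := by
    have := hax 0
    rw [Equiv.Perm.mul_apply, Equiv.Perm.mul_apply, Equiv.Perm.inv_eq_iff_eq.2 hsn.symm, hH0,
      hsn, mul_zero, zero_add] at this
    exact (Option.some.inj this).symm
  subst ha₀
  have hcomm : ∀ i w : ZMod p, s (some i) = some w → s (some (r * i)) = some (a * w) := by
    intro i w h
    have h1 := hax w
    rw [Equiv.Perm.mul_apply, Equiv.Perm.mul_apply, Equiv.Perm.inv_eq_iff_eq.2 h.symm, hH,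
      add_zero, add_zero] at h1
    exact h1
  have hpow : ∀ (j : ℕ) (i w : ZMod p), s (some i) = some w →
      s (some (r ^ j * i)) = some (a ^ j * w) := by
    intro j
    induction j with
    | zero => intro i w h; simpa using h
    | succ j ih =>
      intro i w h
      rw [pow_succ', mul_assoc, pow_succ', mul_assoc]
      exact hcomm _ _ (ih i w h)
  obtain ⟨k, hk, rfl⟩ := hsq a ha
  have hcand : (s : Option (ZMod p) → Option (ZMod p)) = cand m r ν u b (r ^ k) := by
    funext o
    rcases o with _ | i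
    · exact hsn
    · simp only [cand]
      by_cases hi : i = 0
      · rw [if_pos hi, hi]; exact hs0
      rw [if_neg hi]
      cases h1 : (List.range m).find? (fun j => decide (r ^ j = i)) with
      | some j =>
        have h2 : r ^ j = i := by simpa using List.find?_some h1
        have h3 := hpow j 1 u hs1
        rw [mul_one, h2] at h3
        simp only [h3, mul_comm]
      | none =>
        cases h4 : (List.range m).find? (fun j => decide (ν * r ^ j = i)) with
        | some j =>
          have h2 : ν * r ^ j = i := by simpa using List.find?_some h4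
          have h3 := hpow j ν b hb
          rw [mul_comm, h2] at h3
          simp only [h3, mul_comm]
        | none =>
          exfalso
          obtain ⟨j, hj, h | h⟩ := hrep i hi
          · have := List.find?_eq_none.1 h1 j (List.mem_range.2 hj)
            simp [h] at this
          · have := List.find?_eq_none.1 h4 j (List.mem_range.2 hj)
            simp [h] at this
  have hword : ∀ e : ZMod p, e ≠ 0 → IsAff m (word (cand m r ν u b (r ^ k)) e) := by
    intro e he
    rw [← hcand]
    obtain ⟨w, hw⟩ : ∃ w, s (some e) = some w := Option.ne_none_iff_exists'.1 fun h =>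
      he (Option.some.inj (s.injective (h.trans hs0.symm)))
    have hmapn : ∀ (d : ZMod p) (o : Option (ZMod p)), sh d o = o.map (· + d) := by
      intro d o
      rcases o with _ | i
      · exact hsh0 d
      · rw [hsh, one_mul]; rfl
    have hW : ∀ o, (s * sh (-w) * s * sh e * s) o = word s e o := fun o => by
      simp only [word, Equiv.Perm.mul_apply, hmapn, hw, Option.getD_some]
    obtain ⟨A, B, hA, hAB⟩ := hst (s * sh (-w) * s * sh e * s)
      (mul_mem (mul_mem (mul_mem (mul_mem hsR (hshR _)) hsR) (hshR _)) hsR) (by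
        simp only [Equiv.Perm.mul_apply, hsn, hsh, one_mul, zero_add, hw, add_neg_cancel, hs0])
    simp only [hW] at hAB
    unfold IsAff
    simp only [hAB, Option.getD_some, mul_one, mul_zero, zero_add, ne_eq, reduceCtorEq,
      not_false_eq_true, true_and, add_sub_cancel_right]
    exact ⟨hA, fun i => trivial⟩
  have h2ne : (2 : ZMod p) ≠ 0 := by
    intro h
    have h1 : ((2 : ℕ) : ZMod p) = 0 := by exact_mod_cast h
    exact hp2 ((Nat.prime_dvd_prime_iff_eq hp.out Nat.prime_two).1
      ((ZMod.natCast_eq_zero_iff _ _).1 h1))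
  obtain ⟨hum, hgood⟩ := hchk t b hb0 k hk (hword 1 one_ne_zero) (hword 2 h2ne)
  obtain ⟨N, hNR, hN0, hN⟩ := haff (-u)⁻¹ 0 (by rw [inv_pow, hum, inv_one])
  refine ⟨N * s, mul_mem hNR hsR, by rw [Equiv.Perm.mul_apply, hsn, hN, mul_zero, zero_add],
    by rw [Equiv.Perm.mul_apply, hs0, hN0], fun i hi => ?_⟩
  obtain ⟨w, hw⟩ : ∃ w, s (some i) = some w := Option.ne_none_iff_exists'.1 fun h =>
    hi (Option.some.inj (s.injective (h.trans hs0.symm)))
  have h3 := hgood i hi
  rw [← hu, ← hcand, hw, Option.getD_some] at h3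
  rw [Equiv.Perm.mul_apply, hw, hN, add_zero]
  have hu0 : u ≠ 0 := fun h => Option.some_ne_none 1 (s.injective (by rw [hs1, h, hsn]))
  congr 1
  rw [← h3] at hu0 ⊢
  have hw0 : w ≠ 0 := left_ne_zero_of_mul hu0
  field_simp

/-- Two simple groups of order `p (p ^ 2 - 1) / 2` with `p + 1` Sylow `p`-subgroups are
isomorphic, for a prime `p` passing the check. -/
theorem nonempty_mulEquiv {G : Type u} {H : Type v} [Group G] [Finite G] [IsSimpleGroup G]
    [Group H] [Finite H] [IsSimpleGroup H] {m : ℕ} {r ν : ZMod p} (hm : 2 * m + 1 = p)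
    (hB : Base p m r ν) (hchk : Check p m r ν)
    (hG : Nat.card G = p * m * (p + 1)) (hGn : Nat.card (Sylow p G) = p + 1)
    (hH : Nat.card H = p * m * (p + 1)) (hHn : Nat.card (Sylow p H) = p + 1) :
    Nonempty (G ≃* H) := by
  obtain ⟨f, hf, hfs, hfa, hft⟩ := exists_rep hm hG hGn
  obtain ⟨f', hf', hfs', hfa', hft'⟩ := exists_rep hm hH hHn
  obtain ⟨w, hw, hwn, hw0, hwi⟩ := exists_w0 (by omega) hB hchk hfs hfa hft
  obtain ⟨w', hw', hwn', hw0', hwi'⟩ := exists_w0 (by omega) hB hchk hfs' hfa' hft'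
  have hww : w = w' := Equiv.ext fun o => by
    rcases o with _ | i
    · rw [hwn, hwn']
    · by_cases hi : i = 0
      · rw [hi, hw0, hw0']
      · rw [hwi i hi, hwi' i hi]
  have hle : ∀ (R R' : Subgroup (Equiv.Perm (Option (ZMod p)))),
      (∀ σ ∈ R, σ none = none →
        ∃ a b : ZMod p, a ^ m = 1 ∧ ∀ i : ZMod p, σ (some i) = some (a * i + b)) →
      (∀ a b : ZMod p, a ^ m = 1 → ∃ σ ∈ R, σ none = none ∧
        ∀ i : ZMod p, σ (some i) = some (a * i + b)) →
      (∀ a b : ZMod p, a ^ m = 1 → ∃ σ ∈ R', σ none = none ∧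
        ∀ i : ZMod p, σ (some i) = some (a * i + b)) →
      w ∈ R → w ∈ R' → R ≤ R' := by
    intro R R' hs ha ha' hwR hwR' σ hσ
    have hstabR : ∀ ρ ∈ R, ρ none = none → ρ ∈ R' := by
      intro ρ hρ h0
      obtain ⟨a, b, ham, hab⟩ := hs ρ hρ h0
      obtain ⟨ρ', hρ', h0', hab'⟩ := ha' a b ham
      have : ρ = ρ' := Equiv.ext fun o => by
        rcases o with _ | i
        · rw [h0, h0']
        · rw [hab, hab']
      exact this ▸ hρ'
    by_cases h0 : σ none = none
    · exact hstabR σ hσ h0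
    obtain ⟨c, hc⟩ := Option.ne_none_iff_exists'.1 h0
    obtain ⟨T, hT, hT0, hTi⟩ := ha 1 (-c) (one_pow m)
    have h1 : (w * T * σ) none = none := by
      rw [Equiv.Perm.mul_apply, Equiv.Perm.mul_apply, hc, hTi, one_mul, add_neg_cancel, hw0]
    have h2 := hstabR _ (mul_mem (mul_mem hwR hT) hσ) h1
    have hT' : T ∈ R' := hstabR T hT hT0
    have := mul_mem (inv_mem (mul_mem hwR' hT')) h2
    rwa [inv_mul_cancel_left] at this
  have heq : f.range = f'.range := le_antisymm (hle _ _ hfs hfa hfa' hw (hww ▸ hw'))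
    (hle _ _ hfs' hfa' hfa (hww ▸ hw') hw)
  exact ⟨(MonoidHom.ofInjective hf).trans
    ((MulEquiv.subgroupCongr heq).trans (MonoidHom.ofInjective hf').symm)⟩

theorem card_sylow_eq {K : Type u} [Group K] [Finite K] [IsSimpleGroup K] {m : ℕ} (h2 : 2 ≤ m)
    (hdiv : ∀ n : ℕ, n < m * (p + 1) + 1 → n ∣ m * (p + 1) → n % p = 1 → n = 1 ∨ n = p + 1)
    (hpm : ¬ p ∣ m * (p + 1)) (hK : Nat.card K = p * m * (p + 1)) :
    Nat.card (Sylow p K) = p + 1 := by
  have hpp : p.Prime := hp.out
  have hd := card_sylow_dvd (G := K) (p := p) (a := 1) (m := m * (p + 1))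
    (by rw [hK, pow_one]; ring) hpm
  have hna : ¬ IsMulCommutative K := not_comm_of_card fun h => by
    rw [hK, mul_assoc, Nat.prime_mul_iff] at h
    rcases h with ⟨-, h⟩ | ⟨-, h⟩
    · nlinarith [hpp.two_le]
    · exact hpp.ne_one h
  exact (hdiv _ (Nat.lt_succ_of_le (Nat.le_of_dvd (by positivity) hd)) hd
    (card_sylow_mod p)).resolve_left
    (card_sylow_ne_one hna ⟨m * (p + 1), by rw [hK]; ring⟩)

/-- Recognition of `PSL(2, p)`. -/
theorem iso_psl {G : Type u} [Group G] [Finite G] [IsSimpleGroup G] {m : ℕ} {r ν : ZMod p}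
    (hm : 2 * m + 1 = p) (h2 : 2 ≤ m) (hB : Base p m r ν) (hchk : Check p m r ν)
    (hG : Nat.card G = p * m * (p + 1))
    (hdiv : ∀ n : ℕ, n < m * (p + 1) + 1 → n ∣ m * (p + 1) → n % p = 1 → n = 1 ∨ n = p + 1)
    {F : Type v} [Field F] [Fintype F] (hF : Fintype.card F = p) :
    Nonempty (G ≃* Matrix.ProjectiveSpecialLinearGroup (Fin 2) F) := by
  classical
  have hpp : p.Prime := hp.out
  have hpm : ¬ p ∣ m * (p + 1) := by
    intro h
    rcases hpp.dvd_mul.1 h with h | h
    · have := Nat.le_of_dvd (by omega) h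
      omega
    · exact hpp.not_dvd_one ((Nat.dvd_add_right (dvd_refl p)).1 h)
  have hcount := fun {K : Type v} [Group K] [Finite K] [IsSimpleGroup K]
    (hK : Nat.card K = p * m * (p + 1)) => card_sylow_eq h2 hdiv hpm hK
  have h4 : 4 ≤ Fintype.card F := by omega
  obtain ⟨g, hg⟩ := IsCyclic.exists_generator (α := Fˣ)
  have hsimple : IsSimpleGroup (Matrix.ProjectiveSpecialLinearGroup (Fin 2) F) :=
    Classical.isSimpleGroup_psl (Or.inr ⟨by simp, g, g.ne_zero, fun h2' => by
      have h3 : g ^ 2 = 1 := Units.ext (by rw [Units.val_pow_eq_pow_val, h2', Units.val_one])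
      have h5 := orderOf_le_of_pow_eq_one two_pos h3
      rw [orderOf_eq_card_of_forall_mem_zpowers hg, Nat.card_units, Nat.card_eq_fintype_card,
        hF] at h5
      omega⟩)
  have hcard : Nat.card (Matrix.ProjectiveSpecialLinearGroup (Fin 2) F) = p * m * (p + 1) := by
    have h1 := Classical.card_sl_mul (F := F) hF 2 (by norm_num)
    have h3 := Classical.card_psl_mul (F := F) (ι := Fin 2)
    rw [Fintype.card_fin, hF, Nat.gcd_eq_left (by omega : 2 ∣ p - 1)] at h3
    rw [← h3] at h1
    simp only [Fin.prod_univ_two, Fin.val_zero, Fin.val_one, pow_zero, pow_one] at h1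
    have e1 : p - 1 = 2 * m := by omega
    have e2 : p ^ 2 - 1 = (p + 1) * (2 * m) := by
      rw [← e1, pow_two]; exact Nat.mul_self_sub_mul_self_eq p 1 ▸ by rw [mul_one]
    have e3 : p ^ 2 - p = p * (2 * m) := by rw [← e1, pow_two, Nat.mul_sub, mul_one]
    rw [e1, e2, e3] at h1
    have h5 : 2 * m * (2 * Nat.card (Matrix.ProjectiveSpecialLinearGroup (Fin 2) F)) =
        2 * m * (2 * (p * m * (p + 1))) := by rw [h1]; ring
    exact Nat.eq_of_mul_eq_mul_left two_pos (Nat.eq_of_mul_eq_mul_left (by omega) h5)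
  exact nonempty_mulEquiv hm hB hchk hG (card_sylow_eq h2 hdiv hpm hG) hcard (hcount hcard)

end Cfsg.Agent.SmallOrder.RecogPSL
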