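import Cfsg.Agent.SmallOrder.Basic
import Cfsg.Agent.SmallOrder.Perm
import Cfsg.Agent.SmallOrder.Elements

/-!
# Simple groups of order 4080: the action on the seventeen Sylow two-subgroups
-/

set_option autoImplicit false

namespace Cfsg.Agent.SmallOrder.Order4080

open Subgroup

section General

variable {G : Type*} [Group G] [Finite G]

/-- Products of an element of order `p` with commuting elements of order prime to `p`. -/
theorem card_orderOf_mul_le {p m r : ℕ} (hr : r.Coprime p) (Q : G → Prop)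
    (h : ∀ x : G, orderOf x = p → ∃ K : Finset G, m ≤ K.card ∧ ∀ k ∈ K, Commute x k ∧ k ^ r = 1 ∧ Q (x * k)) :
    Nat.card {g : G // orderOf g = p} * m ≤ Nat.card {g : G // Q g} := by
  classical
  have := Fintype.ofFinite G
  choose K hm hK using h
  let F : (Σ x : {g : G // orderOf g = p}, {k : G // k ∈ K x.1 x.2}) → {g : G // Q g} :=
    fun a => ⟨a.1.1 * a.2.1, (hK a.1.1 a.1.2 a.2.1 a.2.2).2.2⟩
  have hF : Function.Injective F := by
    rintro ⟨⟨x, hx⟩, k, hk⟩ ⟨⟨x', hx'⟩, k', hk'⟩ e
    have e1 : x * k = x' * k' := congrArg Subtype.val e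
    have hpow : ∀ (y l : G) (hy : orderOf y = p), l ∈ K y hy → (y * l) ^ r = y ^ r := fun y l hy hl => by
      rw [(hK y hy l hl).1.mul_pow, (hK y hy l hl).2.1, mul_one]
    have e2 : x ^ r = x' ^ r := by
      calc x ^ r = (x * k) ^ r := (hpow x k hx hk).symm
        _ = (x' * k') ^ r := by rw [e1]
        _ = x' ^ r := hpow x' k' hx' hk'
    have key : ∀ y : G, orderOf y = p → y = (y ^ r) ^ Nat.gcdA r p := fun y hy => by
      have hb : (1 : ℤ) = (r : ℤ) * Nat.gcdA r p + (p : ℤ) * Nat.gcdB r p := by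
        rw [← Nat.gcd_eq_gcd_ab, hr.gcd_eq_one, Nat.cast_one]
      conv_lhs => rw [← zpow_one y, hb, zpow_add, zpow_mul, zpow_mul, zpow_natCast, zpow_natCast,
        show y ^ p = 1 from hy ▸ pow_orderOf_eq_one y, one_zpow, mul_one]
    have e3 : x = x' := (key x hx).trans (by rw [e2]; exact (key x' hx').symm)
    subst e3
    obtain rfl : k = k' := mul_left_cancel e1
    rfl
  refine le_trans ?_ (Nat.card_le_card_of_injective F hF)
  rw [Nat.card_sigma, Nat.card_eq_fintype_card, ← Finset.card_univ, ← smul_eq_mul, ← Finset.sum_const]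
  refine Finset.sum_le_sum fun x _ => ?_
  rw [Nat.card_eq_fintype_card, Fintype.card_coe]
  exact hm x.1 x.2

theorem centralizer_zpowers (x : G) :
    centralizer ((zpowers x : Subgroup G) : Set G) = centralizer ({x} : Set G) := by
  rw [zpowers_eq_closure, centralizer_closure]

theorem mul_dvd_card_centralizer {p q : ℕ} (hpq : p.Coprime q) {x y : G} (hx : orderOf x = p)
    (hy : orderOf y = q) (hxy : Commute x y) : p * q ∣ Nat.card (centralizer ({y} : Set G)) := by
  have h1 : orderOf (x * y) = p * q := by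
    rw [hxy.orderOf_mul_eq_mul_orderOf_of_coprime (by rw [hx, hy]; exact hpq), hx, hy]
  have h2 : x * y ∈ centralizer ({y} : Set G) :=
    mul_mem (mem_centralizer_singleton_iff.2 hxy.eq) (mem_centralizer_singleton_iff.2 rfl)
  rw [← h1, ← Nat.card_zpowers]
  exact card_dvd_of_le (zpowers_le.2 h2)

theorem exists_commute_of_dvd {p : ℕ} [Fact p.Prime] {y : G}
    (h : p ∣ Nat.card (centralizer ({y} : Set G))) : ∃ x : G, orderOf x = p ∧ Commute x y := by
  obtain ⟨x, hx⟩ := exists_prime_orderOf_dvd_card' p h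
  exact ⟨x, by rw [orderOf_coe, hx], mem_centralizer_singleton_iff.1 x.2⟩

end General

variable {G : Type*} [Group G] [Finite G] [IsSimpleGroup G]

theorem not_comm (h : Nat.card G = 4080) : ¬ IsMulCommutative G :=
  not_comm_of_card (by rw [h]; norm_num)

theorem seventeen_le_index (h : Nat.card G = 4080) {H : Subgroup G} (hH : H ≠ ⊤) : 17 ≤ H.index := by
  have hd := two_mul_card_dvd (not_comm h) H hH
  have h17 : 17 ∣ H.index.factorial := dvd_trans (by rw [h]; norm_num) hd
  exact (Nat.Prime.dvd_factorial (by norm_num)).1 h17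

theorem card_le (h : Nat.card G = 4080) {H : Subgroup G} (hH : H ≠ ⊤) : Nat.card H ≤ 240 := by
  have h1 := seventeen_le_index h hH
  have h2 := H.card_mul_index
  rw [h] at h2
  nlinarith

theorem centralizer_ne_top (h : Nat.card G = 4080) {x : G} (hx : x ≠ 1) :
    centralizer ({x} : Set G) ≠ ⊤ := fun e => hx (by
  have : x ∈ center G := mem_center_iff.2 fun g =>
    (mem_centralizer_singleton_iff.1 (e ▸ mem_top g : g ∈ centralizer ({x} : Set G)))
  rwa [center_eq_bot (not_comm h), mem_bot] at this)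

/-- The data at a prime whose Sylow subgroups have prime order. -/
theorem prime_data (h : Nat.card G = 4080) {p m : ℕ} [hp : Fact p.Prime] (hm : 4080 = p * m) (hpm : ¬ p ∣ m)
    {x : G} (hx : orderOf x = p) :
    Nat.card (Sylow p G) ∣ m ∧ Nat.card (Sylow p G) % p = 1 ∧ 17 ≤ Nat.card (Sylow p G) ∧
    Nat.card {g : G // orderOf g = p} = Nat.card (Sylow p G) * (p - 1) ∧
    Nat.card (Sylow p G) * Nat.card (normalizer ((zpowers x : Subgroup G) : Set G)) = 4080 ∧
    p ∣ Nat.card (centralizer ({x} : Set G)) ∧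
    ∃ e, e ∣ p - 1 ∧ e ≠ 1 ∧
      Nat.card (normalizer ((zpowers x : Subgroup G) : Set G)) = Nat.card (centralizer ({x} : Set G)) * e := by
  have hna := not_comm h
  have hG : Nat.card G = p ^ 1 * m := by rw [h, hm, pow_one]
  have hcard : ∀ P : Sylow p G, Nat.card (P : Subgroup G) = p := fun P => by
    rw [card_sylow_eq_pow hG hpm P, pow_one]
  obtain ⟨hd, hmod, -, -⟩ := sylow_data hG one_ne_zero hpm hna
  have hp' : p ∣ Nat.card G := h ▸ hm ▸ dvd_mul_right p m
  obtain ⟨P, hP⟩ := (IsPGroup.of_card (p := p) (n := 1) (by rw [Nat.card_zpowers, hx, pow_one]) :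
    IsPGroup p (zpowers x)).exists_le_sylow
  have he : zpowers x = (P : Subgroup G) :=
    eq_of_le_of_card_ge hP (by rw [Nat.card_zpowers, hx, hcard])
  refine ⟨hd, hmod, ?_, card_orderOf_eq_mul hcard, ?_, ?_, ?_⟩
  · rw [P.card_eq_index_normalizer]
    exact seventeen_le_index h (normalizer_ne_top hna hp' P)
  · rw [he, card_sylow_mul_card_normalizer P, h]
  · have h1 := card_dvd_of_le (zpowers_le.2 (mem_centralizer_singleton_iff.2 rfl) :
      zpowers x ≤ centralizer ({x} : Set G))
    rwa [Nat.card_zpowers, hx] at h1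
  · obtain ⟨e, he1, he2, he3⟩ := exists_normalizer_index (zpowers x)
    rw [card_mulAut_of_prime (p := p) (by rw [Nat.card_zpowers, hx])] at he1
    rw [centralizer_zpowers] at he2
    refine ⟨e, he1, fun e1 => ?_, he2⟩
    have := he3 e1
    rw [he] at this
    exact not_normalizer_le_centralizer hna hp' P this

theorem seventeen (h : Nat.card G = 4080) {x : G} (hx : orderOf x = 17) :
    Nat.card (Sylow 17 G) = 120 ∧ Nat.card (centralizer ({x} : Set G)) = 17 := by
  have : Fact (Nat.Prime 17) := ⟨by norm_num⟩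
  obtain ⟨hd, hmod, h17, -, hN, hC, e, he, he1, hNC⟩ :=
    prime_data h (m := 240) (by norm_num) (by norm_num) hx
  have key : ∀ d ∈ Nat.divisors 240, d % 17 = 1 → 17 ≤ d → d = 120 := by decide +kernel
  have hn := key _ (Nat.mem_divisors.2 ⟨hd, by norm_num⟩) hmod h17
  refine ⟨hn, ?_⟩
  rw [hn, hNC] at hN
  have h34 : Nat.card (centralizer ({x} : Set G)) * e = 34 := by omega
  obtain ⟨c, hc⟩ := hC
  have : c * e = 2 := by rw [hc] at h34; nlinarith
  have : e ∣ 2 := Dvd.intro_left c ‹_›
  rcases (Nat.dvd_prime Nat.prime_two).1 this with rfl | rfl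
  · exact absurd rfl he1
  · omega

theorem five (h : Nat.card G = 4080) {y : G} (hy : orderOf y = 5) :
    (Nat.card (Sylow 5 G) = 51 ∧ 4 ∣ Nat.card (centralizer ({y} : Set G)) ∧
      ¬ 3 ∣ Nat.card (centralizer ({y} : Set G))) ∨
    (Nat.card (Sylow 5 G) = 136 ∧ Nat.card (centralizer ({y} : Set G)) = 15 ∧
      Nat.card (normalizer ((zpowers y : Subgroup G) : Set G)) = 30) := by
  have : Fact (Nat.Prime 5) := ⟨by norm_num⟩
  obtain ⟨hd, hmod, h17, -, hN, hC, e, he, he1, hNC⟩ :=
    prime_data h (m := 816) (by norm_num) (by norm_num) hy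
  have key : ∀ d ∈ Nat.divisors 816, d % 5 = 1 → 17 ≤ d → d = 51 ∨ d = 136 ∨ d = 816 := by decide +kernel
  have he4 : e = 2 ∨ e = 4 := by
    have key2 : ∀ d ∈ Nat.divisors 4, d ≠ 1 → d = 2 ∨ d = 4 := by decide
    exact key2 _ (Nat.mem_divisors.2 ⟨he, by norm_num⟩) he1
  rcases key _ (Nat.mem_divisors.2 ⟨hd, by norm_num⟩) hmod h17 with hn | hn | hn <;>
    rw [hn] at hN
  · left
    rcases he4 with rfl | rfl
    · rw [hNC] at hN
      rw [show Nat.card (centralizer ({y} : Set G)) = 40 by omega]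
      exact ⟨hn, by norm_num, by norm_num⟩
    · rw [hNC] at hN
      rw [show Nat.card (centralizer ({y} : Set G)) = 20 by omega]
      exact ⟨hn, by norm_num, by norm_num⟩
  · right
    refine ⟨hn, ?_, by omega⟩
    rcases he4 with rfl | rfl <;> omega
  · rcases he4 with rfl | rfl <;> omega

theorem three (h : Nat.card G = 4080) {x : G} (hx : orderOf x = 3) :
    (Nat.card (Sylow 3 G) = 34 ∧ Nat.card (centralizer ({x} : Set G)) = 60) ∨
    (Nat.card (Sylow 3 G) = 85 ∧ Nat.card (centralizer ({x} : Set G)) = 24) ∨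
    (Nat.card (Sylow 3 G) = 136 ∧ Nat.card (centralizer ({x} : Set G)) = 15) ∨
    (Nat.card (Sylow 3 G) = 340 ∧ Nat.card (centralizer ({x} : Set G)) = 6) := by
  have : Fact (Nat.Prime 3) := ⟨by norm_num⟩
  obtain ⟨hd, hmod, h17, -, hN, hC, e, he, he1, hNC⟩ :=
    prime_data h (m := 1360) (by norm_num) (by norm_num) hx
  have key : ∀ d ∈ Nat.divisors 1360, d % 3 = 1 → 17 ≤ d →
      d = 34 ∨ d = 40 ∨ d = 85 ∨ d = 136 ∨ d = 340 ∨ d = 1360 := by decide +kernel
  obtain rfl : e = 2 := ((Nat.dvd_prime Nat.prime_two).1 he).resolve_left he1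
  rcases key _ (Nat.mem_divisors.2 ⟨hd, by norm_num⟩) hmod h17 with hn | hn | hn | hn | hn | hn <;>
    rw [hn, hNC] at hN
  · exact Or.inl ⟨hn, by omega⟩
  · exfalso
    have : Fact (Nat.Prime 17) := ⟨by norm_num⟩
    obtain ⟨y, hy, hxy⟩ := exists_commute_of_dvd (p := 17) (y := x) (by
      rw [show Nat.card (centralizer ({x} : Set G)) = 51 by omega]; norm_num)
    have h1 := mul_dvd_card_centralizer (by norm_num : Nat.Coprime 3 17) hx hy hxy.symm
    rw [(seventeen h hy).2] at h1
    norm_num at h1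
  · exact Or.inr (Or.inl ⟨hn, by omega⟩)
  · exact Or.inr (Or.inr (Or.inl ⟨hn, by omega⟩))
  · exact Or.inr (Or.inr (Or.inr ⟨hn, by omega⟩))
  · omega

theorem exists_two_elements {x : G} {j : ℕ} (hd : 2 ^ j ∣ Nat.card (centralizer ({x} : Set G))) :
    ∃ K : Finset G, 2 ^ j ≤ K.card ∧ ∀ k ∈ K, Commute x k ∧ k ^ 2 ^ j = 1 := by
  classical
  have : Fact (Nat.Prime 2) := ⟨Nat.prime_two⟩
  have := Fintype.ofFinite G
  obtain ⟨K, hK⟩ := Sylow.exists_subgroup_card_pow_prime 2 hd
  have hc : Nat.card (K.map (centralizer ({x} : Set G)).subtype) = 2 ^ j := by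
    rw [card_map_of_injective (subtype_injective _), hK]
  refine ⟨((K.map (centralizer ({x} : Set G)).subtype : Subgroup G) : Set G).toFinset, ?_, fun k hk => ?_⟩
  · rw [Set.toFinset_card, ← Nat.card_eq_fintype_card]
    exact hc.ge
  · rw [Set.mem_toFinset] at hk
    refine ⟨(mem_centralizer_singleton_iff.1 (map_subtype_le K hk)).symm, ?_⟩
    have := pow_card_eq_one' (G := ↥(K.map (centralizer ({x} : Set G)).subtype)) (x := ⟨k, hk⟩)
    rw [hc] at this
    exact congrArg Subtype.val this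

/-- There are 136 Sylow subgroups at three and at five. -/
theorem sylow_counts (h : Nat.card G = 4080) :
    Nat.card (Sylow 5 G) = 136 ∧ Nat.card (Sylow 3 G) = 136 := by
  classical
  have := Fintype.ofFinite G
  have : Fact (Nat.Prime 3) := ⟨by norm_num⟩
  have : Fact (Nat.Prime 5) := ⟨by norm_num⟩
  have : Fact (Nat.Prime 17) := ⟨by norm_num⟩
  obtain ⟨x, hx⟩ := exists_prime_orderOf_dvd_card' (G := G) 3 (by rw [h]; norm_num)
  obtain ⟨y, hy⟩ := exists_prime_orderOf_dvd_card' (G := G) 5 (by rw [h]; norm_num)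
  obtain ⟨w, hw⟩ := exists_prime_orderOf_dvd_card' (G := G) 17 (by rw [h]; norm_num)
  rcases five h hy with ⟨h5, -, -⟩ | ⟨h5, hCy, -⟩
  · exfalso
    have h53 : ∀ a b : G, orderOf a = 3 → orderOf b = 5 → ¬ Commute a b := by
      intro a b ha hb hab
      have h1 := mul_dvd_card_centralizer (by norm_num : Nat.Coprime 3 5) ha hb hab
      rcases five h hb with ⟨-, -, h3⟩ | ⟨e, -, -⟩
      · exact h3 (dvd_trans (dvd_mul_right 3 5) h1)
      · omega
    have hA5 : Nat.card {g : G // orderOf g = 5} * 4 ≤ Nat.card {g : G // 5 ∣ orderOf g} := by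
      refine card_orderOf_mul_le (r := 4) (by norm_num) _ fun b hb => ?_
      have h4 : 2 ^ 2 ∣ Nat.card (centralizer ({b} : Set G)) := by
        rcases five h hb with ⟨-, h4, -⟩ | ⟨e, -, -⟩
        · exact h4
        · omega
      obtain ⟨K, hK1, hK2⟩ := exists_two_elements h4
      refine ⟨K, hK1, fun k hk => ⟨(hK2 k hk).1, (hK2 k hk).2, ?_⟩⟩
      rw [(hK2 k hk).1.orderOf_mul_eq_mul_orderOf_of_coprime ?_, hb]
      · exact dvd_mul_right 5 _
      · rw [hb]
        exact Nat.Coprime.coprime_dvd_right (orderOf_dvd_of_pow_eq_one (hK2 k hk).2) (by norm_num)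
    obtain ⟨j, hj, hA3⟩ : ∃ j, 1360 = Nat.card (Sylow 3 G) * 2 * 2 ^ j ∧
        Nat.card {g : G // orderOf g = 3} * 2 ^ j ≤ Nat.card {g : G // 3 ∣ orderOf g} := by
      have hno : ∀ a : G, orderOf a = 3 → ¬ 5 ∣ Nat.card (centralizer ({a} : Set G)) := fun a ha hd => by
        obtain ⟨b, hb, hba⟩ := exists_commute_of_dvd hd
        exact h53 a b ha hb hba.symm
      have key : ∀ j, (∀ a : G, orderOf a = 3 → 2 ^ j ∣ Nat.card (centralizer ({a} : Set G))) →
          Nat.card {g : G // orderOf g = 3} * 2 ^ j ≤ Nat.card {g : G // 3 ∣ orderOf g} := by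
        intro j hd
        refine card_orderOf_mul_le (r := 2 ^ j) (Nat.Coprime.pow_left j (by norm_num)) _ fun a ha => ?_
        obtain ⟨K, hK1, hK2⟩ := exists_two_elements (hd a ha)
        refine ⟨K, hK1, fun k hk => ⟨(hK2 k hk).1, (hK2 k hk).2, ?_⟩⟩
        rw [(hK2 k hk).1.orderOf_mul_eq_mul_orderOf_of_coprime ?_, ha]
        · exact dvd_mul_right 3 _
        · rw [ha]
          exact Nat.Coprime.coprime_dvd_right (orderOf_dvd_of_pow_eq_one (hK2 k hk).2)
            (Nat.Coprime.pow_right j (by norm_num))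
      rcases three h hx with ⟨-, e⟩ | ⟨hn, -⟩ | ⟨-, e⟩ | ⟨hn, -⟩
      · exact absurd (by rw [e]; norm_num) (hno x hx)
      · refine ⟨3, by rw [hn]; norm_num, key 3 fun a ha => ?_⟩
        rcases three h ha with ⟨e, -⟩ | ⟨-, e⟩ | ⟨e, -⟩ | ⟨e, -⟩
        · omega
        · rw [e]; norm_num
        · omega
        · omega
      · exact absurd (by rw [e]; norm_num) (hno x hx)
      · refine ⟨1, by rw [hn]; norm_num, key 1 fun a ha => ?_⟩
        rcases three h ha with ⟨e, -⟩ | ⟨e, -⟩ | ⟨e, -⟩ | ⟨-, e⟩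
        · omega
        · omega
        · omega
        · rw [e]; norm_num
    have hsum : Nat.card {g : G // orderOf g = 17} + Nat.card {g : G // 5 ∣ orderOf g} +
        Nat.card {g : G // 3 ∣ orderOf g} ≤ Nat.card G := by
      simp only [Nat.card_eq_fintype_card, Fintype.card_subtype]
      rw [← Finset.card_union_of_disjoint, ← Finset.card_union_of_disjoint]
      · exact Finset.card_le_univ _
      · rw [Finset.disjoint_left]
        intro g hg hg3
        simp only [Finset.mem_union, Finset.mem_filter, Finset.mem_univ, true_and] at hg hg3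
        rcases hg with hg | hg
        · rw [hg] at hg3; norm_num at hg3
        · obtain ⟨c, hc⟩ := Nat.Coprime.mul_dvd_of_dvd_of_dvd (by norm_num : Nat.Coprime 3 5) hg3 hg
          have hg0 : orderOf g ≠ 0 := (orderOf_pos g).ne'
          refine h53 (g ^ (5 * c)) (g ^ (3 * c)) ?_ ?_ (Commute.pow_pow_self g _ _)
          · rw [orderOf_pow_of_dvd (by intro e; simp_all) (by rw [hc]; exact ⟨3, by ring⟩), hc]
            exact Nat.div_eq_of_eq_mul_left (Nat.pos_of_ne_zero (by intro e; simp_all)) (by ring)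
          · rw [orderOf_pow_of_dvd (by intro e; simp_all) (by rw [hc]; exact ⟨5, by ring⟩), hc]
            exact Nat.div_eq_of_eq_mul_left (Nat.pos_of_ne_zero (by intro e; simp_all)) (by ring)
      · rw [Finset.disjoint_left]
        intro g hg hg5
        simp only [Finset.mem_filter, Finset.mem_univ, true_and] at hg hg5
        rw [hg] at hg5; norm_num at hg5
    obtain ⟨-, -, -, c17, -, -, -⟩ := prime_data h (m := 240) (by norm_num) (by norm_num) hw
    obtain ⟨-, -, -, c5, -, -, -⟩ := prime_data h (m := 816) (by norm_num) (by norm_num) hy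
    obtain ⟨-, -, -, c3, -, -, -⟩ := prime_data h (m := 1360) (by norm_num) (by norm_num) hx
    rw [(seventeen h hw).1] at c17
    rw [h5] at c5
    rw [c3, show (3 : ℕ) - 1 = 2 from rfl] at hA3
    rw [c17, h] at hsum
    rw [c5] at hA5
    omega
  · refine ⟨h5, ?_⟩
    obtain ⟨a, ha, hay⟩ := exists_commute_of_dvd (p := 3) (y := y) (by rw [hCy]; norm_num)
    have h15 := mul_dvd_card_centralizer (by norm_num : Nat.Coprime 5 3) hy ha hay.symm
    rcases three h ha with ⟨-, hC⟩ | ⟨-, hC⟩ | ⟨hn, -⟩ | ⟨-, hC⟩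
    · exfalso
      set H := centralizer ({a} : Set G) with hH
      obtain ⟨P⟩ : Nonempty (Sylow 5 H) := Sylow.nonempty
      have hP : Nat.card (P : Subgroup H) = 5 := by
        rw [card_sylow_eq_pow (p := 5) (a := 1) (m := 12) (by rw [hC]; norm_num) (by norm_num) P]
        norm_num
      have hN := card_sylow_mul_card_normalizer P
      rw [hC] at hN
      have haH : a ∈ H := mem_centralizer_singleton_iff.2 rfl
      have h3 : 3 ∣ Nat.card (normalizer ((P : Subgroup H) : Set H)) := by
        have h1 : (⟨a, haH⟩ : H) ∈ normalizer ((P : Subgroup H) : Set H) :=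
          centralizer_le_normalizer _ fun k _ => Subtype.ext (mem_centralizer_singleton_iff.1 k.2).symm.symm
        have h2 := card_dvd_of_le (zpowers_le.2 h1)
        rwa [Nat.card_zpowers, orderOf_mk, ha] at h2
      have h5' : 5 ∣ Nat.card (normalizer ((P : Subgroup H) : Set H)) := by
        have h6 := card_dvd_of_le (le_normalizer (H := (P : Subgroup H)))
        rwa [hP] at h6
      obtain ⟨c, hc⟩ := Nat.Coprime.mul_dvd_of_dvd_of_dvd (by norm_num : Nat.Coprime 3 5) h3 h5'
      have hn4 : Nat.card (Sylow 5 H) ∣ 4 := ⟨c, by rw [hc] at hN; linarith⟩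
      have hmod := card_sylow_mod (G := H) 5
      have key : ∀ d ∈ Nat.divisors 4, d % 5 = 1 → d = 1 := by decide
      rw [key _ (Nat.mem_divisors.2 ⟨hn4, by norm_num⟩) hmod, one_mul] at hN
      obtain ⟨b, hb⟩ := exists_prime_orderOf_dvd_card' (G := (P : Subgroup H)) 5 (by rw [hP])
      have hb' : orderOf ((b : H) : G) = 5 := by rw [orderOf_coe, orderOf_coe, hb]
      have hPb : (P : Subgroup H).map H.subtype = zpowers ((b : H) : G) :=
        (eq_of_le_of_card_ge (zpowers_le.2 (mem_map_of_mem H.subtype b.2))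
          (le_of_eq (by rw [card_map_of_injective (subtype_injective H), hP, Nat.card_zpowers]; exact hb'.symm))).symm
      have hle : (normalizer ((P : Subgroup H) : Set H)).map H.subtype ≤
          normalizer ((zpowers ((b : H) : G) : Subgroup G) : Set G) := hPb ▸ le_normalizer_map H.subtype
      have h30 := card_dvd_of_le hle
      rw [card_map_of_injective (subtype_injective H), hN] at h30
      rcases five h hb' with ⟨e, -, -⟩ | ⟨-, -, e⟩
      · omega
      · rw [e] at h30; norm_num at h30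
    · rw [hC] at h15; norm_num at h15
    · exact hn
    · rw [hC] at h15; norm_num at h15

theorem centralizer_odd (h : Nat.card G = 4080) {x : G} (hx : orderOf x = 3 ∨ orderOf x = 5) :
    Nat.card (centralizer ({x} : Set G)) = 15 := by
  obtain ⟨h5, h3⟩ := sylow_counts h
  rcases hx with hx | hx
  · rcases three h hx with ⟨e, -⟩ | ⟨e, -⟩ | ⟨-, e⟩ | ⟨e, -⟩ <;> omega
  · rcases five h hx with ⟨e, -⟩ | ⟨-, e, -⟩ <;> omega

theorem not_commute_involution (h : Nat.card G = 4080) {x t : G} (hx : orderOf x = 3 ∨ orderOf x = 5)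
    (ht : orderOf t = 2) : ¬ Commute t x := fun hc => by
  have h1 := mul_dvd_card_centralizer (p := 2) (q := orderOf x)
    (by rcases hx with e | e <;> rw [e] <;> norm_num) ht rfl hc
  rw [centralizer_odd h hx] at h1
  have := dvd_trans (dvd_mul_right 2 _) h1
  norm_num at this

theorem centralizer_two (h : Nat.card G = 4080) {z : G} (hz : orderOf z = 2)
    (h16 : 16 ∣ Nat.card (centralizer ({z} : Set G))) : Nat.card (centralizer ({z} : Set G)) = 16 := by
  have hdiv : Nat.card (centralizer ({z} : Set G)) ∣ 4080 := h ▸ card_subgroup_dvd_card _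
  have hle := card_le h (centralizer_ne_top h (x := z) (fun e => by rw [e, orderOf_one] at hz; norm_num at hz))
  have hno : ∀ p : ℕ, (p = 3 ∨ p = 5) → ¬ p ∣ Nat.card (centralizer ({z} : Set G)) := by
    intro p hp hd
    have : Fact p.Prime := ⟨by rcases hp with rfl | rfl <;> norm_num⟩
    obtain ⟨x, hx, hxz⟩ := exists_commute_of_dvd hd
    exact not_commute_involution h (hx ▸ hp) hz hxz.symm
  have h3 := hno 3 (Or.inl rfl)
  have h5 := hno 5 (Or.inr rfl)
  obtain ⟨c, hc⟩ := h16
  rw [hc] at hdiv hle h3 h5 ⊢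
  have hc255 : c ∣ 255 := Nat.dvd_of_mul_dvd_mul_left (by norm_num : 0 < 16) (by simpa using hdiv)
  have key : ∀ d ∈ Nat.divisors 255, 16 * d ≤ 240 → ¬ 3 ∣ 16 * d → ¬ 5 ∣ 16 * d → d = 1 := by decide
  rw [key c (Nat.mem_divisors.2 ⟨hc255, by norm_num⟩) hle h3 h5]

theorem involutions (h : Nat.card G = 4080) :
    (∀ g : G, orderOf g ≠ 4) ∧
      ∀ t : G, orderOf t = 2 → Nat.card (centralizer ({t} : Set G)) = 16 := by
  classical
  have := Fintype.ofFinite G
  have : Fact (Nat.Prime 2) := ⟨Nat.prime_two⟩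
  have : Fact (Nat.Prime 3) := ⟨by norm_num⟩
  have : Fact (Nat.Prime 5) := ⟨by norm_num⟩
  have : Fact (Nat.Prime 17) := ⟨by norm_num⟩
  obtain ⟨h5, h3⟩ := sylow_counts h
  obtain ⟨T⟩ : Nonempty (Sylow 2 G) := Sylow.nonempty
  have hT : Nat.card (T : Subgroup G) = 16 := by
    rw [card_sylow_eq_pow (p := 2) (a := 4) (m := 255) (by rw [h]; norm_num) (by norm_num) T]; norm_num
  have : Nontrivial (T : Subgroup G) := Finite.one_lt_card_iff_nontrivial.1 (by omega)
  have := T.2.center_nontrivial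
  obtain ⟨z, hz⟩ := exists_prime_orderOf_dvd_card' (G := center (T : Subgroup G)) 2 (by
    obtain ⟨k, hk⟩ := IsPGroup.iff_card.1 (T.2.to_subgroup (center (T : Subgroup G)))
    have h1 : 1 < Nat.card (center (T : Subgroup G)) := Finite.one_lt_card
    rw [hk] at h1 ⊢
    exact dvd_pow_self 2 (by rintro rfl; simp at h1))
  set z' : G := ((z : (T : Subgroup G)) : G) with hz'
  have hz2 : orderOf z' = 2 := by rw [hz', orderOf_coe, orderOf_coe, hz]
  have hle : (T : Subgroup G) ≤ centralizer ({z'} : Set G) := fun g hg =>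
    mem_centralizer_singleton_iff.2 (congrArg Subtype.val (mem_center_iff.1 z.2 ⟨g, hg⟩))
  have hC := centralizer_two h hz2 (hT ▸ card_dvd_of_le hle)
  have hclass : Nat.card {g : G // IsConj z' g} = 255 := by
    have h1 : (MulAction.orbit (ConjAct G) z') = {g | IsConj z' g} := by
      ext g
      rw [ConjAct.mem_orbit_conjAct, isConj_comm]
      rfl
    have h2 := MulAction.index_stabilizer (ConjAct G) z'
    rw [h1, ← Nat.card_coe_set_eq] at h2
    have h3 : (MulAction.stabilizer (ConjAct G) z').index = (centralizer ({z'} : Set G)).index := by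
      rw [ConjAct.stabilizer_eq_centralizer]
      rfl
    have h4 := (centralizer ({z'} : Set G)).card_mul_index
    rw [hC, h] at h4
    have : Nat.card {g : G // IsConj z' g} = (centralizer ({z'} : Set G)).index := h2.symm.trans h3
    omega
  have hsub : ∀ g : G, IsConj z' g → orderOf g = 2 := fun g hg => by
    obtain ⟨c, rfl⟩ := isConj_iff.1 hg
    rw [← hz2]
    exact orderOf_injective (MulAut.conj c).toMonoidHom (MulAut.conj c).injective z'
  have hA15 : Nat.card {g : G // orderOf g = 3} * 4 ≤ Nat.card {g : G // orderOf g = 15} := by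
    refine card_orderOf_mul_le (r := 5) (by norm_num) _ fun x hx => ?_
    obtain ⟨y, hy, hyx⟩ := exists_commute_of_dvd (p := 5) (y := x)
      (by rw [centralizer_odd h (Or.inl hx)]; norm_num)
    refine ⟨(Finset.univ.filter fun k => k ∈ zpowers y ∧ k ≠ 1), ?_, fun k hk => ?_⟩
    · have : Finset.univ.filter (fun k : G => k ∈ zpowers y ∧ k ≠ 1) =
          (Finset.univ.filter fun k : G => k ∈ zpowers y).erase 1 := by
        ext; simp [and_comm]
      rw [this, Finset.card_erase_of_mem (by simp [one_mem]), ← Fintype.card_subtype,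
        ← Nat.card_eq_fintype_card, show Nat.card {k : G // k ∈ zpowers y} = 5 from
          (Nat.card_zpowers y).trans hy]
    · simp only [Finset.mem_filter, Finset.mem_univ, true_and] at hk
      obtain ⟨hk1, hk2⟩ := hk
      have hcx : Commute x k := by
        obtain ⟨i, rfl⟩ := mem_zpowers_iff.1 hk1
        exact hyx.symm.zpow_right i
      have hk5 : orderOf k = 5 := ((Nat.dvd_prime (by norm_num : Nat.Prime 5)).1
        (hy ▸ orderOf_dvd_of_mem_zpowers hk1)).resolve_left (fun e => hk2 (orderOf_eq_one_iff.1 e))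
      refine ⟨hcx, hk5 ▸ pow_orderOf_eq_one k, ?_⟩
      rw [hcx.orderOf_mul_eq_mul_orderOf_of_coprime (by rw [hx, hk5]; norm_num), hx, hk5]
  have hsum := card_orderOf_disjoint_le (G := G) {1, 17, 5, 3, 15, 2, 4}
  obtain ⟨x, hx⟩ := exists_prime_orderOf_dvd_card' (G := G) 3 (by rw [h]; norm_num)
  obtain ⟨y, hy⟩ := exists_prime_orderOf_dvd_card' (G := G) 5 (by rw [h]; norm_num)
  obtain ⟨w, hw⟩ := exists_prime_orderOf_dvd_card' (G := G) 17 (by rw [h]; norm_num)
  obtain ⟨-, -, -, c17, -, -, -⟩ := prime_data h (m := 240) (by norm_num) (by norm_num) hw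
  obtain ⟨-, -, -, c5, -, -, -⟩ := prime_data h (m := 816) (by norm_num) (by norm_num) hy
  obtain ⟨-, -, -, c3, -, -, -⟩ := prime_data h (m := 1360) (by norm_num) (by norm_num) hx
  rw [(seventeen h hw).1] at c17
  rw [h5] at c5
  rw [h3] at c3
  have c1 : Nat.card {g : G // orderOf g = 1} = 1 :=
    Nat.card_eq_one_iff_exists.2 ⟨⟨1, orderOf_one⟩, fun g => Subtype.ext (orderOf_eq_one_iff.1 g.2)⟩
  rw [c3] at hA15
  simp only [Finset.sum_insert, Finset.sum_singleton, Finset.mem_insert, Finset.mem_singleton,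
    OfNat.ofNat_eq_ofNat, Nat.succ_ne_self, or_self, not_false_eq_true, OfNat.one_ne_ofNat,
    OfNat.ofNat_ne_one, reduceCtorEq, Nat.reduceEqDiff] at hsum
  rw [c1, c17, c5, c3, h] at hsum
  have hge : 255 ≤ Nat.card {g : G // orderOf g = 2} := by
    rw [← hclass]
    exact Nat.card_le_card_of_injective (fun g => ⟨g.1, hsub _ g.2⟩)
      (fun a b e => Subtype.ext (congrArg Subtype.val e :))
  refine ⟨fun g hg => ?_, fun t ht => ?_⟩
  · have : 0 < Nat.card {g : G // orderOf g = 4} := Nat.card_pos_iff.2 ⟨⟨⟨g, hg⟩⟩, inferInstance⟩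
    omega
  · have hbij := (Nat.bijective_iff_injective_and_card
      (fun g : {g : G // IsConj z' g} => (⟨g.1, hsub _ g.2⟩ : {g : G // orderOf g = 2}))).2
      ⟨fun a b e => Subtype.ext (congrArg Subtype.val e :), by omega⟩
    obtain ⟨⟨t', ht'⟩, e⟩ := hbij.2 ⟨t, ht⟩
    obtain rfl : t' = t := congrArg Subtype.val e
    obtain ⟨c, rfl⟩ := isConj_iff.1 ht'
    have : (centralizer ({z'} : Set G)).map (MulAut.conj c).toMonoidHom =
        centralizer ({c * z' * c⁻¹} : Set G) := by
      rw [← centralizer_zpowers, ← centralizer_zpowers]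
      ext g
      rw [mem_map_equiv]
      simp only [centralizer_zpowers, mem_centralizer_singleton_iff]
      constructor <;> intro e
      · have := congrArg (fun w => c * w * c⁻¹) e
        simpa [mul_assoc] using this
      · have := congrArg (fun w => c⁻¹ * w * c) e
        simpa [mul_assoc] using this
    rw [← this, card_map_of_injective (MulAut.conj c).injective, hC]

/-- The Sylow two-subgroups meet trivially and there are seventeen. -/
theorem two_data (h : Nat.card G = 4080) [Fact (Nat.Prime 2)] :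
    Nat.card (Sylow 2 G) = 17 ∧ (∀ T : Sylow 2 G, Nat.card (T : Subgroup G) = 16) ∧
      (∀ T : Sylow 2 G, ∀ t ∈ (T : Subgroup G), t ≠ 1 → orderOf t = 2) ∧
      ∀ T R : Sylow 2 G, ∀ t, t ∈ (T : Subgroup G) → t ∈ (R : Subgroup G) → t ≠ 1 → T = R := by
  obtain ⟨h4, hC⟩ := involutions h
  have hG : Nat.card G = 2 ^ 4 * 255 := by rw [h]; norm_num
  have hT : ∀ T : Sylow 2 G, Nat.card (T : Subgroup G) = 16 := fun T => by
    rw [card_sylow_eq_pow hG (by norm_num) T]; norm_num
  have hord : ∀ T : Sylow 2 G, ∀ t ∈ (T : Subgroup G), t ≠ 1 → orderOf t = 2 := by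
    intro T t ht ht1
    obtain ⟨k, hk⟩ := IsPGroup.iff_orderOf.1 T.2 ⟨t, ht⟩
    rw [orderOf_mk] at hk
    rcases k with _ | _ | k
    · exact absurd (orderOf_eq_one_iff.1 hk) ht1
    · exact hk
    · refine absurd ?_ (h4 (t ^ 2 ^ k))
      rw [orderOf_pow_of_dvd (by simp) (hk ▸ pow_dvd_pow 2 (by omega)), hk, Nat.pow_div (by omega) (by norm_num),
        show k + 1 + 1 - k = 2 by omega]
  have hcent : ∀ T : Sylow 2 G, ∀ t ∈ (T : Subgroup G), t ≠ 1 →
      (T : Subgroup G) = centralizer ({t} : Set G) := by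
    intro T t ht ht1
    refine eq_of_le_of_card_ge (fun g hg => mem_centralizer_singleton_iff.2 ?_) (by rw [hC t (hord T t ht ht1), hT])
    have hsq : ∀ s : (T : Subgroup G), s * s = 1 := fun s => by
      rcases eq_or_ne s 1 with rfl | hs
      · exact one_mul 1
      · have := hord T s s.2 (fun e => hs (Subtype.ext e))
        rw [orderOf_coe] at this
        have h1 := pow_orderOf_eq_one s
        rwa [this, pow_two] at h1
    have hinv : ∀ s : (T : Subgroup G), s⁻¹ = s := fun s => inv_eq_of_mul_eq_one_right (hsq s)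
    have := hinv (⟨g, hg⟩ * ⟨t, ht⟩)
    rw [mul_inv_rev, hinv, hinv] at this
    exact (congrArg Subtype.val this).symm
  have hTI : ∀ T R : Sylow 2 G, ∀ t, t ∈ (T : Subgroup G) → t ∈ (R : Subgroup G) → t ≠ 1 → T = R :=
    fun T R t h1 h2 ht => Sylow.ext ((hcent T t h1 ht).trans (hcent R t h2 ht).symm)
  refine ⟨?_, hT, hord, hTI⟩
  obtain ⟨hd, -, hne, -⟩ := sylow_data hG (by norm_num) (by norm_num) (not_comm h)
  have hmod : Nat.card (Sylow 2 G) ≡ 1 [MOD 2 ^ 4] := by
    by_contra hc
    obtain ⟨P, R, hPR, hi⟩ := exists_index_le_of_not_modEq 2 4 hc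
    have hbot : (R : Subgroup G).subgroupOf (P : Subgroup G) = ⊥ := by
      rw [eq_bot_iff]
      intro t ht
      rw [mem_bot]
      by_contra ht1
      exact hPR (hTI P R t t.2 ht (fun e => ht1 (Subtype.ext e)))
    rw [hbot, index_bot, hT] at hi
    norm_num at hi
  have key : ∀ d ∈ Nat.divisors 255, d % 16 = 1 → d ≠ 1 → d = 17 := by decide
  exact key _ (Nat.mem_divisors.2 ⟨hd, by norm_num⟩) hmod hne

/-- An element normalising three Sylow two-subgroups is trivial. -/
theorem eq_one_of_fix_three (h : Nat.card G = 4080) [Fact (Nat.Prime 2)] {g : G} {A B C : Sylow 2 G}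
    (hAB : A ≠ B) (hAC : A ≠ C) (hBC : B ≠ C) (hA : g • A = A) (hB : g • B = B) (hC : g • C = C) : g = 1 := by
  obtain ⟨hn, hT, hord, hTI⟩ := two_data h
  by_contra hg
  have hog : orderOf g ≠ 1 := fun e => hg (orderOf_eq_one_iff.1 e)
  obtain ⟨r, hr, hrd⟩ := Nat.exists_prime_and_dvd hog
  set x := g ^ (orderOf g / r) with hxdef
  have hx : orderOf x = r := orderOf_pow_orderOf_div (orderOf_pos g).ne' hrd
  have hfix : ∀ S : Sylow 2 G, g • S = S → x • S = S := fun S hS => by
    rw [← MulAction.mem_stabilizer_iff] at hS ⊢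
    exact pow_mem hS _
  have hr4080 : r ∣ 4080 := h ▸ hx ▸ orderOf_dvd_natCard x
  have hcases : r = 2 ∨ r = 3 ∨ r = 5 ∨ r = 17 := by
    rw [show (4080 : ℕ) = 2 ^ 4 * 3 * 5 * 17 by norm_num, hr.dvd_mul, hr.dvd_mul, hr.dvd_mul] at hr4080
    rcases hr4080 with ((h1 | h1) | h1) | h1
    · exact Or.inl ((Nat.prime_dvd_prime_iff_eq hr Nat.prime_two).1 (hr.dvd_of_dvd_pow h1))
    · exact Or.inr (Or.inl ((Nat.prime_dvd_prime_iff_eq hr Nat.prime_three).1 h1))
    · exact Or.inr (Or.inr (Or.inl ((Nat.prime_dvd_prime_iff_eq hr (by norm_num)).1 h1)))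
    · exact Or.inr (Or.inr (Or.inr ((Nat.prime_dvd_prime_iff_eq hr (by norm_num)).1 h1)))
  have hxA := Sylow.smul_eq_iff_mem_normalizer.1 (hfix A hA)
  rcases hcases with rfl | hr35 | hr35 | rfl
  · have hmem : ∀ S : Sylow 2 G, x • S = S → x ∈ (S : Subgroup G) := fun S hS => by
      have hp : IsPGroup 2 (zpowers x) := IsPGroup.of_card (n := 1) (by rw [Nat.card_zpowers, hx, pow_one])
      have h1 : x ∈ zpowers x ⊓ normalizer ((S : Subgroup G) : Set G) :=
        ⟨mem_zpowers x, Sylow.smul_eq_iff_mem_normalizer.1 hS⟩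
      erw [IsPGroup.inf_normalizer_sylow hp S] at h1
      exact h1.2
    exact hAB (hTI A B x (hmem A (hfix A hA)) (hmem B (hfix B hB))
      (fun e => by rw [e, orderOf_one] at hx; norm_num at hx))
  case inr.inr.inr =>
    have h1 := card_dvd_of_le (zpowers_le.2 hxA)
    have h2 := card_sylow_mul_card_normalizer A
    rw [hn, h] at h2
    rw [Nat.card_zpowers, hx] at h1
    obtain ⟨c, hc⟩ := h1
    erw [hc] at h2
    omega
  all_goals
    have hx35 : orderOf x = 3 ∨ orderOf x = 5 := by omega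
    have hreg : ∀ S : Sylow 2 G, S ≠ A → ∀ t ∈ (A : Subgroup G), t • S = S → t = 1 := fun S hS t ht e => by
      by_contra ht1
      have h1 : t ∈ (A : Subgroup G) ⊓ normalizer ((S : Subgroup G) : Set G) :=
        ⟨ht, Sylow.smul_eq_iff_mem_normalizer.1 e⟩
      erw [IsPGroup.inf_normalizer_sylow A.isPGroup' S] at h1
      exact hS (hTI S A t h1.2 ht ht1)
    obtain ⟨t, htA, htB⟩ : ∃ t ∈ (A : Subgroup G), t • B = C := by
      let f : ↥(A : Subgroup G) → {S : Sylow 2 G // S ≠ A} := fun t => ⟨(t : G) • B, fun e => hAB.symm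
        (smul_left_cancel (t : G) (e.trans (Sylow.smul_eq_iff_mem_normalizer.2 (le_normalizer t.2)).symm))⟩
      have hinj : Function.Injective f := fun s t e => by
        have e1 : (s : G) • B = (t : G) • B := congrArg Subtype.val e
        have := hreg B hAB.symm ((t⁻¹ * s : (A : Subgroup G)) : G) (t⁻¹ * s : (A : Subgroup G)).2
          (by rw [coe_mul, coe_inv, mul_smul, e1, inv_smul_smul])
        exact (inv_mul_eq_one.1 (Subtype.ext this : t⁻¹ * s = 1)).symm
      have hcard : Nat.card {S : Sylow 2 G // S ≠ A} = 16 := by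
        classical
        have := Fintype.ofFinite (Sylow 2 G)
        rw [Nat.card_eq_fintype_card, Fintype.card_subtype_compl, Fintype.card_subtype_eq,
          ← Nat.card_eq_fintype_card, hn]
      obtain ⟨t, ht⟩ := ((Nat.bijective_iff_injective_and_card f).2 ⟨hinj, by rw [hT, hcard]⟩).2 ⟨C, hAC.symm⟩
      exact ⟨t, t.2, congrArg Subtype.val ht⟩
    have ht1 : t ≠ 1 := fun e => hBC (by rw [← htB, e, one_smul])
    have hconj : x * t * x⁻¹ ∈ (A : Subgroup G) := (mem_normalizer_iff.1 hxA t).1 htA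
    have h1 := hreg B hAB.symm (t⁻¹ * (x * t * x⁻¹)) (mul_mem (inv_mem htA) hconj) (by
      rw [mul_smul, mul_smul, mul_smul, inv_smul_eq_iff, htB]
      conv_lhs => rw [show x⁻¹ • B = B from inv_smul_eq_iff.2 (hfix B hB).symm, htB]
      exact hfix C hC)
    have hc : Commute t x := by
      rw [inv_mul_eq_one] at h1
      show t * x = x * t
      conv_lhs => rw [h1]
      group
    exact not_commute_involution h hx35 (hord A t htA ht1) hc

end Cfsg.Agent.SmallOrder.Order4080
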