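import Cfsg.Agent.Core.PCore
import Mathlib

/-!
A group of order 1512 all of whose nontrivial normal subgroups have order divisible by 28: a normal
subgroup of order 504 is simple and is the derived subgroup.
-/

set_option autoImplicit false

namespace Cfsg.Agent.SmallOrder.Order1512

open Subgroup

theorem not_seven_dvd_216 : ¬ 7 ∣ 216 := by decide

theorem exists_sylow_normalizer {G : Type*} [Group G] [Finite G] (hG : Nat.card G = 1512)
    (h28 : ∀ N : Subgroup G, N.Normal → N ≠ ⊥ → 28 ∣ Nat.card N) [Fact (Nat.Prime 7)]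
    (Q : Sylow 7 G) : Nat.card Q = 7 ∧ Nat.card (normalizer ((Q : Subgroup G) : Set G)) = 42 := by
  have hQ : Nat.card Q = 7 := by
    rw [Q.card_eq_multiplicity, hG, show (1512 : ℕ).factorization 7 = 1 from ?_, pow_one]
    rw [show (1512 : ℕ) = 7 ^ 1 * 216 from rfl, Nat.factorization_mul (by norm_num) (by norm_num),
      Finsupp.add_apply, Nat.factorization_eq_zero_of_not_dvd not_seven_dvd_216,
      (Fact.out : Nat.Prime 7).factorization_pow, Finsupp.single_eq_same]
  refine ⟨hQ, ?_⟩
  set N := normalizer ((Q : Subgroup G) : Set G) with hN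
  have hn : Nat.card (Sylow 7 G) = N.index := Q.card_eq_index_normalizer
  have hmod : N.index % 7 = 1 := hn ▸ card_sylow_modEq_one 7 G
  have hmul : Nat.card N * N.index = 1512 := hG ▸ N.card_mul_index
  obtain ⟨k, hk⟩ : 7 ∣ Nat.card N := hQ ▸ Subgroup.card_dvd_of_le le_normalizer
  have hdvd : N.index ∣ 216 := ⟨k, by rw [hk] at hmul; linarith⟩
  have hcases : N.index = 1 ∨ N.index = 8 ∨ N.index = 36 := by
    have h : ∀ j ∈ Nat.divisors 216, j % 7 = 1 → j = 1 ∨ j = 8 ∨ j = 36 := by decide +kernel
    exact h _ (Nat.mem_divisors.2 ⟨hdvd, by norm_num⟩) hmod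
  rcases hcases with h | h | h
  · exfalso
    have hnor : (Q : Subgroup G).Normal := normalizer_eq_top_iff.1 (index_eq_one.1 h)
    have h7 := h28 _ hnor (fun e => by
      have := hQ
      rw [show Nat.card Q = Nat.card (Q : Subgroup G) from rfl, e, Subgroup.card_bot] at this
      omega)
    rw [show Nat.card (Q : Subgroup G) = 7 from hQ] at h7
    omega
  · exfalso
    have hker : N.normalCore = ⊥ := by
      by_contra hne
      have h1 := (h28 _ inferInstance hne).trans (Subgroup.card_dvd_of_le N.normalCore_le)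
      rw [h] at hmul
      rw [show Nat.card N = 189 by omega] at h1
      omega
    have hinj : Function.Injective (MulAction.toPermHom G (G ⧸ N)) := by
      rw [← MonoidHom.ker_eq_bot_iff, ← normalCore_eq_ker, hker]
    have h1 := Subgroup.card_dvd_of_injective _ hinj
    rw [Nat.card_perm, ← Subgroup.index, h, hG] at h1
    norm_num [Nat.factorial] at h1
  · rw [h] at hmul; omega

variable {G : Type*} [Group G] [Finite G] (hG : Nat.card G = 1512)
  (h28 : ∀ N : Subgroup G, N.Normal → N ≠ ⊥ → 28 ∣ Nat.card N)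

include hG h28

/-- A normal subgroup inside one of order 504 is trivial or everything. -/
theorem eq_bot_or_eq {D : Subgroup G} (hD : Nat.card D = 504) (P : Subgroup G) [P.Normal]
    (hPD : P ≤ D) : P = ⊥ ∨ P = D := by
  by_cases hP : P = ⊥
  · exact Or.inl hP
  refine Or.inr ?_
  haveI : Fact (Nat.Prime 7) := ⟨by norm_num⟩
  have h28P := h28 P ‹_› hP
  have hP504 : Nat.card P ∣ 504 := hD ▸ Subgroup.card_dvd_of_le hPD
  obtain ⟨Q⟩ : Nonempty (Sylow 7 G) := inferInstance
  obtain ⟨hQ, hN⟩ := exists_sylow_normalizer hG h28 Q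
  -- a Sylow subgroup lies in `P`
  have hQP : (Q : Subgroup G) ≤ P := by
    intro x hx
    rw [← QuotientGroup.eq_one_iff, ← orderOf_eq_one_iff]
    have h1 : orderOf (x : G ⧸ P) ∣ 7 :=
      (orderOf_map_dvd (QuotientGroup.mk' P) x).trans (hQ ▸ Subgroup.orderOf_dvd_natCard _ hx)
    have h2 : orderOf (x : G ⧸ P) ∣ P.index := orderOf_dvd_natCard _
    have h3 : ¬ 7 ∣ P.index := by
      intro h7
      have h4 : 7 * 7 ∣ 1512 := hG ▸ P.card_mul_index ▸
        Nat.mul_dvd_mul ((show 7 ∣ 28 by norm_num).trans h28P) h7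
      omega
    rcases (Nat.dvd_prime (Fact.out : Nat.Prime 7)).1 h1 with h | h
    · exact h
    · exact absurd (h ▸ h2) h3
  set N := normalizer ((Q : Subgroup G) : Set G) with hNdef
  have htop : N ⊔ P = ⊤ := Sylow.normalizer_sup_eq_top' Q hQP
  have hidx : P.relIndex N = P.index := by
    rw [← relIndex_sup_right, htop, relIndex_top_right]
  have hcm := (P ⊓ N).subgroupOf N |>.card_mul_index
  rw [Nat.card_congr (subgroupOfEquivOfLe (inf_le_right : P ⊓ N ≤ N)).toEquiv,
    show ((P ⊓ N).subgroupOf N).index = (P ⊓ N).relIndex N from rfl, inf_relIndex_right, hidx,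
    hN] at hcm
  have h36 : Nat.card P = 36 * Nat.card ↥(P ⊓ N) := by
    have h := P.card_mul_index
    rw [hG] at h
    have hpos : 0 < P.index := Nat.pos_of_ne_zero P.index_ne_zero_of_finite
    refine Nat.eq_of_mul_eq_mul_right hpos ?_
    rw [h, mul_assoc, hcm]
    norm_num
  have hmeet : 7 ∣ Nat.card ↥(P ⊓ N) := hQ ▸ Subgroup.card_dvd_of_le (le_inf hQP le_normalizer)
  rcases (show Nat.card P = 252 ∨ Nat.card P = 504 by
    obtain ⟨k, hk⟩ := hmeet
    rw [hk] at h36
    have : k ∣ 2 := by
      rw [h36] at hP504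
      exact Nat.dvd_of_mul_dvd_mul_left (by norm_num : 0 < 252)
        (show 252 * k ∣ 252 * 2 by convert hP504 using 1; ring)
    rcases (Nat.dvd_prime Nat.prime_two).1 this with rfl | rfl <;> omega) with hc | hc
  · exfalso
    -- a normal complement of order 36
    let Q' : Sylow 7 P := Q.subtype hQP
    have hQ' : Nat.card Q' = 7 := by
      show Nat.card ((Q : Subgroup G).subgroupOf P) = 7
      rw [Nat.card_congr (subgroupOfEquivOfLe hQP).toEquiv]
      exact hQ
    have hmeet7 : Nat.card ↥(P ⊓ N) = 7 := by omega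
    have heq : P ⊓ N = (Q : Subgroup G) :=
      (Subgroup.eq_of_le_of_card_ge (le_inf hQP le_normalizer) (by rw [hmeet7]; exact hQ.ge)).symm
    have hNC : normalizer ((Q' : Subgroup P) : Set P) ≤ centralizer ((Q' : Subgroup P) : Set P) := by
      intro x hx
      have hxN : (x : G) ∈ N := by
        have h : x ∈ N.subgroupOf P := by
          rw [hNdef, Subgroup.subgroupOf_normalizer_eq hQP]
          exact hx
        exact h
      have hxQ : (x : G) ∈ (Q : Subgroup G) := heq ▸ ⟨x.2, hxN⟩
      rw [mem_centralizer_iff]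
      intro y hy
      haveI : IsCyclic (Q : Subgroup G) := isCyclic_of_prime_card hQ
      letI := IsCyclic.commGroup (α := (Q : Subgroup G))
      have := congrArg Subtype.val
        (mul_comm (⟨(y : G), hy⟩ : (Q : Subgroup G)) ⟨(x : G), hxQ⟩)
      exact Subtype.ext this
    set M := (MonoidHom.transferSylow Q' hNC).ker with hM
    have hMi : M.index = 7 := by
      rw [hM, (MonoidHom.ker_transferSylow_isComplement' Q' hNC).symm.index_eq_card]
      exact hQ'
    have hMc : Nat.card M = 36 := by
      have := M.card_mul_index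
      rw [hMi, hc] at this
      omega
    have hchar : ∀ z : P, z ^ 36 = 1 → z ∈ M := by
      intro z hz
      rw [← QuotientGroup.eq_one_iff, ← orderOf_eq_one_iff]
      have h1 : orderOf (z : P ⧸ M) ∣ 7 := (_root_.orderOf_dvd_natCard _).trans (dvd_of_eq hMi)
      have h2 : orderOf (z : P ⧸ M) ∣ 36 := orderOf_dvd_of_pow_eq_one (by
        rw [← QuotientGroup.mk_pow, hz, QuotientGroup.mk_one])
      exact Nat.eq_one_of_dvd_coprimes (by norm_num : Nat.Coprime 7 36) h1 h2
    have hnor : (M.map P.subtype).Normal := ⟨by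
      rintro _ ⟨z, hz, rfl⟩ g
      refine ⟨⟨g * (z : G) * g⁻¹, Normal.conj_mem ‹P.Normal› _ z.2 g⟩, hchar _ ?_, rfl⟩
      refine Subtype.ext ?_
      simp only [SubmonoidClass.coe_pow, conj_pow, OneMemClass.coe_one]
      have h36' : z ^ 36 = 1 := by
        have h' := congrArg Subtype.val (pow_card_eq_one' (x := (⟨z, hz⟩ : M)))
        rw [hMc] at h'
        simpa using h'
      rw [← SubmonoidClass.coe_pow, h36', OneMemClass.coe_one, mul_one, mul_inv_cancel]⟩
    have hcard : Nat.card (M.map P.subtype) = 36 := by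
      rw [Subgroup.card_map_of_injective P.subtype_injective, hMc]
    have h := h28 _ hnor fun e => by rw [e, Subgroup.card_bot] at hcard; omega
    rw [hcard] at h
    omega
  · exact Subgroup.eq_of_le_of_card_ge hPD (by rw [hc, hD])

theorem isSimpleGroup {D : Subgroup G} [D.Normal] (hD : Nat.card D = 504) : IsSimpleGroup D := by
  haveI : Fact (Nat.Prime 7) := ⟨by norm_num⟩
  haveI : Nontrivial D := Finite.one_lt_card_iff_nontrivial.1 (by omega)
  refine ⟨fun M hM => ?_⟩
  by_cases h7 : 7 ∣ Nat.card M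
  · right
    set X := Subgroup.closure {x : G | x ∈ D ∧ x ^ 7 = 1} with hX
    have hXn : X.Normal := by
      refine ⟨fun n hn g => ?_⟩
      induction hn using closure_induction with
      | mem x hx =>
        exact subset_closure ⟨Normal.conj_mem ‹D.Normal› x hx.1 g,
          by rw [conj_pow, hx.2, mul_one, mul_inv_cancel]⟩
      | one => simp
      | mul x y _ _ ihx ihy =>
        rw [show g * (x * y) * g⁻¹ = g * x * g⁻¹ * (g * y * g⁻¹) by group]
        exact mul_mem ihx ihy
      | inv x _ ih =>
        rw [show g * x⁻¹ * g⁻¹ = (g * x * g⁻¹)⁻¹ by group]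
        exact inv_mem ih
    have hXD : X ≤ D := (closure_le _).2 fun x hx => hx.1
    have hXM : X ≤ M.map D.subtype := (closure_le _).2 fun x hx => by
      refine ⟨⟨x, hx.1⟩, ?_, rfl⟩
      rw [SetLike.mem_coe, ← QuotientGroup.eq_one_iff, ← orderOf_eq_one_iff]
      have h1 : orderOf ((⟨x, hx.1⟩ : D) : D ⧸ M) ∣ 7 := orderOf_dvd_of_pow_eq_one (by
        rw [← QuotientGroup.mk_pow]
        exact congrArg _ (Subtype.ext hx.2) |>.trans (QuotientGroup.mk_one M))
      have h2 : orderOf ((⟨x, hx.1⟩ : D) : D ⧸ M) ∣ M.index := orderOf_dvd_natCard _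
      refine ((Nat.dvd_prime (Fact.out : Nat.Prime 7)).1 h1).resolve_right fun e => ?_
      have h4 : 7 * 7 ∣ 504 := hD ▸ M.card_mul_index ▸ Nat.mul_dvd_mul h7 (e ▸ h2)
      omega
    obtain ⟨x, hx⟩ := exists_prime_orderOf_dvd_card' 7 (hD ▸ (by norm_num : 7 ∣ 504) : 7 ∣ Nat.card D)
    have hX0 : X ≠ ⊥ := fun e => by
      have h := subset_closure (k := {x : G | x ∈ D ∧ x ^ 7 = 1})
        (show (x : G) ∈ {x : G | x ∈ D ∧ x ^ 7 = 1} from ⟨x.2, by
          rw [← hx, ← SubmonoidClass.coe_pow, pow_orderOf_eq_one, OneMemClass.coe_one]⟩)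
      rw [← hX, e] at h
      rw [SetLike.mem_coe, mem_bot, OneMemClass.coe_eq_one] at h
      rw [h, orderOf_one] at hx
      omega
    rcases eq_bot_or_eq hG h28 hD X hXD with h | h
    · exact absurd h hX0
    · refine eq_top_iff.2 fun y _ => ?_
      obtain ⟨z, hz, e⟩ := hXM (h.ge y.2)
      exact (Subtype.ext e : z = y) ▸ hz
  · left
    set C := Cfsg.pPrimeCore 7 D
    have hMC : M ≤ C := Core.le_pPrimeCore ((Fact.out : Nat.Prime 7).coprime_iff_not_dvd.2 h7).symm
    rcases eq_bot_or_eq hG h28 hD (C.map D.subtype) (map_subtype_le C) with h | h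
    · rw [map_eq_bot_iff_of_injective C D.subtype_injective] at h
      exact eq_bot_iff.2 (h ▸ hMC)
    · exfalso
      have hc := congrArg (fun H : Subgroup G => Nat.card H) h
      simp only [Subgroup.card_map_of_injective D.subtype_injective] at hc
      exact Core.not_dvd_card_pPrimeCore (p := 7) (G := D) (by rw [hc, hD]; norm_num)

theorem commutator_eq {D : Subgroup G} [D.Normal] (hD : Nat.card D = 504) : commutator G = D := by
  have hidx : D.index = 3 := by
    have := D.card_mul_index
    rw [hD, hG] at this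
    omega
  haveI : Fact (Nat.Prime 3) := ⟨Nat.prime_three⟩
  haveI : IsCyclic (G ⧸ D) := isCyclic_of_prime_card (p := 3) hidx
  have hle : commutator G ≤ D := by
    rw [← QuotientGroup.ker_mk' D]
    letI := IsCyclic.commGroup (α := G ⧸ D)
    exact Abelianization.commutator_subset_ker _
  rcases eq_bot_or_eq hG h28 hD (commutator G) hle with h | h
  · exfalso
    have hs := isSimpleGroup hG h28 hD
    letI : CommGroup D := { (inferInstance : Group D) with
      mul_comm := fun a b => Subtype.ext (commutatorElement_eq_one_iff_mul_comm.1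
        (mem_bot.1 (h.le (commutator_mem_commutator (mem_top (a : G)) (mem_top (b : G)))))) }
    have hp := IsSimpleGroup.prime_card (α := D)
    rw [hD] at hp
    norm_num at hp
  · exact h

end Cfsg.Agent.SmallOrder.Order1512
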