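import Cfsg.Agent.SmallOrder.Basic
import Cfsg.Agent.SmallOrder.Perm
import Cfsg.Agent.Classical.LinearBasic

/-!
Simple groups of order 504: local structure and uniqueness.
-/

set_option autoImplicit false

namespace Cfsg.Agent.SmallOrder.Order504

open Subgroup

variable {G : Type*} [Group G] [Finite G] [IsSimpleGroup G]

theorem not_comm (h : Nat.card G = 504) : ¬ IsMulCommutative G :=
  not_comm_of_card (by rw [h]; norm_num)

theorem eight_le_index (h : Nat.card G = 504) (H : Subgroup G) (hH : H ≠ ⊤) : 8 ≤ H.index := by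
  classical
  have hna := not_comm h
  by_contra hlt
  have hd := two_mul_card_dvd hna H hH
  rw [h] at hd
  have h7 : H.index = 7 := by
    have h6 : ¬ H.index ≤ 6 := fun h6 => by
      have := Nat.le_of_dvd (Nat.factorial_pos _) hd
      have := Nat.factorial_le h6
      simp [Nat.factorial] at this
      omega
    omega
  obtain ⟨f, -, hf, -, hs⟩ := exists_hom_alt hna H hH
  have : Nontrivial (Fin H.index) := Fin.nontrivial_iff_two_le.2 (by omega)
  have hsimp : IsSimpleGroup (alternatingGroup (Fin H.index)) :=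
    alternatingGroup.isSimpleGroup (by rw [Nat.card_eq_fintype_card, Fintype.card_fin]; omega)
  have hA : Nat.card (alternatingGroup (Fin H.index)) = 2520 := by
    have h2 := two_mul_nat_card_alternatingGroup (α := Fin H.index)
    rw [Nat.card_perm, Nat.card_fin, show H.index.factorial = 5040 by rw [h7]; rfl] at h2
    omega
  let f' : G →* alternatingGroup (Fin H.index) :=
    f.codRestrict _ (fun g => Equiv.Perm.mem_alternatingGroup.2 (hs g))
  have hr : Nat.card f'.range = 504 := by
    rw [← Nat.card_congr (MonoidHom.ofInjective (f := f') fun a b e => hf (congrArg Subtype.val e)).toEquiv, h]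
  have hne : f'.range ≠ ⊤ := fun e => by rw [e, card_top, hA] at hr; omega
  have hd' := two_mul_card_dvd (not_comm_of_card (by rw [hA]; norm_num)) _ hne
  have hi := f'.range.card_mul_index
  rw [hr, hA] at hi
  rw [hA, show f'.range.index = 5 by omega] at hd'
  norm_num [Nat.factorial] at hd'

theorem seven_data (h : Nat.card G = 504) (P : Sylow 7 G) [Fact (Nat.Prime 7)] :
    Nat.card (P : Subgroup G) = 7 ∧ centralizer ((P : Subgroup G) : Set G) = P ∧
      Nat.card (Sylow 7 G) = 36 := by
  have hna := not_comm h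
  have hP : Nat.card (P : Subgroup G) = 7 := by
    rw [card_sylow_eq_pow (p := 7) (a := 1) (m := 72) (by rw [h]; norm_num) (by norm_num) P]; norm_num
  obtain ⟨hd, hmod, hne1, -⟩ := sylow_data (G := G) (p := 7) (a := 1) (m := 72)
    (by rw [h]; norm_num) (by norm_num) (by norm_num) hna
  have hne8 : Nat.card (Sylow 7 G) ≠ 8 := by
    intro e
    have := card_dvd_of_card_sylow_le (G := G) (p := 7) (m := 72) (by rw [h]) (by norm_num)
      (by norm_num) hna (by rw [e])
    rw [h] at this
    norm_num at this
  have key : ∀ d ∈ Nat.divisors 72, d % 7 = 1 → d = 1 ∨ d = 8 ∨ d = 36 := by decide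
  have hn : Nat.card (Sylow 7 G) = 36 := by
    rcases key _ (Nat.mem_divisors.2 ⟨hd, by norm_num⟩) hmod with e | e | e
    exacts [absurd e hne1, absurd e hne8, e]
  have hN := card_sylow_mul_card_normalizer P
  rw [hn, h] at hN
  refine ⟨hP, ?_, hn⟩
  have := isCyclic_of_prime_card hP
  have hle : (P : Subgroup G) ≤ centralizer ((P : Subgroup G) : Set G) := le_centralizer _
  have hCN : centralizer ((P : Subgroup G) : Set G) ≤ normalizer ((P : Subgroup G) : Set G) :=
    centralizer_le_normalizer _
  have h1 : Nat.card (centralizer ((P : Subgroup G) : Set G)) ∣ 14 := by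
    rw [show (14 : ℕ) = Nat.card (normalizer ((P : Subgroup G) : Set G)) by omega]
    exact card_dvd_of_le hCN
  have h2 : 7 ∣ Nat.card (centralizer ((P : Subgroup G) : Set G)) := by
    have h' := card_dvd_of_le hle
    rwa [hP] at h'
  have h3 : Nat.card (centralizer ((P : Subgroup G) : Set G)) ≠ 14 := by
    intro e
    exact not_normalizer_le_centralizer hna (by rw [h]; norm_num) P
      (eq_of_le_of_card_ge hCN (by omega)).ge
  have h4 : Nat.card (centralizer ((P : Subgroup G) : Set G)) = 7 := by
    have key : ∀ d ∈ Nat.divisors 14, 7 ∣ d → d = 7 ∨ d = 14 := by decide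
    exact (key _ (Nat.mem_divisors.2 ⟨h1, by norm_num⟩) h2).resolve_right h3
  exact (eq_of_le_of_card_ge hle (by rw [hP, h4])).symm

theorem card_centralizer_seven (h : Nat.card G = 504) {y : G} (hy : orderOf y = 7) :
    Nat.card (centralizer ({y} : Set G)) = 7 := by
  have : Fact (Nat.Prime 7) := ⟨by norm_num⟩
  obtain ⟨P, hP⟩ := (IsPGroup.of_card (p := 7) (n := 1) (by rw [Nat.card_zpowers, hy, pow_one]) :
    IsPGroup 7 (zpowers y)).exists_le_sylow
  obtain ⟨hP7, hC, -⟩ := seven_data h P
  have he : zpowers y = (P : Subgroup G) :=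
    eq_of_le_of_card_ge hP (by rw [Nat.card_zpowers, hy, hP7])
  rw [← he, zpowers_eq_closure, centralizer_closure, ← zpowers_eq_closure, he] at hC
  rw [hC, hP7]

theorem card_centralizer_three (h : Nat.card G = 504) {x : G} (hx1 : x ≠ 1)
    (hxP : ∃ P : Sylow 3 G, x ∈ P) : Nat.card (centralizer ({x} : Set G)) = 9 := by
  classical
  have h3 : Fact (Nat.Prime 3) := ⟨Nat.prime_three⟩
  have h2 : Fact (Nat.Prime 2) := ⟨Nat.prime_two⟩
  have hna := not_comm h
  obtain ⟨P, hx⟩ := hxP
  have hP : Nat.card (P : Subgroup G) = 9 := by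
    rw [card_sylow_eq_pow (p := 3) (a := 2) (m := 56) (by rw [h]; norm_num) (by norm_num) P]; norm_num
  have hab : IsMulCommutative (P : Subgroup G) := IsPGroup.isMulCommutative_of_card_eq_prime_sq (p := 3)
    (by rw [hP]; norm_num)
  have hcomm : ∀ a ∈ (P : Subgroup G), ∀ b ∈ (P : Subgroup G), a * b = b * a := fun a ha b hb =>
    congrArg Subtype.val (hab.is_comm.comm (⟨a, ha⟩ : (P : Subgroup G)) ⟨b, hb⟩)
  set N := normalizer ((P : Subgroup G) : Set G) with hNdef
  obtain ⟨hd, hmod, hne1, -⟩ := sylow_data (G := G) (p := 3) (a := 2) (m := 56)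
    (by rw [h]; norm_num) (by norm_num) (by norm_num) hna
  have hidx : N.index = Nat.card (Sylow 3 G) := P.card_eq_index_normalizer.symm
  have hn8 := eight_le_index h N (normalizer_ne_top hna (by rw [h]; norm_num) P)
  have key : ∀ d ∈ Nat.divisors 56, d % 3 = 1 → d = 1 ∨ d = 4 ∨ d = 7 ∨ d = 28 := by decide
  have hn : Nat.card (Sylow 3 G) = 28 := by
    rcases key _ (Nat.mem_divisors.2 ⟨hd, by norm_num⟩) hmod with e | e | e | e <;> omega
  have hN : Nat.card N = 18 := by
    have := card_sylow_mul_card_normalizer P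
    rw [hn, h, ← hNdef] at this
    omega
  -- the part of the centraliser inside the normaliser
  have hA : N ⊓ centralizer ({x} : Set G) = (P : Subgroup G) := by
    refine le_antisymm ?_ (le_inf le_normalizer fun a ha =>
      mem_centralizer_singleton_iff.2 (hcomm a ha x hx))
    by_contra hnle
    have hfull : N ⊓ centralizer ({x} : Set G) = N := by
      refine eq_of_le_of_card_ge inf_le_left ?_
      have h1 : Nat.card ↥(N ⊓ centralizer ({x} : Set G)) ∣ 18 := hN ▸ card_dvd_of_le inf_le_left
      have hPle : (P : Subgroup G) ≤ N ⊓ centralizer ({x} : Set G) := le_inf le_normalizer fun a ha =>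
        mem_centralizer_singleton_iff.2 (hcomm a ha x hx)
      have h2 : 9 ∣ Nat.card ↥(N ⊓ centralizer ({x} : Set G)) := hP ▸ card_dvd_of_le hPle
      have key : ∀ d ∈ Nat.divisors 18, 9 ∣ d → d = 9 ∨ d = 18 := by decide
      rcases key _ (Nat.mem_divisors.2 ⟨h1, by norm_num⟩) h2 with e | e
      · exact absurd (eq_of_le_of_card_ge hPle (by omega)).ge hnle
      · omega
    have hkey : ∀ (k : ℕ) (g₀ : G), g₀⁻¹ * x ^ k * g₀ ∈ (P : Subgroup G) →
        g₀⁻¹ * x ^ k * g₀ = x ^ k := by
      intro k g₀ hk
      obtain ⟨n, hnN, hn'⟩ := P.conj_eq_normalizer_conj_of_mem (x ^ k) g₀ (pow_mem hx k) hk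
      rw [hn']
      have hnN' : n ∈ N := hnN
      rw [← hfull] at hnN'
      have hnx : Commute x n := (mem_centralizer_singleton_iff.1 hnN'.2).symm
      rw [mul_assoc, (hnx.pow_left k).eq, inv_mul_cancel_left]
    let : CommGroup (P : Subgroup G) := IsPGroup.commGroupOfCardEqPrimeSq (p := 3) (by rw [hP]; norm_num)
    let τ : G →* (P : Subgroup G) := MonoidHom.transfer (MonoidHom.id (P : Subgroup G))
    have hτ := MonoidHom.transfer_eq_pow (MonoidHom.id (P : Subgroup G)) x hkey
    have hindex : (P : Subgroup G).index = 56 := by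
      have := (P : Subgroup G).card_mul_index
      rw [hP, h] at this
      omega
    have hτne : τ x ≠ 1 := by
      intro e
      have e' : x ^ (P : Subgroup G).index = 1 := by
        have := congrArg Subtype.val (hτ.symm.trans e)
        simpa using this
      rw [hindex] at e'
      have hd' := Nat.dvd_gcd ((P : Subgroup G).orderOf_dvd_natCard hx) (orderOf_dvd_iff_pow_eq_one.2 e')
      rw [hP] at hd'
      exact hx1 (orderOf_eq_one_iff.1 (Nat.dvd_one.1 hd'))
    rcases (Subgroup.Normal.eq_bot_or_eq_top (H := τ.ker) inferInstance) with e | e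
    · exact hna ⟨⟨fun a b => (MonoidHom.ker_eq_bot_iff τ).1 e (by rw [map_mul, map_mul, mul_comm])⟩⟩
    · exact hτne (by rw [← MonoidHom.mem_ker, e]; trivial)
  set C := centralizer ({x} : Set G) with hCdef
  have hPC : (P : Subgroup G) ≤ C := fun a ha => mem_centralizer_singleton_iff.2 (hcomm a ha x hx)
  have hCtop : C ≠ ⊤ := by
    intro e
    rw [e, inf_top_eq] at hA
    rw [hA, hP] at hN
    omega
  have hC8 := eight_le_index h C hCtop
  obtain ⟨k, hk⟩ : 9 ∣ Nat.card C := hP ▸ card_dvd_of_le hPC
  have hCm := C.card_mul_index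
  rw [hk, h] at hCm
  have hk56 : k ∣ 56 := Dvd.intro C.index (by linarith)
  have hk7 : ¬ 7 ∣ k := by
    intro h7
    have : Fact (Nat.Prime 7) := ⟨by norm_num⟩
    obtain ⟨y, hy⟩ := exists_prime_orderOf_dvd_card' 7
      (show 7 ∣ Nat.card C from hk ▸ dvd_mul_of_dvd_right h7 9)
    rw [← orderOf_coe] at hy
    have hmem : x ∈ centralizer ({(y : G)} : Set G) :=
      mem_centralizer_singleton_iff.2 (mem_centralizer_singleton_iff.1 y.2).symm
    have hd1 := (centralizer ({(y : G)} : Set G)).orderOf_dvd_natCard hmem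
    rw [card_centralizer_seven h hy] at hd1
    have hd2 := (P : Subgroup G).orderOf_dvd_natCard hx
    rw [hP] at hd2
    exact hx1 (orderOf_eq_one_iff.1 (Nat.dvd_one.1 (Nat.dvd_gcd hd1 hd2)))
  -- Burnside inside the centraliser
  let PC : Sylow 3 C := P.subtype hPC
  have hPCN : normalizer ((PC : Subgroup C) : Set C) ≤ centralizer ((PC : Subgroup C) : Set C) := by
    intro c hc
    have hcN : (c : G) ∈ N := by
      rw [hNdef, mem_normalizer_iff]
      intro g
      constructor
      · intro hg
        exact ((mem_normalizer_iff.1 hc ⟨g, hPC hg⟩).1 hg : _)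
      · intro hg
        have hgC : g ∈ C := by
          have h' := mul_mem (mul_mem (inv_mem c.2) (hPC hg)) c.2
          rwa [show (c : G)⁻¹ * ((c : G) * g * (c : G)⁻¹) * (c : G) = g by group] at h'
        exact (mem_normalizer_iff.1 hc ⟨g, hgC⟩).2 hg
    have hcP : (c : G) ∈ (P : Subgroup G) := hA ▸ ⟨hcN, c.2⟩
    exact mem_centralizer_iff.2 fun a ha => Subtype.ext (hcomm _ ha _ hcP)
  have hK := MonoidHom.ker_transferSylow_isComplement' PC hPCN
  set K := (MonoidHom.transferSylow PC hPCN).ker with hKdef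
  have hKc : Nat.card K = k := by
    have := hK.card_mul_card
    rw [show Nat.card (PC : Subgroup C) = 9 from
      (Nat.card_congr (subgroupOfEquivOfLe hPC).toEquiv).trans hP, hk] at this
    omega
  set K₀ : Subgroup G := K.map C.subtype with hK₀
  have hK₀c : Nat.card K₀ = k := by rw [hK₀, card_map_of_injective C.subtype_injective, hKc]
  have hCN : C ≤ normalizer (K₀ : Set G) := by
    have := le_normalizer_map (H := K) C.subtype
    rw [normalizer_eq_top_iff.2 (MonoidHom.normal_ker _), ← MonoidHom.range_eq_map, range_subtype] at this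
    exact this
  have hk6 : k ≤ 7 := by nlinarith
  have hk0 : k ≠ 0 := fun e => by
    rw [e, mul_zero] at hk
    exact absurd hk Nat.card_pos.ne'
  have hkcases : k = 1 ∨ k = 2 ∨ k = 4 := by
    interval_cases k <;> first | omega | (norm_num at hk56; done) | (exact absurd (dvd_refl 7) hk7)
  rcases hkcases with rfl | rfl | rfl
  · omega
  · exfalso
    obtain ⟨u, hu⟩ := exists_prime_orderOf_dvd_card' 2 (show 2 ∣ Nat.card K₀ by rw [hK₀c])
    rw [← orderOf_coe] at hu
    obtain ⟨u, hu0⟩ := u
    rw [show ((⟨u, hu0⟩ : K₀) : G) = u from rfl] at hu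
    have hK₀z : K₀ = zpowers u :=
      (eq_of_le_of_card_ge (zpowers_le.2 hu0) (by rw [Nat.card_zpowers, hu, hK₀c])).symm
    have huC : u ∈ C := by
      obtain ⟨c, -, hc⟩ := hu0
      exact hc ▸ c.2
    have hcent : ∀ c ∈ C, c * u = u * c := by
      intro c hc
      have hm := (mem_normalizer_iff.1 (hCN hc) _).1 hu0
      rw [hK₀z] at hm
      obtain ⟨i, hi⟩ := mem_zpowers_iff.1 hm
      rcases Int.even_or_odd i with ⟨l, rfl⟩ | ⟨l, rfl⟩
      · rw [← two_mul, zpow_mul, zpow_two, ← sq, ← hu, pow_orderOf_eq_one, one_zpow, eq_comm,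
          conj_eq_one_iff] at hi
        rw [hi, orderOf_one] at hu
        omega
      · rw [zpow_add_one, zpow_mul, zpow_two, ← sq, ← hu, pow_orderOf_eq_one, one_zpow, one_mul] at hi
        exact mul_inv_eq_iff_eq_mul.1 hi.symm
    have huN : u ∈ N := by
      rw [hNdef, mem_normalizer_iff]
      intro g
      constructor
      · intro hg
        rw [show u * g * u⁻¹ = g by rw [← hcent g (hPC hg), mul_inv_cancel_right]]
        exact hg
      · intro hg
        have hc := hcent _ (hPC hg)
        rw [inv_mul_cancel_right] at hc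
        have : u * g * u⁻¹ = g := (mul_left_cancel hc).symm
        rwa [this] at hg
    have huP : u ∈ (P : Subgroup G) := hA ▸ ⟨huN, huC⟩
    have := (P : Subgroup G).orderOf_dvd_natCard huP
    rw [hu, hP] at this
    norm_num at this
  · exfalso
    obtain ⟨S, hS⟩ := (IsPGroup.of_card (p := 2) (n := 2) (by rw [hK₀c]; norm_num) :
      IsPGroup 2 K₀).exists_le_sylow
    have hS8 : Nat.card (S : Subgroup G) = 8 := by
      rw [card_sylow_eq_pow (p := 2) (a := 3) (m := 63) (by rw [h]; norm_num) (by norm_num) S]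
      norm_num
    have hSN : (S : Subgroup G) ≤ normalizer (K₀ : Set G) := by
      rw [← normal_subgroupOf_iff_le_normalizer hS]
      refine normal_of_index_eq_two ?_
      have h2' := (K₀.subgroupOf (S : Subgroup G)).card_mul_index
      rw [Nat.card_congr (subgroupOfEquivOfLe hS).toEquiv, hK₀c, hS8] at h2'
      omega
    have hN0 : K₀ ≠ ⊥ := fun e => by rw [e, card_bot] at hK₀c; omega
    have hN1 : K₀ ≠ ⊤ := fun e => by rw [e, card_top, h] at hK₀c; omega
    have hNi := eight_le_index h _ (normalizer_sub_ne_top hN0 hN1)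
    have hd1 : 36 ∣ Nat.card (normalizer (K₀ : Set G)) := by
      have h' := card_dvd_of_le hCN
      rwa [hk] at h'
    have hd2 : 8 ∣ Nat.card (normalizer (K₀ : Set G)) := hS8 ▸ card_dvd_of_le hSN
    have hm := (normalizer (K₀ : Set G)).card_mul_index
    rw [h] at hm
    have hpos : 0 < Nat.card (normalizer (K₀ : Set G)) := Nat.card_pos
    have : 72 ≤ Nat.card (normalizer (K₀ : Set G)) := by omega
    nlinarith

end Cfsg.Agent.SmallOrder.Order504
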