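import Cfsg.Agent.SmallOrder.Table6232

/-!
# The orders from 1093 to 3640

The entries are read as in `Table6232`.
-/

set_option autoImplicit false
set_option maxRecDepth 100000

namespace Cfsg.Agent.SmallOrder.Table3640

/-- The orders left over. -/
def special : List ℕ := [1512, 1680, 1800, 2100, 2160, 2400, 2448, 2520, 2700, 3360, 3420, 3600]

/-- The entry `x` is a valid reason against a simple group of order `n`. -/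
def ok (n : ℕ) : ℕ × ℕ × ℕ × ℕ × ℕ → Bool
  | (4, _, _, _, _) => special.contains n
  | x => Table6232.ok n x && !Table6232.special.contains n

/-- The entries of a list are valid for the orders from `lo` on. -/
def checkFrom : ℕ → List (ℕ × ℕ × ℕ × ℕ × ℕ) → Bool
  | _, [] => true
  | lo, x :: l => ok lo x && checkFrom (lo + 1) l

theorem checkFrom_spec : ∀ (l : List (ℕ × ℕ × ℕ × ℕ × ℕ)) (lo : ℕ), checkFrom lo l = true →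
    ∀ n, lo ≤ n → n < lo + l.length → ∃ x, ok n x = true
  | [], lo, _, n, h1, h2 => by simp at h2; omega
  | x :: l, lo, h, n, h1, h2 => by
    simp only [checkFrom, Bool.and_eq_true] at h
    rcases Nat.eq_or_lt_of_le h1 with rfl | h3
    · exact ⟨x, h.1⟩
    · exact checkFrom_spec l (lo + 1) h.2 n h3 (by simp only [List.length_cons] at h2; omega)

/-- See the module header. -/
def chunk0 : List (ℕ × ℕ × ℕ × ℕ × ℕ) := [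
  (0,1093,1,1093,0), (0,2,1,547,1), (1,73,1,15,0), (0,2,3,137,1), (0,1097,1,1097,0), (1,61,1,18,0), (0,7,1,157,1),
  (1,11,1,100,0), (0,3,1,367,1), (1,29,1,38,0), (0,1103,1,1103,0), (1,23,1,48,0), (1,17,1,65,0), (1,79,1,14,0),
  (0,3,3,41,1), (0,2,2,277,1), (0,1109,1,1109,0), (1,37,1,30,0), (0,11,1,101,1), (0,2,3,139,1), (1,53,1,21,0),
  (0,2,1,557,1), (0,5,1,223,1), (1,31,1,36,0), (0,1117,1,1117,0), (1,43,1,26,0), (0,3,1,373,1), (1,7,1,160,0),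
  (0,19,1,59,1), (1,17,1,66,0), (0,1123,1,1123,0), (0,2,2,281,1), (0,3,2,5,3), (0,2,1,563,1), (0,7,2,23,1),
  (1,47,1,24,0), (0,1129,1,1129,0), (1,113,1,10,0), (1,29,1,39,0), (0,2,2,283,1), (0,11,1,103,1), (1,7,1,162,0),
  (0,5,1,227,1), (0,2,4,71,1), (0,3,1,379,1), (0,2,1,569,1), (0,17,1,67,1), (1,5,1,228,0), (0,7,1,163,1),
  (0,2,1,571,1), (0,3,2,127,1), (1,13,1,88,0), (0,5,1,229,1), (1,191,1,6,0), (0,31,1,37,1), (1,41,1,28,0),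
  (0,3,1,383,1), (1,23,1,50,0), (0,1151,1,1151,0), (0,2,7,3,2), (0,1153,1,1153,0), (0,2,1,577,1), (1,11,1,105,0),
  (0,2,2,17,2), (0,13,1,89,1), (1,193,1,6,0), (0,19,1,61,1), (1,29,1,40,0), (0,3,3,43,1), (1,83,1,14,0),
  (0,1163,1,1163,0), (1,97,1,12,0), (0,5,1,233,1), (1,53,1,22,0), (0,3,1,389,1), (0,2,4,73,1), (0,7,1,167,1),
  (1,13,1,90,0), (0,1171,1,1171,0), (0,2,2,293,1), (1,23,1,51,0), (0,2,1,587,1), (0,5,2,47,1), (1,7,2,24,0),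
  (0,11,1,107,1), (1,31,1,38,0), (0,3,2,131,1), (1,59,1,20,0), (0,1181,1,1181,0), (1,197,1,6,0), (0,7,1,13,2),
  (0,2,5,37,1), (1,79,1,15,0), (0,2,1,593,1), (0,1187,1,1187,0), (1,11,1,108,0), (0,29,1,41,1), (1,5,1,238,0),
  (0,3,1,397,1), (0,2,3,149,1), (0,1193,1,1193,0), (1,199,1,6,0), (0,5,1,239,1), (1,23,1,52,0), (1,19,1,63,0),
  (0,2,1,599,1), (0,11,1,109,1), (3,5,1,48,0), (0,1201,1,1201,0), (0,2,1,601,1), (0,3,1,401,1), (1,43,1,28,0),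
  (0,5,1,241,1), (1,67,1,18,0), (0,17,1,71,1), (0,2,3,151,1), (1,31,1,39,0), (1,11,2,10,0), (0,7,1,173,1),
  (1,101,1,12,0), (0,1213,1,1213,0), (0,2,1,607,1), (0,3,5,5,1), (0,2,6,19,1), (0,1217,1,1217,0), (1,29,1,42,0),
  (0,23,1,53,1), (1,61,1,20,0), (1,37,1,33,0), (1,47,1,26,0), (0,1223,1,1223,0), (2,17,0,0,0), (0,5,2,7,2),
  (0,2,1,613,1), (0,3,1,409,1), (0,2,2,307,1), (0,1229,1,1229,0), (1,41,1,30,0), (0,1231,1,1231,0), (2,11,0,0,0),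
  (0,3,2,137,1), (0,2,1,617,1), (1,19,1,65,0), (1,103,1,12,0), (0,1237,1,1237,0), (0,2,1,619,1), (1,59,1,21,0),
  (1,31,1,40,0), (0,17,1,73,1), (1,23,1,54,0), (0,11,1,113,1), (0,2,2,311,1), (1,83,1,15,0), (1,89,1,14,0),
  (0,29,1,43,1), (1,13,1,96,0), (0,1249,1,1249,0), (0,2,1,5,4), (0,3,2,139,1), (0,2,2,313,1), (0,7,1,179,1),
  (1,19,1,66,0), (0,5,1,251,1), (0,2,3,157,1), (0,3,1,419,1), (1,37,1,34,0), (0,1259,1,1259,0), (2,7,0,0,0),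
  (0,13,1,97,1), (0,2,1,631,1), (0,3,1,421,1), (0,2,4,79,1), (1,23,1,55,0), (1,211,1,6,0), (0,7,1,181,1),
  (0,2,2,317,1), (0,3,3,47,1), (1,127,1,10,0), (0,31,1,41,1), (1,53,1,24,0), (0,19,1,67,1), (1,13,1,98,0),
  (1,17,1,75,0), (1,29,1,44,0), (0,1277,1,1277,0), (1,71,1,18,0), (0,1279,1,1279,0), (0,2,8,5,1), (1,61,1,21,0),
  (0,2,1,641,1), (0,1283,1,1283,0), (1,107,1,12,0), (0,5,1,257,1), (0,2,1,643,1), (1,13,1,99,0), (1,23,1,56,0),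
  (0,1289,1,1289,0), (1,43,1,30,0), (0,1291,1,1291,0), (1,19,1,68,0), (0,3,1,431,1), (0,2,1,647,1), (1,37,1,35,0),
  (0,2,4,3,4), (0,1297,1,1297,0), (1,59,1,22,0), (0,3,1,433,1), (1,13,1,100,0), (0,1301,1,1301,0), (1,31,1,42,0),
  (0,1303,1,1303,0), (0,2,3,163,1)]

/-- See the module header. -/
def chunk1 : List (ℕ × ℕ × ℕ × ℕ × ℕ) := [
  (1,29,1,45,0), (0,2,1,653,1), (0,1307,1,1307,0), (1,109,1,12,0), (1,17,1,77,0), (1,131,1,10,0), (1,23,1,57,0),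
  (0,2,5,41,1), (0,13,1,101,1), (1,73,1,18,0), (0,5,1,263,1), (1,47,1,28,0), (0,3,1,439,1), (0,2,1,659,1),
  (0,1319,1,1319,0), (1,11,1,120,0), (0,1321,1,1321,0), (0,2,1,661,1), (0,3,3,7,2), (0,2,2,331,1), (0,5,2,53,1),
  (1,17,1,78,0), (0,1327,1,1327,0), (0,2,4,83,1), (0,3,1,443,1), (1,19,1,70,0), (0,11,3,11,0), (1,37,1,36,0),
  (0,31,1,43,1), (1,29,1,46,0), (1,89,1,15,0), (0,2,3,167,1), (0,7,1,191,1), (1,223,1,6,0), (0,13,1,103,1),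
  (1,67,1,20,0), (0,3,2,149,1), (1,61,1,22,0), (0,17,1,79,1), (5,3,6,7,1), (0,5,1,269,1), (0,2,1,673,1),
  (0,3,1,449,1), (0,2,2,337,1), (0,19,1,71,1), (1,5,2,54,0), (0,7,1,193,1), (0,2,3,13,2), (1,41,1,33,0),
  (0,2,1,677,1), (0,5,1,271,1), (1,113,1,12,0), (0,23,1,59,1), (1,97,1,14,0), (0,3,2,151,1), (1,17,1,80,0),
  (0,1361,1,1361,0), (1,227,1,6,0), (0,29,1,47,1), (1,31,1,44,0), (1,13,1,105,0), (0,2,1,683,1), (0,1367,1,1367,0),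
  (1,19,1,72,0), (0,37,2,37,0), (1,137,1,10,0), (0,3,1,457,1), (0,2,2,7,3), (0,1373,1,1373,0), (1,229,1,6,0),
  (0,5,3,11,1), (0,2,5,43,1), (0,3,4,17,1), (1,53,1,26,0), (0,7,1,197,1), (1,23,1,60,0), (0,1381,1,1381,0),
  (0,2,1,691,1), (0,3,1,461,1), (0,2,3,173,1), (0,5,1,277,1), (1,11,1,126,0), (0,19,1,73,1), (0,2,2,347,1),
  (0,3,1,463,1), (1,139,1,10,0), (0,13,1,107,1), (1,29,1,48,0), (0,7,1,199,1), (1,41,1,34,0), (1,31,1,45,0),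
  (0,2,2,349,1), (0,11,1,127,1), (1,233,1,6,0), (0,1399,1,1399,0), (1,5,2,56,0), (0,3,1,467,1), (0,2,1,701,1),
  (0,23,1,61,1), (2,13,0,0,0), (0,5,1,281,1), (1,37,1,38,0), (1,67,1,21,0), (0,2,7,11,1), (0,1409,1,1409,0),
  (1,47,1,30,0), (0,17,1,83,1), (0,2,2,353,1), (0,3,2,157,1), (1,101,1,14,0), (0,5,1,283,1), (1,59,1,24,0),
  (0,13,1,109,1), (0,2,1,709,1), (1,43,1,33,0), (1,71,1,20,0), (0,7,2,29,1), (1,79,1,18,0), (0,1423,1,1423,0),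
  (0,2,4,89,1), (1,19,1,75,0), (1,31,1,46,0), (0,1427,1,1427,0), (1,17,1,84,0), (0,1429,1,1429,0), (1,13,1,110,0),
  (0,3,3,53,1), (0,2,3,179,1), (0,1433,1,1433,0), (1,239,1,6,0), (1,41,1,35,0), (0,2,2,359,1), (0,3,1,479,1),
  (0,2,1,719,1), (0,1439,1,1439,0), (2,5,0,0,0), (0,11,1,131,1), (1,103,1,14,0), (1,37,1,39,0), (0,2,2,19,2),
  (0,5,1,17,2), (1,241,1,6,0), (0,1447,1,1447,0), (0,2,3,181,1), (1,23,1,63,0), (1,29,1,50,0), (0,1451,1,1451,0),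
  (1,11,2,12,0), (0,1453,1,1453,0), (0,2,1,727,1), (1,97,1,15,0), (1,13,1,112,0), (0,31,1,47,1), (0,2,1,3,6),
  (0,1459,1,1459,0), (1,73,1,20,0), (0,3,1,487,1), (1,43,1,34,0), (1,19,1,77,0), (1,61,1,24,0), (0,5,1,293,1),
  (0,2,1,733,1), (0,3,2,163,1), (0,2,2,367,1), (0,13,1,113,1), (1,2,1,735,0), (0,1471,1,1471,0), (0,2,6,23,1),
  (0,3,1,491,1), (1,67,1,22,0), (0,5,2,59,1), (1,41,1,36,0), (0,7,1,211,1), (0,2,1,739,1), (1,29,1,51,0),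
  (1,37,1,40,0), (0,1481,1,1481,0), (1,13,1,114,0), (0,1483,1,1483,0), (1,53,1,28,0), (1,11,1,135,0), (0,2,1,743,1),
  (0,1487,1,1487,0), (1,31,1,48,0), (0,1489,1,1489,0), (1,149,1,10,0), (1,71,1,21,0), (0,2,2,373,1), (0,1493,1,1493,0),
  (1,83,1,18,0), (1,23,1,65,0), (1,17,1,88,0), (0,3,1,499,1), (1,107,1,14,0), (0,1499,1,1499,0), (1,5,3,12,0),
  (0,19,1,79,1), (0,2,1,751,1), (0,3,2,167,1), (0,2,5,47,1), (1,43,1,35,0), (1,251,1,6,0), (0,11,1,137,1),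
  (1,29,1,52,0), (0,3,1,503,1), (1,151,1,10,0), (0,1511,1,1511,0), (4,0,0,0,0), (0,17,1,89,1), (0,2,1,757,1),
  (1,101,1,15,0), (0,2,2,379,1)]

/-- See the module header. -/
def chunk2 : List (ℕ × ℕ × ℕ × ℕ × ℕ) := [
  (0,37,1,41,1), (1,23,1,66,0), (0,7,2,31,1), (1,19,1,80,0), (0,3,2,13,2), (0,2,1,761,1), (0,1523,1,1523,0),
  (1,127,1,12,0), (0,5,2,61,1), (1,109,1,14,0), (0,3,1,509,1), (0,2,3,191,1), (0,11,1,139,1), (1,17,1,90,0),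
  (0,1531,1,1531,0), (0,2,2,383,1), (1,73,1,21,0), (1,59,1,26,0), (0,5,1,307,1), (0,2,9,3,1), (0,29,1,53,1),
  (0,2,1,769,1), (0,3,4,19,1), (1,11,1,140,0), (0,23,1,67,1), (1,257,1,6,0), (0,1543,1,1543,0), (0,2,3,193,1),
  (1,103,1,15,0), (0,2,1,773,1), (1,17,1,91,0), (1,43,1,36,0), (0,1549,1,1549,0), (1,31,1,50,0), (1,47,1,33,0),
  (0,2,4,97,1), (0,1553,1,1553,0), (1,37,1,42,0), (0,5,1,311,1), (0,2,2,389,1), (0,3,2,173,1), (1,41,1,38,0),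
  (0,1559,1,1559,0), (2,13,0,0,0), (0,7,1,223,1), (1,71,1,22,0), (0,3,1,521,1), (1,23,1,68,0), (0,5,1,313,1),
  (1,29,1,54,0), (0,1567,1,1567,0), (0,2,5,7,2), (0,3,1,523,1), (1,157,1,10,0), (0,1571,1,1571,0), (1,131,1,12,0),
  (0,11,2,13,1), (0,2,1,787,1), (1,3,2,175,0), (0,2,3,197,1), (0,19,1,83,1), (1,263,1,6,0), (0,1579,1,1579,0),
  (1,79,1,20,0), (1,31,1,51,0), (1,113,1,14,0), (0,1583,1,1583,0), (1,11,1,144,0), (0,5,1,317,1), (1,61,1,26,0),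
  (0,3,1,23,2), (0,2,2,397,1), (0,7,1,227,1), (1,53,1,30,0), (0,37,1,43,1), (0,2,3,199,1), (0,3,3,59,1),
  (0,2,1,797,1), (1,29,1,55,0), (1,19,1,84,0), (0,1597,1,1597,0), (1,47,1,34,0), (1,41,1,39,0), (0,2,6,5,2),
  (0,1601,1,1601,0), (1,89,1,18,0), (0,7,1,229,1), (0,2,2,401,1), (1,107,1,15,0), (1,73,1,22,0), (0,1607,1,1607,0),
  (1,67,1,24,0), (0,1609,1,1609,0), (1,23,1,70,0), (0,3,2,179,1), (1,31,1,52,0), (0,1613,1,1613,0), (1,269,1,6,0),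
  (1,19,1,85,0), (0,2,4,101,1), (1,11,1,147,0), (0,2,1,809,1), (0,1619,1,1619,0), (2,5,0,0,0), (0,1621,1,1621,0),
  (0,2,1,811,1), (0,3,1,541,1), (1,29,1,56,0), (0,5,3,13,1), (1,271,1,6,0), (0,1627,1,1627,0), (1,37,1,44,0),
  (0,3,2,181,1), (1,163,1,10,0), (0,7,1,233,1), (1,17,1,96,0), (0,23,1,71,1), (1,43,1,38,0), (1,109,1,15,0),
  (0,2,2,409,1), (0,1637,1,1637,0), (1,13,1,126,0), (0,11,1,149,1), (1,41,1,40,0), (0,3,1,547,1), (0,2,1,821,1),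
  (0,31,1,53,1), (1,137,1,12,0), (1,47,1,35,0), (0,2,1,823,1), (0,3,3,61,1), (0,2,4,103,1), (0,17,1,97,1),
  (1,11,1,150,0), (0,13,1,127,1), (1,59,1,28,0), (1,29,1,57,0), (0,2,1,827,1), (0,5,1,331,1), (1,23,1,72,0),
  (0,1657,1,1657,0), (0,2,1,829,1), (1,79,1,21,0), (1,83,1,20,0), (0,11,1,151,1), (1,277,1,6,0), (0,1663,1,1663,0),
  (0,2,7,13,1), (1,37,1,45,0), (1,17,1,98,0), (0,1667,1,1667,0), (1,139,1,12,0), (0,1669,1,1669,0), (1,167,1,10,0),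
  (0,3,1,557,1), (1,19,1,88,0), (0,7,1,239,1), (1,31,1,54,0), (0,5,2,67,1), (0,2,2,419,1), (1,43,1,39,0),
  (0,2,1,839,1), (0,23,1,73,1), (4,0,0,0,0), (0,41,2,41,0), (0,2,1,29,2), (1,17,1,99,0), (0,2,2,421,1),
  (0,5,1,337,1), (1,281,1,6,0), (0,7,1,241,1), (0,2,3,211,1), (0,3,1,563,1), (1,13,2,10,0), (0,19,1,89,1),
  (1,47,1,36,0), (0,1693,1,1693,0), (1,11,2,14,0), (1,113,1,15,0), (0,2,5,53,1), (0,1697,1,1697,0), (1,283,1,6,0),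
  (0,1699,1,1699,0), (1,17,1,100,0), (0,3,5,7,1), (1,37,1,46,0), (0,13,1,131,1), (1,71,1,24,0), (1,31,1,55,0),
  (0,2,1,853,1), (0,3,1,569,1), (1,61,1,28,0), (0,1709,1,1709,0), (1,19,1,90,0), (0,29,1,59,1), (0,2,4,107,1),
  (0,3,1,571,1), (0,2,1,857,1), (0,5,1,7,3), (2,3,0,0,0), (0,17,1,101,1), (0,2,1,859,1), (0,3,2,191,1),
  (1,43,1,40,0), (0,1721,1,1721,0), (1,41,1,42,0), (0,1723,1,1723,0), (0,2,2,431,1), (1,23,1,75,0), (0,2,1,863,1),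
  (0,11,1,157,1), (0,2,6,3,3)]

/-- See the module header. -/
def chunk3 : List (ℕ × ℕ × ℕ × ℕ × ℕ) := [
  (1,19,1,91,0), (1,173,1,10,0), (0,3,1,577,1), (0,2,2,433,1), (0,1733,1,1733,0), (1,17,2,6,0), (0,5,1,347,1),
  (1,31,1,56,0), (0,3,2,193,1), (1,79,1,22,0), (0,37,1,47,1), (1,5,1,348,0), (0,1741,1,1741,0), (1,67,1,26,0),
  (1,83,1,21,0), (0,2,4,109,1), (0,5,1,349,1), (1,97,1,18,0), (0,1747,1,1747,0), (1,23,1,76,0), (1,53,1,33,0),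
  (1,7,1,250,0), (0,17,1,103,1), (1,73,1,24,0), (0,1753,1,1753,0), (0,2,1,877,1), (1,13,1,135,0), (0,2,2,439,1),
  (0,7,1,251,1), (1,293,1,6,0), (0,1759,1,1759,0), (1,11,1,160,0), (0,3,1,587,1), (0,2,1,881,1), (0,41,1,43,1),
  (1,7,2,36,0), (0,5,1,353,1), (0,2,1,883,1), (1,31,1,57,0), (1,13,1,136,0), (0,29,1,61,1), (1,59,1,30,0),
  (1,23,1,77,0), (0,2,2,443,1), (0,3,2,197,1), (0,2,1,887,1), (0,5,2,71,1), (1,37,1,48,0), (0,1777,1,1777,0),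
  (1,127,1,14,0), (0,3,1,593,1), (1,89,1,20,0), (0,13,1,137,1), (1,11,1,162,0), (0,1783,1,1783,0), (0,2,3,223,1),
  (1,17,1,105,0), (1,47,1,38,0), (0,1787,1,1787,0), (1,149,1,12,0), (0,1789,1,1789,0), (1,179,1,10,0), (0,3,2,199,1),
  (0,2,8,7,1), (0,11,1,163,1), (1,23,1,78,0), (0,5,1,359,1), (0,2,2,449,1), (0,3,1,599,1), (1,31,1,58,0),
  (0,7,1,257,1), (4,0,0,0,0), (0,1801,1,1801,0), (1,53,1,34,0), (0,3,1,601,1), (1,41,1,44,0), (0,5,1,19,2),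
  (1,43,1,42,0), (0,13,1,139,1), (0,2,4,113,1), (0,3,3,67,1), (1,181,1,10,0), (0,1811,1,1811,0), (1,151,1,12,0),
  (0,7,2,37,1), (0,2,1,907,1), (1,11,2,15,0), (0,2,3,227,1), (0,23,1,79,1), (1,101,1,18,0), (0,17,1,107,1),
  (1,13,1,140,0), (0,3,1,607,1), (0,2,1,911,1), (0,1823,1,1823,0), (1,19,1,96,0), (0,5,2,73,1), (1,83,1,22,0),
  (1,29,1,63,0), (0,2,2,457,1), (0,31,1,59,1), (1,61,1,30,0), (0,1831,1,1831,0), (0,2,3,229,1), (1,47,1,39,0),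
  (1,131,1,14,0), (0,5,1,367,1), (1,17,1,108,0), (0,11,1,167,1), (0,2,1,919,1), (0,3,1,613,1), (1,23,1,80,0),
  (0,7,1,263,1), (1,307,1,6,0), (0,19,1,97,1), (0,2,2,461,1), (1,41,1,45,0), (1,71,1,26,0), (0,1847,1,1847,0),
  (1,11,1,168,0), (0,43,2,43,0), (1,37,1,50,0), (0,3,1,617,1), (0,2,2,463,1), (0,17,1,109,1), (1,103,1,18,0),
  (1,53,1,35,0), (0,2,6,29,1), (0,3,1,619,1), (0,2,1,929,1), (0,11,1,13,2), (1,31,1,60,0), (0,1861,1,1861,0),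
  (1,19,1,98,0), (0,3,4,23,1), (0,2,3,233,1), (0,5,1,373,1), (1,311,1,6,0), (0,1867,1,1867,0), (0,2,2,467,1),
  (1,89,1,21,0), (1,17,1,110,0), (0,1871,1,1871,0), (1,13,1,144,0), (0,1873,1,1873,0), (0,2,1,937,1), (0,3,1,5,4),
  (1,67,1,28,0), (0,1877,1,1877,0), (1,313,1,6,0), (0,1879,1,1879,0), (1,47,1,40,0), (1,19,1,99,0), (0,2,1,941,1),
  (0,7,1,269,1), (1,157,1,12,0), (1,29,1,65,0), (1,41,1,46,0), (1,37,1,51,0), (0,2,5,59,1), (0,1889,1,1889,0),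
  (1,2,1,945,0), (0,31,1,61,1), (1,43,1,44,0), (0,3,1,631,1), (0,2,1,947,1), (0,5,1,379,1), (1,79,1,24,0),
  (0,7,1,271,1), (1,73,1,26,0), (0,3,2,211,1), (1,19,1,100,0), (0,1901,1,1901,0), (1,317,1,6,0), (0,11,1,173,1),
  (1,17,1,112,0), (1,127,1,15,0), (0,2,1,953,1), (0,1907,1,1907,0), (1,53,1,36,0), (0,23,1,83,1), (1,191,1,10,0),
  (1,13,1,147,0), (0,2,3,239,1), (0,1913,1,1913,0), (1,29,1,66,0), (0,5,1,383,1), (0,2,2,479,1), (0,3,3,71,1),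
  (1,137,1,14,0), (0,19,1,101,1), (2,5,0,0,0), (0,17,1,113,1), (0,2,1,31,2), (0,3,1,641,1), (1,37,1,52,0),
  (1,11,1,175,0), (1,107,1,18,0), (0,41,1,47,1), (0,2,3,241,1), (0,3,1,643,1), (1,193,1,10,0), (0,1931,1,1931,0),
  (1,23,1,84,0), (0,1933,1,1933,0), (0,2,1,967,1), (1,43,1,45,0), (0,2,4,11,2), (0,13,1,149,1), (1,19,1,102,0),
  (0,7,1,277,1), (1,97,1,20,0)]

/-- See the module header. -/
def chunk4 : List (ℕ × ℕ × ℕ × ℕ × ℕ) := [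
  (0,3,1,647,1), (0,2,1,971,1), (0,29,1,67,1), (0,2,3,3,5), (0,5,1,389,1), (1,139,1,14,0), (1,59,1,33,0),
  (0,2,2,487,1), (0,1949,1,1949,0), (1,13,1,150,0), (0,1951,1,1951,0), (0,2,5,61,1), (1,31,1,63,0), (0,2,1,977,1),
  (1,23,1,85,0), (1,163,1,12,0), (0,19,1,103,1), (1,89,1,22,0), (0,3,1,653,1), (1,7,2,40,0), (0,37,1,53,1),
  (1,109,1,18,0), (0,13,1,151,1), (0,2,2,491,1), (1,131,1,15,0), (0,2,1,983,1), (0,7,1,281,1), (1,41,1,48,0),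
  (0,11,1,179,1), (1,197,1,10,0), (0,3,3,73,1), (1,29,1,68,0), (0,1973,1,1973,0), (1,47,1,42,0), (0,5,2,79,1),
  (1,19,1,104,0), (0,3,1,659,1), (1,43,1,46,0), (0,1979,1,1979,0), (2,11,0,0,0), (0,7,1,283,1), (0,2,1,991,1),
  (0,3,1,661,1), (0,2,6,31,1), (0,5,1,397,1), (1,331,1,6,0), (0,1987,1,1987,0), (1,71,1,28,0), (1,17,1,117,0),
  (1,199,1,10,0), (0,11,1,181,1), (1,83,1,24,0), (0,1993,1,1993,0), (0,2,1,997,1), (1,19,1,105,0), (0,2,2,499,1),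
  (0,1997,1,1997,0), (1,37,1,54,0), (0,1999,1,1999,0), (0,2,4,5,3), (1,29,1,69,0), (1,13,1,154,0), (0,2003,1,2003,0),
  (1,167,1,12,0), (0,5,1,401,1), (1,59,1,34,0), (0,3,2,223,1), (0,2,3,251,1), (0,7,2,41,1), (1,67,1,30,0),
  (0,2011,1,2011,0), (0,2,2,503,1), (1,61,1,33,0), (1,53,1,38,0), (1,31,1,65,0), (2,7,0,0,0), (0,2017,1,2017,0),
  (0,2,1,1009,1), (0,3,1,673,1), (1,101,1,20,0), (0,43,1,47,1), (1,337,1,6,0), (0,7,1,17,2), (1,23,1,88,0),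
  (0,3,4,5,2), (0,2,1,1013,1), (0,2027,1,2027,0), (1,13,2,12,0), (0,2029,1,2029,0), (1,29,1,70,0), (0,3,1,677,1),
  (0,2,4,127,1), (0,19,1,107,1), (1,113,1,18,0), (1,37,1,55,0), (0,2,2,509,1), (1,97,1,21,0), (0,2,1,1019,1),
  (0,2039,1,2039,0), (1,17,1,120,0), (0,13,1,157,1), (0,2,1,1021,1), (0,3,2,227,1), (1,73,1,28,0), (0,5,1,409,1),
  (1,31,1,66,0), (0,23,1,89,1), (0,2,11,2,0), (0,3,1,683,1), (1,41,1,50,0), (0,7,1,293,1), (1,19,1,108,0),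
  (0,2053,1,2053,0), (1,79,1,26,0), (1,137,1,15,0), (0,2,3,257,1), (0,11,2,17,1), (1,7,3,6,0), (0,29,1,71,1),
  (1,103,1,20,0), (0,3,2,229,1), (0,2,1,1031,1), (0,2063,1,2063,0), (1,43,1,48,0), (1,59,1,35,0), (0,2,1,1033,1),
  (1,53,1,39,0), (1,47,1,44,0), (0,2069,1,2069,0), (1,23,1,90,0), (0,19,1,109,1), (1,37,1,56,0), (0,3,1,691,1),
  (1,61,1,34,0), (0,5,2,83,1), (1,173,1,12,0), (0,31,1,67,1), (0,2,1,1039,1), (1,11,1,189,0), (2,13,0,0,0),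
  (0,2081,1,2081,0), (1,347,1,6,0), (0,2083,1,2083,0), (0,2,2,521,1), (1,139,1,15,0), (1,149,1,14,0), (0,2087,1,2087,0),
  (1,29,1,72,0), (0,2089,1,2089,0), (1,19,1,110,0), (1,41,1,51,0), (0,2,2,523,1), (1,23,1,91,0), (1,349,1,6,0),
  (0,5,1,419,1), (0,2,4,131,1), (0,3,2,233,1), (0,2,1,1049,1), (0,2099,1,2099,0), (4,0,0,0,0), (0,11,1,191,1),
  (0,2,1,1051,1), (0,3,1,701,1), (0,2,3,263,1), (0,5,1,421,1), (1,2,1,1053,0), (0,7,2,43,1), (1,31,1,68,0),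
  (1,37,1,57,0), (1,211,1,10,0), (0,2111,1,2111,0), (1,11,1,192,0), (0,2113,1,2113,0), (1,151,1,14,0), (1,47,1,45,0),
  (0,2,2,23,2), (0,29,1,73,1), (1,353,1,6,0), (0,13,1,163,1), (1,53,1,40,0), (1,101,1,21,0), (0,2,1,1061,1),
  (0,11,1,193,1), (1,59,1,36,0), (0,5,3,17,1), (0,2,1,1063,1), (0,3,1,709,1), (1,19,1,112,0), (0,2129,1,2129,0),
  (1,71,1,30,0), (0,2131,1,2131,0), (1,41,1,52,0), (0,3,3,79,1), (1,97,1,22,0), (1,61,1,35,0), (1,89,1,24,0),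
  (0,2137,1,2137,0), (0,2,1,1069,1), (1,31,1,69,0), (1,107,1,20,0), (0,2141,1,2141,0), (1,17,1,126,0), (0,2143,1,2143,0),
  (0,2,5,67,1), (1,13,1,165,0), (1,37,1,58,0), (0,19,1,113,1), (1,179,1,12,0), (0,7,1,307,1), (1,43,1,50,0),
  (0,3,2,239,1), (0,2,3,269,1)]

/-- See the module header. -/
def chunk5 : List (ℕ × ℕ × ℕ × ℕ × ℕ) := [
  (0,2153,1,2153,0), (1,359,1,6,0), (0,5,1,431,1), (1,11,1,196,0), (0,3,1,719,1), (1,83,1,26,0), (0,17,1,127,1),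
  (4,0,0,0,0), (0,2161,1,2161,0), (1,47,1,46,0), (1,103,1,21,0), (0,2,2,541,1), (0,5,1,433,1), (1,19,2,6,0),
  (0,11,1,197,1), (0,2,3,271,1), (0,3,2,241,1), (1,31,1,70,0), (0,13,1,167,1), (1,181,1,12,0), (0,41,1,53,1),
  (0,2,1,1087,1), (1,29,1,75,0), (0,2,7,17,1), (0,7,1,311,1), (1,11,2,18,0), (0,2179,1,2179,0), (1,109,1,20,0),
  (0,3,1,727,1), (0,2,1,1091,1), (0,37,1,59,1), (1,13,1,168,0), (1,23,1,95,0), (0,2,1,1093,1), (0,3,7,3,0),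
  (0,2,2,547,1), (0,11,1,199,1), (1,73,1,30,0), (0,7,1,313,1), (0,2,4,137,1), (1,43,1,51,0), (0,2,1,1097,1),
  (0,5,1,439,1), (1,61,1,36,0), (0,13,3,13,0), (1,157,1,14,0), (0,3,1,733,1), (2,11,0,0,0), (0,31,1,71,1),
  (1,367,1,6,0), (0,2203,1,2203,0), (1,29,1,76,0), (1,5,1,441,0), (0,2,1,1103,1), (0,2207,1,2207,0), (1,23,1,96,0),
  (0,47,2,47,0), (1,17,1,130,0), (1,67,1,33,0), (1,79,1,28,0), (0,2213,1,2213,0), (1,41,1,54,0), (0,5,1,443,1),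
  (0,2,3,277,1), (0,3,1,739,1), (0,2,1,1109,1), (0,7,1,317,1), (1,37,1,60,0), (0,2221,1,2221,0), (1,101,1,22,0),
  (1,13,1,171,0), (0,2,4,139,1), (0,5,2,89,1), (1,53,1,42,0), (0,17,1,131,1), (0,2,2,557,1), (0,3,1,743,1),
  (1,223,1,10,0), (0,23,1,97,1), (1,31,1,72,0), (1,29,1,77,0), (0,2,1,1117,1), (1,149,1,15,0), (1,43,1,52,0),
  (0,2237,1,2237,0), (1,373,1,6,0), (0,2239,1,2239,0), (1,7,1,320,0), (0,3,3,83,1), (1,59,1,38,0), (0,2243,1,2243,0),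
  (1,17,1,132,0), (0,5,1,449,1), (0,2,1,1123,1), (1,107,1,21,0), (0,2,3,281,1), (0,13,1,173,1), (1,5,3,18,0),
  (0,2251,1,2251,0), (0,2,2,563,1), (0,3,1,751,1), (1,23,1,98,0), (1,41,1,55,0), (1,47,1,48,0), (0,37,1,61,1),
  (0,2,1,1129,1), (0,3,2,251,1), (1,113,1,20,0), (1,19,1,119,0), (1,29,1,78,0), (0,31,1,73,1), (0,2,3,283,1),
  (1,151,1,15,0), (1,103,1,22,0), (0,2267,1,2267,0), (2,7,0,0,0), (0,2269,1,2269,0), (1,227,1,10,0), (0,3,1,757,1),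
  (0,2,5,71,1), (0,2273,1,2273,0), (1,379,1,6,0), (1,13,1,175,0), (0,2,2,569,1), (1,23,1,99,0), (1,67,1,34,0),
  (0,43,1,53,1), (1,19,1,120,0), (0,2281,1,2281,0), (1,163,1,14,0), (0,3,1,761,1), (0,2,2,571,1), (0,5,1,457,1),
  (1,127,1,18,0), (0,2287,1,2287,0), (1,13,1,176,0), (1,109,1,21,0), (1,229,1,10,0), (0,29,1,79,1), (1,191,1,12,0),
  (0,2293,1,2293,0), (1,37,1,62,0), (1,17,1,135,0), (1,41,1,56,0), (0,2297,1,2297,0), (1,383,1,6,0), (0,11,2,19,1),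
  (1,23,1,100,0), (1,59,1,39,0), (0,2,1,1151,1), (0,7,2,47,1), (0,2,8,3,2), (0,5,1,461,1), (0,2,1,1153,1),
  (0,3,1,769,1), (0,2,2,577,1), (0,2309,1,2309,0), (1,11,1,210,0), (0,2311,1,2311,0), (0,2,3,17,2), (0,3,2,257,1),
  (1,89,1,26,0), (0,5,1,463,1), (1,193,1,12,0), (0,7,1,331,1), (1,61,1,38,0), (0,3,1,773,1), (1,29,1,80,0),
  (0,11,1,211,1), (1,43,1,54,0), (0,23,1,101,1), (1,83,1,28,0), (1,31,1,75,0), (0,2,1,1163,1), (0,13,1,179,1),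
  (1,97,1,24,0), (0,17,1,137,1), (1,233,1,10,0), (1,37,1,63,0), (1,53,1,44,0), (0,2333,1,2333,0), (1,389,1,6,0),
  (0,5,1,467,1), (0,2,5,73,1), (1,41,1,57,0), (1,167,1,14,0), (0,2339,1,2339,0), (1,13,1,180,0), (0,2341,1,2341,0),
  (0,2,1,1171,1), (1,71,1,33,0), (0,2,3,293,1), (1,67,1,35,0), (1,23,1,102,0), (0,2347,1,2347,0), (0,2,2,587,1),
  (0,3,4,29,1), (1,47,1,50,0), (0,2351,1,2351,0), (1,7,2,48,0), (0,13,1,181,1), (1,107,1,22,0), (1,157,1,15,0),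
  (1,31,1,76,0), (0,2357,1,2357,0), (1,131,1,18,0), (0,7,1,337,1), (1,59,1,40,0), (0,3,1,787,1), (0,2,1,1181,1),
  (0,17,1,139,1), (1,197,1,12,0)]

/-- See the module header. -/
def chunk6 : List (ℕ × ℕ × ℕ × ℕ × ℕ) := [
  (1,43,1,55,0), (1,13,2,14,0), (0,3,2,263,1), (0,2,6,37,1), (0,23,1,103,1), (1,79,1,30,0), (0,2371,1,2371,0),
  (0,2,2,593,1), (1,113,1,21,0), (0,2,1,1187,1), (0,5,3,19,1), (1,11,1,216,0), (0,2377,1,2377,0), (1,41,1,58,0),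
  (1,61,1,39,0), (1,5,1,476,0), (0,2381,1,2381,0), (1,397,1,6,0), (0,2383,1,2383,0), (0,2,4,149,1), (1,53,1,45,0),
  (0,2,1,1193,1), (1,31,1,77,0), (1,199,1,12,0), (0,2389,1,2389,0), (1,239,1,10,0), (0,3,1,797,1), (1,23,1,104,0),
  (0,2393,1,2393,0), (1,19,1,126,0), (0,5,1,479,1), (0,2,2,599,1), (1,47,1,51,0), (1,109,1,22,0), (0,2399,1,2399,0),
  (4,0,0,0,0), (0,7,4,7,0), (0,2,1,1201,1), (0,3,3,89,1), (0,2,2,601,1), (1,37,1,65,0), (1,401,1,6,0),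
  (0,29,1,83,1), (1,43,1,56,0), (1,73,1,33,0), (1,241,1,10,0), (0,2411,1,2411,0), (1,67,1,36,0), (0,19,1,127,1),
  (1,71,1,34,0), (1,23,1,105,0), (0,2,4,151,1), (0,2417,1,2417,0), (1,31,1,78,0), (0,41,1,59,1), (1,11,2,20,0),
  (0,3,2,269,1), (1,173,1,14,0), (0,2423,1,2423,0), (1,101,1,24,0), (0,5,2,97,1), (0,2,1,1213,1), (0,3,1,809,1),
  (0,2,2,607,1), (0,7,1,347,1), (1,3,5,10,0), (1,17,1,143,0), (0,2,7,19,1), (0,3,1,811,1), (0,2,1,1217,1),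
  (0,5,1,487,1), (1,29,1,84,0), (0,2437,1,2437,0), (1,53,1,46,0), (0,3,2,271,1), (1,61,1,40,0), (0,2441,1,2441,0),
  (1,37,1,66,0), (0,7,1,349,1), (1,47,1,52,0), (1,163,1,15,0), (0,2,1,1223,1), (0,2447,1,2447,0), (4,0,0,0,0),
  (0,31,1,79,1), (1,7,2,50,0), (1,43,1,57,0), (0,2,2,613,1), (0,11,1,223,1), (1,409,1,6,0), (0,5,1,491,1),
  (0,2,3,307,1), (1,13,1,189,0), (0,2,1,1229,1), (0,2459,1,2459,0), (1,41,1,60,0), (0,23,1,107,1), (0,2,1,1231,1),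
  (0,3,1,821,1), (2,11,0,0,0), (1,29,1,85,0), (1,137,1,18,0), (0,2467,1,2467,0), (0,2,2,617,1), (0,3,1,823,1),
  (1,19,1,130,0), (0,7,1,353,1), (1,103,1,24,0), (0,2473,1,2473,0), (0,2,1,1237,1), (1,3,2,275,0), (0,2,2,619,1),
  (0,2477,1,2477,0), (1,59,1,42,0), (0,37,1,67,1), (1,31,1,80,0), (0,3,1,827,1), (1,73,1,34,0), (0,13,1,191,1),
  (1,23,1,108,0), (1,71,1,35,0), (1,113,1,22,0), (0,3,1,829,1), (0,2,3,311,1), (0,19,1,131,1), (1,83,1,30,0),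
  (0,47,1,53,1), (1,89,1,28,0), (0,3,2,277,1), (1,43,1,58,0), (0,5,1,499,1), (1,13,1,192,0), (0,11,1,227,1),
  (0,2,1,1249,1), (1,17,1,147,0), (0,2,2,5,4), (0,41,1,61,1), (1,139,1,18,0), (0,2503,1,2503,0), (0,2,3,313,1),
  (1,167,1,15,0), (1,179,1,14,0), (0,23,1,109,1), (1,19,1,132,0), (0,13,1,193,1), (1,251,1,10,0), (0,3,4,31,1),
  (0,2,4,157,1), (0,7,1,359,1), (1,419,1,6,0), (0,5,1,503,1), (1,37,1,68,0), (0,3,1,839,1), (0,2,1,1259,1),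
  (0,11,1,229,1), (4,0,0,0,0), (0,2521,1,2521,0), (1,97,1,26,0), (0,3,1,29,2), (0,2,2,631,1), (0,5,2,101,1),
  (1,421,1,6,0), (0,7,1,19,2), (0,2,5,79,1), (0,3,2,281,1), (1,23,1,110,0), (0,2531,1,2531,0), (1,211,1,12,0),
  (0,17,1,149,1), (1,181,1,14,0), (1,13,2,15,0), (0,2,3,317,1), (0,43,1,59,1), (1,47,1,54,0), (0,2539,1,2539,0),
  (1,127,1,20,0), (1,11,2,21,0), (1,41,1,62,0), (0,2543,1,2543,0), (1,53,1,48,0), (0,5,1,509,1), (1,67,1,38,0),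
  (0,3,2,283,1), (1,13,1,196,0), (0,2549,1,2549,0), (1,17,1,150,0), (0,2551,1,2551,0), (1,29,1,88,0), (1,37,1,69,0),
  (0,2,1,1277,1), (1,73,1,35,0), (1,71,1,36,0), (0,2557,1,2557,0), (0,2,1,1279,1), (0,3,1,853,1), (0,2,9,5,1),
  (0,13,1,197,1), (1,61,1,42,0), (0,11,1,233,1), (0,2,2,641,1), (1,19,1,135,0), (0,2,1,1283,1), (0,17,1,151,1),
  (1,107,1,24,0), (0,7,1,367,1), (1,257,1,10,0), (0,3,1,857,1), (0,2,2,643,1), (0,31,1,83,1), (1,11,1,234,0),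
  (0,5,2,103,1), (1,23,1,112,0)]

/-- See the module header. -/
def chunk7 : List (ℕ × ℕ × ℕ × ℕ × ℕ) := [
  (0,3,1,859,1), (0,2,1,1289,1), (0,2579,1,2579,0), (1,43,1,60,0), (0,29,1,89,1), (0,2,1,1291,1), (1,41,1,63,0),
  (1,19,1,136,0), (1,47,1,55,0), (1,431,1,6,0), (0,13,1,199,1), (0,2,2,647,1), (0,3,1,863,1), (1,37,1,70,0),
  (0,2591,1,2591,0), (0,2,5,3,4), (0,2593,1,2593,0), (0,2,1,1297,1), (1,173,1,15,0), (1,59,1,44,0), (0,7,2,53,1),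
  (1,433,1,6,0), (0,23,1,113,1), (1,13,1,200,0), (0,3,2,17,2), (0,2,1,1301,1), (0,19,1,137,1), (1,31,1,84,0),
  (0,5,1,521,1), (0,2,1,1303,1), (1,79,1,33,0), (0,2,4,163,1), (0,2609,1,2609,0), (1,29,1,90,0), (0,7,1,373,1),
  (0,2,2,653,1), (1,67,1,39,0), (0,2,1,1307,1), (0,5,1,523,1), (1,109,1,24,0), (0,2617,1,2617,0), (1,17,1,154,0),
  (0,3,3,97,1), (1,131,1,20,0), (0,2621,1,2621,0), (1,23,1,114,0), (0,43,1,61,1), (0,2,6,41,1), (1,7,1,375,0),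
  (1,101,1,26,0), (0,37,1,71,1), (1,73,1,36,0), (0,11,1,239,1), (1,263,1,10,0), (0,3,1,877,1), (1,47,1,56,0),
  (0,2633,1,2633,0), (1,439,1,6,0), (1,31,1,85,0), (0,2,2,659,1), (0,3,2,293,1), (0,2,1,1319,1), (1,29,1,91,0),
  (1,11,1,240,0), (0,19,1,139,1), (0,2,1,1321,1), (0,3,1,881,1), (0,2,2,661,1), (0,5,1,23,2), (1,7,2,54,0),
  (0,2647,1,2647,0), (0,2,3,331,1), (0,3,1,883,1), (1,53,1,50,0), (0,11,1,241,1), (1,17,1,156,0), (0,7,1,379,1),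
  (0,2,1,1327,1), (1,59,1,45,0), (0,2,5,83,1), (0,2657,1,2657,0), (1,443,1,6,0), (0,2659,1,2659,0), (1,19,1,140,0),
  (0,3,1,887,1), (0,2,1,11,3), (0,2663,1,2663,0), (1,37,1,72,0), (1,41,1,65,0), (1,43,1,62,0), (1,127,1,21,0),
  (1,29,1,92,0), (0,17,1,157,1), (1,89,1,30,0), (0,2671,1,2671,0), (0,2,4,167,1), (0,3,5,11,1), (1,191,1,14,0),
  (0,5,2,107,1), (1,223,1,12,0), (0,2677,1,2677,0), (1,103,1,26,0), (1,47,1,57,0), (1,67,1,40,0), (0,7,1,383,1),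
  (1,149,1,18,0), (0,2683,1,2683,0), (1,61,1,44,0), (1,179,1,15,0), (1,79,1,34,0), (0,2687,1,2687,0), (2,7,0,0,0),
  (0,2689,1,2689,0), (1,269,1,10,0), (1,23,1,117,0), (0,2,2,673,1), (0,2693,1,2693,0), (1,449,1,6,0), (1,11,1,245,0),
  (0,2,3,337,1), (1,31,1,87,0), (1,71,1,38,0), (0,2699,1,2699,0), (4,0,0,0,0), (0,37,1,73,1), (1,193,1,14,0),
  (1,53,1,51,0), (0,2,4,13,2), (0,5,1,541,1), (1,41,1,66,0), (0,2707,1,2707,0), (0,2,2,677,1), (1,43,1,63,0),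
  (1,271,1,10,0), (0,2711,1,2711,0), (1,113,1,24,0), (0,2713,1,2713,0), (1,59,1,46,0), (1,181,1,15,0), (1,97,1,28,0),
  (1,19,1,143,0), (1,151,1,18,0), (0,2719,1,2719,0), (1,17,1,160,0), (0,3,1,907,1), (0,2,1,1361,1), (0,7,1,389,1),
  (1,227,1,12,0), (0,5,2,109,1), (1,47,1,58,0), (0,3,3,101,1), (1,31,1,88,0), (0,2729,1,2729,0), (1,2,1,1365,0),
  (0,2731,1,2731,0), (0,2,2,683,1), (0,3,1,911,1), (0,2,1,1367,1), (0,5,1,547,1), (1,19,1,144,0), (1,23,1,119,0),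
  (0,2,1,37,2), (1,83,1,33,0), (1,137,1,20,0), (0,2741,1,2741,0), (1,457,1,6,0), (0,13,1,211,1), (0,2,3,7,3),
  (1,61,1,45,0), (0,2,1,1373,1), (0,41,1,67,1), (1,229,1,12,0), (0,2749,1,2749,0), (1,11,1,250,0), (1,131,1,21,0),
  (0,2,6,43,1), (0,2753,1,2753,0), (1,17,1,162,0), (1,29,1,95,0), (1,53,1,52,0), (0,3,1,919,1), (1,197,1,14,0),
  (0,31,1,89,1), (1,23,1,120,0), (0,11,1,251,1), (0,2,1,1381,1), (0,3,2,307,1), (0,2,2,691,1), (1,79,1,35,0),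
  (1,461,1,6,0), (0,2767,1,2767,0), (0,2,4,173,1), (1,71,1,39,0), (1,277,1,10,0), (0,17,1,163,1), (1,11,1,252,0),
  (0,47,1,59,1), (1,73,1,38,0), (1,37,1,75,0), (0,2,3,347,1), (0,2777,1,2777,0), (1,463,1,6,0), (0,7,1,397,1),
  (1,139,1,20,0), (0,3,3,103,1), (1,107,1,26,0), (0,11,2,23,1), (1,29,1,96,0), (0,5,1,557,1), (1,199,1,14,0),
  (0,3,1,929,1), (1,41,1,68,0)]

/-- See the module header. -/
def chunk8 : List (ℕ × ℕ × ℕ × ℕ × ℕ) := [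
  (0,2789,1,2789,0), (1,31,1,90,0), (0,2791,1,2791,0), (0,2,3,349,1), (1,19,1,147,0), (1,127,1,22,0), (1,43,1,65,0),
  (1,233,1,12,0), (0,2797,1,2797,0), (0,2,1,1399,1), (0,3,2,311,1), (2,7,0,0,0), (0,2801,1,2801,0), (1,467,1,6,0),
  (0,2803,1,2803,0), (0,2,2,701,1), (1,17,1,165,0), (1,61,1,46,0), (0,7,1,401,1), (2,13,0,0,0), (0,53,2,53,0),
  (1,281,1,10,0), (0,3,1,937,1), (1,19,1,148,0), (0,29,1,97,1), (1,67,1,42,0), (0,5,1,563,1), (0,2,8,11,1),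
  (0,3,2,313,1), (0,2,1,1409,1), (0,2819,1,2819,0), (1,47,1,60,0), (1,31,1,91,0), (1,83,1,34,0), (0,3,1,941,1),
  (0,2,3,353,1), (0,5,2,113,1), (1,157,1,18,0), (0,11,1,257,1), (1,101,1,28,0), (1,41,1,69,0), (1,283,1,10,0),
  (0,19,1,149,1), (1,59,1,48,0), (0,2833,1,2833,0), (1,109,1,26,0), (1,5,1,567,0), (0,2,2,709,1), (0,2837,1,2837,0),
  (1,43,1,66,0), (0,17,1,167,1), (1,71,1,40,0), (0,3,1,947,1), (1,29,1,98,0), (0,2843,1,2843,0), (1,79,1,36,0),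
  (0,5,1,569,1), (0,2,1,1423,1), (1,73,1,39,0), (0,2,5,89,1), (1,37,1,77,0), (1,19,1,150,0), (0,2851,1,2851,0),
  (1,31,1,92,0), (0,3,2,317,1), (0,2,1,1427,1), (0,5,1,571,1), (1,17,1,168,0), (0,2857,1,2857,0), (0,2,1,1429,1),
  (0,3,1,953,1), (1,13,1,220,0), (0,2861,1,2861,0), (1,53,1,54,0), (0,7,1,409,1), (0,2,4,179,1), (1,191,1,15,0),
  (0,2,1,1433,1), (0,47,1,61,1), (1,239,1,12,0), (0,19,1,151,1), (1,41,1,70,0), (1,29,1,99,0), (0,2,3,359,1),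
  (0,13,2,17,1), (1,479,1,6,0), (0,5,3,23,1), (0,2,2,719,1), (1,137,1,21,0), (0,2,1,1439,1), (0,2879,1,2879,0),
  (5,5,6,3,2), (0,43,1,67,1), (1,131,1,22,0), (0,3,1,31,2), (1,103,1,28,0), (0,5,1,577,1), (1,37,1,78,0),
  (0,2887,1,2887,0), (0,2,3,19,2), (0,3,3,107,1), (1,17,2,10,0), (0,7,2,59,1), (1,241,1,12,0), (0,11,1,263,1),
  (0,2,1,1447,1), (1,193,1,15,0), (0,2,4,181,1), (0,2897,1,2897,0), (1,23,1,126,0), (0,13,1,223,1), (1,29,1,100,0),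
  (0,3,1,967,1), (0,2,1,1451,1), (0,2903,1,2903,0), (1,11,2,24,0), (1,83,1,35,0), (0,2,1,1453,1), (1,19,1,153,0),
  (0,2,2,727,1), (0,2909,1,2909,0), (1,97,1,30,0), (0,41,1,71,1), (1,13,1,224,0), (0,3,1,971,1), (1,47,1,62,0),
  (1,53,1,55,0), (0,2,2,3,6), (0,2917,1,2917,0), (0,2,1,1459,1), (1,139,1,21,0), (1,73,1,40,0), (0,23,1,127,1),
  (1,487,1,6,0), (0,37,1,79,1), (1,43,1,68,0), (1,13,1,225,0), (1,7,1,418,0), (0,2927,1,2927,0), (1,61,1,48,0),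
  (0,29,1,101,1), (1,293,1,10,0), (0,3,1,977,1), (0,2,2,733,1), (0,7,1,419,1), (1,163,1,18,0), (0,5,1,587,1),
  (0,2,3,367,1), (1,89,1,33,0), (1,113,1,26,0), (0,2939,1,2939,0), (2,5,0,0,0), (0,17,1,173,1), (0,2,1,1471,1),
  (0,3,3,109,1), (0,2,7,23,1), (1,31,1,95,0), (1,491,1,6,0), (0,7,1,421,1), (1,67,1,44,0), (0,3,1,983,1),
  (1,59,1,50,0), (0,13,1,227,1), (1,41,1,72,0), (0,2953,1,2953,0), (1,211,1,14,0), (1,197,1,15,0), (0,2,2,739,1),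
  (0,2957,1,2957,0), (1,29,1,102,0), (0,11,1,269,1), (1,37,1,80,0), (1,47,1,63,0), (0,2,1,1481,1), (0,2963,1,2963,0),
  (1,13,1,228,0), (0,5,1,593,1), (0,2,1,1483,1), (1,43,1,69,0), (1,53,1,56,0), (0,2969,1,2969,0), (1,2,1,1485,0),
  (0,2971,1,2971,0), (0,2,2,743,1), (0,3,1,991,1), (0,2,1,1487,1), (1,17,1,175,0), (2,31,0,0,0), (0,13,1,229,1),
  (0,2,1,1489,1), (0,3,2,331,1), (1,149,1,20,0), (0,11,1,271,1), (1,71,1,42,0), (0,19,1,157,1), (0,2,3,373,1),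
  (1,199,1,15,0), (0,2,1,1493,1), (0,29,1,103,1), (1,83,1,36,0), (0,7,2,61,1), (1,23,1,130,0), (0,3,1,997,1),
  (1,17,1,176,0), (0,41,1,73,1), (1,499,1,6,0), (0,5,1,599,1), (1,107,1,28,0), (0,3,4,37,1), (0,2,1,1499,1),
  (0,2999,1,2999,0), (1,5,3,24,0)]

/-- See the module header. -/
def chunk9 : List (ℕ × ℕ × ℕ × ℕ × ℕ) := [
  (0,3001,1,3001,0), (1,79,1,38,0), (1,13,1,231,0), (0,2,2,751,1), (0,5,1,601,1), (1,167,1,18,0), (0,31,1,97,1),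
  (0,2,6,47,1), (1,59,1,51,0), (1,43,1,70,0), (0,3011,1,3011,0), (1,251,1,12,0), (0,23,1,131,1), (1,137,1,22,0),
  (1,67,1,45,0), (1,29,1,104,0), (0,7,1,431,1), (1,503,1,6,0), (0,3019,1,3019,0), (1,151,1,20,0), (1,53,1,57,0),
  (0,2,1,1511,1), (0,3023,1,3023,0), (2,7,0,0,0), (0,5,2,11,2), (1,89,1,34,0), (0,3,1,1009,1), (0,2,2,757,1),
  (0,13,1,233,1), (1,101,1,30,0), (0,7,1,433,1), (0,2,3,379,1), (0,3,2,337,1), (1,41,1,74,0), (0,5,1,607,1),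
  (1,23,1,132,0), (0,3037,1,3037,0), (1,31,1,98,0), (0,3,1,1013,1), (1,19,1,160,0), (0,3041,1,3041,0), (1,13,2,18,0),
  (0,17,1,179,1), (0,2,2,761,1), (1,29,1,105,0), (0,2,1,1523,1), (0,11,1,277,1), (1,127,1,24,0), (0,3049,1,3049,0),
  (1,61,1,50,0), (0,3,3,113,1), (1,109,1,28,0), (0,43,1,71,1), (1,509,1,6,0), (1,47,1,65,0), (0,2,4,191,1),
  (0,3,1,1019,1), (1,139,1,22,0), (1,23,1,133,0), (1,17,1,180,0), (0,3061,1,3061,0), (0,2,1,1531,1), (0,3,1,1021,1),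
  (0,2,3,383,1), (0,5,1,613,1), (1,73,1,42,0), (0,3067,1,3067,0), (1,59,1,52,0), (1,31,1,99,0), (1,307,1,10,0),
  (0,37,1,83,1), (0,2,10,3,1), (0,7,1,439,1), (1,53,1,58,0), (1,41,1,75,0), (0,2,2,769,1), (0,17,1,181,1),
  (1,19,1,162,0), (0,3079,1,3079,0), (2,11,0,0,0), (1,79,1,39,0), (1,67,1,46,0), (0,3083,1,3083,0), (1,257,1,12,0),
  (0,5,1,617,1), (0,2,1,1543,1), (0,3,2,7,3), (0,2,4,193,1), (0,3089,1,3089,0), (1,103,1,30,0), (0,11,1,281,1),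
  (0,2,2,773,1), (0,3,1,1031,1), (1,17,1,182,0), (0,5,1,619,1), (1,43,1,72,0), (0,19,1,163,1), (0,2,1,1549,1),
  (0,3,1,1033,1), (1,31,1,100,0), (0,7,1,443,1), (1,47,1,66,0), (0,29,1,107,1), (0,2,5,97,1), (1,23,1,135,0),
  (0,2,1,1553,1), (0,13,1,239,1), (1,37,1,84,0), (0,3109,1,3109,0), (1,311,1,10,0), (1,61,1,51,0), (0,2,3,389,1),
  (0,11,1,283,1), (1,173,1,18,0), (1,89,1,35,0), (1,41,1,76,0), (0,3,1,1039,1), (0,2,1,1559,1), (0,3119,1,3119,0),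
  (2,13,0,0,0), (0,3121,1,3121,0), (1,223,1,14,0), (0,3,2,347,1), (1,71,1,44,0), (0,5,5,5,0), (1,521,1,6,0),
  (0,53,1,59,1), (1,23,1,136,0), (1,149,1,21,0), (1,313,1,10,0), (0,31,1,101,1), (1,29,1,108,0), (0,13,1,241,1),
  (0,2,1,1567,1), (1,19,1,165,0), (0,2,6,7,2), (0,3137,1,3137,0), (1,523,1,6,0), (0,43,1,73,1), (1,157,1,20,0),
  (0,3,2,349,1), (0,2,1,1571,1), (0,7,1,449,1), (1,131,1,24,0), (1,37,1,85,0), (1,13,1,242,0), (0,3,1,1049,1),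
  (0,2,2,787,1), (0,47,1,67,1), (1,2,1,1575,0), (0,23,1,137,1), (0,2,4,197,1), (0,3,1,1051,1), (1,83,1,38,0),
  (0,5,1,631,1), (1,263,1,12,0), (1,41,1,77,0), (0,2,1,1579,1), (0,3,5,13,1), (1,79,1,40,0), (0,29,1,109,1),
  (1,31,1,102,0), (0,3163,1,3163,0), (1,113,1,28,0), (1,211,1,15,0), (0,2,1,1583,1), (0,3167,1,3167,0), (2,11,0,0,0),
  (0,3169,1,3169,0), (1,317,1,10,0), (1,151,1,21,0), (1,61,1,52,0), (0,19,1,167,1), (1,23,2,6,0), (0,5,2,127,1),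
  (0,2,3,397,1), (0,3,2,353,1), (1,227,1,14,0), (0,11,1,17,2), (1,53,1,60,0), (0,3181,1,3181,0), (1,43,1,74,0),
  (0,3,1,1061,1), (0,2,4,199,1), (1,13,1,245,0), (1,59,1,54,0), (0,3187,1,3187,0), (0,2,2,797,1), (0,3,1,1063,1),
  (1,29,1,110,0), (0,3191,1,3191,0), (1,19,1,168,0), (0,31,1,103,1), (0,2,1,1597,1), (1,71,1,45,0), (1,47,1,68,0),
  (0,23,1,139,1), (1,41,1,78,0), (0,7,1,457,1), (0,2,7,5,2), (1,97,1,33,0), (0,2,1,1601,1), (0,3203,1,3203,0),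
  (1,89,1,36,0), (0,5,1,641,1), (1,229,1,14,0), (0,3,1,1069,1), (0,2,3,401,1), (0,3209,1,3209,0), (1,107,1,30,0),
  (0,13,2,19,1), (1,73,1,44,0)]

/-- See the module header. -/
def chunk10 : List (ℕ × ℕ × ℕ × ℕ × ℕ) := [
  (1,17,1,189,0), (0,2,1,1607,1), (0,5,1,643,1), (1,67,1,48,0), (0,3217,1,3217,0), (0,2,1,1609,1), (1,37,1,87,0),
  (1,7,1,460,0), (0,3221,1,3221,0), (1,179,1,18,0), (0,11,1,293,1), (1,31,1,104,0), (1,43,1,75,0), (0,2,1,1613,1),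
  (0,7,1,461,1), (1,269,1,12,0), (0,3229,1,3229,0), (1,19,1,170,0), (0,3,2,359,1), (0,2,5,101,1), (0,53,1,61,1),
  (1,11,1,294,0), (0,5,1,647,1), (0,2,2,809,1), (1,83,1,39,0), (0,2,1,1619,1), (0,41,1,79,1), (5,5,3,3,4),
  (0,7,1,463,1), (0,2,1,1621,1), (1,47,1,69,0), (0,2,2,811,1), (1,59,1,55,0), (1,541,1,6,0), (0,17,1,191,1),
  (1,29,1,112,0), (0,3,2,19,2), (1,13,1,250,0), (0,3251,1,3251,0), (1,271,1,12,0), (0,3253,1,3253,0), (0,2,1,1627,1),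
  (1,31,1,105,0), (1,37,1,88,0), (0,3257,1,3257,0), (1,181,1,18,0), (0,3259,1,3259,0), (1,163,1,20,0), (0,3,1,1087,1),
  (1,233,1,14,0), (0,13,1,251,1), (1,17,1,192,0), (0,5,1,653,1), (1,71,1,46,0), (0,3,3,11,2), (1,43,1,76,0),
  (0,7,1,467,1), (1,109,1,30,0), (0,3271,1,3271,0), (0,2,3,409,1), (0,3,1,1091,1), (0,2,1,1637,1), (0,5,2,131,1),
  (1,13,1,252,0), (0,29,1,113,1), (1,149,1,22,0), (0,3,1,1093,1), (1,41,1,80,0), (0,17,1,193,1), (1,547,1,6,0),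
  (0,7,2,67,1), (0,2,2,821,1), (1,73,1,45,0), (1,53,1,62,0), (0,19,1,173,1), (1,137,1,24,0), (1,23,1,143,0),
  (1,47,1,70,0), (0,3,1,1097,1), (0,2,2,823,1), (0,37,1,89,1), (1,61,1,54,0), (0,5,1,659,1), (0,2,5,103,1),
  (1,157,1,21,0), (1,97,1,34,0), (0,3299,1,3299,0), (1,11,1,300,0), (0,3301,1,3301,0), (1,127,1,26,0), (0,3,2,367,1),
  (1,59,1,56,0), (0,5,1,661,1), (1,29,1,114,0), (0,3307,1,3307,0), (0,2,2,827,1), (0,3,1,1103,1), (1,331,1,10,0),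
  (1,43,1,77,0), (1,23,1,144,0), (0,3313,1,3313,0), (0,2,1,1657,1), (1,17,1,195,0), (0,2,2,829,1), (0,31,1,107,1),
  (1,79,1,42,0), (0,3319,1,3319,0), (1,83,1,40,0), (0,3,4,41,1), (1,151,1,22,0), (0,3323,1,3323,0), (1,277,1,12,0),
  (1,19,1,175,0), (0,2,1,1663,1), (0,3,1,1109,1), (0,2,8,13,1), (0,3329,1,3329,0), (1,37,1,90,0), (0,3331,1,3331,0),
  (1,17,1,196,0), (1,101,1,33,0), (0,2,1,1667,1), (1,29,1,115,0), (1,139,1,24,0), (0,47,1,71,1), (0,2,1,1669,1),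
  (1,53,1,63,0), (1,167,1,20,0), (0,13,1,257,1), (1,557,1,6,0), (0,3343,1,3343,0), (1,19,1,176,0), (1,223,1,15,0),
  (1,239,1,14,0), (0,3347,1,3347,0), (1,31,1,108,0), (0,17,1,197,1), (1,67,1,50,0), (0,3,1,1117,1), (0,2,3,419,1),
  (0,7,1,479,1), (1,43,1,78,0), (1,61,1,55,0), (0,2,2,839,1), (0,3,2,373,1), (1,73,1,46,0), (0,3359,1,3359,0),
  (4,0,0,0,0), (0,3361,1,3361,0), (0,2,1,41,2), (1,59,1,57,0), (0,2,2,29,2), (0,5,1,673,1), (1,17,1,198,0),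
  (1,37,1,91,0), (0,2,3,421,1), (0,3,1,1123,1), (1,337,1,10,0), (0,3371,1,3371,0), (1,281,1,12,0), (0,3373,1,3373,0),
  (1,241,1,14,0), (0,3,3,5,3), (0,2,4,211,1), (0,11,1,307,1), (1,563,1,6,0), (0,31,1,109,1), (1,13,2,20,0),
  (1,23,1,147,0), (1,89,1,38,0), (0,17,1,199,1), (1,47,1,72,0), (0,5,1,677,1), (0,2,1,1693,1), (0,3,1,1129,1),
  (1,11,2,28,0), (0,3389,1,3389,0), (1,113,1,30,0), (0,3391,1,3391,0), (0,2,6,53,1), (1,29,1,117,0), (0,2,1,1697,1),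
  (1,97,1,35,0), (1,283,1,12,0), (0,43,1,79,1), (0,2,1,1699,1), (1,103,1,33,0), (1,17,1,200,0), (0,19,1,179,1),
  (1,3,5,14,0), (0,41,1,83,1), (1,37,1,92,0), (1,227,1,15,0), (1,131,1,26,0), (0,3407,1,3407,0), (1,71,1,48,0),
  (0,7,1,487,1), (1,31,1,110,0), (0,3,2,379,1), (0,2,2,853,1), (0,3413,1,3413,0), (1,569,1,6,0), (0,5,1,683,1),
  (1,61,1,56,0), (1,67,1,51,0), (0,2,1,1709,1), (0,13,1,263,1), (4,0,0,0,0), (0,11,1,311,1), (1,59,1,58,0),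
  (1,163,1,21,0), (0,2,5,107,1)]

/-- See the module header. -/
def chunk11 : List (ℕ × ℕ × ℕ × ℕ × ℕ) := [
  (0,5,2,137,1), (1,571,1,6,0), (0,23,1,149,1), (0,2,2,857,1), (0,3,3,127,1), (1,7,3,10,0), (0,47,1,73,1),
  (2,13,0,0,0), (0,3433,1,3433,0), (1,101,1,34,0), (1,229,1,15,0), (0,2,2,859,1), (0,7,1,491,1), (1,191,1,18,0),
  (0,19,1,181,1), (1,43,1,80,0), (1,37,1,93,0), (0,2,1,1721,1), (0,11,1,313,1), (2,41,0,0,0), (1,53,1,65,0),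
  (0,2,1,1723,1), (0,3,2,383,1), (0,2,3,431,1), (0,3449,1,3449,0), (1,23,1,150,0), (1,29,1,119,0), (0,2,2,863,1),
  (0,3,1,1151,1), (1,157,1,22,0), (0,5,1,691,1), (0,2,7,3,3), (0,3457,1,3457,0), (1,19,1,182,0), (0,3,1,1153,1),
  (1,173,1,20,0), (0,3461,1,3461,0), (1,577,1,6,0), (0,3463,1,3463,0), (0,2,3,433,1), (1,11,1,315,0), (0,2,1,1733,1),
  (0,3467,1,3467,0), (1,17,2,12,0), (0,3469,1,3469,0), (1,347,1,10,0), (1,89,1,39,0), (1,31,1,112,0), (0,23,1,151,1),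
  (1,193,1,18,0), (0,5,2,139,1), (1,79,1,44,0), (1,61,1,57,0), (1,47,1,74,0), (0,7,2,71,1), (1,29,1,120,0),
  (0,59,2,59,0), (0,2,1,1741,1), (0,3,4,43,1), (1,67,1,52,0), (1,41,1,85,0), (1,83,1,42,0), (0,11,1,317,1),
  (0,2,5,109,1), (0,3,1,1163,1), (1,349,1,10,0), (0,3491,1,3491,0), (1,97,1,36,0), (0,7,1,499,1), (0,2,1,1747,1),
  (1,233,1,15,0), (1,23,1,152,0), (0,13,1,269,1), (1,53,1,66,0), (0,3499,1,3499,0), (1,5,3,28,0), (0,3,2,389,1),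
  (1,103,1,34,0), (0,31,1,113,1), (1,73,1,48,0), (0,5,1,701,1), (0,2,1,1753,1), (1,167,1,21,0), (0,2,2,877,1),
  (0,11,2,29,1), (1,2,1,1755,0), (0,3511,1,3511,0), (0,2,3,439,1), (0,3,1,1171,1), (1,251,1,14,0), (1,37,1,95,0),
  (1,293,1,12,0), (0,3517,1,3517,0), (0,2,1,1759,1), (1,23,1,153,0), (1,11,1,320,0), (0,7,1,503,1), (1,587,1,6,0),
  (0,13,1,271,1), (0,2,2,881,1), (1,47,1,75,0), (1,43,1,82,0), (0,3527,1,3527,0), (3,7,1,72,0), (0,3529,1,3529,0),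
  (1,353,1,10,0), (1,107,1,33,0), (0,2,2,883,1), (0,3533,1,3533,0), (1,31,1,114,0), (1,101,1,35,0), (1,13,1,272,0),
  (0,3,3,131,1), (1,61,1,58,0), (0,3539,1,3539,0), (1,59,1,60,0), (0,3541,1,3541,0), (1,23,1,154,0), (0,3,1,1181,1),
  (0,2,3,443,1), (0,5,1,709,1), (1,197,1,18,0), (0,3547,1,3547,0), (0,2,2,887,1), (1,13,2,21,0), (1,71,1,50,0),
  (0,53,1,67,1), (1,37,1,96,0), (1,19,1,187,0), (0,2,1,1777,1), (1,79,1,45,0), (1,127,1,28,0), (0,3557,1,3557,0),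
  (1,593,1,6,0), (0,3559,1,3559,0), (1,89,1,40,0), (0,3,1,1187,1), (1,137,1,26,0), (0,7,1,509,1), (1,11,1,324,0),
  (1,31,1,115,0), (0,2,1,1783,1), (1,41,1,87,0), (0,2,4,223,1), (0,43,1,83,1), (1,2,1,1785,0), (0,3571,1,3571,0),
  (1,47,1,76,0), (0,3,2,397,1), (0,2,1,1787,1), (1,13,1,275,0), (1,149,1,24,0), (0,7,2,73,1), (0,2,1,1789,1),
  (0,3,1,1193,1), (1,179,1,20,0), (0,3581,1,3581,0), (1,199,1,18,0), (0,3583,1,3583,0), (0,2,9,7,1), (1,239,1,15,0),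
  (1,163,1,22,0), (0,17,1,211,1), (1,23,1,156,0), (0,37,1,97,1), (1,359,1,10,0), (1,19,1,189,0), (0,2,3,449,1),
  (0,3593,1,3593,0), (1,599,1,6,0), (0,5,1,719,1), (1,31,1,116,0), (1,109,1,33,0), (1,257,1,14,0), (0,59,1,61,1),
  (4,0,0,0,0), (0,13,1,277,1), (0,2,1,1801,1), (0,3,1,1201,1), (1,53,1,68,0), (1,103,1,35,0), (1,601,1,6,0),
  (0,3607,1,3607,0), (1,41,1,88,0), (0,3,2,401,1), (1,19,2,10,0), (0,23,1,157,1), (1,43,1,84,0), (0,3613,1,3613,0),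
  (1,139,1,26,0), (1,241,1,15,0), (0,2,5,113,1), (0,3617,1,3617,0), (1,67,1,54,0), (1,47,1,77,0), (1,181,1,20,0),
  (1,71,1,51,0), (0,2,1,1811,1), (0,3623,1,3623,0), (1,151,1,24,0), (0,5,3,29,1), (1,37,1,98,0), (1,31,1,117,0),
  (0,2,2,907,1), (0,19,1,191,1), (1,11,2,30,0), (0,3631,1,3631,0), (0,2,4,227,1), (1,173,1,21,0), (1,79,1,46,0),
  (0,5,1,727,1), (1,101,1,36,0)]

/-- See the module header. -/
def chunk12 : List (ℕ × ℕ × ℕ × ℕ × ℕ) := [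
  (0,3637,1,3637,0), (1,107,1,34,0), (0,3,1,1213,1), (1,13,1,280,0)]

theorem check0 : checkFrom 1093 chunk0 = true ∧ chunk0.length = 212 := by decide +kernel

theorem check1 : checkFrom 1305 chunk1 = true ∧ chunk1.length = 212 := by decide +kernel

theorem check2 : checkFrom 1517 chunk2 = true ∧ chunk2.length = 212 := by decide +kernel

theorem check3 : checkFrom 1729 chunk3 = true ∧ chunk3.length = 212 := by decide +kernel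

theorem check4 : checkFrom 1941 chunk4 = true ∧ chunk4.length = 212 := by decide +kernel

theorem check5 : checkFrom 2153 chunk5 = true ∧ chunk5.length = 212 := by decide +kernel

theorem check6 : checkFrom 2365 chunk6 = true ∧ chunk6.length = 212 := by decide +kernel

theorem check7 : checkFrom 2577 chunk7 = true ∧ chunk7.length = 212 := by decide +kernel

theorem check8 : checkFrom 2789 chunk8 = true ∧ chunk8.length = 212 := by decide +kernel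

theorem check9 : checkFrom 3001 chunk9 = true ∧ chunk9.length = 212 := by decide +kernel

theorem check10 : checkFrom 3213 chunk10 = true ∧ chunk10.length = 212 := by decide +kernel

theorem check11 : checkFrom 3425 chunk11 = true ∧ chunk11.length = 212 := by decide +kernel

theorem check12 : checkFrom 3637 chunk12 = true ∧ chunk12.length = 4 := by decide +kernel

theorem exists_ok {n : ℕ} (h1 : 1092 < n) (h2 : n ≤ 3640) : ∃ x, ok n x = true := by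
  by_cases c0 : n < 1305
  · exact checkFrom_spec _ _ check0.1 n (by omega) (by rw [check0.2]; omega)
  by_cases c1 : n < 1517
  · exact checkFrom_spec _ _ check1.1 n (by omega) (by rw [check1.2]; omega)
  by_cases c2 : n < 1729
  · exact checkFrom_spec _ _ check2.1 n (by omega) (by rw [check2.2]; omega)
  by_cases c3 : n < 1941
  · exact checkFrom_spec _ _ check3.1 n (by omega) (by rw [check3.2]; omega)
  by_cases c4 : n < 2153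
  · exact checkFrom_spec _ _ check4.1 n (by omega) (by rw [check4.2]; omega)
  by_cases c5 : n < 2365
  · exact checkFrom_spec _ _ check5.1 n (by omega) (by rw [check5.2]; omega)
  by_cases c6 : n < 2577
  · exact checkFrom_spec _ _ check6.1 n (by omega) (by rw [check6.2]; omega)
  by_cases c7 : n < 2789
  · exact checkFrom_spec _ _ check7.1 n (by omega) (by rw [check7.2]; omega)
  by_cases c8 : n < 3001
  · exact checkFrom_spec _ _ check8.1 n (by omega) (by rw [check8.2]; omega)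
  by_cases c9 : n < 3213
  · exact checkFrom_spec _ _ check9.1 n (by omega) (by rw [check9.2]; omega)
  by_cases c10 : n < 3425
  · exact checkFrom_spec _ _ check10.1 n (by omega) (by rw [check10.2]; omega)
  by_cases c11 : n < 3637
  · exact checkFrom_spec _ _ check11.1 n (by omega) (by rw [check11.2]; omega)
  exact checkFrom_spec _ _ check12.1 n (by omega) (by rw [check12.2]; omega)

variable {G : Type*} [Group G] [Finite G] [IsSimpleGroup G]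

theorem mem_special6232_of_ok (hna : ¬ IsMulCommutative G) {x : ℕ × ℕ × ℕ × ℕ × ℕ}
    (hx : Table6232.ok (Nat.card G) x = true) : Nat.card G ∈ Table6232.special := by
  unfold Table6232.ok at hx
  split at hx
  all_goals simp only [Bool.and_eq_true, decide_eq_true_eq, List.contains_iff_mem] at hx
  · exact (three_primes hna (Table6232.prime_of_isP hx.1.2) (Table6232.prime_of_isP hx.2)
      hx.1.1).elim
  · exact (false_of_sylowTest hna (Table6232.prime_of_isP hx.2) rfl hx.1).elim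
  · exact (false_of_primeTest hna (Table6232.prime_of_isP hx.2) rfl
      (fun h => absurd h Bool.false_ne_true) hx.1).elim
  · exact (false_of_localTest hna (Table6232.prime_of_isP hx.2) rfl hx.1).elim
  · obtain ⟨⟨⟨ht, hp⟩, hq⟩, hn, h2p, hqp⟩ := hx
    refine (false_of_primeTest hna (Table6232.prime_of_isP hp) rfl (fun _ P => ?_) ht).elim
    have := Fact.mk (Table6232.prime_of_isP hp)
    exact BlockThms.sylow_self_centralizing 2 _ _ _ _ Nat.prime_two (Table6232.prime_of_isP hq)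
      h2p hqp hn P
  · exact hx

theorem cases (hna : ¬ IsMulCommutative G) (h1 : 1092 < Nat.card G) (h2 : Nat.card G ≤ 3640) :
    Nat.card G ∈ special := by
  obtain ⟨x, hx⟩ := exists_ok h1 h2
  unfold ok at hx
  split at hx
  · simpa only [List.contains_iff_mem] using hx
  · simp only [Bool.and_eq_true, Bool.not_eq_true', ← Bool.not_eq_true,
      List.contains_iff_mem] at hx
    exact absurd (mem_special6232_of_ok hna hx.1) hx.2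

end Cfsg.Agent.SmallOrder.Table3640
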